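import Groth.Agent.HensPair.Basic

/-!
Idempotent endomorphisms lift along henselian pairs.
-/

set_option autoImplicit false

open Polynomial

namespace Groth.Agent.HensPair.Projective

universe u v

theorem exists_idempotent_end {A : Type u} [CommRing A] {I : Ideal A} [HenselianRing A I]
    {N : Type v} [AddCommGroup N] [Module A N] [Module.Finite A N] (M : N →ₗ[A] N)
    (hM : ∀ x, M (M x) - M x ∈ I • (⊤ : Submodule A N)) :
    ∃ e : N →ₗ[A] N, (∀ x, e (e x) = e x) ∧ ∀ x, e x - M x ∈ I • (⊤ : Submodule A N) := by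
  classical
  rcases subsingleton_or_nontrivial A with hA | hA
  · have : Subsingleton N := Module.subsingleton A N
    exact ⟨0, fun x => Subsingleton.elim _ _, fun x => by
      rw [Subsingleton.elim ((0 : N →ₗ[A] N) x - M x) 0]; exact zero_mem _⟩
  obtain ⟨f, hf, -, hfI, hfz⟩ := LinearMap.exists_monic_and_natDegree_eq_and_coeff_mem_pow_and_aeval_eq_zero
    A (M ^ 2 - M) I (by
      rintro _ ⟨z, rfl⟩
      rw [LinearMap.sub_apply, pow_two]
      exact hM z)
  let F := f * X
  let m := f.natDegree + 1
  have hFmap : F.map (Ideal.Quotient.mk I) = X ^ m := by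
    have h1 : f.map (Ideal.Quotient.mk I) = X ^ f.natDegree := by
      ext i
      rw [coeff_map, coeff_X_pow]
      split_ifs with hi
      · subst hi; rw [hf.coeff_natDegree, map_one]
      · rcases Nat.lt_or_ge i f.natDegree with hlt | hge
        · rw [Ideal.Quotient.eq_zero_iff_mem]
          exact Ideal.pow_le_self (by omega) (hfI i)
        · rw [coeff_eq_zero_of_natDegree_lt (by omega), map_zero]
    rw [Polynomial.map_mul, h1, map_X, ← pow_succ]
  have hqm : (X ^ 2 - X : A[X]).Monic := (monic_X_pow 2).sub_of_left (by simp)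
  have hq : (X ^ 2 - X : A[X]).natDegree = 2 := by
    rw [natDegree_sub_eq_left_of_natDegree_lt] <;> simp
  let p := F.comp (X ^ 2 - X)
  have hp : p.Monic := (hf.mul monic_X).comp hqm (by omega)
  have hpm : p.map (Ideal.Quotient.mk I) = (X ^ 2 - X) ^ m := by
    rw [Polynomial.map_comp, hFmap]; simp
  obtain ⟨E, ⟨c, hc⟩, d, hd⟩ :=
    Criteria.exists_idempotent_of_factor HenselianRing.jac Basic.factor m p hp (by omega) hpm
  refine ⟨aeval M E, fun x => ?_, fun x => ?_⟩
  · have h1 := congrArg (aeval M) hc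
    rw [map_sub, map_mul, map_mul, show aeval M p = 0 by
      rw [aeval_comp, map_sub, map_pow, aeval_X, map_mul, hfz, zero_mul], zero_mul,
      sub_eq_zero] at h1
    exact LinearMap.congr_fun h1 x
  · obtain ⟨d', rfl⟩ := Polynomial.map_surjective _ Ideal.Quotient.mk_surjective d
    have hcoef : ∀ i, (E - X - (X ^ 2 - X) * d').coeff i ∈ I := fun i => by
      rw [← Ideal.Quotient.eq_zero_iff_mem, ← coeff_map]
      simp [hd]
    have h2 : ∀ q : A[X], (∀ i, q.coeff i ∈ I) → aeval M q x ∈ I • (⊤ : Submodule A N) := fun q hq => by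
      rw [aeval_eq_sum_range, LinearMap.sum_apply]
      exact sum_mem fun i _ => by
        rw [LinearMap.smul_apply]
        exact Submodule.smul_mem_smul (hq i) Submodule.mem_top
    have h3 := h2 _ hcoef
    simp only [map_sub, map_mul, map_pow, aeval_X, LinearMap.sub_apply] at h3
    have h4 : ((M ^ 2 - M) * aeval M d') x ∈ I • (⊤ : Submodule A N) := by
      rw [Module.End.mul_apply, LinearMap.sub_apply, pow_two]
      exact hM _
    simpa using add_mem h3 h4

theorem exists_projective {R : Type u} [CommRing R] (I : Ideal R) [HenselianRing R I] (Q : Type u)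
    [AddCommGroup Q] [Module (R ⧸ I) Q] [Module.Finite (R ⧸ I) Q] [Module.Projective (R ⧸ I) Q] :
    ∃ (P : Type u) (_ : AddCommGroup P) (_ : Module R P), Module.Finite R P ∧ Module.Projective R P ∧
      Nonempty (TensorProduct R (R ⧸ I) P ≃ₗ[R ⧸ I] Q) := by
  classical
  let : Module R Q := Module.compHom Q (Ideal.Quotient.mk I)
  have : IsScalarTower R (R ⧸ I) Q := ⟨fun r x y => by
    show (r • x) • y = Ideal.Quotient.mk I r • (x • y)
    rw [Algebra.smul_def, mul_smul]; rfl⟩
  obtain ⟨n, π, hπ⟩ := Module.Finite.exists_fin' (R ⧸ I) Q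
  obtain ⟨s, hs⟩ := Module.projective_lifting_property π LinearMap.id hπ
  let q : (Fin n → R) →ₗ[R] (Fin n → R ⧸ I) :=
    LinearMap.pi fun i => (Algebra.linearMap R (R ⧸ I)).comp (LinearMap.proj i)
  have hqsurj : Function.Surjective q := fun y => by
    choose x hx using fun i => Ideal.Quotient.mk_surjective (y i)
    exact ⟨x, funext hx⟩
  have hqker : ∀ x, q x = 0 → x ∈ I • (⊤ : Submodule R (Fin n → R)) := fun x hx => by
    rw [pi_eq_sum_univ x]
    refine sum_mem fun i _ => Submodule.smul_mem_smul ?_ Submodule.mem_top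
    exact Ideal.Quotient.eq_zero_iff_mem.mp (congr_fun hx i)
  have hqI : ∀ x, x ∈ I • (⊤ : Submodule R (Fin n → R)) → q x = 0 := fun x hx => by
    refine Submodule.smul_induction_on hx (fun r hr y _ => ?_) fun a b ha hb => by rw [map_add, ha, hb, add_zero]
    ext i
    show Ideal.Quotient.mk I (r * y i) = 0
    rw [map_mul, Ideal.Quotient.eq_zero_iff_mem.mpr hr, zero_mul]
  obtain ⟨M, hM⟩ := Module.projective_lifting_property q
    ((((s ∘ₗ π).restrictScalars R)).comp q) hqsurj
  have hMq : ∀ x, q (M x) = s (π (q x)) := fun x => LinearMap.congr_fun hM x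
  have hsp : ∀ z, π (s z) = z := fun z => LinearMap.congr_fun hs z
  obtain ⟨e, he, heM⟩ := exists_idempotent_end M fun x => hqker _ (by
    rw [map_sub, hMq, hMq, hsp, sub_self])
  have heq : ∀ x, q (e x) = s (π (q x)) := fun x => by
    rw [← hMq, ← sub_eq_zero, ← map_sub]; exact hqI _ (heM x)
  let P := LinearMap.range e
  let g : P →ₗ[R] Q := ((π.restrictScalars R).comp q).comp P.subtype
  have hproj : Module.Projective R P :=
    Module.Projective.of_split P.subtype e.rangeRestrict (LinearMap.ext fun ⟨x, y, hy⟩ =>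
      Subtype.ext (by show e x = x; rw [← hy, he]))
  have hfin : Module.Finite R P := Module.Finite.of_surjective e.rangeRestrict e.surjective_rangeRestrict
  refine ⟨P, inferInstance, inferInstance, hfin, hproj, ?_⟩
  let G := g.liftBaseChange (R ⧸ I)
  have hG : ∀ y, G ((1 : R ⧸ I) ⊗ₜ[R] y) = g y := fun y => by simp [G]
  refine ⟨LinearEquiv.ofBijective G ⟨?_, fun z => ?_⟩⟩
  · rw [injective_iff_map_eq_zero]
    intro t ht
    obtain ⟨y, rfl⟩ := TensorProduct.mk_surjective R P (R ⧸ I) Ideal.Quotient.mk_surjective t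
    rw [TensorProduct.mk_apply, hG] at ht
    obtain ⟨x, hx⟩ := y.2
    have h1 : q y = 0 := by
      rw [← hx, ← he, heq]
      rw [hx]
      show s (π (q y)) = 0
      rw [show π (q y) = 0 from ht, map_zero]
    have h2 : y ∈ I • (⊤ : Submodule R P) := by
      have h3 := Submodule.mem_map_of_mem (f := e.rangeRestrict) (hqker _ h1)
      rw [Submodule.map_smul'', Submodule.map_top, LinearMap.range_eq_top.mpr e.surjective_rangeRestrict] at h3
      have : e.rangeRestrict y = y := Subtype.ext (by show e y = y; rw [← hx, he])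
      rwa [this] at h3
    rw [TensorProduct.mk_apply]
    refine Submodule.smul_induction_on h2 (fun r hr z _ => ?_) fun a b ha hb => by
      rw [TensorProduct.tmul_add, ha, hb, add_zero]
    rw [TensorProduct.tmul_smul, TensorProduct.smul_tmul', Algebra.smul_def, mul_one,
      Ideal.Quotient.algebraMap_eq, Ideal.Quotient.eq_zero_iff_mem.mpr hr, TensorProduct.zero_tmul]
  · obtain ⟨x, hx⟩ := hqsurj (s z)
    refine ⟨(1 : R ⧸ I) ⊗ₜ[R] e.rangeRestrict x, ?_⟩
    rw [hG]
    show π (q (e x)) = z
    rw [heq, hsp, hx, hsp]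

end Groth.Agent.HensPair.Projective
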