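import Mathlib
import Groth.Agent.EGA4Alg.PolyHeight

/-!
The altitude inequality for finite type extensions of Noetherian domains.
-/

set_option autoImplicit false
set_option synthInstance.maxHeartbeats 200000

noncomputable section

open Polynomial

namespace Groth.Agent.HensPair.Altitude

universe u

set_option backward.isDefEq.respectTransparency false

/-- The inequality for one extension and a pair of primes. -/
def Alt (R S : Type u) [CommRing R] [CommRing S] [Algebra R S] : Prop :=
  ∀ (p : Ideal R) [p.IsPrime] (q : Ideal S) [q.IsPrime] [q.LiesOver p],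
    (q.height : Cardinal.{u}) + Algebra.trdeg (R ⧸ p) (S ⧸ q) ≤ (p.height : Cardinal.{u}) + Algebra.trdeg R S

theorem quot_injective {R S : Type u} [CommRing R] [CommRing S] [Algebra R S] (p : Ideal R) (q : Ideal S)
    [q.LiesOver p] : Function.Injective (algebraMap (R ⧸ p) (S ⧸ q)) := by
  rw [injective_iff_map_eq_zero]
  intro x hx
  obtain ⟨x, rfl⟩ := Ideal.Quotient.mk_surjective x
  rw [Ideal.Quotient.eq_zero_iff_mem, Ideal.LiesOver.over (P := q) (p := p)]
  show algebraMap R S x ∈ q
  exact Ideal.Quotient.eq_zero_iff_mem.mp hx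

theorem alt_trans {R T S : Type u} [CommRing R] [IsDomain R] [CommRing T] [IsDomain T] [CommRing S] [IsDomain S]
    [Algebra R T] [Algebra T S] [Algebra R S] [IsScalarTower R T S] [FaithfulSMul R T] [FaithfulSMul T S]
    (h₁ : Alt R T) (h₂ : Alt T S) : Alt R S := by
  intro p _ q _ _
  let q' := q.comap (algebraMap T S)
  haveI : q'.IsPrime := Ideal.IsPrime.comap _
  haveI : q.LiesOver q' := ⟨rfl⟩
  haveI : q'.LiesOver p := ⟨by
    rw [Ideal.LiesOver.over (P := q) (p := p)]
    show q.comap (algebraMap R S) = (q.comap (algebraMap T S)).comap (algebraMap R T)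
    rw [Ideal.comap_comap, ← IsScalarTower.algebraMap_eq]⟩
  haveI : IsScalarTower (R ⧸ p) (T ⧸ q') (S ⧸ q) := IsScalarTower.of_algebraMap_eq fun x => by
    obtain ⟨x, rfl⟩ := Ideal.Quotient.mk_surjective x
    show Ideal.Quotient.mk q (algebraMap R S x) = Ideal.Quotient.mk q (algebraMap T S (algebraMap R T x))
    rw [← IsScalarTower.algebraMap_apply]
  haveI : FaithfulSMul (R ⧸ p) (T ⧸ q') := (faithfulSMul_iff_algebraMap_injective _ _).mpr (quot_injective p q')
  haveI : FaithfulSMul (T ⧸ q') (S ⧸ q) := (faithfulSMul_iff_algebraMap_injective _ _).mpr (quot_injective q' q)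
  rw [← trdeg_add_eq (R ⧸ p) (T ⧸ q') (A := S ⧸ q), ← trdeg_add_eq R T (A := S)]
  calc (q.height : Cardinal.{u}) + (Algebra.trdeg (R ⧸ p) (T ⧸ q') + Algebra.trdeg (T ⧸ q') (S ⧸ q))
      = ((q.height : Cardinal.{u}) + Algebra.trdeg (T ⧸ q') (S ⧸ q)) + Algebra.trdeg (R ⧸ p) (T ⧸ q') := by
        rw [add_assoc, add_comm (Algebra.trdeg (T ⧸ q') (S ⧸ q))]
    _ ≤ ((q'.height : Cardinal.{u}) + Algebra.trdeg T S) + Algebra.trdeg (R ⧸ p) (T ⧸ q') :=
        add_le_add (h₂ q' q) le_rfl
    _ = ((q'.height : Cardinal.{u}) + Algebra.trdeg (R ⧸ p) (T ⧸ q')) + Algebra.trdeg T S := add_right_comm _ _ _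
    _ ≤ ((p.height : Cardinal.{u}) + Algebra.trdeg R T) + Algebra.trdeg T S := add_le_add (h₁ p q') le_rfl
    _ = (p.height : Cardinal.{u}) + (Algebra.trdeg R T + Algebra.trdeg T S) := add_assoc _ _ _

theorem alt_of_bijective {R S : Type u} [CommRing R] [IsDomain R] [CommRing S] [IsDomain S] [Algebra R S]
    (h : Function.Bijective (algebraMap R S)) : Alt R S := by
  intro p _ q _ _
  have h1 : q.height = p.height := by
    rw [← (RingEquiv.ofBijective _ h).height_comap q]
    exact congrArg Ideal.height (Ideal.LiesOver.over (P := q) (p := p)).symm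
  haveI : Algebra.IsAlgebraic (R ⧸ p) (S ⧸ q) := ⟨fun y => by
    obtain ⟨y, rfl⟩ := Ideal.Quotient.mk_surjective y
    obtain ⟨x, rfl⟩ := h.2 y
    exact isAlgebraic_algebraMap (R := R ⧸ p) (A := S ⧸ q) (Ideal.Quotient.mk p x)⟩
  rw [h1, trdeg_eq_zero (R := R ⧸ p) (A := S ⧸ q)]
  exact add_le_add le_rfl bot_le

theorem alt_one {R S : Type u} [CommRing R] [IsDomain R] [IsNoetherianRing R] [CommRing S] [IsDomain S]
    [Algebra R S] (hinj : Function.Injective (algebraMap R S)) (x : S) (hx : Algebra.adjoin R {x} = ⊤) :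
    Alt R S := by
  classical
  intro p _ q _ _
  let φ : R[X] →ₐ[R] S := Polynomial.aeval x
  have hφ : Function.Surjective φ := fun y => by
    have hy : y ∈ Algebra.adjoin R {x} := hx ▸ Algebra.mem_top
    rw [Algebra.adjoin_singleton_eq_range_aeval] at hy
    exact hy
  haveI : IsNoetherianRing S := isNoetherianRing_of_surjective _ _ φ.toRingHom hφ
  let Q : Ideal R[X] := q.comap φ.toRingHom
  haveI : Q.IsPrime := Ideal.IsPrime.comap _
  haveI : Q.LiesOver p := ⟨by
    rw [Ideal.LiesOver.over (P := q) (p := p)]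
    show q.comap (algebraMap R S) = (q.comap φ.toRingHom).comap (algebraMap R R[X])
    rw [Ideal.comap_comap]
    exact congrArg (fun g => q.comap g) φ.comp_algebraMap.symm⟩
  have htr : Algebra.trdeg (R ⧸ p) (R[X] ⧸ Q) = Algebra.trdeg (R ⧸ p) (S ⧸ q) := by
    let ψ : (R[X] ⧸ Q) →ₐ[R ⧸ p] (S ⧸ q) :=
      { Ideal.quotientMap q φ.toRingHom le_rfl with
        commutes' := fun r => by
          obtain ⟨r, rfl⟩ := Ideal.Quotient.mk_surjective r
          show Ideal.Quotient.mk q (φ (algebraMap R R[X] r)) = Ideal.Quotient.mk q (algebraMap R S r)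
          rw [φ.commutes] }
    have hψ : Function.Bijective ψ :=
      ⟨Ideal.quotientMap_injective, Ideal.quotientMap_surjective (H := le_rfl) hφ⟩
    exact (AlgEquiv.ofBijective ψ hψ).trdeg_eq
  rw [← htr]
  by_cases hP : RingHom.ker φ.toRingHom = ⊥
  · let e : R[X] ≃ₐ[R] S := AlgEquiv.ofBijective φ ⟨(RingHom.injective_iff_ker_eq_bot φ.toRingHom).mpr hP, hφ⟩
    rw [show q.height = Q.height from (e.toRingEquiv.height_comap q).symm, ← e.trdeg_eq, Polynomial.trdeg_of_isDomain]
    by_cases h : Q = p.map (C : R →+* R[X])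
    · rw [PolyHeightLib.trdeg_of_eq p Q h, show Q.height = p.height by rw [h]; exact PolyHeightLib.height_map_C p]
    · rw [PolyHeightLib.trdeg_of_ne p Q h, PolyHeightLib.height_of_ne p Q h, add_zero, Cardinal.ofENat_add,
        Cardinal.ofENat_one]
  · have h0 : Algebra.trdeg R S = 0 := by
      obtain ⟨f, hf, hf0⟩ := Submodule.exists_mem_ne_zero_of_ne_bot hP
      haveI : Algebra.IsAlgebraic R S := by
        refine ⟨fun y => ?_⟩
        obtain ⟨g, rfl⟩ := hφ y
        have hxalg : IsAlgebraic R x := ⟨f, hf0, hf⟩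
        induction g using Polynomial.induction_on' with
        | add a b ha hb => rw [map_add]; exact ha.add hb
        | monomial n a =>
          show IsAlgebraic R (Polynomial.aeval x (monomial n a))
          rw [Polynomial.aeval_monomial]
          exact (isAlgebraic_algebraMap a).mul (hxalg.pow n)
      exact trdeg_eq_zero
    have h1 : q.height + 1 ≤ Q.height := by
      obtain ⟨l, hl, hlen⟩ := q.exists_ltSeries_length_eq_height
      let l₁ := l.map (PrimeSpectrum.comap φ.toRingHom) (RingHom.strictMono_comap_of_surjective hφ)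
      have hlt : (⟨⊥, Ideal.isPrime_bot⟩ : PrimeSpectrum R[X]) < l₁.head := by
        refine lt_of_le_of_ne bot_le fun e => hP (le_bot_iff.mp ?_)
        rw [show (⊥ : Ideal R[X]) = l₁.head.asIdeal from congrArg PrimeSpectrum.asIdeal e]
        intro z hz
        show φ z ∈ l.head.asIdeal
        rw [show φ z = 0 from hz]
        exact zero_mem _
      rw [← hlen, show ((l.length : ℕ∞) + 1) = (((l₁.cons _ hlt).length : ℕ) : ℕ∞) by simp [l₁],
        show Q.height = Order.height (⟨Q, inferInstance⟩ : PrimeSpectrum R[X]) from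
          PrimeSpectrum.height_eq_orderHeight ⟨Q, inferInstance⟩]
      refine Order.length_le_height (le_of_eq ?_)
      rw [RelSeries.last_cons, LTSeries.last_map, hl]
      rfl
    rw [h0, add_zero]
    by_cases h : Q = p.map (C : R →+* R[X])
    · rw [show Q.height = p.height by rw [h]; exact PolyHeightLib.height_map_C p] at h1
      rw [PolyHeightLib.trdeg_of_eq p Q h]
      have := Cardinal.ofENat_le_ofENat.mpr h1
      rwa [Cardinal.ofENat_add, Cardinal.ofENat_one] at this
    · rw [PolyHeightLib.height_of_ne p Q h] at h1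
      rw [PolyHeightLib.trdeg_of_ne p Q h, add_zero]
      exact Cardinal.ofENat_le_ofENat.mpr ((ENat.add_le_add_iff_right ENat.one_ne_top).mp h1)

theorem alt_aux : ∀ (n : ℕ) (R S : Type u) [CommRing R] [IsDomain R] [IsNoetherianRing R] [CommRing S] [IsDomain S]
    [Algebra R S] (_ : Function.Injective (algebraMap R S)) (s : Finset S),
    s.card ≤ n → Algebra.adjoin R (s : Set S) = ⊤ → Alt R S := by
  intro n
  induction n with
  | zero =>
    intro R S _ _ _ _ _ _ hinj s hs hgen
    rw [Finset.card_eq_zero.mp (Nat.le_zero.mp hs), Finset.coe_empty, Algebra.adjoin_empty] at hgen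
    exact alt_of_bijective ⟨hinj, fun y => by
      have hy : y ∈ (⊥ : Subalgebra R S) := hgen ▸ Algebra.mem_top
      exact Algebra.mem_bot.mp hy⟩
  | succ n ih =>
    intro R S _ _ _ _ _ _ hinj s hs hgen
    classical
    rcases s.eq_empty_or_nonempty with rfl | ⟨x, hx⟩
    · exact ih R S hinj ∅ (by simp) hgen
    let T := Algebra.adjoin R ((s.erase x : Finset S) : Set S)
    haveI : Algebra.FiniteType R T := T.fg_iff_finiteType.mp (Subalgebra.fg_adjoin_finset _)
    haveI : IsNoetherianRing T := Algebra.FiniteType.isNoetherianRing R T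
    have hRT : Function.Injective (algebraMap R T) := fun a b h => hinj (congrArg Subtype.val h)
    haveI : FaithfulSMul R T := (faithfulSMul_iff_algebraMap_injective _ _).mpr hRT
    haveI : FaithfulSMul T S := (faithfulSMul_iff_algebraMap_injective _ _).mpr Subtype.val_injective
    refine alt_trans (T := T) ?_ (alt_one (R := T) Subtype.val_injective x ?_)
    · let t : Finset T := (s.erase x).attach.image fun y => (⟨y.1, Algebra.subset_adjoin y.2⟩ : T)
      refine ih R T hRT t ?_ ?_
      · refine Finset.card_image_le.trans ?_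
        rw [Finset.card_attach, Finset.card_erase_of_mem hx]
        omega
      · refine Subalgebra.map_injective (f := T.val) Subtype.val_injective ?_
        rw [AlgHom.map_adjoin, Algebra.map_top, Subalgebra.range_val]
        refine congrArg (Algebra.adjoin R) (Set.ext fun y => ⟨?_, fun hy => ?_⟩)
        · rintro ⟨w, hw, rfl⟩
          obtain ⟨z, -, rfl⟩ := Finset.mem_image.mp hw
          exact z.2
        · exact ⟨⟨y, Algebra.subset_adjoin hy⟩, Finset.mem_image.mpr ⟨⟨y, hy⟩, Finset.mem_attach _ _, rfl⟩, rfl⟩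
    · refine top_le_iff.mp fun y _ => ?_
      have hy : y ∈ Algebra.adjoin R (s : Set S) := hgen ▸ Algebra.mem_top
      refine (Algebra.adjoin_le (S := (Algebra.adjoin T {x}).restrictScalars R) fun z hz => ?_) hy
      by_cases hzx : z = x
      · exact Algebra.subset_adjoin hzx
      · exact (Algebra.adjoin T {x}).algebraMap_mem
          (⟨z, Algebra.subset_adjoin (Finset.mem_coe.mpr (Finset.mem_erase.mpr ⟨hzx, hz⟩))⟩ : T)

theorem altitude (R : Type u) [CommRing R] [IsDomain R]
    [IsNoetherianRing R] (S : Type u) [CommRing S] [IsDomain S] [Algebra R S]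
    [FaithfulSMul R S] [Algebra.FiniteType R S] (p : Ideal R) [p.IsPrime] (q : Ideal S) [q.IsPrime]
    [q.LiesOver p] :
    (q.height : Cardinal.{u}) + Algebra.trdeg (R ⧸ p) (S ⧸ q) ≤
      (p.height : Cardinal.{u}) + Algebra.trdeg R S := by
  obtain ⟨s, hs⟩ := (Algebra.FiniteType.out : (⊤ : Subalgebra R S).FG)
  exact alt_aux s.card R S (FaithfulSMul.algebraMap_injective R S) s le_rfl hs p q

/-- transcendence degree of the residue field extension -/
theorem trdeg_residue {R S : Type u} [CommRing R] [CommRing S] [Algebra R S] (p : Ideal R) [p.IsPrime]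
    (q : Ideal S) [q.IsPrime] [q.LiesOver p] [Algebra p.ResidueField q.ResidueField]
    [IsScalarTower R p.ResidueField q.ResidueField] :
    Algebra.trdeg p.ResidueField q.ResidueField = Algebra.trdeg (R ⧸ p) (S ⧸ q) := by
  haveI : FaithfulSMul (R ⧸ p) (S ⧸ q) := (faithfulSMul_iff_algebraMap_injective _ _).mpr (quot_injective p q)
  letI : Algebra (R ⧸ p) q.ResidueField := ((algebraMap (S ⧸ q) q.ResidueField).comp (algebraMap (R ⧸ p) (S ⧸ q))).toAlgebra
  haveI : IsScalarTower (R ⧸ p) (S ⧸ q) q.ResidueField := IsScalarTower.of_algebraMap_eq fun _ => rfl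
  haveI : IsScalarTower (R ⧸ p) p.ResidueField q.ResidueField := IsScalarTower.of_algebraMap_eq fun x => by
    obtain ⟨x, rfl⟩ := Ideal.Quotient.mk_surjective x
    show algebraMap (S ⧸ q) q.ResidueField (algebraMap R (S ⧸ q) x) = algebraMap p.ResidueField q.ResidueField (algebraMap R p.ResidueField x)
    rw [← IsScalarTower.algebraMap_apply R p.ResidueField q.ResidueField,
      ← IsScalarTower.algebraMap_apply R (S ⧸ q) q.ResidueField]
  haveI : Algebra.IsAlgebraic (R ⧸ p) p.ResidueField := IsLocalization.isAlgebraic _ (nonZeroDivisors (R ⧸ p))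
  haveI : Algebra.IsAlgebraic (S ⧸ q) q.ResidueField := IsLocalization.isAlgebraic _ (nonZeroDivisors (S ⧸ q))
  haveI : FaithfulSMul p.ResidueField q.ResidueField :=
    (faithfulSMul_iff_algebraMap_injective _ _).mpr (RingHom.injective _)
  have h := (trdeg_add_eq (R ⧸ p) p.ResidueField (A := q.ResidueField)).trans
    (trdeg_add_eq (R ⧸ p) (S ⧸ q) (A := q.ResidueField)).symm
  rwa [trdeg_eq_zero (R := R ⧸ p) (A := p.ResidueField), trdeg_eq_zero (R := S ⧸ q) (A := q.ResidueField),
    zero_add, add_zero] at h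

end Groth.Agent.HensPair.Altitude
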