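import Mathlib.RingTheory.Ideal.Height
import Mathlib.RingTheory.Spectrum.Prime.Topology
import Groth.Prelude.Def_Found

/-!
Catenary rings: maximal chains are additive.
-/

set_option autoImplicit false

noncomputable section

namespace Groth.Agent.HensPair.Catenary

universe u

variable {R : Type u} [CommRing R]

/-- a chain between two primes of greatest length -/
def IsMaxChain (s : LTSeries (PrimeSpectrum R)) : Prop :=
  ∀ t : LTSeries (PrimeSpectrum R), t.head = s.head → t.last = s.last → t.length ≤ s.length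

theorem exists_chain (p q : PrimeSpectrum R) (h : p ≤ q) :
    ∃ s : LTSeries (PrimeSpectrum R), s.head = p ∧ s.last = q := by
  rcases h.lt_or_eq with h | rfl
  · exact ⟨(RelSeries.singleton _ p).snoc q (show (RelSeries.singleton _ p).last < q from h), by simp, by simp⟩
  · exact ⟨RelSeries.singleton _ p, rfl, rfl⟩

theorem exists_max (hR : CAlg.IsCatenary R) (p q : PrimeSpectrum R) (h : p ≤ q) :
    ∃ s : LTSeries (PrimeSpectrum R), s.head = p ∧ s.last = q ∧ IsMaxChain s := by
  classical
  obtain ⟨n, hn⟩ := hR.1 p q h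
  let P : ℕ → Prop := fun m => ∃ s : LTSeries (PrimeSpectrum R), s.head = p ∧ s.last = q ∧ s.length = m
  obtain ⟨s₀, h₀, h₁⟩ := exists_chain p q h
  have hP : P (Nat.findGreatest P n) := Nat.findGreatest_spec (hn s₀ h₀ h₁) ⟨s₀, h₀, h₁, rfl⟩
  obtain ⟨s, hs, hs', hlen⟩ := hP
  refine ⟨s, hs, hs', fun t ht ht' => ?_⟩
  rw [hlen]
  exact Nat.le_findGreatest (hn t (ht.trans hs) (ht'.trans hs')) ⟨t, ht.trans hs, ht'.trans hs', rfl⟩

theorem saturated {s : LTSeries (PrimeSpectrum R)} (hs : IsMaxChain s) (i : Fin s.length) :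
    s (Fin.castSucc i) ⋖ s i.succ := by
  have hlt : s (Fin.castSucc i) < s i.succ := s.step i
  by_contra hno
  obtain ⟨c, hc₁, hc₂⟩ := exists_lt_lt_of_not_covBy hlt hno
  let t := s.insertNth i c hc₁ hc₂
  have h1 : t.head = s.head := by
    show (Fin.insertNth i.succ.castSucc c s.toFun : _ → PrimeSpectrum R) 0 = s 0
    rw [Fin.insertNth_apply_below (h := by simp [Fin.lt_def])]
    simp
  have h2 : t.last = s.last := by
    show (Fin.insertNth i.succ.castSucc c s.toFun : _ → PrimeSpectrum R) (Fin.last _) = s (Fin.last _)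
    rw [Fin.insertNth_apply_above (h := by simp [Fin.lt_def])]
    simp
    rfl
  have := hs t h1 h2
  simp [t, RelSeries.insertNth] at this

theorem saturated_smash {s t : LTSeries (PrimeSpectrum R)} (h : s.last = t.head) (hs : IsMaxChain s)
    (ht : IsMaxChain t) (i : Fin (s.smash t h).length) :
    (s.smash t h) (Fin.castSucc i) ⋖ (s.smash t h) i.succ := by
  revert i
  show ∀ i : Fin (s.length + t.length), _
  refine Fin.addCases (fun i => ?_) fun i => ?_
  · have h1 := saturated hs i
    rw [← RelSeries.smash_castAdd h i, ← RelSeries.smash_succ_castAdd h i] at h1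
    exact h1
  · have h1 := saturated ht i
    rw [← RelSeries.smash_natAdd h i, ← RelSeries.smash_succ_natAdd h i] at h1
    exact h1

/-- lengths of maximal chains add up -/
theorem max_add (hR : CAlg.IsCatenary R) {a b c : LTSeries (PrimeSpectrum R)} (ha : IsMaxChain a) (hb : IsMaxChain b)
    (hc : IsMaxChain c) (h₁ : a.head = c.head) (h₂ : a.last = b.head) (h₃ : b.last = c.last) :
    a.length + b.length = c.length :=
  hR.2 (a.smash b h₂) c (by rw [RelSeries.head_smash]; exact h₁) (by rw [RelSeries.last_smash]; exact h₃)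
    (saturated_smash h₂ ha hb) (saturated hc)

/-- the longest chain above a minimum computes the height -/
theorem height_eq [IsDomain R] {s : LTSeries (PrimeSpectrum R)} (hs : IsMaxChain s) (h0 : s.head.asIdeal = ⊥) :
    s.last.asIdeal.height = (s.length : ℕ∞) := by
  rw [PrimeSpectrum.height_eq_orderHeight s.last]
  refine le_antisymm (Order.height_le fun t ht => ?_) (Order.length_le_height le_rfl)
  have hle : s.head ≤ t.head := by
    show s.head.asIdeal ≤ t.head.asIdeal
    rw [h0]; exact bot_le
  rcases hle.lt_or_eq with h | h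
  · have h1 := hs (t.cons _ h) (by simp) (by rw [RelSeries.last_cons]; exact ht)
    rw [RelSeries.cons_length] at h1
    exact_mod_cast (Nat.le_succ _).trans h1
  · exact_mod_cast hs t h.symm ht

/-- chains above a prime are chains of the quotient -/
theorem height_map_eq {s : LTSeries (PrimeSpectrum R)} (hs : IsMaxChain s) :
    (s.last.asIdeal.map (Ideal.Quotient.mk s.head.asIdeal)).height = (s.length : ℕ∞) := by
  let P := s.head.asIdeal
  let mk := Ideal.Quotient.mk P
  have hle : ∀ i, P ≤ (s i).asIdeal := fun i => s.monotone (Fin.zero_le i)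
  let lift : Fin (s.length + 1) → PrimeSpectrum (R ⧸ P) := fun i =>
    ⟨(s i).asIdeal.map mk, Ideal.map_isPrime_of_surjective Ideal.Quotient.mk_surjective (by rw [Ideal.mk_ker]; exact hle i)⟩
  have hlift : ∀ i, PrimeSpectrum.comap mk (lift i) = s i := fun i => PrimeSpectrum.ext (by
    show ((s i).asIdeal.map mk).comap mk = _
    rw [Ideal.comap_map_of_surjective' _ Ideal.Quotient.mk_surjective, Ideal.mk_ker, sup_eq_left.mpr (hle i)])
  have hinj := PrimeSpectrum.comap_injective_of_surjective mk Ideal.Quotient.mk_surjective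
  let l : LTSeries (PrimeSpectrum (R ⧸ P)) := ⟨s.length, lift, fun i => by
    have h1 : s i.castSucc < s i.succ := s.step i
    refine lt_of_le_of_ne (Ideal.map_mono h1.le) fun e => h1.ne ?_
    rw [← hlift, ← hlift]; exact congrArg _ (PrimeSpectrum.ext e)⟩
  show (lift (Fin.last _)).asIdeal.height = _
  rw [PrimeSpectrum.height_eq_orderHeight]
  refine le_antisymm (Order.height_le fun t ht => ?_) (Order.length_le_height (p := l) le_rfl)
  let t' := t.map (PrimeSpectrum.comap mk) (RingHom.strictMono_comap_of_surjective Ideal.Quotient.mk_surjective)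
  have hlast : t'.last = s.last := by
    rw [LTSeries.last_map, ht]; exact hlift _
  have hhead : s.head ≤ t'.head := fun z hz => by
    show mk z ∈ t.head.asIdeal
    rw [Ideal.Quotient.eq_zero_iff_mem.mpr hz]; exact zero_mem _
  rcases hhead.lt_or_eq with h | h
  · have h1 := hs (t'.cons _ h) (by simp) (by rw [RelSeries.last_cons]; exact hlast)
    rw [RelSeries.cons_length] at h1
    exact_mod_cast (Nat.le_succ _).trans h1
  · exact_mod_cast hs t' h.symm hlast

/-- heights add up in a catenary domain -/
theorem height_add [IsDomain R] (hR : CAlg.IsCatenary R) (P Q : Ideal R) [P.IsPrime] [Q.IsPrime] (h : P ≤ Q) :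
    Q.height = P.height + (Q.map (Ideal.Quotient.mk P)).height := by
  obtain ⟨a, ha₀, ha₁, ha⟩ := exists_max hR ⟨⊥, Ideal.isPrime_bot⟩ ⟨P, inferInstance⟩ bot_le
  obtain ⟨b, hb₀, hb₁, hb⟩ := exists_max hR ⟨P, inferInstance⟩ ⟨Q, inferInstance⟩ h
  obtain ⟨c, hc₀, hc₁, hc⟩ := exists_max hR ⟨⊥, Ideal.isPrime_bot⟩ ⟨Q, inferInstance⟩ bot_le
  have h1 := height_eq ha (congrArg PrimeSpectrum.asIdeal ha₀)
  have h2 := height_eq hc (congrArg PrimeSpectrum.asIdeal hc₀)
  have h3 := height_map_eq hb
  rw [ha₁] at h1; rw [hc₁] at h2; rw [hb₀, hb₁] at h3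
  show (⟨Q, inferInstance⟩ : PrimeSpectrum R).asIdeal.height = _
  rw [h2, ← max_add hR ha hb hc (ha₀.trans hc₀.symm) (ha₁.trans hb₀.symm) (hb₁.trans hc₁.symm), Nat.cast_add, ← h1, ← h3]

/-- universally catenary rings pass to algebras of finite type -/
theorem of_finiteType {A B : Type u} [CommRing A] [CommRing B] [Algebra A B] [Algebra.FiniteType A B]
    (hA : CAlg.IsUniversallyCatenary A) : CAlg.IsUniversallyCatenary B := by
  haveI := hA.1
  refine ⟨Algebra.FiniteType.isNoetherianRing A B, fun S _ _ hS => ?_⟩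
  letI : Algebra A S := ((algebraMap B S).comp (algebraMap A B)).toAlgebra
  haveI : IsScalarTower A B S := IsScalarTower.of_algebraMap_eq fun _ => rfl
  haveI := hS
  exact hA.2 S (Algebra.FiniteType.trans (R := A) (S := B) (A := S) inferInstance inferInstance)

end Groth.Agent.HensPair.Catenary
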