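import Groth.Agent.HensPair.AltitudeEq

/-!
The altitude formula when only the local ring downstairs is universally catenary.
-/

set_option autoImplicit false
set_option synthInstance.maxHeartbeats 200000

noncomputable section

open Polynomial

namespace Groth.Agent.HensPair.AltitudeLocal

universe u

set_option backward.isDefEq.respectTransparency false

theorem algebraic_quot {R R' : Type u} [CommRing R] [CommRing R'] [Algebra R R'] (M : Submonoid R)
    [IsLocalization M R'] (I : Ideal R) [I.IsPrime] (I' : Ideal R') [I'.IsPrime] [I'.LiesOver I]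
    (hM : Disjoint (M : Set R) I) : Algebra.IsAlgebraic (R ⧸ I) (R' ⧸ I') := by
  refine ⟨fun z => ?_⟩
  obtain ⟨z, rfl⟩ := Ideal.Quotient.mk_surjective z
  obtain ⟨⟨r, m⟩, h⟩ := IsLocalization.surj M z
  refine ⟨C (Ideal.Quotient.mk I m.1) * X - C (Ideal.Quotient.mk I r), fun h0 => ?_, ?_⟩
  · have h1 : Ideal.Quotient.mk I m.1 = 0 := by simpa using congrArg (fun P : (R ⧸ I)[X] => P.coeff 1) h0
    exact Set.disjoint_left.mp hM m.2 (Ideal.Quotient.eq_zero_iff_mem.mp h1)
  · rw [map_sub, map_mul, Polynomial.aeval_C, Polynomial.aeval_C, Polynomial.aeval_X]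
    show Ideal.Quotient.mk I' (algebraMap R R' m.1) * Ideal.Quotient.mk I' z - Ideal.Quotient.mk I' (algebraMap R R' r) = 0
    rw [← map_mul, mul_comm, h, sub_self]

theorem finiteType_localization {R S : Type u} [CommRing R] [CommRing S] [Algebra R S] [Algebra.FiniteType R S]
    (M : Submonoid R) : Algebra.FiniteType (Localization M) (Localization (Algebra.algebraMapSubmonoid S M)) := by
  classical
  let Rm := Localization M
  let Sm := Localization (Algebra.algebraMapSubmonoid S M)
  obtain ⟨t, ht⟩ := (Algebra.FiniteType.out : (⊤ : Subalgebra R S).FG)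
  refine ⟨⟨t.image (algebraMap S Sm), top_le_iff.mp fun z _ => ?_⟩⟩
  let A := Algebra.adjoin Rm ((t.image (algebraMap S Sm) : Finset Sm) : Set Sm)
  have hS : ∀ s : S, algebraMap S Sm s ∈ A := fun s => by
    have hs : s ∈ Algebra.adjoin R (t : Set S) := ht ▸ Algebra.mem_top
    have h1 : Algebra.adjoin R (t : Set S) ≤ (A.restrictScalars R).comap (IsScalarTower.toAlgHom R S Sm) :=
      Algebra.adjoin_le fun y hy => Algebra.subset_adjoin (Finset.mem_coe.mpr (Finset.mem_image_of_mem _ hy))
    exact h1 hs
  obtain ⟨⟨s, ⟨_, m, hm, rfl⟩⟩, h⟩ := IsLocalization.surj (Algebra.algebraMapSubmonoid S M) z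
  have hu : algebraMap Rm Sm (IsLocalization.mk' Rm 1 ⟨m, hm⟩) * algebraMap S Sm (algebraMap R S m) = 1 := by
    rw [← IsScalarTower.algebraMap_apply R S Sm, IsScalarTower.algebraMap_apply R Rm Sm, ← map_mul,
      IsLocalization.mk'_spec, map_one, map_one]
  rw [show z = algebraMap S Sm s * algebraMap Rm Sm (IsLocalization.mk' Rm 1 ⟨m, hm⟩) from by
    rw [← h, mul_assoc, mul_comm (algebraMap S Sm _), hu, mul_one]]
  exact A.mul_mem (hS s) (A.algebraMap_mem _)

theorem altitude_eq_local (R S : Type u) [CommRing R] [IsDomain R] [CommRing S] [IsDomain S] [Algebra R S]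
    [FaithfulSMul R S] [Algebra.FiniteType R S] (p : Ideal R) [p.IsPrime] (q : Ideal S) [q.IsPrime]
    [q.LiesOver p] (hR : CAlg.IsUniversallyCatenary (Localization.AtPrime p)) :
    (q.height : Cardinal.{u}) + Algebra.trdeg (R ⧸ p) (S ⧸ q) =
      (p.height : Cardinal.{u}) + Algebra.trdeg R S := by
  let M := p.primeCompl
  let R' := Localization.AtPrime p
  let S' := Localization (Algebra.algebraMapSubmonoid S M)
  have hinj : Function.Injective (algebraMap R S) := FaithfulSMul.algebraMap_injective R S
  have hMS : Algebra.algebraMapSubmonoid S M ≤ nonZeroDivisors S := by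
    rintro _ ⟨m, hm, rfl⟩
    refine mem_nonZeroDivisors_of_ne_zero fun h0 => hm ?_
    rw [hinj (h0.trans (map_zero _).symm)]
    exact zero_mem p
  haveI : IsDomain S' := IsLocalization.isDomain_localization hMS
  haveI : IsDomain R' := IsLocalization.isDomain_localization p.primeCompl_le_nonZeroDivisors
  haveI : Algebra.FiniteType R' S' := finiteType_localization M
  have hR'inj : Function.Injective (algebraMap R R') := IsLocalization.injective R' p.primeCompl_le_nonZeroDivisors
  have hS'inj : Function.Injective (algebraMap S S') := IsLocalization.injective S' hMS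
  haveI : FaithfulSMul R R' := (faithfulSMul_iff_algebraMap_injective _ _).mpr hR'inj
  haveI : FaithfulSMul S S' := (faithfulSMul_iff_algebraMap_injective _ _).mpr hS'inj
  have hR'S' : Function.Injective (algebraMap R' S') := by
    rw [injective_iff_map_eq_zero]
    intro z hz
    obtain ⟨r, m, rfl⟩ := IsLocalization.exists_mk'_eq M z
    have h1 : algebraMap R' S' (algebraMap R R' r) = 0 := by
      rw [← IsLocalization.mk'_spec R' r m, map_mul, hz, zero_mul]
    rw [← IsScalarTower.algebraMap_apply, IsScalarTower.algebraMap_apply R S S'] at h1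
    rw [hinj ((hS'inj (h1.trans (map_zero _).symm)).trans (map_zero _).symm)]
    exact IsLocalization.mk'_zero _
  haveI : FaithfulSMul R' S' := (faithfulSMul_iff_algebraMap_injective _ _).mpr hR'S'
  let p' := IsLocalRing.maximalIdeal R'
  let q' := q.map (algebraMap S S')
  have hd : Disjoint (Algebra.algebraMapSubmonoid S M : Set S) q := Set.disjoint_left.mpr (by
    rintro _ ⟨m, hm, rfl⟩ hmq
    exact hm ((Ideal.LiesOver.over (P := q) (p := p)).ge hmq))
  haveI : q'.IsPrime := IsLocalization.isPrime_of_isPrime_disjoint _ S' q inferInstance hd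
  have hq'q : q'.comap (algebraMap S S') = q := IsLocalization.comap_map_of_isPrime_disjoint _ S' inferInstance hd
  haveI : q'.LiesOver q := ⟨hq'q.symm⟩
  haveI : p'.LiesOver p := ⟨(IsLocalization.AtPrime.under_maximalIdeal R' p).symm⟩
  haveI : q'.LiesOver p' := ⟨by
    refine (IsLocalization.map_comap M R' p').symm.trans ?_
    refine Eq.trans ?_ (IsLocalization.map_comap M R' (q'.comap (algebraMap R' S')))
    refine congrArg (Ideal.map _) ?_
    show p'.comap (algebraMap R R') = (q'.comap (algebraMap R' S')).comap (algebraMap R R')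
    rw [Ideal.comap_comap, ← IsScalarTower.algebraMap_eq, IsScalarTower.algebraMap_eq R S S', ← Ideal.comap_comap, hq'q]
    exact (IsLocalization.AtPrime.under_maximalIdeal R' p).trans (Ideal.LiesOver.over (P := q) (p := p))⟩
  haveI : q'.LiesOver p := Ideal.LiesOver.trans q' q p
  have h := AltitudeEq.altitude_eq R' hR S' p' q'
  have hhp : p'.height = p.height := by
    rw [show p' = p.map (algebraMap R R') from (Localization.AtPrime.map_eq_maximalIdeal).symm]
    exact IsLocalization.height_map_of_disjoint M p (Set.disjoint_left.mpr fun z hz => hz)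
  have hhq : q'.height = q.height := IsLocalization.height_map_of_disjoint _ q hd
  have htr : Algebra.trdeg R' S' = Algebra.trdeg R S := by
    haveI : Algebra.IsAlgebraic R R' := IsLocalization.isAlgebraic _ M
    haveI : Algebra.IsAlgebraic S S' := IsLocalization.isAlgebraic _ (Algebra.algebraMapSubmonoid S M)
    have h1 := (trdeg_add_eq R R' (A := S')).trans (trdeg_add_eq R S (A := S')).symm
    rwa [trdeg_eq_zero (R := R) (A := R'), trdeg_eq_zero (R := S) (A := S'), zero_add, add_zero] at h1
  have hquot : Algebra.trdeg (R' ⧸ p') (S' ⧸ q') = Algebra.trdeg (R ⧸ p) (S ⧸ q) := by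
    haveI : IsScalarTower (R ⧸ p) (R' ⧸ p') (S' ⧸ q') := IsScalarTower.of_algebraMap_eq fun z => by
      obtain ⟨z, rfl⟩ := Ideal.Quotient.mk_surjective z
      exact congrArg (Ideal.Quotient.mk q') (IsScalarTower.algebraMap_apply R R' S' z)
    haveI : IsScalarTower (R ⧸ p) (S ⧸ q) (S' ⧸ q') := IsScalarTower.of_algebraMap_eq fun z => by
      obtain ⟨z, rfl⟩ := Ideal.Quotient.mk_surjective z
      exact congrArg (Ideal.Quotient.mk q') (IsScalarTower.algebraMap_apply R S S' z)
    haveI : FaithfulSMul (R ⧸ p) (R' ⧸ p') := (faithfulSMul_iff_algebraMap_injective _ _).mpr (Altitude.quot_injective p p')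
    haveI : FaithfulSMul (S ⧸ q) (S' ⧸ q') := (faithfulSMul_iff_algebraMap_injective _ _).mpr (Altitude.quot_injective q q')
    haveI : FaithfulSMul (R ⧸ p) (S ⧸ q) := (faithfulSMul_iff_algebraMap_injective _ _).mpr (Altitude.quot_injective p q)
    haveI : FaithfulSMul (R' ⧸ p') (S' ⧸ q') := (faithfulSMul_iff_algebraMap_injective _ _).mpr (Altitude.quot_injective p' q')
    haveI : Algebra.IsAlgebraic (R ⧸ p) (R' ⧸ p') := algebraic_quot M p p' (Set.disjoint_left.mpr fun z hz => hz)
    haveI : Algebra.IsAlgebraic (S ⧸ q) (S' ⧸ q') := algebraic_quot (Algebra.algebraMapSubmonoid S M) q q' hd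
    have h1 := (trdeg_add_eq (R ⧸ p) (R' ⧸ p') (A := S' ⧸ q')).trans (trdeg_add_eq (R ⧸ p) (S ⧸ q) (A := S' ⧸ q')).symm
    rwa [trdeg_eq_zero (R := R ⧸ p) (A := R' ⧸ p'), trdeg_eq_zero (R := S ⧸ q) (A := S' ⧸ q'), zero_add, add_zero] at h1
  rw [hhp, hhq, htr, hquot] at h
  exact h

/-- universal catenarity passes to quotients of local rings -/
theorem atPrime_quot {R : Type u} [CommRing R] (P p : Ideal R) [p.IsPrime] (h : P ≤ p) [(p.map (Ideal.Quotient.mk P)).IsPrime]
    (hR : CAlg.IsUniversallyCatenary (Localization.AtPrime p)) :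
    CAlg.IsUniversallyCatenary (Localization.AtPrime (p.map (Ideal.Quotient.mk P))) := by
  let R' := Localization.AtPrime p
  let Q := Localization.AtPrime (p.map (Ideal.Quotient.mk P))
  have hmem : ∀ r, r ∉ p → Ideal.Quotient.mk P r ∈ (p.map (Ideal.Quotient.mk P)).primeCompl := fun r hr hmr => hr (by
    have h1 : r ∈ (p.map (Ideal.Quotient.mk P)).comap (Ideal.Quotient.mk P) := hmr
    rwa [Ideal.comap_map_of_surjective' _ Ideal.Quotient.mk_surjective, Ideal.mk_ker, sup_eq_left.mpr h] at h1)
  let φ : R' →+* Q := IsLocalization.lift (M := p.primeCompl)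
    (g := (algebraMap (R ⧸ P) Q).comp (Ideal.Quotient.mk P)) fun m => IsLocalization.map_units Q ⟨_, hmem m.1 m.2⟩
  letI : Algebra R' Q := φ.toAlgebra
  have hsurj : Function.Surjective φ := fun z => by
    obtain ⟨a, ⟨b, hb⟩, rfl⟩ := IsLocalization.exists_mk'_eq (p.map (Ideal.Quotient.mk P)).primeCompl z
    obtain ⟨a, rfl⟩ := Ideal.Quotient.mk_surjective a
    obtain ⟨b, rfl⟩ := Ideal.Quotient.mk_surjective b
    have hb' : b ∉ p := fun hbp => hb (Ideal.mem_map_of_mem _ hbp)
    refine ⟨IsLocalization.mk' R' a (⟨b, hb'⟩ : p.primeCompl), ?_⟩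
    rw [IsLocalization.lift_mk'_spec, RingHom.comp_apply, RingHom.comp_apply]
    exact (IsLocalization.mk'_spec' Q (Ideal.Quotient.mk P a) ⟨Ideal.Quotient.mk P b, hb⟩).symm
  haveI : Algebra.FiniteType R' Q := Algebra.FiniteType.of_surjective (Algebra.ofId R' Q) hsurj
  exact Catenary.of_finiteType hR

end Groth.Agent.HensPair.AltitudeLocal
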