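import Groth.Agent.HensPair.TrdegScheme
import Groth.Agent.Equidim.AffineCrit

/-!
The dimension inequality for morphisms locally of finite type.
-/

set_option autoImplicit false
set_option synthInstance.maxHeartbeats 200000

noncomputable section

open CategoryTheory AlgebraicGeometry TopologicalSpace Topology

namespace Groth.Agent.HensPair.AltitudeScheme

universe u

set_option backward.isDefEq.respectTransparency false

/-- changing both rings along isomorphisms -/
theorem trdeg_congr {A₁ A₂ B₁ B₂ : Type u} [CommRing A₁] [CommRing A₂] [CommRing B₁] [CommRing B₂]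
    [IsDomain A₁] [IsDomain B₂] [Algebra A₁ B₁] [Algebra A₂ B₂] (e₁ : A₁ →+* A₂) (he₁ : Function.Bijective e₁)
    (e₂ : B₁ →+* B₂) (he₂ : Function.Bijective e₂) (hinj : Function.Injective (algebraMap A₂ B₂))
    (h : ∀ a, e₂ (algebraMap A₁ B₁ a) = algebraMap A₂ B₂ (e₁ a)) :
    Algebra.trdeg A₁ B₁ = Algebra.trdeg A₂ B₂ := by
  letI : Algebra A₁ A₂ := e₁.toAlgebra
  letI : Algebra A₁ B₂ := ((algebraMap A₂ B₂).comp e₁).toAlgebra
  haveI : IsScalarTower A₁ A₂ B₂ := IsScalarTower.of_algebraMap_eq fun _ => rfl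
  haveI : FaithfulSMul A₁ A₂ := (faithfulSMul_iff_algebraMap_injective _ _).mpr he₁.1
  haveI : FaithfulSMul A₂ B₂ := (faithfulSMul_iff_algebraMap_injective _ _).mpr hinj
  haveI : Algebra.IsAlgebraic A₁ A₂ := ⟨fun z => by
    obtain ⟨a, rfl⟩ := he₁.2 z
    exact isAlgebraic_algebraMap a⟩
  let e : B₁ ≃ₐ[A₁] B₂ := AlgEquiv.ofRingEquiv (f := RingEquiv.ofBijective e₂ he₂) h
  rw [e.trdeg_eq, ← trdeg_add_eq A₁ A₂ (A := B₂), trdeg_eq_zero (R := A₁) (A := A₂), zero_add]

theorem altitude_quot₁ {A B : Type u} [CommRing A] [IsNoetherianRing A] [CommRing B] [Algebra A B]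
    [Algebra.FiniteType A B] (p P' : Ideal A) [p.IsPrime] [P'.IsPrime] (P q : Ideal B) [P.IsPrime] [q.IsPrime]
    [q.LiesOver p] [P.LiesOver P'] (m : ℕ) (l : LTSeries (PrimeSpectrum B)) (hl : l.length = m)
    (hhead : P ≤ l.head.asIdeal) (hlast : l.last.asIdeal = q) :
    (m : Cardinal.{u}) + Algebra.trdeg (A ⧸ p) (B ⧸ q) ≤
      ((p.map (Ideal.Quotient.mk P')).height : Cardinal.{u}) + Algebra.trdeg (A ⧸ P') (B ⧸ P) := by
  have hPq : P ≤ q := hlast ▸ hhead.trans (l.head_le_last)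
  have hP'p : P' ≤ p := by
    rw [Ideal.LiesOver.over (P := P) (p := P'), Ideal.LiesOver.over (P := q) (p := p)]
    exact Ideal.comap_mono hPq
  haveI : IsScalarTower A (A ⧸ P') (B ⧸ P) := IsScalarTower.of_algebraMap_eq fun x => rfl
  haveI : Algebra.FiniteType (A ⧸ P') (B ⧸ P) :=
    Algebra.FiniteType.of_restrictScalars_finiteType A _ _
  haveI : FaithfulSMul (A ⧸ P') (B ⧸ P) :=
    (faithfulSMul_iff_algebraMap_injective _ _).mpr (Altitude.quot_injective P' P)
  let p₁ := p.map (Ideal.Quotient.mk P')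
  let q₁ := q.map (Ideal.Quotient.mk P)
  haveI : p₁.IsPrime := Ideal.map_isPrime_of_surjective Ideal.Quotient.mk_surjective (by rw [Ideal.mk_ker]; exact hP'p)
  haveI : q₁.IsPrime := Ideal.map_isPrime_of_surjective Ideal.Quotient.mk_surjective (by rw [Ideal.mk_ker]; exact hPq)
  have hp₁ : p₁.comap (Ideal.Quotient.mk P') = p := by
    rw [Ideal.comap_map_of_surjective' _ Ideal.Quotient.mk_surjective, Ideal.mk_ker, sup_eq_left.mpr hP'p]
  have hq₁ : q₁.comap (Ideal.Quotient.mk P) = q := by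
    rw [Ideal.comap_map_of_surjective' _ Ideal.Quotient.mk_surjective, Ideal.mk_ker, sup_eq_left.mpr hPq]
  haveI : q₁.LiesOver p₁ := ⟨by
    refine Ideal.comap_injective_of_surjective _ Ideal.Quotient.mk_surjective ?_
    rw [hp₁, Ideal.LiesOver.over (P := q) (p := p)]
    show q.comap (algebraMap A B) = (q₁.comap (algebraMap (A ⧸ P') (B ⧸ P))).comap (Ideal.Quotient.mk P')
    rw [Ideal.comap_comap]
    conv_lhs => rw [← hq₁, Ideal.comap_comap]
    rfl⟩
  have h := Altitude.altitude (A ⧸ P') (B ⧸ P) p₁ q₁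
  have ht : Algebra.trdeg (A ⧸ p) (B ⧸ q) = Algebra.trdeg ((A ⧸ P') ⧸ p₁) ((B ⧸ P) ⧸ q₁) := by
    refine trdeg_congr (Ideal.Quotient.lift p ((Ideal.Quotient.mk p₁).comp (Ideal.Quotient.mk P'))
        fun z hz => Ideal.Quotient.eq_zero_iff_mem.mpr (Ideal.mem_map_of_mem _ hz)) ⟨?_, ?_⟩
      (Ideal.Quotient.lift q ((Ideal.Quotient.mk q₁).comp (Ideal.Quotient.mk P))
        fun z hz => Ideal.Quotient.eq_zero_iff_mem.mpr (Ideal.mem_map_of_mem _ hz)) ⟨?_, ?_⟩
      (Altitude.quot_injective p₁ q₁) fun a => ?_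
    · rw [injective_iff_map_eq_zero]
      intro z hz
      obtain ⟨z, rfl⟩ := Ideal.Quotient.mk_surjective z
      rw [Ideal.Quotient.eq_zero_iff_mem, ← hp₁]
      show Ideal.Quotient.mk P' z ∈ p₁
      exact Ideal.Quotient.eq_zero_iff_mem.mp hz
    · intro z
      obtain ⟨z, rfl⟩ := Ideal.Quotient.mk_surjective z
      obtain ⟨z, rfl⟩ := Ideal.Quotient.mk_surjective z
      exact ⟨Ideal.Quotient.mk p z, rfl⟩
    · rw [injective_iff_map_eq_zero]
      intro z hz
      obtain ⟨z, rfl⟩ := Ideal.Quotient.mk_surjective z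
      rw [Ideal.Quotient.eq_zero_iff_mem, ← hq₁]
      show Ideal.Quotient.mk P z ∈ q₁
      exact Ideal.Quotient.eq_zero_iff_mem.mp hz
    · intro z
      obtain ⟨z, rfl⟩ := Ideal.Quotient.mk_surjective z
      obtain ⟨z, rfl⟩ := Ideal.Quotient.mk_surjective z
      exact ⟨Ideal.Quotient.mk q z, rfl⟩
    · obtain ⟨a, rfl⟩ := Ideal.Quotient.mk_surjective a
      rfl
  have hqe : (m : ℕ∞) ≤ q₁.height := by
    have hP : ∀ i, P ≤ (l i).asIdeal := fun i => hhead.trans (l.monotone (Fin.zero_le i))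
    let lift : ∀ i, PrimeSpectrum (B ⧸ P) := fun i =>
      ⟨(l i).asIdeal.map (Ideal.Quotient.mk P),
        Ideal.map_isPrime_of_surjective Ideal.Quotient.mk_surjective (by rw [Ideal.mk_ker]; exact hP i)⟩
    have hlift : ∀ i, (lift i).asIdeal.comap (Ideal.Quotient.mk P) = (l i).asIdeal := fun i => by
      rw [Ideal.comap_map_of_surjective' _ Ideal.Quotient.mk_surjective, Ideal.mk_ker, sup_eq_left.mpr (hP i)]
    let l₁ : LTSeries (PrimeSpectrum (B ⧸ P)) := ⟨l.length, lift, fun i => by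
      have h1 : l (Fin.castSucc i) < l i.succ := l.step i
      refine lt_of_le_of_ne (Ideal.map_mono h1.le) fun e => h1.ne (PrimeSpectrum.ext ?_)
      exact (hlift _).symm.trans ((congrArg (Ideal.comap (Ideal.Quotient.mk P)) e).trans (hlift _))⟩
    rw [show q₁.height = Order.height (⟨q₁, inferInstance⟩ : PrimeSpectrum (B ⧸ P)) from
      PrimeSpectrum.height_eq_orderHeight ⟨q₁, inferInstance⟩, ← hl]
    refine Order.length_le_height (p := l₁) (le_of_eq (PrimeSpectrum.ext ?_))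
    show l.last.asIdeal.map _ = q₁
    rw [hlast]
  rw [ht]
  refine le_trans (add_le_add ?_ le_rfl) h
  rw [← Cardinal.ofENat_nat m]
  exact Cardinal.ofENat_le_ofENat.mpr hqe

theorem altitude_quot {A B : Type u} [CommRing A] [IsNoetherianRing A] [CommRing B] [Algebra A B]
    [Algebra.FiniteType A B] (p P' : Ideal A) [p.IsPrime] [P'.IsPrime] (P q : Ideal B) [P.IsPrime] [q.IsPrime]
    [q.LiesOver p] [P.LiesOver P'] (m : ℕ) (l : LTSeries (PrimeSpectrum B)) (hl : l.length = m)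
    (hhead : P ≤ l.head.asIdeal) (hlast : l.last.asIdeal = q) :
    (m : Cardinal.{u}) + Algebra.trdeg (A ⧸ p) (B ⧸ q) ≤
      (p.height : Cardinal.{u}) + Algebra.trdeg (A ⧸ P') (B ⧸ P) := by
  have hPq : P ≤ q := hlast ▸ hhead.trans (l.head_le_last)
  have hP'p : P' ≤ p := by
    rw [Ideal.LiesOver.over (P := P) (p := P'), Ideal.LiesOver.over (P := q) (p := p)]
    exact Ideal.comap_mono hPq
  let p₁ := p.map (Ideal.Quotient.mk P')
  haveI : p₁.IsPrime := Ideal.map_isPrime_of_surjective Ideal.Quotient.mk_surjective (by rw [Ideal.mk_ker]; exact hP'p)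
  have hp₁ : p₁.comap (Ideal.Quotient.mk P') = p := by
    rw [Ideal.comap_map_of_surjective' _ Ideal.Quotient.mk_surjective, Ideal.mk_ker, sup_eq_left.mpr hP'p]
  have hpe : p₁.height ≤ p.height := by
    conv_rhs => rw [← hp₁]
    rw [PrimeSpectrum.height_eq_orderHeight (R := A ⧸ P') ⟨p₁, inferInstance⟩,
      show (p₁.comap (Ideal.Quotient.mk P')).height =
        Order.height (PrimeSpectrum.comap (Ideal.Quotient.mk P') ⟨p₁, inferInstance⟩) from
        PrimeSpectrum.height_eq_orderHeight (PrimeSpectrum.comap (Ideal.Quotient.mk P') ⟨p₁, inferInstance⟩)]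
    exact Order.height_le_height_apply_of_strictMono _ (RingHom.strictMono_comap_of_surjective Ideal.Quotient.mk_surjective) _
  exact (altitude_quot₁ p P' P q m l hl hhead hlast).trans
    (add_le_add (Cardinal.ofENat_le_ofENat.mpr hpe) le_rfl)

theorem stalk_dim_eq_height {X : Scheme.{u}} {V : X.Opens} (hV : IsAffineOpen V) (x : X) (hx : x ∈ V) :
    ringKrullDim (X.presheaf.stalk x) = ((hV.primeIdealOf ⟨x, hx⟩).asIdeal.height : WithBot ℕ∞) := by
  letI := X.presheaf.algebra_section_stalk ⟨x, hx⟩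
  haveI := hV.isLocalization_stalk ⟨x, hx⟩
  exact IsLocalization.AtPrime.ringKrullDim_eq_height (hV.primeIdealOf ⟨x, hx⟩).asIdeal _

theorem dimension_inequality {X S : Scheme.{u}} [IsLocallyNoetherian S]
    (f : X ⟶ S) [LocallyOfFiniteType f] (x : X) (n E : ℕ)
    (hn : letI := (f.residueFieldMap x).hom.toAlgebra
      Algebra.trdeg (S.residueField (f.base x)) (X.residueField x) = n)
    (hE : ∀ ξ : X, closure {ξ} ∈ irreducibleComponents ↥X → ξ ⤳ x →
      letI := (f.residueFieldMap ξ).hom.toAlgebra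
      Algebra.trdeg (S.residueField (f.base ξ)) (X.residueField ξ) ≤ E) :
    ringKrullDim (X.presheaf.stalk x) + n ≤ ringKrullDim (S.presheaf.stalk (f.base x)) + E := by
  obtain ⟨U₀, hU₀, hyU₀, -⟩ := exists_isAffineOpen_mem_and_subset (X := S) (U := ⊤) (x := f x) trivial
  obtain ⟨V, hV, hxV, hVU⟩ := exists_isAffineOpen_mem_and_subset (X := X) (U := f ⁻¹ᵁ U₀) (x := x) hyU₀
  let : Algebra Γ(S, U₀) Γ(X, V) := (f.appLE U₀ V hVU).hom.toAlgebra
  haveI : Algebra.FiniteType Γ(S, U₀) Γ(X, V) := Equidim.finiteType_chart f hU₀ hV hVU rfl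
  haveI : IsNoetherianRing Γ(S, U₀) := IsLocallyNoetherian.component_noetherian ⟨U₀, hU₀⟩
  haveI : IsNoetherianRing Γ(X, V) := Algebra.FiniteType.isNoetherianRing Γ(S, U₀) _
  let q := hV.primeIdealOf ⟨x, hxV⟩
  let p := hU₀.primeIdealOf ⟨f x, hVU hxV⟩
  haveI : q.asIdeal.LiesOver p.asIdeal := TrdegScheme.liesOver f hU₀ hV hVU rfl x hxV
  have hn' := (TrdegScheme.trdeg_residueFieldMap f hU₀ hV hVU rfl x hxV p.asIdeal q.asIdeal rfl rfl).symm.trans hn
  rw [stalk_dim_eq_height hV x hxV, stalk_dim_eq_height hU₀ (f x) (hVU hxV)]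
  show (q.asIdeal.height : WithBot ℕ∞) + n ≤ (p.asIdeal.height : WithBot ℕ∞) + E
  obtain ⟨l, hlast, hlen⟩ := q.asIdeal.exists_ltSeries_length_eq_height
  obtain ⟨P, hP, hPle⟩ := Ideal.exists_minimalPrimes_le (bot_le (a := l.head.asIdeal))
  haveI := hP.1.1
  let Pp : PrimeSpectrum Γ(X, V) := ⟨P, hP.1.1⟩
  have hPq : P ≤ q.asIdeal := hPle.trans (le_of_le_of_eq l.head_le_last (congrArg PrimeSpectrum.asIdeal hlast))
  let ξ := hV.fromSpec Pp
  have hξV : ξ ∈ V := hV.range_fromSpec.subset ⟨Pp, rfl⟩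
  have hPξ : P = (hV.primeIdealOf ⟨ξ, hξV⟩).asIdeal := congrArg PrimeSpectrum.asIdeal
    (hV.fromSpec.isOpenEmbedding.injective (a₁ := Pp) (hV.fromSpec_primeIdealOf ⟨ξ, hξV⟩).symm)
  let P' := P.under Γ(S, U₀)
  haveI : P.LiesOver P' := ⟨rfl⟩
  have hP'ξ : P' = (hU₀.primeIdealOf ⟨f ξ, hVU hξV⟩).asIdeal := by
    haveI := TrdegScheme.liesOver f hU₀ hV hVU rfl ξ hξV
    show P.under Γ(S, U₀) = _
    rw [hPξ]
    exact (Ideal.LiesOver.over (P := (hV.primeIdealOf ⟨ξ, hξV⟩).asIdeal)).symm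
  have hξmax : ∀ z : X, z ⤳ ξ → z = ξ := fun z hz => by
    obtain ⟨Z, rfl⟩ := hV.range_fromSpec.superset (hz.mem_open V.2 hξV)
    have hle : Z.asIdeal ≤ P := (PrimeSpectrum.le_iff_specializes _ _).mpr
      (hV.fromSpec.isOpenEmbedding.isInducing.specializes_iff.mp hz)
    exact congrArg hV.fromSpec (PrimeSpectrum.ext (le_antisymm hle (hP.2 ⟨Z.2, bot_le⟩ hle)))
  have hξx : ξ ⤳ x := by
    exact (((PrimeSpectrum.le_iff_specializes Pp q).mp hPq).map hV.fromSpec.continuous).trans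
      (specializes_of_eq (hV.fromSpec_primeIdealOf ⟨x, hxV⟩))
  have hE' := hE ξ (Equidim.closure_mem_irreducibleComponents ξ hξmax) hξx
  rw [TrdegScheme.trdeg_residueFieldMap f hU₀ hV hVU rfl ξ hξV P' P hP'ξ hPξ] at hE'
  have h := altitude_quot p.asIdeal P' P q.asIdeal l.length l rfl hPle (congrArg PrimeSpectrum.asIdeal hlast)
  rw [hn'] at h
  have h2 := h.trans (add_le_add le_rfl hE')
  rw [← Cardinal.ofENat_nat l.length, ← Cardinal.ofENat_nat n, ← Cardinal.ofENat_nat E, ← Cardinal.ofENat_add,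
    ← Cardinal.ofENat_add, Cardinal.ofENat_le_ofENat] at h2
  rw [← hlen]
  exact_mod_cast h2

/-- finiteness of the transcendence degree of residue fields -/
theorem exists_trdeg_nat {X S : Scheme.{u}} (f : X ⟶ S) [LocallyOfFiniteType f] (x : X) :
    ∃ n : ℕ, (letI := (f.residueFieldMap x).hom.toAlgebra
      Algebra.trdeg (S.residueField (f.base x)) (X.residueField x)) = n := by
  obtain ⟨U₀, hU₀, hyU₀, -⟩ := exists_isAffineOpen_mem_and_subset (X := S) (U := ⊤) (x := f x) trivial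
  obtain ⟨V, hV, hxV, hVU⟩ := exists_isAffineOpen_mem_and_subset (X := X) (U := f ⁻¹ᵁ U₀) (x := x) hyU₀
  let : Algebra Γ(S, U₀) Γ(X, V) := (f.appLE U₀ V hVU).hom.toAlgebra
  haveI : Algebra.FiniteType Γ(S, U₀) Γ(X, V) := Equidim.finiteType_chart f hU₀ hV hVU rfl
  let q := (hV.primeIdealOf ⟨x, hxV⟩).asIdeal
  let p := (hU₀.primeIdealOf ⟨f x, hVU hxV⟩).asIdeal
  haveI : q.LiesOver p := TrdegScheme.liesOver f hU₀ hV hVU rfl x hxV
  rw [TrdegScheme.trdeg_residueFieldMap f hU₀ hV hVU rfl x hxV p q rfl rfl]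
  haveI : IsScalarTower Γ(S, U₀) (Γ(S, U₀) ⧸ p) (Γ(X, V) ⧸ q) := IsScalarTower.of_algebraMap_eq fun _ => rfl
  haveI : Algebra.FiniteType (Γ(S, U₀) ⧸ p) (Γ(X, V) ⧸ q) :=
    Algebra.FiniteType.of_restrictScalars_finiteType Γ(S, U₀) _ _
  haveI : FaithfulSMul (Γ(S, U₀) ⧸ p) (Γ(X, V) ⧸ q) :=
    (faithfulSMul_iff_algebraMap_injective _ _).mpr (Altitude.quot_injective p q)
  exact Cardinal.lt_aleph0.mp trdeg_lt_aleph0_of_finiteType

theorem dim_le {X S : Scheme.{u}} [IsLocallyNoetherian S] (f : X ⟶ S) [LocallyOfFiniteType f] (E : ℕ)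
    (hE : ∀ ξ : X, closure {ξ} ∈ irreducibleComponents ↥X →
      letI := (f.residueFieldMap ξ).hom.toAlgebra
      Algebra.trdeg (S.residueField (f.base ξ)) (X.residueField ξ) ≤ E) :
    topologicalKrullDim ↥X ≤ topologicalKrullDim ↥S + E := by
  rw [show topologicalKrullDim ↥X = Order.krullDim ↥X from Order.krullDim_eq_of_orderIso irreducibleSetEquivPoints]
  refine iSup_le fun l => ?_
  obtain ⟨n, hn⟩ := exists_trdeg_nat f l.head
  have h1 : (l.length : WithBot ℕ∞) ≤ ringKrullDim (X.presheaf.stalk l.head) := by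
    rw [ringKrullDim_stalk_eq_coheight]
    exact WithBot.coe_le_coe.mpr Order.length_le_coheight_head
  have h3 : ringKrullDim (S.presheaf.stalk (f.base l.head)) ≤ topologicalKrullDim ↥S := by
    rw [ringKrullDim_stalk_eq_coheight,
      show topologicalKrullDim ↥S = Order.krullDim ↥S from Order.krullDim_eq_of_orderIso irreducibleSetEquivPoints]
    exact Order.coheight_le_krullDim _
  exact h1.trans ((le_add_of_nonneg_right (by exact_mod_cast Nat.zero_le n)).trans
    ((dimension_inequality f l.head n E hn fun ξ hξ _ => hE ξ hξ).trans (add_le_add h3 le_rfl)))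

end Groth.Agent.HensPair.AltitudeScheme
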