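import Groth.Agent.HensPair.LocalFacts
import Mathlib.RingTheory.Ideal.AssociatedPrime.Localization
import Mathlib.RingTheory.Regular.IsSMulRegular
import Mathlib.RingTheory.Ideal.AssociatedPrime.Finiteness

/-!
Associated primes of henselizations.
-/

set_option autoImplicit false

namespace Groth.Agent.HensPair.Ass

universe u

variable {A S : Type u} [CommRing A] [CommRing S] [Algebra A S]

theorem exists_mem_of_flat [Module.Flat A S] {a : A} {x : S} (h : algebraMap A S a * x = 0) :
    ∃ (n : ℕ) (c : Fin n → A) (y : Fin n → S), x = ∑ j, c j • y j ∧ ∀ j, a * c j = 0 := by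
  have h' : ∑ i : Fin 1, (fun _ => a) i • (fun _ => x) i = 0 := by
    simpa [Algebra.smul_def] using h
  obtain ⟨n, c, y, hy, hc⟩ := Module.Flat.iff_forall_isTrivialRelation.mp
    (inferInstance : Module.Flat A S) h'
  exact ⟨n, c 0, y, hy 0, fun j => by simpa using hc j⟩

theorem comap_mem [IsNoetherianRing A] [Module.Flat A S] (P : Ideal S) [P.IsPrime]
    (hP : P ∈ associatedPrimes S S) (hS : IsNoetherianRing S) :
    P.comap (algebraMap A S) ∈ associatedPrimes A A := by
  classical
  set p := P.comap (algebraMap A S) with hp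
  obtain ⟨-, x, hx⟩ := isAssociatedPrime_iff.mp hP
  by_contra hne
  let Rp := Localization.AtPrime p
  have hne' : IsLocalRing.maximalIdeal Rp ∉ associatedPrimes Rp Rp := fun hm => by
    have := Module.associatedPrimes.comap_mem_associatedPrimes_of_mem_associatedPrimes_of_isLocalizedModule_of_fg
      p.primeCompl (Algebra.linearMap A Rp) _ hm (IsNoetherian.noetherian _)
    exact hne (by rwa [← IsLocalization.AtPrime.comap_maximalIdeal Rp p])
  obtain ⟨r, hr, hreg⟩ : ∃ r ∈ IsLocalRing.maximalIdeal Rp, IsSMulRegular Rp r := by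
    by_contra hc
    push Not at hc
    have hsub : (IsLocalRing.maximalIdeal Rp : Set Rp) ⊆ ⋃ q ∈ associatedPrimes Rp Rp, q := by
      rw [biUnion_associatedPrimes_eq_compl_regular]
      exact fun r hr => hc r hr
    have hfin := associatedPrimes.finite Rp Rp
    rw [← hfin.coe_toFinset] at hsub
    obtain ⟨q, hq, hle⟩ := (Ideal.subset_union_prime 0 0 fun q hq _ _ =>
      IsAssociatedPrime.isPrime (hfin.mem_toFinset.mp hq)).mp hsub
    have hq' := hfin.mem_toFinset.mp hq
    exact hne' ((IsLocalRing.maximalIdeal.isMaximal Rp).eq_of_le (IsAssociatedPrime.isPrime hq').ne_top hle ▸ hq')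
  obtain ⟨a, s, rfl⟩ := IsLocalization.exists_mk'_eq p.primeCompl r
  have ha : a ∈ p := (IsLocalization.AtPrime.mk'_mem_maximal_iff Rp p a s).mp hr
  have hax : algebraMap A S a * x = 0 := by
    have : algebraMap A S a ∈ P := ha
    have h2 := hx.le this
    rw [Submodule.mem_colon_singleton, Submodule.mem_bot, smul_eq_mul] at h2
    exact h2
  obtain ⟨n, c, y, hxy, hc⟩ := exists_mem_of_flat hax
  have key : ∀ j, ∃ t : p.primeCompl, (t : A) * c j = 0 := fun j => by
    refine (IsLocalization.map_eq_zero_iff p.primeCompl Rp (c j)).mp (hreg ?_)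
    show IsLocalization.mk' Rp a s • algebraMap A Rp (c j) = IsLocalization.mk' Rp a s • 0
    rw [smul_zero, smul_eq_mul, mul_comm, IsLocalization.mul_mk'_eq_mk'_of_mul, mul_comm, hc j,
      IsLocalization.mk'_zero]
  choose t ht using key
  have : algebraMap A S (∏ j, (t j : A)) ∈ P := by
    refine hx.symm.le ?_
    rw [Submodule.mem_colon_singleton, Submodule.mem_bot, smul_eq_mul, hxy, Finset.mul_sum]
    refine Finset.sum_eq_zero fun j _ => ?_
    rw [Algebra.smul_def, ← mul_assoc, ← map_mul]
    obtain ⟨d, hd⟩ := Finset.dvd_prod_of_mem (fun j => (t j : A)) (Finset.mem_univ j)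
    rw [hd, mul_right_comm, ht, zero_mul, map_zero, zero_mul]
  exact Submonoid.prod_mem p.primeCompl (fun j _ => (t j).2) this

theorem mem_of_comap_mem {I : Ideal A} [IsNoetherianRing A] [Module.Flat A S] [IsNoetherianRing S]
    (hB : Hens2.IsPairHenselization A I S) (P : Ideal S) [hP : P.IsPrime]
    (h : P.comap (algebraMap A S) ∈ associatedPrimes A A) : P ∈ associatedPrimes S S := by
  obtain ⟨-, x, hx⟩ := isAssociatedPrime_iff.mp h
  set p := P.comap (algebraMap A S) with hp
  let M : Submodule S S := Submodule.span S {algebraMap A S x}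
  have hann : Module.annihilator S M = p.map (algebraMap A S) := by
    ext b
    rw [Module.mem_annihilator]
    constructor
    · intro hb
      have hb' : algebraMap A S x * b = 0 := by
        have := congrArg Subtype.val (hb ⟨_, Submodule.mem_span_singleton_self _⟩)
        simpa [mul_comm] using this
      obtain ⟨n, c, y, rfl, hc⟩ := exists_mem_of_flat hb'
      refine sum_mem fun j _ => ?_
      rw [Algebra.smul_def]
      refine Ideal.mul_mem_right _ _ (Ideal.mem_map_of_mem _ (hx.symm.le ?_))
      rw [Submodule.mem_colon_singleton, Submodule.mem_bot, smul_eq_mul, mul_comm]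
      exact hc j
    · rintro hb ⟨m, hm⟩
      obtain ⟨z, rfl⟩ := Submodule.mem_span_singleton.mp hm
      apply Subtype.ext
      show b * (z * algebraMap A S x) = 0
      have : p.map (algebraMap A S) ≤ (⊥ : Submodule S S).colon {algebraMap A S x} :=
        Ideal.map_le_iff_le_comap.mpr fun a ha => by
          rw [Ideal.mem_comap, Submodule.mem_colon_singleton, Submodule.mem_bot, smul_eq_mul, ← map_mul]
          rw [hx, Submodule.mem_colon_singleton, Submodule.mem_bot, smul_eq_mul] at ha
          rw [ha, map_zero]
      have h1 := this hb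
      rw [Submodule.mem_colon_singleton, Submodule.mem_bot, smul_eq_mul] at h1
      rw [mul_left_comm, h1, mul_zero]
  have hmin : P ∈ (p.map (algebraMap A S)).minimalPrimes := by
    refine ⟨⟨hP, Ideal.map_comap_le⟩, fun Q ⟨hQ, hpQ⟩ hQP => ?_⟩
    have : Q.comap (algebraMap A S) = P.comap (algebraMap A S) :=
      le_antisymm (Ideal.comap_mono hQP) (Ideal.map_le_iff_le_comap.mp hpQ)
    exact (LocalFacts.eq_of_le_of_under_eq hB hQP this).ge
  rw [← hann] at hmin
  exact associatedPrimes.subset_of_injective (f := M.subtype) M.injective_subtype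
    (Module.associatedPrimes.minimalPrimes_annihilator_subset_associatedPrimes S M hmin)

end Groth.Agent.HensPair.Ass
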