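import Groth.Agent.HensPair.Basic
import Mathlib.RingTheory.Idempotents

/-!
Henselian pairs only depend on the radical of the ideal, and behave well under quotients.
-/

set_option autoImplicit false

open Polynomial

namespace Groth.Agent.HensPair.Radical

universe u

variable {A : Type u} [CommRing A] {I J : Ideal A}

theorem radical_map {B : Type*} [CommRing B] (f : A →+* B) (h : I.radical = J.radical) :
    (I.map f).radical = (J.map f).radical := by
  have key : ∀ K L : Ideal A, K.radical = L.radical → (K.map f).radical ≤ (L.map f).radical :=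
    fun K L hKL => Ideal.radical_le_radical_iff.mpr ((Ideal.map_mono (hKL ▸ Ideal.le_radical)).trans
      (Ideal.map_radical_le f))
  exact le_antisymm (key I J h) (key J I h.symm)

theorem henselian_of_radical_eq (hI : HenselianRing A I) (h : I.radical = J.radical) :
    HenselianRing A J := by
  have hjac : J ≤ Ideal.jacobson ⊥ := by
    refine Ideal.le_radical.trans ?_
    rw [← h]
    exact (Ideal.radical_mono hI.jac).trans (Ideal.isRadical_jacobson ⊥)
  refine Basic.henselian_of_idemFinite hjac fun B _ _ hfin b hb => ?_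
  have hrad : (I.map (algebraMap A B)).radical = (J.map (algebraMap A B)).radical := radical_map _ h
  let IB := I.map (algebraMap A B)
  let JB := J.map (algebraMap A B)
  let N := IB.radical
  let q : B ⧸ IB →+* B ⧸ N := Ideal.Quotient.factor Ideal.le_radical
  have hker : ∀ x ∈ RingHom.ker q, IsNilpotent x := by
    intro x hx
    obtain ⟨x, rfl⟩ := Ideal.Quotient.mk_surjective x
    obtain ⟨n, hn⟩ := Ideal.Quotient.eq_zero_iff_mem.mp (RingHom.mem_ker.mp hx : Ideal.Quotient.mk N x = 0)
    exact ⟨n, by rw [← map_pow]; exact Ideal.Quotient.eq_zero_iff_mem.mpr hn⟩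
  have hbN : IsIdempotentElem (Ideal.Quotient.mk N b) := by
    show _ * _ = _
    rw [← map_mul, Ideal.Quotient.eq, ← sq]
    show _ ∈ IB.radical
    rw [hrad]
    exact Ideal.le_radical hb
  obtain ⟨e₁, he₁, he₁b⟩ := exists_isIdempotentElem_eq_of_ker_isNilpotent q hker
    (Ideal.Quotient.mk N b) ⟨Ideal.Quotient.mk IB b, rfl⟩ hbN
  obtain ⟨e, he, hee⟩ := (Basic.bijOn_idempotents (I := I) B).surjOn he₁
  refine ⟨e, he, ?_⟩
  rw [← Ideal.Quotient.eq]
  refine eq_of_isNilpotent_sub_of_isIdempotentElem (he.map _) ?_ ?_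
  · show _ * _ = _
    rw [← map_mul, Ideal.Quotient.eq, ← sq]; exact hb
  · rw [← map_sub]
    have h1 : e - b ∈ JB.radical := by
      show e - b ∈ (J.map (algebraMap A B)).radical
      rw [← hrad]
      refine Ideal.Quotient.eq.mp ?_
      rw [← he₁b, ← hee]; rfl
    obtain ⟨n, hn⟩ := h1
    exact ⟨n, by rw [← map_pow]; exact Ideal.Quotient.eq_zero_iff_mem.mpr hn⟩

theorem henselian_iff_of_radical_eq (h : I.radical = J.radical) :
    HenselianRing A I ↔ HenselianRing A J :=
  ⟨fun h' => henselian_of_radical_eq h' h, fun h' => henselian_of_radical_eq h' h.symm⟩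

theorem henselian_bot (A : Type u) [CommRing A] : HenselianRing A (⊥ : Ideal A) :=
  ⟨bot_le, fun f _ a h _ => ⟨a, Ideal.mem_bot.mp h, by simp⟩⟩

theorem henselian_of_le_nilradical (hI : ∀ x ∈ I, IsNilpotent x) : HenselianRing A I := by
  refine henselian_of_radical_eq (henselian_bot A) (le_antisymm (Ideal.radical_mono bot_le) ?_)
  exact Ideal.radical_le_radical_iff.mpr fun x hx => mem_nilradical.mpr (hI x hx)

theorem henselian_quotient [HenselianRing A J] (I : Ideal A) :
    HenselianRing (A ⧸ I) (J.map (Ideal.Quotient.mk I)) := by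
  have : Algebra.IsIntegral A (A ⧸ I) :=
    ⟨fun x => by obtain ⟨a, rfl⟩ := Ideal.Quotient.mk_surjective x; exact isIntegral_algebraMap⟩
  exact Basic.henselian_of_isIntegral (A ⧸ I)

theorem henselian_of_le (hIJ : I ≤ J) [HenselianRing A J] : HenselianRing A I := by
  refine ⟨hIJ.trans HenselianRing.jac, fun f hf a₀ h₀ hu => ?_⟩
  have huJ : IsUnit (Ideal.Quotient.mk J (f.derivative.eval a₀)) := hu.map (Ideal.Quotient.factor hIJ)
  obtain ⟨a, ha, haJ⟩ := HenselianRing.is_henselian f hf a₀ (hIJ h₀) huJ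
  refine ⟨a, ha, ?_⟩
  obtain ⟨k, hk⟩ := binomExpansion f a₀ (a - a₀)
  rw [add_sub_cancel, ha.eq_zero] at hk
  have hu' : IsUnit (f.derivative.eval a₀ + k * (a - a₀)) := by
    refine Criteria.isUnit_of_mk_isUnit (I := J) HenselianRing.jac ?_
    rw [map_add, map_mul, Ideal.Quotient.eq_zero_iff_mem.mpr haJ, mul_zero, add_zero]
    exact huJ
  rw [← Ideal.mul_unit_mem_iff_mem I hu']
  have : (a - a₀) * (f.derivative.eval a₀ + k * (a - a₀)) = -f.eval a₀ := by linear_combination -hk
  rw [this]
  exact neg_mem h₀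

theorem henselian_of_quotient (hIJ : I ≤ J) [HenselianRing A I]
    [HenselianRing (A ⧸ I) (J.map (Ideal.Quotient.mk I))] : HenselianRing A J := by
  let q := Ideal.Quotient.mk I
  have hmem : ∀ x, q x ∈ J.map q → x ∈ J := fun x hx => by
    obtain ⟨y, hy, hxy⟩ := (Ideal.mem_map_iff_of_surjective q Ideal.Quotient.mk_surjective).mp hx
    simpa using add_mem hy (hIJ (Ideal.Quotient.eq.mp hxy.symm))
  have hjac : J ≤ Ideal.jacobson ⊥ := fun x hx => by
    refine Ideal.mem_jacobson_bot.mpr fun y => ?_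
    refine Criteria.isUnit_of_mk_isUnit (I := I) HenselianRing.jac ?_
    rw [map_add, map_mul, map_one]
    exact Ideal.mem_jacobson_bot.mp ((HenselianRing.jac (I := J.map q)) (Ideal.mem_map_of_mem q hx)) _
  refine ⟨hjac, fun f hf a₀ h₀ hu => ?_⟩
  obtain ⟨r, hr, hra⟩ := HenselianRing.is_henselian (I := J.map q) (f.map q) (hf.map q) (q a₀)
    (by rw [eval_map_apply]; exact Ideal.mem_map_of_mem q h₀) (by
      rw [derivative_map, eval_map_apply]
      obtain ⟨u, hu'⟩ := hu.exists_right_inv
      obtain ⟨c, rfl⟩ := Ideal.Quotient.mk_surjective u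
      rw [← map_mul, ← map_one (Ideal.Quotient.mk J), Ideal.Quotient.eq] at hu'
      refine IsUnit.of_mul_eq_one (Ideal.Quotient.mk _ (q c)) ?_
      rw [← map_mul, ← map_mul, ← map_one (Ideal.Quotient.mk _), ← map_one q, Ideal.Quotient.eq,
        ← map_sub]
      exact Ideal.mem_map_of_mem q hu')
  obtain ⟨b, rfl⟩ := Ideal.Quotient.mk_surjective r
  rw [← map_sub] at hra
  have hba : b - a₀ ∈ J := hmem _ hra
  have hb : f.eval b ∈ I := Ideal.Quotient.eq_zero_iff_mem.mp ((eval_map_apply q b).symm.trans hr)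
  have hbu : IsUnit (f.derivative.eval b) := by
    refine Criteria.isUnit_of_mk_isUnit (I := J) hjac ?_
    rwa [Ideal.Quotient.eq.mpr (Ideal.mem_of_dvd J (sub_dvd_eval_sub b a₀ _) hba)]
  obtain ⟨a, ha, hab⟩ := HenselianRing.is_henselian f hf b hb (hbu.map (Ideal.Quotient.mk I))
  exact ⟨a, ha, by simpa using add_mem (hIJ hab) hba⟩

end Groth.Agent.HensPair.Radical
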