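import Groth.Agent.HensPair.Henselization
import Groth.Agent.HensPair.Radical
import Groth.Prelude.Def_Hensel

/-!
Henselization of a local ring and of the pair given by the maximal ideal.
-/

set_option autoImplicit false

open IsLocalRing

namespace Groth.Agent.HensPair.Local

universe u

variable {A : Type u} [CommRing A] [IsLocalRing A]
  {B : Type u} [CommRing B] [Algebra A B]

theorem isLocalRing (hB : Hens2.IsPairHenselization A (maximalIdeal A) B) : IsLocalRing B ∧
    ∀ (_ : IsLocalRing B), (maximalIdeal A).map (algebraMap A B) = maximalIdeal B := by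
  have hbij := Henselization.bijective_pow hB 1
  rw [pow_one] at hbij
  set q := Ideal.quotientMap ((maximalIdeal A).map (algebraMap A B)) (algebraMap A B)
    (Ideal.le_comap_map (I := maximalIdeal A))
  let e : A ⧸ maximalIdeal A ≃+* B ⧸ (maximalIdeal A).map (algebraMap A B) := RingEquiv.ofBijective q hbij
  let : Field (A ⧸ maximalIdeal A) := Ideal.Quotient.field _
  have hmax : ((maximalIdeal A).map (algebraMap A B)).IsMaximal :=
    Ideal.Quotient.maximal_of_isField _ (e.symm.toMulEquiv.isField (Field.toIsField _))
  have huniq : ∀ M : Ideal B, M.IsMaximal → M = (maximalIdeal A).map (algebraMap A B) := fun M hM => by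
    refine (hmax.eq_of_le hM.ne_top (hB.1.jac.trans ?_)).symm
    rw [Ideal.jacobson]
    exact sInf_le ⟨bot_le, hM⟩
  exact ⟨IsLocalRing.of_unique_max_ideal ⟨_, hmax, huniq⟩,
    fun _ => IsLocalRing.eq_maximalIdeal hmax⟩

theorem henselianLocalRing [IsLocalRing B] (h : HenselianRing B (maximalIdeal B)) :
    HenselianLocalRing B :=
  { is_henselian := fun f hf a₀ h₀ hu => h.is_henselian f hf a₀ h₀ (hu.map _) }

theorem isHenselization [IsLocalRing B] [IsLocalHom (algebraMap A B)]
    (hB : Hens2.IsPairHenselization A (maximalIdeal A) B) : Hensel.IsHenselization A B := by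
  have hm := (isLocalRing hB).2 ‹_›
  refine ⟨henselianLocalRing (hm ▸ hB.1), fun T _ _ f hf => ?_⟩
  exact hB.2 T (maximalIdeal T) f inferInstance
    (((local_hom_TFAE f).out 0 2).mp hf)

theorem isPairHenselization [IsLocalRing B] [IsLocalHom (algebraMap A B)]
    [hB : Hensel.IsHenselization A B] : Hens2.IsPairHenselization A (maximalIdeal A) B := by
  let H := Construction.Hull (maximalIdeal A)
  have hH : Hens2.IsPairHenselization A (maximalIdeal A) H :=
    Henselization.isPairHenselization_hull _
  obtain ⟨hloc, hmap⟩ := isLocalRing hH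
  have := hloc
  have : IsLocalHom (algebraMap A H) := ((local_hom_TFAE (algebraMap A H)).out 0 2).mpr (hmap _).le
  have hh := isHenselization hH
  have := hh.henselian
  have := hB.henselian
  have hle : (maximalIdeal A).map (algebraMap A B) ≤ maximalIdeal B :=
    ((local_hom_TFAE (algebraMap A B)).out 0 2).mp ‹IsLocalHom (algebraMap A B)›
  obtain ⟨g⟩ := Henselization.exists_algHom hH (maximalIdeal B) hle
  obtain ⟨g', hg', -⟩ := hB.universal H (algebraMap A H) inferInstance
  let g'' : B →ₐ[A] H := ⟨g', fun a => RingHom.congr_fun hg' a⟩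
  have h1 : g.comp g'' = AlgHom.id A B := AlgHom.coe_ringHom_injective
    ((hB.universal B (algebraMap A B) inferInstance).unique (g.comp g'').comp_algebraMap
      (AlgHom.id A B).comp_algebraMap)
  have h2 : g''.comp g = AlgHom.id A H :=
    haveI := hH.1
    Henselization.algHom_ext hH ((maximalIdeal A).map (algebraMap A H)) le_rfl _ _
  let e : H ≃ₐ[A] B := AlgEquiv.ofAlgHom g g'' h1 h2
  let : Algebra H B := g.toRingHom.toAlgebra
  have : IsScalarTower A H B := IsScalarTower.of_algebraMap_eq fun a => (g.commutes a).symm
  have : Algebra.IsIntegral H B :=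
    ⟨fun x => by obtain ⟨y, rfl⟩ := e.surjective x; exact isIntegral_algebraMap⟩
  have := hH.1
  have h3 := Basic.henselian_of_isIntegral (I := (maximalIdeal A).map (algebraMap A H)) B
  rw [Ideal.map_map, ← IsScalarTower.algebraMap_eq] at h3
  exact Henselization.of_equiv hH e

end Groth.Agent.HensPair.Local
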