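import Groth.Agent.HensPair.Local
import Mathlib.RingTheory.QuasiFinite.Basic
import Mathlib.RingTheory.Flat.FaithfullyFlat.Algebra

/-!
Basic properties of henselizations of local rings.
-/

set_option autoImplicit false

open IsLocalRing

namespace Groth.Agent.HensPair.LocalFacts

universe u

variable {R S : Type u} [CommRing R] [IsLocalRing R] [CommRing S] [IsLocalRing S] [Algebra R S]
  [IsLocalHom (algebraMap R S)] [Hensel.IsHenselization R S]

theorem map_maximalIdeal : (maximalIdeal R).map (algebraMap R S) = maximalIdeal S :=
  (Local.isLocalRing Local.isPairHenselization).2 ‹_›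

theorem faithfullyFlat : Module.FaithfullyFlat R S :=
  have := Henselization.flat (Local.isPairHenselization (A := R) (B := S))
  Module.FaithfullyFlat.of_flat_of_isLocalHom

theorem residue_bijective : Function.Bijective (ResidueField.map (algebraMap R S)) := by
  refine ⟨RingHom.injective _, fun z => ?_⟩
  obtain ⟨x, rfl⟩ := residue_surjective z
  obtain ⟨a, ha⟩ := Henselization.approx (Local.isPairHenselization (A := R) (B := S)) x
  rw [map_maximalIdeal] at ha
  exact ⟨residue R a, (Ideal.Quotient.eq.mpr ha).symm⟩

/-- no two comparable primes over the same prime -/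
theorem eq_of_le_of_under_eq {A B : Type u} [CommRing A] [CommRing B] [Algebra A B] {I : Ideal A}
    (hB : Hens2.IsPairHenselization A I B) {P Q : Ideal B} [P.IsPrime] [Q.IsPrime] (h : P ≤ Q)
    (h' : P.comap (algebraMap A B) = Q.comap (algebraMap A B)) : P = Q := by
  refine le_antisymm h fun x hx => ?_
  obtain ⟨A', _, _, hA', φ, hr⟩ := Henselization.exists_nbhd_rep hB fun _ : Unit => x
  obtain ⟨r, rfl⟩ := hr ()
  have := hA'.etale
  have heq : P.comap φ.toRingHom = Q.comap φ.toRingHom := by
    refine Algebra.QuasiFinite.eq_of_le_of_under_eq (R := A) _ _ (Ideal.comap_mono h) ?_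
    rw [Ideal.under_def, Ideal.under_def, Ideal.comap_comap, Ideal.comap_comap,
      AlgHom.toRingHom_eq_coe, AlgHom.comp_algebraMap]
    exact h'
  exact (heq ▸ (show r ∈ Q.comap φ.toRingHom from hx) : r ∈ P.comap φ.toRingHom)

end Groth.Agent.HensPair.LocalFacts
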