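import Groth.Agent.HensPair.Criteria

/-!
Basic consequences for henselian pairs.
-/

set_option autoImplicit false

open Polynomial

namespace Groth.Agent.HensPair.Basic

universe u

open Groth.Agent.HensPair.Criteria

variable {A : Type u} [CommRing A] {I : Ideal A}

theorem etaleLift [HenselianRing A I] : EtaleLift A I :=
  etaleLift_of_cyclicIdem HenselianRing.jac (cyclicIdem_of_gabber HenselianRing.jac gabber_of_henselian)

theorem factor [HenselianRing A I] : Factor A I := factor_of_etaleLift etaleLift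

theorem idemFinite [HenselianRing A I] : IdemFinite A I :=
  idemFinite_of_factor HenselianRing.jac factor

theorem henselian_of_cyclicIdem (hjac : I ≤ Ideal.jacobson ⊥) (h : CyclicIdem A I) :
    HenselianRing A I :=
  henselian_of_etaleLift (etaleLift_of_cyclicIdem hjac h)

theorem henselian_of_idemFinite (hjac : I ≤ Ideal.jacobson ⊥) (h : IdemFinite A I) :
    HenselianRing A I :=
  henselian_of_cyclicIdem hjac fun B _ _ hfin b hb _ => h B hfin b hb

theorem henselian_of_gabber (hjac : I ≤ Ideal.jacobson ⊥) (h : Gabber A I) : HenselianRing A I :=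
  henselian_of_cyclicIdem hjac (cyclicIdem_of_gabber hjac h)

theorem henselian_of_factor (hjac : I ≤ Ideal.jacobson ⊥) (h : Factor A I) : HenselianRing A I :=
  henselian_of_idemFinite hjac (idemFinite_of_factor hjac h)

/-- idempotents lift along integral algebras -/
theorem exists_idempotent [HenselianRing A I] (B : Type u) [CommRing B] [Algebra A B]
    [Algebra.IsIntegral A B] (b : B) (hb : b ^ 2 - b ∈ I.map (algebraMap A B)) :
    ∃ e : B, IsIdempotentElem e ∧ e - b ∈ I.map (algebraMap A B) := by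
  classical
  rw [Ideal.map] at hb
  obtain ⟨T, hT, hTb⟩ := Submodule.mem_span_finite_of_mem_span hb
  have hcoef := Submodule.mem_span_finset.mp hTb
  obtain ⟨c, -, hc⟩ := hcoef
  let s : Finset B := insert b (T.image c)
  let B₀ := Algebra.adjoin A (s : Set B)
  have hfin : Module.Finite A B₀ := ⟨(Submodule.fg_top _).mpr
    (fg_adjoin_of_finite s.finite_toSet fun z _ => Algebra.IsIntegral.isIntegral z)⟩
  let b₀ : B₀ := ⟨b, Algebra.subset_adjoin (Finset.mem_insert_self _ _)⟩
  have hb₀ : b₀ ^ 2 - b₀ ∈ I.map (algebraMap A B₀) := by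
    have hi : ∀ t : T, ∃ a ∈ I, algebraMap A B a = t := fun t => hT t.2
    choose a ha hat using hi
    have : b₀ ^ 2 - b₀ = ∑ t : T, (⟨c t, Algebra.subset_adjoin
        (Finset.mem_insert_of_mem (Finset.mem_image_of_mem c t.2))⟩ : B₀) * algebraMap A B₀ (a t) := by
      apply Subtype.ext
      simp only [AddSubgroupClass.coe_sub, SubmonoidClass.coe_pow, AddSubmonoidClass.coe_finsetSum,
        MulMemClass.coe_mul, Subalgebra.coe_algebraMap, hat, b₀]
      rw [← hc, ← Finset.sum_coe_sort T]
      rfl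
    rw [this]
    exact sum_mem fun t _ => Ideal.mul_mem_left _ _ (Ideal.mem_map_of_mem _ (ha t))
  obtain ⟨e, he, heb⟩ := idemFinite B₀ hfin b₀ hb₀
  refine ⟨e, congrArg Subtype.val he.eq, ?_⟩
  have h1 := Ideal.mem_map_of_mem B₀.val.toRingHom heb
  rw [Ideal.map_map, AlgHom.toRingHom_eq_coe, AlgHom.comp_algebraMap] at h1
  exact h1

theorem bijOn_idempotents [HenselianRing A I] (B : Type u) [CommRing B] [Algebra A B]
    [Algebra.IsIntegral A B] :
    Set.BijOn (Ideal.Quotient.mk (I.map (algebraMap A B))) {e : B | IsIdempotentElem e}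
      {e | IsIdempotentElem e} := by
  refine ⟨fun e he => IsIdempotentElem.map he _, fun e he f hf h => ?_, fun x hx => ?_⟩
  · exact Hensel.Idem.eq_of_sub_mem he hf
      (Hensel.Idem.map_le_jacobson HenselianRing.jac (Ideal.Quotient.eq.mp h))
  · obtain ⟨b, rfl⟩ := Ideal.Quotient.mk_surjective x
    obtain ⟨e, he, heb⟩ := exists_idempotent B b (I := I) (by
      rw [← Ideal.Quotient.eq_zero_iff_mem, map_sub, map_pow, sq,
        (show IsIdempotentElem _ from hx).eq, sub_self])
    exact ⟨e, he, Ideal.Quotient.eq.mpr heb⟩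

theorem idemFinite_of_surjOn (h : ∀ (B : Type u) [CommRing B] [Algebra A B], Module.Finite A B →
    Set.SurjOn (Ideal.Quotient.mk (I.map (algebraMap A B))) {e : B | IsIdempotentElem e}
      {e | IsIdempotentElem e}) : IdemFinite A I := by
  intro B _ _ hfin b hb
  have hx : IsIdempotentElem (Ideal.Quotient.mk (I.map (algebraMap A B)) b) := by
    show _ * _ = _
    rw [← map_mul, Ideal.Quotient.eq, ← sq]; exact hb
  obtain ⟨e, he, heb⟩ := h B hfin hx
  exact ⟨e, he, Ideal.Quotient.eq.mp heb⟩

/-- integral algebras over henselian pairs are henselian pairs -/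
theorem henselian_of_isIntegral [HenselianRing A I] (B : Type u) [CommRing B] [Algebra A B]
    [Algebra.IsIntegral A B] : HenselianRing B (I.map (algebraMap A B)) := by
  refine henselian_of_idemFinite (Hensel.Idem.map_le_jacobson HenselianRing.jac) fun C _ _ hfin c hc => ?_
  let : Algebra A C := ((algebraMap B C).comp (algebraMap A B)).toAlgebra
  have : IsScalarTower A B C := IsScalarTower.of_algebraMap_eq fun _ => rfl
  have : Algebra.IsIntegral A C := Algebra.IsIntegral.trans B
  rw [Ideal.map_map, ← IsScalarTower.algebraMap_eq] at hc ⊢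
  exact exists_idempotent C c hc

theorem existsUnique_root [HenselianRing A I] (n : ℕ) (hn : 0 < n) (p : A[X]) (hp : p.natDegree ≤ n)
    (hpI : ∀ i, p.coeff i ∈ I) :
    ∃! α : A, α - 1 ∈ I ∧ (X ^ n * (X - 1) + p).IsRoot α := by
  obtain ⟨α, hα, hroot⟩ := gabber_of_henselian n hn p hp hpI
  refine ⟨α, ⟨hα, hroot⟩, fun β ⟨hβ, hβr⟩ => ?_⟩
  set f := X ^ n * (X - 1) + p
  obtain ⟨k, hk⟩ := binomExpansion f α (β - α)
  rw [add_sub_cancel, hroot.eq_zero, hβr.eq_zero, zero_add, sq, ← mul_assoc, ← add_mul] at hk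
  have hu : IsUnit (f.derivative.eval α + k * (β - α)) := by
    refine isUnit_of_mk_isUnit (I := I) HenselianRing.jac ?_
    have h1 : Ideal.Quotient.mk I α = 1 := by
      rwa [← map_one (Ideal.Quotient.mk I), Ideal.Quotient.eq]
    have h2 : Ideal.Quotient.mk I β = 1 := by
      rwa [← map_one (Ideal.Quotient.mk I), Ideal.Quotient.eq]
    rw [map_add, map_mul, map_sub, h1, h2, sub_self, mul_zero, add_zero, ← eval_map_apply, h1,
      ← derivative_map, Polynomial.map_add, map_mk_eq_zero_of_coeff_mem hpI]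
    simp
  exact sub_eq_zero.mp (hu.mul_right_eq_zero.mp hk.symm)

/-- maps from etale algebras to a henselian pair lift uniquely -/
theorem existsUnique_lift {B : Type u} [CommRing B] [Algebra A B] {J : Ideal B} [HenselianRing B J]
    (A' : Type u) [CommRing A'] [Algebra A A'] [Algebra.Etale A A'] (σ : A' →ₐ[A] B ⧸ J) :
    ∃! τ : A' →ₐ[A] B, (Ideal.Quotient.mkₐ A J).comp τ = σ := by
  let σB : TensorProduct A B A' →ₐ[B] B ⧸ J :=
    Algebra.TensorProduct.lift (Algebra.ofId B (B ⧸ J)) σ fun _ _ => Commute.all _ _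
  obtain ⟨τB, hτB⟩ := etaleLift (A := B) (I := J) _ σB
  refine ⟨(τB.restrictScalars A).comp Algebra.TensorProduct.includeRight, AlgHom.ext fun x => ?_,
    fun τ hτ => Unique.algHom_eq (I' := J) HenselianRing.jac _ _ fun x => ?_⟩
  · refine (DFunLike.congr_fun hτB (1 ⊗ₜ x)).trans ?_
    simp [σB]
  · rw [← Ideal.Quotient.eq]
    refine (DFunLike.congr_fun hτ x).trans (((DFunLike.congr_fun hτB (1 ⊗ₜ x))).trans ?_).symm
    simp [σB]

end Groth.Agent.HensPair.Basic
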