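import Groth.Agent.HensPair.Henselization
import Groth.Agent.Completion.NoetherianComplete
import Groth.Agent.Fpqc.Fppf
import Groth.Agent.Adic.Base.CompletionMap
import Mathlib.RingTheory.AdicCompletion.AsTensorProduct
import Mathlib.RingTheory.AdicCompletion.LocalRing
import Mathlib.RingTheory.FinitePresentation
import Mathlib.RingTheory.Flat.FaithfullyFlat.Algebra

/-!
The henselization of a noetherian pair is noetherian.
-/

set_option autoImplicit false

noncomputable section

namespace Groth.Agent.HensPair.Noetherian

universe u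

variable {A : Type u} [CommRing A] [IsNoetherianRing A] {I : Ideal A}

/-- the completion is flat over each etale neighbourhood -/
theorem flat_completion {A' : Type u} [CommRing A'] [Algebra A A'] (h : Nbhd.IsNbhd I A')
    (τ : A' →ₐ[A] AdicCompletion I A) :
    letI := τ.toRingHom.toAlgebra; Module.Flat A' (AdicCompletion I A) := by
  let : Algebra A' (AdicCompletion I A) := τ.toRingHom.toAlgebra
  have := h.etale
  have : IsNoetherianRing A' := Algebra.FiniteType.isNoetherianRing A A'
  let J := I.map (algebraMap A A')
  have hJ : J.FG := IsNoetherian.noetherian J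
  have hI : I.FG := IsNoetherian.noetherian I
  let K := I.map (algebraMap A (AdicCompletion I A))
  let K' := J.map (algebraMap A' (AdicCompletion J A'))
  have : IsAdicComplete K (AdicCompletion I A) := AdicCompletion.isAdicComplete_self _ hI
  have : IsAdicComplete K' (AdicCompletion J A') := AdicCompletion.isAdicComplete_self _ hJ
  have hle : J ≤ K.comap τ.toRingHom := Ideal.map_le_iff_le_comap.mp (by
    rw [Ideal.map_map, AlgHom.toRingHom_eq_coe, AlgHom.comp_algebraMap])
  let g : A →+* AdicCompletion J A' := (algebraMap A' _).comp (algebraMap A A')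
  have hgK : I.map g = K' := by rw [← Ideal.map_map]
  have hle' : I ≤ K'.comap g := Ideal.map_le_iff_le_comap.mp hgK.le
  let e := Adic.Base.CompletionMap.extend K τ.toRingHom hle
  let e' := Adic.Base.CompletionMap.extend K' g hle'
  have he : ∀ c, e (algebraMap A' _ c) = τ c :=
    Adic.Base.CompletionMap.extend_of K τ.toRingHom hle
  have he' : ∀ a, e' (algebraMap A _ a) = g a := Adic.Base.CompletionMap.extend_of K' g hle'
  have hA : (e.comp e').comp (algebraMap A _) = algebraMap A (AdicCompletion I A) := RingHom.ext fun a => by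
    show e (e' _) = _
    rw [he']
    exact (he _).trans (τ.commutes a)
  have h1 : e.comp e' = RingHom.id _ :=
    Adic.Base.CompletionMap.hom_ext K hI (by rw [hA]; exact Ideal.le_comap_map) hA
  let : Algebra A (AdicCompletion J A') := g.toAlgebra
  let t₁ : A' →ₐ[A] AdicCompletion J A' := ⟨e'.comp τ.toRingHom, fun a => by
    show e' (τ (algebraMap A A' a)) = g a
    rw [τ.commutes]; exact he' a⟩
  let t₂ : A' →ₐ[A] AdicCompletion J A' := ⟨algebraMap A' _, fun a => rfl⟩
  have ht : t₁ = t₂ := h.hom_eq
    ((le_of_eq (show I.map (algebraMap A (AdicCompletion J A')) = K' from hgK)).trans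
      (IsAdicComplete.le_jacobson_bot K')) t₁ t₂
  have hA' : (e'.comp e).comp (algebraMap A' _) = algebraMap A' (AdicCompletion J A') :=
    RingHom.ext fun c => by
      show e' (e _) = _
      rw [he]
      exact DFunLike.congr_fun ht c
  have h2 : e'.comp e = RingHom.id _ :=
    Adic.Base.CompletionMap.hom_ext K' hJ (by rw [hA']; exact Ideal.le_comap_map) hA'
  let E : AdicCompletion J A' ≃ₐ[A'] AdicCompletion I A :=
    AlgEquiv.ofRingEquiv (f := RingEquiv.ofRingHom e e' h1 h2) he
  exact Module.Flat.of_linearEquiv E.symm.toLinearEquiv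

variable {B : Type u} [CommRing B] [Algebra A B]

theorem faithfullyFlat_completion (hB : Hens2.IsPairHenselization A I B)
    (π : B →ₐ[A] AdicCompletion I A) :
    letI := π.toRingHom.toAlgebra; Module.FaithfullyFlat B (AdicCompletion I A) := by
  let : Algebra B (AdicCompletion I A) := π.toRingHom.toAlgebra
  have hI : I.FG := IsNoetherian.noetherian I
  have hflat : Module.Flat B (AdicCompletion I A) := by
    refine Module.Flat.iff_forall_isTrivialRelation.mpr fun {l f x} hfx => ?_
    obtain ⟨A', _, _, h, φ, hr⟩ := Henselization.exists_nbhd_rep hB f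
    choose r hr using hr
    let : Algebra A' (AdicCompletion I A) := (π.comp φ).toRingHom.toAlgebra
    have := flat_completion h (π.comp φ)
    have hr' : ∑ i, r i • x i = 0 := by
      simp only [Algebra.smul_def] at hfx ⊢
      rw [← hfx]
      refine Finset.sum_congr rfl fun i _ => ?_
      show π (φ (r i)) * x i = π (f i) * x i
      rw [hr]
    obtain ⟨n, a, y, hy, ha⟩ := Module.Flat.iff_forall_isTrivialRelation.mp this hr'
    refine ⟨n, fun i j => φ (a i j), y, fun i => ?_, fun j => ?_⟩
    · rw [hy i]
      refine Finset.sum_congr rfl fun j _ => ?_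
      simp only [Algebra.smul_def]
      rfl
    · simp only [← hr, ← map_mul, ← map_sum, ha, map_zero]
  refine { submodule_ne_top := fun {m} hm htop => ?_ }
  have hIm : I.map (algebraMap A B) ≤ m := hB.1.jac.trans (by
    rw [Ideal.jacobson]; exact sInf_le ⟨bot_le, hm⟩)
  rw [Ideal.smul_top_eq_map, Submodule.restrictScalars_eq_top_iff] at htop
  have h1 : (1 : AdicCompletion I A) ∈ m.map (algebraMap B (AdicCompletion I A)) := by rw [htop]; trivial
  have hle : m.map (π : B →+* AdicCompletion I A) ≤
      Ideal.comap (AdicCompletion.evalOneₐ I).toRingHom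
        ((m.comap (algebraMap A B)).map (Ideal.Quotient.mk I)) := by
    rw [Ideal.map_le_iff_le_comap]
    intro b hb
    obtain ⟨a, ha⟩ := Henselization.approx hB b
    have ha' : a ∈ m.comap (algebraMap A B) := by
      show algebraMap A B a ∈ m
      simpa using sub_mem hb (hIm ha)
    have h0 := Henselization.section_eq_zero ((AdicCompletion.evalOneₐ I).comp π) ha
    rw [map_sub, AlgHom.commutes, sub_eq_zero] at h0
    show (AdicCompletion.evalOneₐ I) (π b) ∈ (m.comap (algebraMap A B)).map (Ideal.Quotient.mk I)
    rw [← AlgHom.comp_apply, h0, Ideal.Quotient.algebraMap_eq]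
    exact Ideal.mem_map_of_mem _ ha'
  have h2 := hle h1
  rw [Ideal.mem_comap, map_one, ← map_one (Ideal.Quotient.mk I)] at h2
  have h3 : (1 : A) ∈ m.comap (algebraMap A B) := by
    obtain ⟨y, hy, hy'⟩ := (Ideal.mem_map_iff_of_surjective _ Ideal.Quotient.mk_surjective).mp h2
    have : I ≤ m.comap (algebraMap A B) := Ideal.map_le_iff_le_comap.mp hIm
    simpa using add_mem hy (this (Ideal.Quotient.eq.mp hy'.symm))
  exact hm.ne_top ((Ideal.eq_top_iff_one _).mpr (by simpa using h3))

theorem exists_hom_completion (hB : Hens2.IsPairHenselization A I B) :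
    Nonempty (B →ₐ[A] AdicCompletion I A) :=
  have := AdicCompletion.isAdicComplete_self I (IsNoetherian.noetherian I)
  Henselization.exists_algHom hB (I.map (algebraMap A (AdicCompletion I A))) le_rfl

theorem isNoetherianRing (hB : Hens2.IsPairHenselization A I B) : IsNoetherianRing B := by
  obtain ⟨π⟩ := exists_hom_completion hB
  let : Algebra B (AdicCompletion I A) := π.toRingHom.toAlgebra
  have := faithfullyFlat_completion hB π
  have := Completion.NoetherianComplete.isNoetherianRing_adicCompletion I (IsNoetherian.noetherian I)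
  exact Fpqc.Fppf.isNoetherianRing_of_faithfullyFlat B (AdicCompletion I A)

omit [IsNoetherianRing A] in
theorem bijective_completion_map (hB : Hens2.IsPairHenselization A I B) :
    Function.Bijective (AdicCompletion.map I (Algebra.linearMap A B)) := by
  refine ⟨fun x y hxy => AdicCompletion.ext fun n => ?_, ?_⟩
  · have h := congrArg (fun z : AdicCompletion I B => z.val n) hxy
    simp only [AdicCompletion.map_val_apply] at h
    obtain ⟨a, ha⟩ := Submodule.Quotient.mk_surjective _ (x.val n)
    obtain ⟨b, hb⟩ := Submodule.Quotient.mk_surjective _ (y.val n)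
    rw [← ha, ← hb] at h ⊢
    have h' : algebraMap A B a - algebraMap A B b ∈ (I ^ n • ⊤ : Submodule A B) :=
      (Submodule.Quotient.eq _).mp h
    rw [Ideal.smul_top_eq_map, Submodule.restrictScalars_mem, ← map_sub] at h'
    refine (Submodule.Quotient.eq _).mpr ?_
    rw [smul_eq_mul, Ideal.mul_top]
    exact Henselization.mem_pow_of_map_mem hB n _ h'
  · refine AdicCompletion.map_surjective_of_mkQ_comp_surjective fun z => ?_
    obtain ⟨b, rfl⟩ := Submodule.Quotient.mk_surjective _ z
    obtain ⟨a, ha⟩ := Henselization.approx hB b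
    refine ⟨a, (Submodule.Quotient.eq _).mpr ?_⟩
    rw [Ideal.smul_top_eq_map, Submodule.restrictScalars_mem]
    simpa using neg_mem ha

end Groth.Agent.HensPair.Noetherian
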