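import Groth.Agent.HensPair.BranchUnibranch
import Groth.Agent.Misc9.Branches
import Groth.Agent.HensPair.Local
import Groth.Agent.HensPair.Noetherian
import Groth.Agent.HensPoint.Strict
import Groth.Agent.HensPoint.WeaklyEtale
import Mathlib.RingTheory.IntegralClosure.GoingDown
import Mathlib.FieldTheory.IsSepClosed
import Mathlib.RingTheory.Jacobson.Ring

/-!
Branches: completion, bijections of minimal primes and maximal ideals, sep closed base field.
-/

set_option autoImplicit false

noncomputable section

open IsLocalRing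
open scoped TensorProduct

namespace Groth.Agent.HensPair.BranchMore

universe u

theorem card_minimalPrimes_le {S T : Type u} [CommRing S] [CommRing T] [Algebra S T]
    [Module.FaithfullyFlat S T] : ENat.card (minimalPrimes S) ≤ ENat.card (minimalPrimes T) := by
  have h : ∀ p : minimalPrimes S, ∃ P : minimalPrimes T, P.1.comap (algebraMap S T) = p.1 := by
    intro p
    have hp := p.2.1.1
    obtain ⟨⟨P, hP⟩, hPp⟩ := PrimeSpectrum.comap_surjective_of_faithfullyFlat (A := S) (B := T) ⟨p.1, hp⟩
    obtain ⟨Q, hQ, hQP⟩ := Ideal.exists_minimalPrimes_le (I := ⊥) (J := P) bot_le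
    have hle : Q.comap (algebraMap S T) ≤ p.1 := by
      rw [show p.1 = P.comap (algebraMap S T) from (congrArg PrimeSpectrum.asIdeal hPp).symm]
      exact Ideal.comap_mono hQP
    exact ⟨⟨Q, hQ⟩, le_antisymm hle (p.2.2 ⟨hQ.1.1.comap _, bot_le⟩ hle)⟩
  choose f hf using h
  exact ENat.card_le_card_of_injective (f := f) fun p q e => Subtype.ext (by rw [← hf p, ← hf q, e])

variable {A : Type u} [CommRing A] [IsLocalRing A] [IsNoetherianRing A]

theorem completion_facts : ∃ _ : IsLocalRing (AdicCompletion (maximalIdeal A) A),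
    HenselianLocalRing (AdicCompletion (maximalIdeal A) A) ∧
      IsLocalHom (algebraMap A (AdicCompletion (maximalIdeal A) A)) ∧
      Module.FaithfullyFlat A (AdicCompletion (maximalIdeal A) A) ∧
      Function.Surjective (fun a : A => residue (AdicCompletion (maximalIdeal A) A) (algebraMap A _ a)) := by
  let T := AdicCompletion (maximalIdeal A) A
  have hff : Module.FaithfullyFlat A T := by
    obtain ⟨π⟩ := Noetherian.exists_hom_completion (Henselization.isPairHenselization_hull (maximalIdeal A))
    let : Algebra (Construction.Hull (maximalIdeal A)) T := π.toRingHom.toAlgebra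
    have : IsScalarTower A (Construction.Hull (maximalIdeal A)) T := IsScalarTower.of_algebraMap_eq fun a => (π.commutes a).symm
    have hB := Henselization.isPairHenselization_hull (maximalIdeal A)
    have := Noetherian.faithfullyFlat_completion hB π
    have := Henselization.flat hB
    have hl := (Local.isLocalRing hB).1
    have : IsLocalHom (algebraMap A (Construction.Hull (maximalIdeal A))) :=
      ((local_hom_TFAE (algebraMap A (Construction.Hull (maximalIdeal A)))).out 0 2).mpr ((Local.isLocalRing hB).2 hl).le
    have : Module.FaithfullyFlat A (Construction.Hull (maximalIdeal A)) := Module.FaithfullyFlat.of_flat_of_isLocalHom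
    exact Module.FaithfullyFlat.trans A (Construction.Hull (maximalIdeal A)) T
  have hfg : (maximalIdeal A).FG := IsNoetherian.noetherian _
  have hl : IsLocalRing T := AdicCompletion.isLocalRing_of_fg hfg
  have hm : maximalIdeal T = (maximalIdeal A).map (algebraMap A T) :=
    AdicCompletion.maximalIdeal_eq_map_of_fg hfg
  have : IsAdicComplete (maximalIdeal T) T := hm ▸ AdicCompletion.isAdicComplete_self _ hfg
  have hloc : IsLocalHom (algebraMap A T) := AdicCompletion.algebraMap_isLocalHom_of_fg hfg
  refine ⟨hl, Local.henselianLocalRing inferInstance, hloc, hff, fun x => ?_⟩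
  obtain ⟨y, hy⟩ := (AdicCompletion.residueField_map_bijective_of_fg hfg).2 x
  obtain ⟨a, rfl⟩ := residue_surjective y
  exact ⟨a, by rw [← hy, ResidueField.map_residue]⟩

omit [IsNoetherianRing A] in
theorem isHenselization_self [HenselianLocalRing A] : Hensel.IsHenselization A A :=
  ⟨inferInstance, fun T _ _ f _ => ⟨f, by simp, fun g hg => by simpa using hg⟩⟩

omit [IsNoetherianRing A] in
theorem minimalPrimes_self [HenselianLocalRing A] : ENat.card (minimalPrimes A) = Brnch.numBranches A :=
  haveI := isHenselization_self (A := A)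
  Branches.card_minimalPrimes_hens A A

theorem numBranches_le : Brnch.numBranches A ≤ Brnch.numBranches (AdicCompletion (maximalIdeal A) A) := by
  obtain ⟨hl, hh, hloc, hff, -⟩ := completion_facts (A := A)
  let T := AdicCompletion (maximalIdeal A) A
  have := HensPoint.StrictProps.isHenselization_hull (R := A)
  let S := HensPoint.Hull.H A (ResidueField A)
  obtain ⟨g, hg, -⟩ := (inferInstance : Hensel.IsHenselization A S).universal T (algebraMap A T) hloc
  rw [← Branches.card_minimalPrimes_hens A S, ← minimalPrimes_self (A := T)]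
  let : Algebra S T := g.toAlgebra
  have : IsScalarTower A S T := IsScalarTower.of_algebraMap_eq' hg.symm
  have : Module.Flat S T := HensPoint.WeaklyEtale.flat_of_flat_base (A := A) (B := S) HensPoint.StrictProps.hens T
  have : IsLocalHom (algebraMap S T) := ((local_hom_TFAE (algebraMap S T)).out 0 2).mpr (by
    rw [← LocalFacts.map_maximalIdeal (R := A) (S := S), Ideal.map_map, ← IsScalarTower.algebraMap_eq]
    exact ((local_hom_TFAE (algebraMap A T)).out 0 2).mp hloc)
  have : Module.FaithfullyFlat S T := Module.FaithfullyFlat.of_flat_of_isLocalHom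
  exact card_minimalPrimes_le

theorem numGeomBranches_le :
    Brnch.numGeomBranches A ≤ Brnch.numGeomBranches (AdicCompletion (maximalIdeal A) A) := by
  obtain ⟨hl, hh, hloc, hff, hsurj⟩ := completion_facts (A := A)
  let T := AdicCompletion (maximalIdeal A) A
  let Ts := HensPoint.Strict.Sh T
  have := HensPoint.Strict.isStrictHenselization (R := T)
  let S := HensPoint.Strict.Sh A
  have hS := HensPoint.Strict.isStrictHenselization (R := A)
  have := hS.isSepClosure
  have : IsSepClosed (ResidueField Ts) := (inferInstance : Hensel.IsStrictHenselization T Ts).isSepClosure.1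
  have : HenselianLocalRing Ts := (inferInstance : Hensel.IsStrictHenselization T Ts).henselian
  let f : A →+* Ts := (algebraMap T Ts).comp (algebraMap A T)
  have : IsLocalHom f := RingHom.isLocalHom_comp _ _
  let : Algebra (ResidueField A) (ResidueField Ts) := (ResidueField.map f).toAlgebra
  have : Algebra.IsSeparable (ResidueField A) (ResidueField S) := hS.isSepClosure.2
  let τ : ResidueField S →ₐ[ResidueField A] ResidueField Ts := IsSepClosed.lift
  obtain ⟨g, ⟨hg, -⟩, -⟩ := hS.universal Ts f τ.toRingHom τ.comp_algebraMap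
  rw [← Branches.card_minimalPrimes_strict A S, ← Branches.card_minimalPrimes_strict T Ts]
  let : Algebra A Ts := f.toAlgebra
  let : Algebra S Ts := g.toAlgebra
  have : IsScalarTower A S Ts := IsScalarTower.of_algebraMap_eq' hg.symm
  have : IsScalarTower A T Ts := IsScalarTower.of_algebraMap_eq' rfl
  have : Module.Flat T Ts := HensPoint.StrictProps.strict.flat
  have : Module.Flat A Ts := Module.Flat.trans A T Ts
  have : Module.Flat S Ts := HensPoint.WeaklyEtale.flat_of_flat_base (A := A) (B := S) HensPoint.StrictProps.strict Ts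
  have : IsLocalHom (algebraMap S Ts) := ((local_hom_TFAE (algebraMap S Ts)).out 0 2).mpr (by
    rw [← HensPoint.Strict.map_maximalIdeal (R := A) (S := S), Ideal.map_map, ← IsScalarTower.algebraMap_eq]
    exact ((local_hom_TFAE f).out 0 2).mp ‹_›)
  have : Module.FaithfullyFlat S Ts := Module.FaithfullyFlat.of_flat_of_isLocalHom
  exact card_minimalPrimes_le

theorem numBranches_eq_iff (S : Type u) [CommRing S] [IsLocalRing S] [Algebra A S] [IsLocalHom (algebraMap A S)]
    [Hensel.IsHenselization A S] (ψ : S →+* AdicCompletion (maximalIdeal A) A)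
    (hψ : ψ.comp (algebraMap A S) = algebraMap A (AdicCompletion (maximalIdeal A) A)) :
    Brnch.numBranches A = Brnch.numBranches (AdicCompletion (maximalIdeal A) A) ↔
      ∀ q ∈ minimalPrimes S, (Ideal.map ψ q).radical.IsPrime := by
  classical
  obtain ⟨hl, hh, hloc, hff, -⟩ := completion_facts (A := A)
  let T := AdicCompletion (maximalIdeal A) A
  let : Algebra S T := ψ.toAlgebra
  have : IsScalarTower A S T := IsScalarTower.of_algebraMap_eq' hψ.symm
  have : Module.Flat S T := HensPoint.WeaklyEtale.flat_of_flat_base (A := A) (B := S) HensPoint.StrictProps.hens T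
  have : IsLocalHom (algebraMap S T) := ((local_hom_TFAE (algebraMap S T)).out 0 2).mpr (by
    rw [← LocalFacts.map_maximalIdeal (R := A) (S := S), Ideal.map_map, ← IsScalarTower.algebraMap_eq]
    exact ((local_hom_TFAE (algebraMap A T)).out 0 2).mp hloc)
  have : Module.FaithfullyFlat S T := Module.FaithfullyFlat.of_flat_of_isLocalHom
  rw [← Branches.card_minimalPrimes_hens A S, ← minimalPrimes_self (A := T)]
  -- the map on minimal primes
  have hmin : ∀ P ∈ minimalPrimes T, P.comap (algebraMap S T) ∈ minimalPrimes S := by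
    intro P hP
    have := hP.1.1
    refine ⟨⟨inferInstance, bot_le⟩, fun p ⟨hp, _⟩ hle => ?_⟩
    have : P.LiesOver (P.comap (algebraMap S T)) := ⟨rfl⟩
    obtain ⟨P', hP', hP'p, hP'c⟩ := Ideal.exists_ideal_le_liesOver_of_le (R := S) (S := T) P hle
    exact (Ideal.comap_mono (hP.2 ⟨hP'p, bot_le⟩ hP')).trans hP'c.over.ge
  let f : minimalPrimes T → minimalPrimes S := fun P => ⟨P.1.comap (algebraMap S T), hmin P.1 P.2⟩
  have hf : Function.Surjective f := by
    intro p
    have hp := p.2.1.1
    obtain ⟨⟨P, hP⟩, hPp⟩ := PrimeSpectrum.comap_surjective_of_faithfullyFlat (A := S) (B := T) ⟨p.1, hp⟩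
    obtain ⟨Q, hQ, hQP⟩ := Ideal.exists_minimalPrimes_le (I := ⊥) (J := P) bot_le
    have hle : Q.comap (algebraMap S T) ≤ p.1 := by
      rw [show p.1 = P.comap (algebraMap S T) from (congrArg PrimeSpectrum.asIdeal hPp).symm]
      exact Ideal.comap_mono hQP
    exact ⟨⟨Q, hQ⟩, Subtype.ext (le_antisymm hle (p.2.2 ⟨hQ.1.1.comap _, bot_le⟩ hle))⟩
  have hTn : IsNoetherianRing T :=
    Completion.NoetherianComplete.isNoetherianRing_adicCompletion _ (IsNoetherian.noetherian _)
  have : Finite (minimalPrimes T) := (minimalPrimes.finite_of_isNoetherianRing T).to_subtype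
  constructor
  · intro h q hq
    have : Finite (minimalPrimes S) := Finite.of_surjective f hf
    have hinj : Function.Injective f := by
      rw [ENat.card_eq_coe_natCard, ENat.card_eq_coe_natCard, Nat.cast_inj] at h
      exact (Nat.bijective_iff_surjective_and_card f).mpr ⟨hf, h.symm⟩ |>.1
    have hqp := hq.1.1
    obtain ⟨P, hP⟩ := hf ⟨q, hq⟩
    have hP' : P.1.comap (algebraMap S T) = q := congrArg Subtype.val hP
    have : (q.map ψ).radical = P.1 := by
      refine le_antisymm ((P.2.1.1.radical_le_iff).mpr (Ideal.map_le_iff_le_comap.mpr hP'.ge)) ?_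
      rw [Ideal.radical_eq_sInf]
      refine le_sInf fun Q ⟨hQ, hQp⟩ => ?_
      obtain ⟨R, hR, hRQ⟩ := Ideal.exists_minimalPrimes_le (I := q.map (algebraMap S T)) (J := Q) hQ
      have hRp := hR.1.1
      have hRq : R.comap (algebraMap S T) = q := by
        refine le_antisymm ?_ (Ideal.map_le_iff_le_comap.mp hR.1.2)
        by_contra hne
        have : R.LiesOver (R.comap (algebraMap S T)) := ⟨rfl⟩
        obtain ⟨R', hR'le, hR'p, hR'c⟩ := Ideal.exists_ideal_le_liesOver_of_le (R := S) (S := T) (p := q) R
          (Ideal.map_le_iff_le_comap.mp hR.1.2)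
        have hRR : R ≤ R' := hR.2 ⟨hR'p, Ideal.map_le_iff_le_comap.mpr hR'c.over.le⟩ hR'le
        exact hne ((Ideal.comap_mono hRR).trans hR'c.over.ge)
      obtain ⟨R₀, hR₀, hR₀R⟩ := Ideal.exists_minimalPrimes_le (I := ⊥) (J := R) bot_le
      have : f ⟨R₀, hR₀⟩ = f P := by
        rw [hP]
        have hle : R₀.comap (algebraMap S T) ≤ q := hRq ▸ Ideal.comap_mono hR₀R
        exact Subtype.ext (le_antisymm hle (hq.2 ⟨hR₀.1.1.comap _, bot_le⟩ hle))
      rw [← congrArg Subtype.val (hinj this)]
      exact hR₀R.trans hRQ
    exact this ▸ P.2.1.1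
  · intro h
    refine (ENat.card_congr (Equiv.ofBijective f ⟨fun P Q e => ?_, hf⟩)).symm
    have key : ∀ R : minimalPrimes T, R.1 = ((f R).1.map ψ).radical := by
      intro R
      have := h (f R).1 (f R).2
      refine le_antisymm (R.2.2 ⟨this, bot_le⟩ ((R.2.1.1.radical_le_iff).mpr Ideal.map_comap_le)) ?_
      exact (R.2.1.1.radical_le_iff).mpr Ideal.map_comap_le
    exact Subtype.ext (by rw [key P, key Q, e])

omit [IsLocalRing A] [IsNoetherianRing A] in
set_option synthInstance.maxHeartbeats 200000 in
theorem geomUnibranch_of_sepClosed {k S : Type u} [Field k] [IsSepClosed k] [CommRing S] [Algebra k S]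
    [Algebra.FiniteType k S] (m : Ideal S) [m.IsMaximal] (h : CAlg2.IsUnibranch (Localization.AtPrime m)) :
    CAlg2.IsGeomUnibranch (Localization.AtPrime m) := by
  let R := Localization.AtPrime m
  refine ⟨h, fun m' hm' => ?_⟩
  refine ((BranchUnibranch.emb_facts R ⟨m', hm'⟩).2.mp ?_)
  let κ := ResidueField R
  let : Field (S ⧸ m) := Ideal.Quotient.field m
  have : Module.Finite k (S ⧸ m) := finite_of_finite_type_of_isJacobsonRing k (S ⧸ m)
  let e : S ⧸ m →ₐ[k] κ := Ideal.Quotient.liftₐ m ((IsScalarTower.toAlgHom k R κ).comp (IsScalarTower.toAlgHom k S R))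
    fun x hx => by
      show algebraMap R κ (algebraMap S R x) = 0
      rw [ResidueField.algebraMap_eq, residue_eq_zero_iff]
      exact (IsLocalization.AtPrime.to_map_mem_maximal_iff R m x).mpr hx
  have he : Function.Surjective e := by
    intro z
    obtain ⟨r, rfl⟩ := residue_surjective z
    obtain ⟨a, s, rfl⟩ := IsLocalization.exists_mk'_eq m.primeCompl r
    obtain ⟨t, i, hi, ht⟩ := (inferInstance : m.IsMaximal).exists_inv (show (s : S) ∉ m from s.2)
    refine ⟨Ideal.Quotient.mk m (a * t), ?_⟩
    show algebraMap R κ (algebraMap S R (a * t)) = residue R (IsLocalization.mk' R a s)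
    rw [ResidueField.algebraMap_eq]
    refine Ideal.Quotient.eq.mpr ?_
    have : algebraMap S R (a * t) - IsLocalization.mk' R a s = algebraMap S R (- i) * IsLocalization.mk' R a s := by
      have hts : algebraMap S R t * algebraMap S R s + algebraMap S R i = 1 := by
        rw [← map_mul, ← map_add, ht, map_one]
      rw [map_neg, map_mul]
      linear_combination (IsLocalization.mk' R a s) * hts - (algebraMap S R t) * (IsLocalization.mk'_spec R a s)
    rw [this]
    exact Ideal.mul_mem_right _ _ ((IsLocalization.AtPrime.to_map_mem_maximal_iff R m _).mpr (neg_mem hi))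
  have : Module.Finite k κ := Module.Finite.of_surjective e.toLinearMap he
  have : IsSepClosed κ := Algebra.IsAlgebraic.isSepClosed (F := k)
  have := hm'
  have := Branches.isIntegral_normRed R
  let K := CAlg2.normRed R ⧸ m'
  let : Field K := Ideal.Quotient.field m'
  let f : κ →+* K := Ideal.Quotient.lift _ (Brnch.toResidue R ⟨m', hm'⟩) fun a ha => by
    show Ideal.Quotient.mk m' (algebraMap R (CAlg2.normRed R) a) = 0
    rw [Ideal.Quotient.eq_zero_iff_mem]
    exact Ideal.mem_comap.mp ((Branches.comap_eq_maximal R m').symm ▸ ha)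
  let : Algebra κ K := f.toAlgebra
  have : IsScalarTower R κ K := IsScalarTower.of_algebraMap_eq fun _ => rfl
  have : Algebra.IsIntegral R K := Algebra.IsIntegral.trans (CAlg2.normRed R)
  have : Algebra.IsIntegral κ K := Algebra.IsIntegral.tower_top R
  have : Algebra.IsAlgebraic κ K := Algebra.IsIntegral.isAlgebraic
  refine ⟨fun σ τ => Subtype.ext ?_⟩
  let L := AlgebraicClosure κ
  let mk : Brnch.Emb R ⟨m', hm'⟩ → (K →ₐ[κ] L) := fun σ => { σ.1 with
    commutes' := fun z => by
      obtain ⟨a, rfl⟩ := residue_surjective z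
      exact RingHom.congr_fun σ.2 a }
  exact congrArg AlgHom.toRingHom (Subsingleton.elim (mk σ) (mk τ))

omit [IsNoetherianRing A] in
theorem exists_le_comap_eq {B : Type u} [CommRing B] [IsDomain A] (hA : CAlg2.IsUnibranch A) [IsDomain B]
    [Algebra A B] (hinj : Function.Injective (algebraMap A B)) [Algebra.IsIntegral A B] (n : Ideal B) [n.IsPrime]
    (hn : n.comap (algebraMap A B) = maximalIdeal A) (p : Ideal A) [p.IsPrime] :
    ∃ q : Ideal B, q.IsPrime ∧ q ≤ n ∧ q.comap (algebraMap A B) = p := by
  classical
  let L := FractionRing B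
  let K := FractionRing A
  have hAL : Function.Injective (algebraMap A L) := (IsFractionRing.injective B L).comp hinj
  let A' := integralClosure A K
  let : Algebra K L := (IsFractionRing.lift hAL).toAlgebra
  have : IsScalarTower A K L := IsScalarTower.of_algebraMap_eq fun a => (IsFractionRing.lift_algebraMap hAL a).symm
  -- `A'` is local
  have hl : IsLocalRing A' := by
    have : IsReduced A := inferInstance
    obtain ⟨e⟩ := Misc9.Branches.exists_algEquiv_normRed A
    have := hA.2
    exact IsLocalRing.of_surjective' e.symm.toRingHom e.symm.surjective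
  have : IsIntegrallyClosed A' := integralClosure.isIntegrallyClosedOfFiniteExtension K
  have : IsDomain A' := inferInstance
  let : Algebra A' L := ((algebraMap K L).comp A'.val.toRingHom).toAlgebra
  have : @IsScalarTower A A' L Algebra.toSMul Algebra.toSMul Algebra.toSMul :=
    IsScalarTower.of_algebraMap_eq (R := A) (S := A') (A := L) fun a => IsScalarTower.algebraMap_apply A K L a
  let B' := integralClosure A L
  have hmem : ∀ x : A', algebraMap A' L x ∈ B' := fun x => (x.2).map (IsScalarTower.toAlgHom A K L)
  let : Algebra A' B' := (RingHom.codRestrict (algebraMap A' L) B' hmem).toAlgebra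
  have : IsScalarTower A A' B' := IsScalarTower.of_algebraMap_eq fun a => Subtype.ext
    (show algebraMap A L a = algebraMap A' L (algebraMap A A' a) from IsScalarTower.algebraMap_apply A A' L a)
  have : Algebra.IsIntegral A B' := IsIntegralClosure.isIntegral_algebra A L
  have : Algebra.IsIntegral A' B' := Algebra.IsIntegral.tower_top A
  have : FaithfulSMul A' B' := (faithfulSMul_iff_algebraMap_injective _ _).mpr fun x y h =>
    Subtype.ext ((algebraMap K L).injective (congrArg Subtype.val h))
  let ι : B →ₐ[A] B' := (IsScalarTower.toAlgHom A B L).codRestrict B' fun b =>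
    (Algebra.IsIntegral.isIntegral b).map (IsScalarTower.toAlgHom A B L)
  let : Algebra B B' := ι.toRingHom.toAlgebra
  have : IsScalarTower A B B' := IsScalarTower.of_algebraMap_eq fun a => (ι.commutes a).symm
  have : Algebra.IsIntegral B B' := Algebra.IsIntegral.tower_top A
  have hι : Function.Injective (algebraMap B B') := fun x y h =>
    IsFractionRing.injective B L (congrArg Subtype.val h)
  obtain ⟨N, hN, hNn⟩ := Ideal.exists_ideal_over_prime_of_isIntegral_of_isDomain (S := B') n (by
    rw [(RingHom.injective_iff_ker_eq_bot _).mp hι]; exact bot_le)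
  have : Algebra.IsIntegral A A' := IsIntegralClosure.isIntegral_algebra A K
  obtain ⟨p', hp', hp'p⟩ := Ideal.exists_ideal_over_prime_of_isIntegral_of_isDomain (S := A') p (by
    rw [(RingHom.injective_iff_ker_eq_bot (algebraMap A A')).mp fun x y h =>
      IsFractionRing.injective A K (congrArg Subtype.val h)]
    exact bot_le)
  have hNA : N.comap (algebraMap A' B') = maximalIdeal A' := by
    refine eq_maximalIdeal (Ideal.isMaximal_of_isIntegral_of_isMaximal_comap (R := A) _ ?_)
    rw [Ideal.comap_comap, ← IsScalarTower.algebraMap_eq, IsScalarTower.algebraMap_eq A B B',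
      ← Ideal.comap_comap, hNn, hn]
    exact maximalIdeal.isMaximal A
  have hle : p' ≤ N.comap (algebraMap A' B') := hNA.symm ▸ le_maximalIdeal hp'.ne_top
  have : N.LiesOver (N.comap (algebraMap A' B')) := ⟨rfl⟩
  obtain ⟨Q, hQN, hQ, hQp⟩ := Ideal.exists_ideal_le_liesOver_of_le (R := A') (S := B') (p := p') N hle
  refine ⟨Q.comap (algebraMap B B'), inferInstance, hNn ▸ Ideal.comap_mono hQN, ?_⟩
  rw [Ideal.comap_comap, ← IsScalarTower.algebraMap_eq, IsScalarTower.algebraMap_eq A A' B',
    ← Ideal.comap_comap, ← hp'p]
  exact congrArg _ hQp.over.symm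

end Groth.Agent.HensPair.BranchMore
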