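import Groth.Agent.HensPair.CompletionConn
import Groth.Agent.HensPair.BranchMore
import Groth.Agent.HensPair.Radical
import Groth.Agent.EtaleLocal.Basic
import Mathlib.RingTheory.KrullDimension.LocalRing
import Mathlib.RingTheory.TensorProduct.Quotient

/-!
One-dimensional components of the completion come from the henselization.
-/

set_option autoImplicit false
set_option synthInstance.maxHeartbeats 200000

noncomputable section

open IsLocalRing
open scoped TensorProduct

namespace Groth.Agent.HensPair.CompletionComp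

universe u

theorem flat_quotient {S T : Type u} [CommRing S] [CommRing T] [Algebra S T] [Module.Flat S T] (I : Ideal S) :
    Module.Flat (S ⧸ I) (T ⧸ I.map (algebraMap S T)) := by
  let e := Algebra.TensorProduct.quotIdealMapEquivQuotTensor T I
  let e' : (T ⧸ I.map (algebraMap S T)) ≃ₗ[S ⧸ I] (S ⧸ I) ⊗[S] T :=
    { e.toLinearEquiv.toAddEquiv with
      map_smul' := fun r x => by
        obtain ⟨r, rfl⟩ := Ideal.Quotient.mk_surjective r
        obtain ⟨x, rfl⟩ := Ideal.Quotient.mk_surjective x
        show e (Ideal.Quotient.mk I r • Ideal.Quotient.mk _ x) = _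
        rw [Algebra.smul_def, show algebraMap (S ⧸ I) (T ⧸ I.map (algebraMap S T)) (Ideal.Quotient.mk I r) =
          Ideal.Quotient.mk _ (algebraMap S T r) from rfl, ← map_mul]
        rw [Algebra.TensorProduct.quotIdealMapEquivQuotTensor_mk]
        show (1 : S ⧸ I) ⊗ₜ[S] (algebraMap S T r * x) = Ideal.Quotient.mk I r • e (Ideal.Quotient.mk _ x)
        rw [Algebra.TensorProduct.quotIdealMapEquivQuotTensor_mk, ← Algebra.smul_def, ← TensorProduct.smul_tmul,
          TensorProduct.smul_tmul', Algebra.smul_def, mul_one, smul_eq_mul, mul_one]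
        rfl }
  exact Module.Flat.of_linearEquiv e'

variable {S T : Type u} [CommRing S] [CommRing T] [Algebra S T]

/-- facts about quotient by a prime -/
theorem quotient_facts [IsLocalRing S] [HenselianLocalRing S] [IsLocalRing T]
    (hm : (maximalIdeal S).map (algebraMap S T) = maximalIdeal T) (q' : Ideal S) [q'.IsPrime] :
    ∃ _ : IsLocalRing (S ⧸ q'), ∃ _ : IsLocalRing (T ⧸ q'.map (algebraMap S T)),
      HenselianLocalRing (S ⧸ q') ∧
      (maximalIdeal (S ⧸ q')).map (algebraMap (S ⧸ q') (T ⧸ q'.map (algebraMap S T))) = maximalIdeal _ := by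
  have hle : q'.map (algebraMap S T) ≤ maximalIdeal T :=
    hm ▸ Ideal.map_mono (le_maximalIdeal (Ideal.IsPrime.ne_top inferInstance))
  have : Nontrivial (T ⧸ q'.map (algebraMap S T)) :=
    Ideal.Quotient.nontrivial_iff.mpr fun h => (maximalIdeal.isMaximal T).ne_top (top_le_iff.mp (h ▸ hle))
  have hl : IsLocalRing (S ⧸ q') := IsLocalRing.of_surjective' _ Ideal.Quotient.mk_surjective
  have hlT : IsLocalRing (T ⧸ q'.map (algebraMap S T)) := IsLocalRing.of_surjective' _ Ideal.Quotient.mk_surjective
  have : Algebra.IsIntegral S (S ⧸ q') :=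
    Algebra.IsIntegral.of_surjective (Algebra.ofId S (S ⧸ q')) Ideal.Quotient.mk_surjective
  refine ⟨hl, hlT, Integral.henselianLocalRing (A := S), ?_⟩
  rw [← map_maximalIdeal_of_surjective _ (Ideal.Quotient.mk_surjective (I := q')), Ideal.map_map,
    ← map_maximalIdeal_of_surjective _ (Ideal.Quotient.mk_surjective (I := q'.map (algebraMap S T))), ← hm,
    Ideal.map_map]
  rfl

theorem radical_map_eq [IsLocalRing S] [HenselianLocalRing S] [IsNoetherianRing S] [IsLocalRing T]
    [IsNoetherianRing T] [Module.Flat S T]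
    (hm : (maximalIdeal S).map (algebraMap S T) = maximalIdeal T)
    (hsurj : ∀ t : T, ∃ a, t - algebraMap S T a ∈ maximalIdeal T)
    (q : Ideal T) (hq : q ∈ minimalPrimes T) (hdim : ringKrullDim (T ⧸ q) = 1) :
    q.comap (algebraMap S T) ∈ minimalPrimes S ∧
      ((q.comap (algebraMap S T)).map (algebraMap S T)).radical = q := by
  have hqp := hq.1.1
  let q' := q.comap (algebraMap S T)
  have hmin : q' ∈ minimalPrimes S := by
    refine ⟨⟨inferInstance, bot_le⟩, fun p ⟨hp, _⟩ hle => ?_⟩
    have : q.LiesOver q' := ⟨rfl⟩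
    obtain ⟨P', hP', hP'p, hP'c⟩ := Ideal.exists_ideal_le_liesOver_of_le (R := S) (S := T) (p := p) q hle
    exact (Ideal.comap_mono (hq.2 ⟨hP'p, bot_le⟩ hP')).trans hP'c.over.ge
  refine ⟨hmin, ?_⟩
  let I := q'.map (algebraMap S T)
  have hIq : I ≤ q := Ideal.map_comap_le
  obtain ⟨hl, hlT, hh, hmq⟩ := quotient_facts hm q'
  have := flat_quotient (T := T) q'
  let π := Ideal.Quotient.mk I
  have hπ : Function.Surjective π := Ideal.Quotient.mk_surjective
  have hsurj' : ∀ t : T ⧸ I, ∃ a : S ⧸ q', t - algebraMap (S ⧸ q') (T ⧸ I) a ∈ maximalIdeal (T ⧸ I) := fun t => by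
    obtain ⟨t, rfl⟩ := hπ t
    obtain ⟨a, ha⟩ := hsurj t
    refine ⟨Ideal.Quotient.mk q' a, ?_⟩
    rw [← map_maximalIdeal_of_surjective π hπ]
    have := Ideal.mem_map_of_mem π ha
    rw [map_sub] at this
    exact this
  have hker : RingHom.ker π ≤ q := by rw [Ideal.mk_ker]; exact hIq
  have hqbar : q.map π ∈ minimalPrimes (T ⧸ I) := by
    have := Ideal.map_isPrime_of_surjective hπ hker
    refine ⟨⟨this, bot_le⟩, fun r ⟨hr, _⟩ hle => ?_⟩
    rw [← Ideal.map_comap_of_surjective π hπ r]
    refine Ideal.map_mono (hq.2 ⟨hr.comap _, bot_le⟩ ?_)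
    refine (Ideal.comap_mono hle).trans ?_
    rw [Ideal.comap_map_of_surjective' π hπ]
    exact sup_le le_rfl hker
  have hdim' : ∀ Q : Ideal T, Q.IsPrime → q < Q → Q = maximalIdeal T := by
    intro Q hQ hlt
    have : IsDomain (T ⧸ q) := Ideal.Quotient.isDomain q
    have h1 : Ring.KrullDimLE 1 (T ⧸ q) := Ring.krullDimLE_iff.mpr (by rw [hdim]; rfl)
    let μ := Ideal.Quotient.mk q
    have hμ : Function.Surjective μ := Ideal.Quotient.mk_surjective
    have hkQ : RingHom.ker μ ≤ Q := by rw [Ideal.mk_ker]; exact hlt.le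
    have hne : Q.map μ ≠ ⊥ := fun h => hlt.not_ge (by
      rw [Ideal.map_eq_bot_iff_le_ker, Ideal.mk_ker] at h; exact h)
    have hmax : (Q.map μ).IsMaximal :=
      Ring.krullDimLE_one_iff_of_noZeroDivisors.mp h1 _ hne (Ideal.map_isPrime_of_surjective hμ hkQ)
    have := Ideal.comap_isMaximal_of_surjective μ hμ (K := Q.map μ)
    rw [Ideal.comap_map_of_surjective' μ hμ, sup_eq_left.mpr hkQ] at this
    exact eq_maximalIdeal this
  have hdimbar : ∀ Q : Ideal (T ⧸ I), Q.IsPrime → q.map π < Q → Q = maximalIdeal (T ⧸ I) := by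
    intro Q hQ hlt
    rw [← Ideal.map_comap_of_surjective π hπ Q, ← map_maximalIdeal_of_surjective π hπ]
    congr 1
    refine hdim' _ (hQ.comap _) (lt_of_le_of_ne (Ideal.le_comap_of_map_le hlt.le) fun h => hlt.ne ?_)
    rw [h, Ideal.map_comap_of_surjective π hπ]
  have hA : maximalIdeal (S ⧸ q') ≠ ⊥ := fun h => by
    have hbot : maximalIdeal (T ⧸ I) = ⊥ := by rw [← hmq, h, Ideal.map_bot]
    have hmax : maximalIdeal T ≤ q := by
      rw [← map_maximalIdeal_of_surjective π hπ, Ideal.map_eq_bot_iff_le_ker, Ideal.mk_ker] at hbot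
      exact hbot.trans hIq
    have : ringKrullDim (T ⧸ q) = 0 := by
      rw [show q = maximalIdeal T from le_antisymm (le_maximalIdeal hqp.ne_top) hmax]
      let := Ideal.Quotient.field (maximalIdeal T)
      exact ringKrullDim_eq_zero_of_field _
    rw [this] at hdim
    exact zero_ne_one hdim
  refine le_antisymm (hqp.radical_le_iff.mpr hIq) ?_
  rw [Ideal.radical_eq_sInf]
  refine le_sInf fun Q ⟨hQI, hQ⟩ => ?_
  have hkQ : RingHom.ker π ≤ Q := by rw [Ideal.mk_ker]; exact hQI
  have := Ideal.map_isPrime_of_surjective hπ hkQ (I := Q)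
  obtain ⟨P, hP, hPQ⟩ := Ideal.exists_minimalPrimes_le (I := ⊥) (J := Q.map π) bot_le
  have hPq := CompletionConn.minimal_unique hmq hsurj' hA (q.map π) hqbar hdimbar P hP
  rw [hPq] at hPQ
  refine (Ideal.le_comap_map (f := π)).trans ((Ideal.comap_mono hPQ).trans ?_)
  rw [Ideal.comap_map_of_surjective' π hπ]
  exact sup_le le_rfl hkQ

variable (A : Type u) [CommRing A] [IsLocalRing A] [IsNoetherianRing A]

theorem hens_completion_facts (S : Type u) [CommRing S] [IsLocalRing S] [Algebra A S]
    [IsLocalHom (algebraMap A S)] [Hensel.IsHenselization A S]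
    (ψ : S →+* AdicCompletion (maximalIdeal A) A)
    (hψ : ψ.comp (algebraMap A S) = algebraMap A (AdicCompletion (maximalIdeal A) A)) :
    letI := ψ.toAlgebra
    ∃ _ : IsLocalRing (AdicCompletion (maximalIdeal A) A), IsNoetherianRing (AdicCompletion (maximalIdeal A) A) ∧
      Module.FaithfullyFlat S (AdicCompletion (maximalIdeal A) A) ∧ IsNoetherianRing S ∧
      (maximalIdeal S).map ψ = maximalIdeal (AdicCompletion (maximalIdeal A) A) ∧
      (∀ t : AdicCompletion (maximalIdeal A) A, ∃ a, t - ψ a ∈ maximalIdeal _) := by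
  obtain ⟨hl, hh, hloc, hff, hres⟩ := BranchMore.completion_facts (A := A)
  let T := AdicCompletion (maximalIdeal A) A
  let : Algebra S T := ψ.toAlgebra
  have : IsScalarTower A S T := IsScalarTower.of_algebraMap_eq' hψ.symm
  have : Module.Flat S T := HensPoint.WeaklyEtale.flat_of_flat_base (A := A) (B := S) HensPoint.StrictProps.hens T
  have hfg : (maximalIdeal A).FG := IsNoetherian.noetherian _
  have hm : (maximalIdeal S).map ψ = maximalIdeal T := by
    rw [AdicCompletion.maximalIdeal_eq_map_of_fg hfg, ← LocalFacts.map_maximalIdeal (R := A) (S := S), Ideal.map_map, hψ]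
  have : IsLocalHom (algebraMap S T) := ((local_hom_TFAE (algebraMap S T)).out 0 2).mpr hm.le
  have : Module.FaithfullyFlat S T := Module.FaithfullyFlat.of_flat_of_isLocalHom
  have hTn : IsNoetherianRing T :=
    Completion.NoetherianComplete.isNoetherianRing_adicCompletion _ hfg
  refine ⟨hl, hTn, this, Fpqc.Fppf.isNoetherianRing_of_faithfullyFlat S T, hm, fun t => ?_⟩
  obtain ⟨a, ha⟩ := hres (residue T t)
  refine ⟨algebraMap A S a, ?_⟩
  rw [← RingHom.comp_apply, hψ, ← residue_eq_zero_iff, map_sub, sub_eq_zero]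
  exact ha.symm

theorem exists_radical_map_eq (S : Type u) [CommRing S] [IsLocalRing S] [Algebra A S]
    [IsLocalHom (algebraMap A S)] [hS : Hensel.IsHenselization A S]
    (ψ : S →+* AdicCompletion (maximalIdeal A) A)
    (hψ : ψ.comp (algebraMap A S) = algebraMap A (AdicCompletion (maximalIdeal A) A))
    (q : Ideal (AdicCompletion (maximalIdeal A) A))
    (hq : q ∈ minimalPrimes (AdicCompletion (maximalIdeal A) A))
    (hdim : ringKrullDim (AdicCompletion (maximalIdeal A) A ⧸ q) = 1) :
    ∃ q' ∈ minimalPrimes S, (Ideal.map ψ q').radical = q := by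
  obtain ⟨hl, hn, hff, hnS, hm, hsurj⟩ := hens_completion_facts A S ψ hψ
  let := ψ.toAlgebra
  have := hS.henselian
  obtain ⟨h1, h2⟩ := radical_map_eq (S := S) (T := AdicCompletion (maximalIdeal A) A) hm hsurj q hq hdim
  exact ⟨_, h1, h2⟩

omit A in
theorem card_eq_of_dim_one {S T : Type u} [CommRing S] [CommRing T] [Algebra S T] [IsLocalRing S]
    [HenselianLocalRing S] [IsNoetherianRing S] [IsLocalRing T] [IsNoetherianRing T] [Module.FaithfullyFlat S T]
    (hm : (maximalIdeal S).map (algebraMap S T) = maximalIdeal T)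
    (hsurj : ∀ t : T, ∃ a, t - algebraMap S T a ∈ maximalIdeal T) (hT : ringKrullDim T = 1) :
    ENat.card (minimalPrimes T) = ENat.card (minimalPrimes S) := by
  have hdim : ∀ q ∈ minimalPrimes T, ringKrullDim (T ⧸ q) = 1 := by
    intro q hq
    have := hq.1.1
    refine le_antisymm (hT ▸ ringKrullDim_quotient_le q) ?_
    by_contra h
    rw [not_le] at h
    have : Nontrivial (T ⧸ q) := Ideal.Quotient.nontrivial_iff.mpr hq.1.1.ne_top
    have h0 : Ring.KrullDimLE 0 (T ⧸ q) := Ring.krullDimLE_iff.mpr (by
      have := ringKrullDim_nonneg_of_nontrivial (R := T ⧸ q)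
      exact ENat.WithBot.lt_add_one_iff.mp (lt_of_lt_of_eq h (by simp)))
    have hfield := Ring.KrullDimLE.isField_of_isDomain (R := T ⧸ q)
    have hqm : q = maximalIdeal T := eq_maximalIdeal (Ideal.Quotient.maximal_of_isField q hfield)
    have : Ring.KrullDimLE 0 T := Ring.krullDimLE_zero_iff.mpr fun I hI => by
      have : I = maximalIdeal T := le_antisymm (le_maximalIdeal hI.ne_top)
        (hqm ▸ hq.2 ⟨hI, bot_le⟩ (hqm ▸ le_maximalIdeal hI.ne_top))
      exact this ▸ maximalIdeal.isMaximal T
    have h2 := Ring.krullDimLE_iff.mp this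
    rw [hT] at h2
    exact absurd (WithBot.coe_le_coe.mp h2) (by simp)
  refine ENat.card_congr (Equiv.ofBijective
    (fun q => (⟨q.1.comap (algebraMap S T), (radical_map_eq hm hsurj q.1 q.2 (hdim _ q.2)).1⟩ : minimalPrimes S))
    ⟨fun q r e => ?_, fun p => ?_⟩)
  · refine Subtype.ext ?_
    have e' : q.1.comap (algebraMap S T) = r.1.comap (algebraMap S T) := congrArg Subtype.val e
    rw [← (radical_map_eq hm hsurj q.1 q.2 (hdim _ q.2)).2, e', (radical_map_eq hm hsurj r.1 r.2 (hdim _ r.2)).2]
  · have := p.2.1.1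
    obtain ⟨⟨P, hP⟩, hPp⟩ := PrimeSpectrum.comap_surjective_of_faithfullyFlat (A := S) (B := T) ⟨p.1, this⟩
    obtain ⟨Q, hQ, hQP⟩ := Ideal.exists_minimalPrimes_le (I := ⊥) (J := P) bot_le
    have hle : Q.comap (algebraMap S T) ≤ p.1 :=
      (Ideal.comap_mono hQP).trans (congrArg PrimeSpectrum.asIdeal hPp).le
    exact ⟨⟨Q, hQ⟩, Subtype.ext (le_antisymm hle (p.2.2 ⟨hQ.1.1.comap _, bot_le⟩ hle))⟩

theorem branches_completion (hA : ringKrullDim A = 1) :
    Brnch.numBranches (AdicCompletion (maximalIdeal A) A) = Brnch.numBranches A ∧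
      Brnch.numGeomBranches (AdicCompletion (maximalIdeal A) A) = Brnch.numGeomBranches A := by
  obtain ⟨hl, hh, hloc, hff, hres⟩ := BranchMore.completion_facts (A := A)
  let T := AdicCompletion (maximalIdeal A) A
  have hfg : (maximalIdeal A).FG := IsNoetherian.noetherian _
  have hmT : (maximalIdeal A).map (algebraMap A T) = maximalIdeal T :=
    (AdicCompletion.maximalIdeal_eq_map_of_fg hfg).symm
  have hTn : IsNoetherianRing T := Completion.NoetherianComplete.isNoetherianRing_adicCompletion _ hfg
  have hTd : ringKrullDim T = 1 := (EtaleLocal.Basic.ringKrullDim_eq hmT).trans hA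
  constructor
  · have := HensPoint.StrictProps.isHenselization_hull (R := A)
    let S := HensPoint.Hull.H A (ResidueField A)
    have := (inferInstance : Hensel.IsHenselization A S).henselian
    obtain ⟨g, hg, -⟩ := (inferInstance : Hensel.IsHenselization A S).universal T (algebraMap A T) hloc
    obtain ⟨_, _, hff', hSn, hm, hsurj⟩ := hens_completion_facts A S g hg
    let := g.toAlgebra
    rw [← Branches.card_minimalPrimes_hens A S, ← BranchMore.minimalPrimes_self (A := T)]
    exact card_eq_of_dim_one hm hsurj hTd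
  · let Ts := HensPoint.Strict.Sh T
    have hTs := HensPoint.Strict.isStrictHenselization (R := T)
    let S := HensPoint.Strict.Sh A
    have hS := HensPoint.Strict.isStrictHenselization (R := A)
    have := hS.henselian
    have : IsSepClosed (ResidueField Ts) := hTs.isSepClosure.1
    have : HenselianLocalRing Ts := hTs.henselian
    let f : A →+* Ts := (algebraMap T Ts).comp (algebraMap A T)
    have : IsLocalHom f := RingHom.isLocalHom_comp _ _
    let : Algebra A Ts := f.toAlgebra
    have : IsScalarTower A T Ts := IsScalarTower.of_algebraMap_eq' rfl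
    have : IsLocalHom (algebraMap A Ts) := ‹IsLocalHom f›
    have : Algebra.IsSeparable (ResidueField A) (ResidueField S) := hS.isSepClosure.2
    have : IsSepClosed (ResidueField S) := hS.isSepClosure.1
    let τ : ResidueField S →ₐ[ResidueField A] ResidueField Ts := IsSepClosed.lift
    obtain ⟨g, ⟨hg, hgτ⟩, -⟩ := hS.universal Ts f τ.toRingHom τ.comp_algebraMap
    let : Algebra S Ts := g.toAlgebra
    have : IsScalarTower A S Ts := IsScalarTower.of_algebraMap_eq' hg.symm
    have : Module.Flat T Ts := HensPoint.StrictProps.strict.flat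
    have : Module.Flat A Ts := Module.Flat.trans A T Ts
    have : Module.Flat S Ts :=
      HensPoint.WeaklyEtale.flat_of_flat_base (A := A) (B := S) HensPoint.StrictProps.strict Ts
    have hm : (maximalIdeal S).map (algebraMap S Ts) = maximalIdeal Ts := by
      rw [← HensPoint.Strict.map_maximalIdeal (R := A) (S := S), Ideal.map_map, ← IsScalarTower.algebraMap_eq,
        IsScalarTower.algebraMap_eq A T Ts, ← Ideal.map_map, hmT, HensPoint.Strict.map_maximalIdeal (R := T) (S := Ts)]
    have : IsLocalHom (algebraMap S Ts) := ((local_hom_TFAE (algebraMap S Ts)).out 0 2).mpr hm.le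
    have : Module.FaithfullyFlat S Ts := Module.FaithfullyFlat.of_flat_of_isLocalHom
    have hTsn : IsNoetherianRing Ts := HensPoint.StrictProps.isNoetherianRing (R := T)
    have hSn : IsNoetherianRing S := HensPoint.StrictProps.isNoetherianRing (R := A)
    have hd : ringKrullDim Ts = 1 :=
      (EtaleLocal.Basic.ringKrullDim_eq (HensPoint.Strict.map_maximalIdeal (R := T) (S := Ts))).trans hTd
    have hsurj : ∀ t : Ts, ∃ a, t - algebraMap S Ts a ∈ maximalIdeal Ts := by
      let : Algebra (ResidueField S) (ResidueField Ts) := τ.toRingHom.toAlgebra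
      have : IsScalarTower (ResidueField A) (ResidueField S) (ResidueField Ts) :=
        IsScalarTower.of_algebraMap_eq fun x => (τ.commutes x).symm
      have hsurjT : Function.Surjective (algebraMap (ResidueField A) (ResidueField T)) := fun x => by
        obtain ⟨a, ha⟩ := hres x
        exact ⟨residue A a, ha⟩
      have : IsScalarTower (ResidueField A) (ResidueField T) (ResidueField Ts) :=
        IsScalarTower.of_algebraMap_eq fun x => by
          obtain ⟨a, rfl⟩ := residue_surjective x
          rfl
      have : Algebra.IsSeparable (ResidueField T) (ResidueField Ts) := hTs.isSepClosure.2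
      have : Algebra.IsSeparable (ResidueField A) (ResidueField T) := ⟨fun x => by
        obtain ⟨a, rfl⟩ := hsurjT x
        exact isSeparable_algebraMap a⟩
      have : Algebra.IsSeparable (ResidueField A) (ResidueField Ts) :=
        Algebra.IsSeparable.trans (ResidueField A) (ResidueField T) (ResidueField Ts)
      have : Algebra.IsSeparable (ResidueField S) (ResidueField Ts) :=
        Algebra.isSeparable_tower_top_of_isSeparable (ResidueField A) _ _
      intro t
      obtain ⟨z, hz⟩ := IsSepClosed.algebraMap_surjective (ResidueField S) (ResidueField Ts) (residue Ts t)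
      obtain ⟨a, rfl⟩ := residue_surjective z
      refine ⟨a, ?_⟩
      rw [← residue_eq_zero_iff, map_sub, sub_eq_zero, ← hz]
      exact (hgτ a).symm
    rw [← Branches.card_minimalPrimes_strict A S, ← Branches.card_minimalPrimes_strict T Ts]
    exact card_eq_of_dim_one hm hsurj hd

end Groth.Agent.HensPair.CompletionComp
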