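import Groth.Agent.HensPair.Branches
import Groth.Agent.HensPair.CompletionComp
import Groth.Agent.Topo.IntegralDim
import Mathlib.RingTheory.Spectrum.Prime.Topology

/-!
Dimensions of the branches.
-/

set_option autoImplicit false
set_option synthInstance.maxHeartbeats 200000

noncomputable section

open IsLocalRing
open scoped TensorProduct

namespace Groth.Agent.HensPair.BranchDim

universe u

theorem ringKrullDim_eq_of_integral {R T : Type u} [CommRing R] [CommRing T] [Algebra R T]
    [Algebra.IsIntegral R T] (hinj : Function.Injective (algebraMap R T)) :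
    ringKrullDim T = ringKrullDim R := by
  rw [← PrimeSpectrum.topologicalKrullDim_eq_ringKrullDim T,
    ← PrimeSpectrum.topologicalKrullDim_eq_ringKrullDim R]
  have hcl : IsClosedMap (PrimeSpectrum.comap (algebraMap R T)) :=
    PrimeSpectrum.isClosedMap_comap_of_isIntegral _ (algebraMap_isIntegral_iff.mpr inferInstance)
  refine le_antisymm (Topo.IntegralDim.dim_le _ (PrimeSpectrum.continuous_comap _) hcl fun x y hxy he => ?_)
    (Topo.IntegralDim.dim_ge _ hcl (PrimeSpectrum.continuous_comap _) fun p => ?_)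
  · rcases ((PrimeSpectrum.le_iff_specializes x y).mpr hxy).lt_or_eq with hlt | heq
    · exact absurd (congrArg PrimeSpectrum.asIdeal he) (Ideal.IsIntegral.comap_lt_comap (R := R)
        (show x.asIdeal < y.asIdeal from hlt)).ne
    · rw [heq]
  · obtain ⟨Q, -, hQ, hc⟩ := Ideal.exists_ideal_over_prime_of_isIntegral p.asIdeal (⊥ : Ideal T) (by
      rw [← RingHom.ker_eq_comap_bot, (RingHom.injective_iff_ker_eq_bot _).mp hinj]
      exact bot_le)
    exact ⟨⟨Q, hQ⟩, PrimeSpectrum.ext hc⟩

attribute [local instance] Algebra.TensorProduct.rightAlgebra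

section

variable (A : Type u) [CommRing A] [IsLocalRing A] {S : Type u} [CommRing S] [Algebra A S] [IsLocalRing S]
  [IsLocalHom (algebraMap A S)] [HenselianLocalRing S]

theorem dim_tensor {C : Type u} [CommRing C] [Algebra A C] [Algebra.IsIntegral A C]
    (hS : HensPoint.EtColim.IsEtColim A S)
    (hC : ∀ (M : Ideal C) [M.IsPrime], IsDomain (Localization.AtPrime M) ∧ IsIntegrallyClosed (Localization.AtPrime M)) :
    ∀ (P : minimalPrimes (C ⊗[A] S)) (N : MaximalSpectrum (C ⊗[A] S)), P.1 ≤ N.asIdeal →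
          (N.asIdeal.comap (algebraMap C (C ⊗[A] S))).IsMaximal ∧
          ∃ _ : (N.asIdeal.comap (algebraMap C (C ⊗[A] S))).IsPrime,
          ringKrullDim (S ⧸ P.1.comap (Algebra.TensorProduct.includeRight : S →ₐ[A] (C ⊗[A] S)).toRingHom) =
            ringKrullDim (Localization.AtPrime (N.asIdeal.comap (algebraMap C (C ⊗[A] S)))) := by
  have hintD : Algebra.IsIntegral S (C ⊗[A] S) := Branches.isIntegral_right
  have hCD : HensPoint.EtColim.IsEtColim C (C ⊗[A] S) := HensPoint.EtColimBC.baseChange hS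
  have := hS.flat
  have : Module.FaithfullyFlat A S := Module.FaithfullyFlat.of_flat_of_isLocalHom
  intro P N hPN
  have := N.isMaximal
  have hP := P.2.1.1
  let M := N.asIdeal.comap (algebraMap C (C ⊗[A] S))
  have hmaxS : N.asIdeal.comap (algebraMap S (C ⊗[A] S)) = maximalIdeal S := Branches.comap_eq_maximal (C := C ⊗[A] S) S N.asIdeal
  have hMmax : M.IsMaximal := by
    refine Ideal.isMaximal_of_isIntegral_of_isMaximal_comap (R := A) M ?_
    have : algebraMap A (C ⊗[A] S) = (algebraMap S (C ⊗[A] S)).comp (algebraMap A S) :=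
      RingHom.ext fun a => Algebra.TensorProduct.tmul_one_eq_one_tmul a
    rw [show M.comap (algebraMap A C) = maximalIdeal A by
      rw [Ideal.comap_comap, ← IsScalarTower.algebraMap_eq, this, ← Ideal.comap_comap, hmaxS,
        maximalIdeal_comap]]
    exact maximalIdeal.isMaximal A
  have hMp : M.IsPrime := hMmax.isPrime
  refine ⟨hMmax, hMp, ?_⟩
  let DN := Localization.AtPrime N.asIdeal
  -- `S/p → (C ⊗[A] S)/P` integral and injective
  let I := P.1.comap (Algebra.TensorProduct.includeRight : S →ₐ[A] (C ⊗[A] S)).toRingHom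
  have h1 : ringKrullDim ((C ⊗[A] S) ⧸ P.1) = ringKrullDim (S ⧸ I) := by
    have e : I = RingHom.ker (algebraMap S ((C ⊗[A] S) ⧸ P.1)) := by
      ext s
      exact (Ideal.Quotient.eq_zero_iff_mem (I := P.1)).symm
    let : Algebra (S ⧸ I) ((C ⊗[A] S) ⧸ P.1) :=
      (Ideal.Quotient.lift I (algebraMap S ((C ⊗[A] S) ⧸ P.1)) fun s hs => (e ▸ hs : s ∈ RingHom.ker _)).toAlgebra
    have : IsScalarTower S (S ⧸ I) ((C ⊗[A] S) ⧸ P.1) := IsScalarTower.of_algebraMap_eq fun _ => rfl
    have : Algebra.IsIntegral S ((C ⊗[A] S) ⧸ P.1) := inferInstance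
    have : Algebra.IsIntegral (S ⧸ I) ((C ⊗[A] S) ⧸ P.1) := Algebra.IsIntegral.tower_top S
    exact ringKrullDim_eq_of_integral (RingHom.lift_injective_of_ker_le_ideal I _ e.ge)
  -- `(C ⊗[A] S)/P` is local with maximal ideal the image of `N`
  have : IsLocalRing ((C ⊗[A] S) ⧸ P.1) := Integral.isLocalRing_of_isDomain (A := S)
  have hu : ∀ x ∉ N.asIdeal, IsUnit (Ideal.Quotient.mk P.1 x) := by
    intro x hx
    rw [← notMem_maximalIdeal]
    intro hm
    refine hx ?_
    have hmap : (N.asIdeal.map (Ideal.Quotient.mk P.1)).IsMaximal :=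
      (Ideal.map_eq_top_or_isMaximal_of_surjective _ Ideal.Quotient.mk_surjective N.isMaximal).resolve_left
        fun h => N.isMaximal.ne_top (by
          have := congrArg (Ideal.comap (Ideal.Quotient.mk P.1)) h
          rwa [Ideal.comap_map_of_surjective' _ Ideal.Quotient.mk_surjective, Ideal.mk_ker,
            sup_eq_left.mpr hPN, Ideal.comap_top] at this)
    rw [← eq_maximalIdeal hmap, ← Ideal.mem_comap,
      Ideal.comap_map_of_surjective' _ Ideal.Quotient.mk_surjective, Ideal.mk_ker, sup_eq_left.mpr hPN] at hm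
    exact hm
  let χ : DN →+* (C ⊗[A] S) ⧸ P.1 := IsLocalization.lift (M := N.asIdeal.primeCompl) (fun y => hu y y.2)
  have hdom : IsDomain DN := by
    obtain ⟨hd, hn⟩ := hC M
    have : N.asIdeal.LiesOver M := ⟨rfl⟩
    let : Algebra (Localization.AtPrime M) DN := Localization.AtPrime.algebraOfLiesOver M N.asIdeal
    have hloc : IsLocalHom (algebraMap (Localization.AtPrime M) DN) :=
      inferInstanceAs (IsLocalHom (Localization.localRingHom M N.asIdeal (algebraMap C (C ⊗[A] S)) (N.asIdeal.over_def M)))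
    have h2 : HensPoint.EtColim.IsEtColim (Localization.AtPrime M) DN :=
      HensPoint.Trans.cancel (HensPoint.EtColimLoc.isEtColim_localization M.primeCompl)
        (HensPoint.Trans.trans hCD (HensPoint.EtColimLoc.isEtColim_localization N.asIdeal.primeCompl))
    have := h2.flat
    have : Module.FaithfullyFlat (Localization.AtPrime M) DN := Module.FaithfullyFlat.of_flat_of_isLocalHom
    exact (HensPoint.Normal.isDomain h2 (FaithfulSMul.algebraMap_injective _ _)).1
  have hχ : Function.Bijective χ := by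
    refine ⟨(IsLocalization.lift_injective_iff _).mpr fun x y => ⟨fun e => ?_, fun e => ?_⟩, fun z => ?_⟩
    · obtain ⟨s, hs⟩ := (IsLocalization.eq_iff_exists N.asIdeal.primeCompl DN).mp e
      refine (hu s s.2).mul_left_cancel ?_
      rw [← map_mul, ← map_mul, hs]
    · rw [← sub_eq_zero, ← map_sub]
      rw [← sub_eq_zero, ← map_sub, Ideal.Quotient.eq_zero_iff_mem] at e
      let K : Ideal (C ⊗[A] S) := RingHom.ker (algebraMap (C ⊗[A] S) DN)
      have hKp : K.IsPrime := RingHom.ker_isPrime _
      have hKP : K ≤ P.1 := fun x hx => by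
        obtain ⟨s, hs⟩ := (IsLocalization.map_eq_zero_iff N.asIdeal.primeCompl _ x).mp hx
        exact (hP.mem_or_mem (show (s : (C ⊗[A] S)) * x ∈ P.1 from hs ▸ zero_mem _)).resolve_left fun h => s.2 (hPN h)
      exact P.2.2 ⟨hKp, bot_le⟩ hKP e
    · obtain ⟨x, rfl⟩ := Ideal.Quotient.mk_surjective z
      exact ⟨algebraMap (C ⊗[A] S) DN x, IsLocalization.lift_eq _ x⟩
  rw [← h1, ← ringKrullDim_eq_of_ringEquiv (RingEquiv.ofBijective χ hχ)]
  have : N.asIdeal.LiesOver M := ⟨rfl⟩
  let : Algebra (Localization.AtPrime M) DN := Localization.AtPrime.algebraOfLiesOver M N.asIdeal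
  have hloc : IsLocalHom (algebraMap (Localization.AtPrime M) DN) :=
    inferInstanceAs (IsLocalHom (Localization.localRingHom M N.asIdeal (algebraMap C (C ⊗[A] S)) (N.asIdeal.over_def M)))
  have h2 : HensPoint.EtColim.IsEtColim (Localization.AtPrime M) DN :=
    HensPoint.Trans.cancel (HensPoint.EtColimLoc.isEtColim_localization M.primeCompl)
      (HensPoint.Trans.trans hCD (HensPoint.EtColimLoc.isEtColim_localization N.asIdeal.primeCompl))
  have := h2.flat
  have : Module.FaithfullyFlat (Localization.AtPrime M) DN := Module.FaithfullyFlat.of_flat_of_isLocalHom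
  exact h2.ringKrullDim_eq

theorem dim_branch (hS : HensPoint.EtColim.IsEtColim A S) (h : (minimalPrimes A).Finite) :
    (∀ p ∈ minimalPrimes S, ∃ M : MaximalSpectrum (CAlg2.normRed A),
      ringKrullDim (S ⧸ p) = ringKrullDim (Localization.AtPrime M.asIdeal)) ∧
    (∀ M : MaximalSpectrum (CAlg2.normRed A), ∃ p ∈ minimalPrimes S,
      ringKrullDim (S ⧸ p) = ringKrullDim (Localization.AtPrime M.asIdeal)) := by
  have := Branches.minimalPrimes_red_finite A h
  have : IsReduced (CAlg2.red A) := Ideal.isRadical_iff_quotient_reduced _ |>.mp (Ideal.radical_isRadical _)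
  have := Branches.isIntegral_normRed A
  let C := CAlg2.normRed A
  have hbij := Branches.bijOn_minimalPrimes_tensor A hS
  obtain ⟨hbelow, habove⟩ := Branches.minimal_maximal_facts (C := C) hS fun M hM =>
    BranchNormal.isDomain_isIntegrallyClosed_localization (CAlg2.red A) (FractionRing (CAlg2.red A)) M
  have hCD : HensPoint.EtColim.IsEtColim C (C ⊗[A] S) := HensPoint.EtColimBC.baseChange hS
  have := hS.flat
  have : Module.FaithfullyFlat A S := Module.FaithfullyFlat.of_flat_of_isLocalHom
  have main := dim_tensor A (C := C) hS fun M hM =>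
    BranchNormal.isDomain_isIntegrallyClosed_localization (CAlg2.red A) (FractionRing (CAlg2.red A)) M
  refine ⟨fun p hp => ?_, fun M => ?_⟩
  · obtain ⟨P, hP, rfl⟩ := hbij.surjOn hp
    obtain ⟨N, hN, -⟩ := habove ⟨P, hP⟩
    obtain ⟨hM, _, hdim⟩ := main ⟨P, hP⟩ N hN
    exact ⟨⟨_, hM⟩, hdim⟩
  · have := M.isMaximal
    obtain ⟨⟨Q, hQ⟩, hQM⟩ := PrimeSpectrum.comap_surjective_of_faithfullyFlat (A := C) (B := (C ⊗[A] S))
      ⟨M.asIdeal, M.isMaximal.isPrime⟩
    obtain ⟨N, hN, hQN⟩ := Ideal.exists_le_maximal Q hQ.ne_top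
    obtain ⟨P, hPN, -⟩ := hbelow ⟨N, hN⟩
    obtain ⟨hM, _, hdim⟩ := main P ⟨N, hN⟩ hPN
    have heq : M.asIdeal = N.comap (algebraMap C (C ⊗[A] S)) :=
      M.isMaximal.eq_of_le (Ideal.comap_ne_top _ hN.ne_top)
        ((congrArg PrimeSpectrum.asIdeal hQM).ge.trans (Ideal.comap_mono hQN))
    refine ⟨_, hbij.mapsTo P.2, hdim.trans ?_⟩
    obtain ⟨M, hMmax⟩ := M
    subst heq
    rfl

end

end Groth.Agent.HensPair.BranchDim
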