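import Groth.Agent.HensPair.BranchMore
import Groth.Agent.HensPoint.GeomUniEtale

/-!
Branches as minimal primes in etale neighbourhoods: algebra.
-/

set_option autoImplicit false

noncomputable section

open IsLocalRing

namespace Groth.Agent.HensPair.BranchNbhd

universe u

open HensPoint

section upper

variable {A T S : Type u} [CommRing A] [IsLocalRing A] [CommRing T] [IsLocalRing T] [CommRing S]
  [IsLocalRing S] [HenselianLocalRing S] [Algebra A T] [IsLocalHom (algebraMap A T)] [Algebra A S]
  [IsLocalHom (algebraMap A S)]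

theorem card_le (hT : EtColim.IsEtColim A T) (hS : EtColim.IsEtColim A S)
    (ι : ResidueField T →ₐ[ResidueField A] ResidueField S) :
    ENat.card (minimalPrimes T) ≤ ENat.card (minimalPrimes S) := by
  let σ : T →ₐ[A] S ⧸ maximalIdeal S :=
    { toRingHom := ι.toRingHom.comp (residue T)
      commutes' := fun a => by
        show ι (residue T (algebraMap A T a)) = residue S (algebraMap A S a)
        rw [← ResidueField.map_residue (algebraMap A T), ← ResidueField.map_residue (algebraMap A S)]
        exact ι.commutes (residue A a) }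
  obtain ⟨τ, hτ, -⟩ := Lifting.existsUnique_algHom (J := maximalIdeal S) hT σ
  let : Algebra T S := τ.toRingHom.toAlgebra
  have : IsScalarTower A T S := IsScalarTower.of_algebraMap_eq fun a => (τ.commutes a).symm
  have hloc : IsLocalHom (algebraMap T S) := ⟨fun t ht => by
    by_contra h
    have h0 : σ t = 0 := by
      show ι (residue T t) = 0
      rw [(residue_eq_zero_iff t).mpr ((mem_maximalIdeal t).mpr h), map_zero]
    rw [← hτ] at h0
    exact ((mem_maximalIdeal _).mp (Ideal.Quotient.eq_zero_iff_mem.mp h0)) ht⟩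
  have : Module.Flat T S := (Trans.cancel hT hS).flat
  have : Module.FaithfullyFlat T S := Module.FaithfullyFlat.of_flat_of_isLocalHom
  exact BranchMore.card_minimalPrimes_le

end upper

section lower

variable {R S : Type u} [CommRing R] [CommRing S] [IsLocalRing S] [Algebra R S]

theorem exists_nbhd (hS : EtColim.IsEtColim R S) (t : Finset (minimalPrimes S)) :
    ∃ (R' : Type u) (_ : CommRing R') (_ : Algebra R R') (_ : Algebra.Etale R R') (φ : R' →ₐ[R] S),
      (t.card : ℕ∞) ≤ ENat.card (minimalPrimes (Localization.AtPrime ((maximalIdeal S).comap φ.toRingHom))) := by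
  classical
  have hy : ∀ i : t × t, ∃ y : S, i.1 ≠ i.2 → y ∈ i.1.1.1 ∧ y ∉ i.2.1.1 := fun ⟨P, Q⟩ => by
    by_cases h : P = Q
    · exact ⟨0, fun h' => absurd h h'⟩
    · have : ¬ P.1.1 ≤ Q.1.1 := fun hle =>
        h (Subtype.ext (Subtype.ext (le_antisymm hle (Q.1.2.2 P.1.2.1 hle))))
      obtain ⟨y, hy, hy'⟩ := SetLike.not_le_iff_exists.mp this
      exact ⟨y, fun _ => ⟨hy, hy'⟩⟩
  choose y hy using hy
  obtain ⟨R', _, _, hE, φ, hr⟩ := hS.rep y
  refine ⟨R', inferInstance, inferInstance, hE, φ, ?_⟩
  let q : Ideal R' := (maximalIdeal S).comap φ.toRingHom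
  let : Algebra R' S := φ.toRingHom.toAlgebra
  have : IsScalarTower R R' S := IsScalarTower.of_algebraMap_eq fun r => (φ.commutes r).symm
  have : Module.Flat R' S := (Trans.cancel (DirColim.isEtColim_self (R := R) (E := R')) hS).flat
  let T := Localization.AtPrime q
  have hmin : ∀ P : t, P.1.1.comap φ.toRingHom ∈ minimalPrimes R' := fun P => by
    have := P.1.2.1.1
    refine ⟨⟨inferInstance, bot_le⟩, fun r ⟨hr', _⟩ hle => ?_⟩
    have : P.1.1.LiesOver (P.1.1.comap φ.toRingHom) := ⟨rfl⟩
    obtain ⟨p', hp'le, hp'p, hp'c⟩ := Ideal.exists_ideal_le_liesOver_of_le (R := R') (S := S) (p := r) P.1.1 hle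
    exact (Ideal.comap_mono (P.1.2.2 ⟨hp'p, bot_le⟩ hp'le)).trans hp'c.over.ge
  have hle : ∀ P : t, P.1.1.comap φ.toRingHom ≤ q := fun P =>
    Ideal.comap_mono (le_maximalIdeal P.1.2.1.1.ne_top)
  let f : t → minimalPrimes T := fun P => ⟨(P.1.1.comap φ.toRingHom).map (algebraMap R' T), by
    have := (hmin P).1.1
    have hd : Disjoint (q.primeCompl : Set R') (P.1.1.comap φ.toRingHom : Set R') :=
      Set.disjoint_left.mpr fun x hx hx' => hx (hle P hx')
    have hc := IsLocalization.comap_map_of_isPrime_disjoint q.primeCompl T this hd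
    refine ⟨⟨IsLocalization.isPrime_of_isPrime_disjoint q.primeCompl T _ this hd, bot_le⟩, fun r ⟨hr', _⟩ hle' => ?_⟩
    conv_rhs => rw [← IsLocalization.map_comap q.primeCompl T r]
    refine Ideal.map_mono ((hmin P).2 ⟨inferInstance, bot_le⟩ ?_)
    rw [← hc]
    exact Ideal.comap_mono hle'⟩
  have hf : Function.Injective f := fun P Q e => by
    by_contra hne
    have key : ∀ X : t, ((f X).1).comap (algebraMap R' T) = X.1.1.comap φ.toRingHom := fun X =>
      IsLocalization.comap_map_of_isPrime_disjoint q.primeCompl T (hmin X).1.1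
        (Set.disjoint_left.mpr fun x hx hx' => hx (hle X hx'))
    have he : P.1.1.comap φ.toRingHom = Q.1.1.comap φ.toRingHom := by rw [← key P, ← key Q, e]
    obtain ⟨r, hr'⟩ := hr (P, Q)
    obtain ⟨h1, h2⟩ := hy (P, Q) hne
    rw [← hr'] at h1 h2
    exact h2 (show r ∈ Q.1.1.comap φ.toRingHom from he ▸ h1)
  calc (t.card : ℕ∞) = ENat.card t := by simp
    _ ≤ _ := ENat.card_le_card_of_injective hf

end lower

theorem card_le_of_finset {α : Type u} {M : ℕ∞} (h : ∀ t : Finset α, (t.card : ℕ∞) ≤ M) : ENat.card α ≤ M := by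
  classical
  cases M with
  | top => exact le_top
  | coe m =>
    rcases finite_or_infinite α with hα | hα
    · have := Fintype.ofFinite α
      simpa [ENat.card_eq_coe_fintype_card, Finset.card_univ] using h Finset.univ
    · obtain ⟨t, ht⟩ := Infinite.exists_subset_card_eq α (m + 1)
      have := h t
      rw [ht, Nat.cast_le] at this
      omega

end Groth.Agent.HensPair.BranchNbhd
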