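import Groth.Agent.Misc9.DimOneReduced

/-!
The normalization of a reduced ring with finitely many minimal primes (after Misc9.DimOneReduced,
with the noetherian hypothesis replaced by finiteness of the set of minimal primes).
-/

namespace Groth.Agent.HensPair.BranchNormal

variable (A : Type*) [CommRing A] [IsReduced A] [Finite (minimalPrimes A)]
  (Q : Type*) [CommRing Q] [Algebra A Q] [IsFractionRing A Q]

/-- The projection of the total ring of fractions to the fraction field at a minimal prime. -/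
noncomputable def proj (p : Ideal A) [p.IsPrime] (hp : p ∈ minimalPrimes A) :
    Q →ₐ[A] FractionRing (A ⧸ p) :=
  IsLocalization.liftAlgHom (M := nonZeroDivisors A) (f := Algebra.ofId A (FractionRing (A ⧸ p)))
    fun s => by
      rw [Algebra.ofId_apply, IsScalarTower.algebraMap_apply A (A ⧸ p) (FractionRing (A ⧸ p)), isUnit_iff_ne_zero, ne_eq,
        map_eq_zero_iff _ (IsFractionRing.injective (A ⧸ p) (FractionRing (A ⧸ p))),
        Ideal.Quotient.algebraMap_eq, Ideal.Quotient.eq_zero_iff_mem]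
      exact (Misc9.DimOneReduced.mem_nonZeroDivisors_iff A).1 s.2 p hp

theorem algebraMap_quotient_eq_zero (p : Ideal A) [p.IsPrime] (x : A) :
    algebraMap A (FractionRing (A ⧸ p)) x = 0 ↔ x ∈ p := by
  rw [IsScalarTower.algebraMap_apply A (A ⧸ p) (FractionRing (A ⧸ p)),
    map_eq_zero_iff _ (IsFractionRing.injective (A ⧸ p) (FractionRing (A ⧸ p))),
    Ideal.Quotient.algebraMap_eq, Ideal.Quotient.eq_zero_iff_mem]

theorem proj_injective {x : Q} (h : ∀ (p : Ideal A) [p.IsPrime] (hp : p ∈ minimalPrimes A), proj A Q p hp x = 0) :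
    x = 0 := by
  obtain ⟨a, s, rfl⟩ := IsLocalization.exists_mk'_eq (nonZeroDivisors A) x
  rw [IsLocalization.mk'_eq_zero_iff]
  refine ⟨1, ?_⟩
  rw [OneMemClass.coe_one, one_mul]
  refine Misc9.DimOneReduced.eq_zero_of_forall_mem_minimalPrimes A fun p hp => ?_
  have := hp.1.1
  have h0 : proj A Q p hp (algebraMap A Q a) = 0 := by
    rw [← IsLocalization.mk'_spec Q a s, map_mul, h p hp, zero_mul]
  rwa [AlgHom.commutes, algebraMap_quotient_eq_zero] at h0

/-- The projections are jointly surjective, supported at one minimal prime. -/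
theorem exists_proj_eq (p : Ideal A) [p.IsPrime] (hp : p ∈ minimalPrimes A) (z : FractionRing (A ⧸ p)) :
    ∃ q : Q, proj A Q p hp q = z ∧
      ∀ (p' : Ideal A) [p'.IsPrime] (hp' : p' ∈ minimalPrimes A), p' ≠ p → proj A Q p' hp' q = 0 := by
  classical
  obtain ⟨a, b, hb, rfl⟩ := IsFractionRing.div_surjective (A := A ⧸ p) z
  obtain ⟨a, rfl⟩ := Ideal.Quotient.mk_surjective a
  obtain ⟨b, rfl⟩ := Ideal.Quotient.mk_surjective b
  have hbp : b ∉ p := fun h => nonZeroDivisors.ne_zero hb (Ideal.Quotient.eq_zero_iff_mem.2 h)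
  have hfin := (Set.toFinite (minimalPrimes A))
  let S := hfin.toFinset
  have hmem : ∀ {q}, q ∈ S ↔ q ∈ minimalPrimes A := hfin.mem_toFinset
  have hsep : ∀ q ∈ S, ∃ t : A, t ∉ q ∧ ∀ r ∈ S, r ≠ q → t ∈ r := by
    intro q hq
    have hq' := hmem.1 hq
    have ht : ∀ r : {r // r ∈ S}, ∃ t : A, t ∉ q ∧ (r.1 ≠ q → t ∈ r.1) := fun r => by
      by_cases hrq : r.1 = q
      · exact ⟨1, hq'.1.1.ne_top ∘ (Ideal.eq_top_iff_one q).2, fun h => absurd hrq h⟩
      · by_contra! h
        exact hrq (le_antisymm (fun x hx => by_contra fun hxq => (h x hxq).2 hx)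
          (hq'.2 (hmem.1 r.2).1 fun x hx => by_contra fun hxq => (h x hxq).2 hx))
    choose t ht1 ht2 using ht
    refine ⟨∏ r ∈ S.attach, t r, fun h => ?_, fun r hr hrq =>
      Ideal.mem_of_dvd _ (Finset.dvd_prod_of_mem t (Finset.mem_attach _ ⟨r, hr⟩)) (ht2 ⟨r, hr⟩ hrq)⟩
    obtain ⟨r, -, hr⟩ := (hq'.1.1.prod_mem_iff).1 h
    exact ht1 r hr
  choose t ht1 ht2 using hsep
  let v : A := ∑ q ∈ S.attach.filter (fun q => q.1 ≠ p), t q.1 q.2
  let den : A := b * t p (hmem.2 hp) + v
  have hvp : v ∈ p := Ideal.sum_mem _ fun q hq => ht2 q.1 q.2 p (hmem.2 hp) (Finset.mem_filter.1 hq).2.symm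
  have hden : den ∈ nonZeroDivisors A := by
    refine (Misc9.DimOneReduced.mem_nonZeroDivisors_iff A).2 fun q hq h => ?_
    have := hq.1.1
    by_cases hqp : q = p
    · subst hqp
      rcases hq.1.1.mem_or_mem ((Ideal.add_mem_iff_left _ hvp).1 h) with h1 | h1
      exacts [hbp h1, ht1 _ _ h1]
    · have h1 : b * t p (hmem.2 hp) ∈ q := Ideal.mul_mem_left _ _ (ht2 _ _ q (hmem.2 hq) hqp)
      have h2 : v ∈ q := (Ideal.add_mem_iff_right _ h1).1 h
      have hmemf : (⟨q, hmem.2 hq⟩ : {x // x ∈ S}) ∈ S.attach.filter (fun q => q.1 ≠ p) :=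
        Finset.mem_filter.2 ⟨Finset.mem_attach _ _, hqp⟩
      simp only [v] at h2
      rw [← Finset.add_sum_erase _ _ hmemf] at h2
      refine ht1 q (hmem.2 hq) ((Ideal.add_mem_iff_left _ (Ideal.sum_mem _ fun r hr => ?_)).1 h2)
      exact ht2 r.1 r.2 q (hmem.2 hq) fun e => (Finset.mem_erase.1 hr).1 (Subtype.ext e.symm)
  let s : nonZeroDivisors A := ⟨den, hden⟩
  refine ⟨IsLocalization.mk' Q (a * t p (hmem.2 hp)) s, ?_, fun p' _ hp' hne => ?_⟩
  · have h := congrArg (proj A Q p hp) (IsLocalization.mk'_spec Q (a * t p (hmem.2 hp)) s)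
    rw [map_mul, AlgHom.commutes, AlgHom.commutes] at h
    simp only [s, den, map_add, map_mul, (algebraMap_quotient_eq_zero A p v).2 hvp, add_zero] at h
    have hb0 : algebraMap A (FractionRing (A ⧸ p)) b ≠ 0 := fun e => hbp ((algebraMap_quotient_eq_zero A p b).1 e)
    have ht0 : algebraMap A (FractionRing (A ⧸ p)) (t p (hmem.2 hp)) ≠ 0 :=
      fun e => ht1 _ _ ((algebraMap_quotient_eq_zero A p _).1 e)
    change _ = algebraMap A (FractionRing (A ⧸ p)) a / algebraMap A (FractionRing (A ⧸ p)) b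
    rw [eq_div_iff hb0]
    exact mul_right_cancel₀ ht0 (by rw [mul_assoc]; exact h)
  · have h := congrArg (proj A Q p' hp') (IsLocalization.mk'_spec Q (a * t p (hmem.2 hp)) s)
    rw [map_mul, AlgHom.commutes, AlgHom.commutes,
      (algebraMap_quotient_eq_zero A p' (a * t p (hmem.2 hp))).2 (Ideal.mul_mem_left _ _ (ht2 _ _ p' (hmem.2 hp') hne)),
      mul_eq_zero] at h
    exact h.resolve_right fun e => (Misc9.DimOneReduced.mem_nonZeroDivisors_iff A).1 hden p' hp' ((algebraMap_quotient_eq_zero A p' _).1 e)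

/-- The normalization inside the total ring of fractions has normal domains as localizations. -/
theorem isDomain_isIntegrallyClosed_localization (P : Ideal (integralClosure A Q)) [P.IsPrime] :
    IsDomain (Localization.AtPrime P) ∧ IsIntegrallyClosed (Localization.AtPrime P) := by
  classical
  let C := integralClosure A Q
  have he := fun (p : {p // p ∈ minimalPrimes A}) => @exists_proj_eq A _ _ _ Q _ _ _ p.1 p.2.1.1 p.2 1
  choose e he1 he0 using he
  have hi : ∀ p, e p * e p = e p := fun p => by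
    refine sub_eq_zero.1 (proj_injective A Q fun p' hpp hp' => ?_)
    by_cases h : p' = p.1
    · subst h
      rw [map_sub, map_mul, he1, mul_one, sub_self]
    · rw [map_sub, map_mul, he0 p p' hp' h, mul_zero, sub_self]
  have hint : ∀ p, e p ∈ C := fun p =>
    ⟨Polynomial.X ^ 2 - Polynomial.X, Polynomial.monic_X_pow_sub (Polynomial.degree_X_le.trans_lt (by norm_num)), by
      rw [Polynomial.eval₂_sub, Polynomial.eval₂_pow, Polynomial.eval₂_X, pow_two, hi, sub_self]⟩
  let ec : {p // p ∈ minimalPrimes A} → C := fun p => ⟨e p, hint p⟩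
  have hfinι : Finite {p // p ∈ minimalPrimes A} := ((Set.toFinite (minimalPrimes A))).to_subtype
  have := Fintype.ofFinite {p // p ∈ minimalPrimes A}
  have hsum : ∑ p, e p = 1 := by
    refine sub_eq_zero.1 (proj_injective A Q fun p' hpp hp' => ?_)
    rw [map_sub, map_one, map_sum, Finset.sum_eq_single (⟨p', hp'⟩ : {p // p ∈ minimalPrimes A})]
    · exact sub_eq_zero.2 (he1 ⟨p', hp'⟩)
    · exact fun q _ hq => he0 q p' hp' fun e => hq (Subtype.ext e.symm)
    · exact fun h => absurd (Finset.mem_univ _) h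
  obtain ⟨p, hp⟩ : ∃ p, ec p ∉ P := by
    by_contra! h
    refine Ideal.IsPrime.ne_top inferInstance ((Ideal.eq_top_iff_one P).2 ?_)
    have : (1 : C) = ∑ p, ec p := Subtype.ext (by rw [AddSubmonoidClass.coe_finsetSum]; exact hsum.symm)
    rw [this]
    exact Ideal.sum_mem _ fun p _ => h p
  have := p.2.1.1
  let F := FractionRing (A ⧸ p.1)
  let π : Q →ₐ[A] F := proj A Q p.1 p.2
  let ψ : C →+* F := (π.comp C.val).toRingHom
  have hψ : ∀ x : C, ψ x = 0 → ec p * x = 0 := fun x hx => by
    refine Subtype.ext (proj_injective A Q fun p' hpp hp' => ?_)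
    by_cases h : p' = p.1
    · subst h
      change proj A Q p.1 hp' (e p * (x : Q)) = 0
      rw [map_mul]
      exact mul_eq_zero_of_right _ hx
    · change proj A Q p' hp' (e p * (x : Q)) = 0
      rw [map_mul, he0 p p' hp' h, zero_mul]
  refine Misc9.DimOneReduced.isDomain_isIntegrallyClosed_atPrime ψ P (fun y hy h => ?_) (fun c hc => ⟨ec p, hp, hψ c hc⟩)
    (fun z => ?_) fun x hx => ?_
  · rcases Ideal.IsPrime.mem_or_mem inferInstance (hψ y h ▸ P.zero_mem : ec p * y ∈ P) with h2 | h2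
    exacts [hp h2, hy h2]
  · obtain ⟨a, b, -, rfl⟩ := IsFractionRing.div_surjective (A := A ⧸ p.1) z
    obtain ⟨a, rfl⟩ := Ideal.Quotient.mk_surjective a
    obtain ⟨b, rfl⟩ := Ideal.Quotient.mk_surjective b
    refine ⟨algebraMap A C a, algebraMap A C b, ?_⟩
    change π (algebraMap A Q a) / π (algebraMap A Q b) = _
    rw [AlgHom.commutes, AlgHom.commutes]
    rfl
  · let _ : Algebra C F := ψ.toAlgebra
    have : IsScalarTower A C F := IsScalarTower.of_algebraMap_eq fun a => (π.commutes a).symm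
    have : Algebra.IsIntegral A C := IsIntegralClosure.isIntegral_algebra A Q
    have hx' : IsIntegral A x := isIntegral_trans (R := A) (A := C) x hx
    obtain ⟨q, hq, hq0⟩ := exists_proj_eq A Q p.1 p.2 x
    obtain ⟨f, hf, hf0⟩ := hx'
    refine ⟨⟨q, ⟨f * Polynomial.X, hf.mul Polynomial.monic_X, ?_⟩⟩, hq⟩
    refine proj_injective A Q fun p' hpp hp' => ?_
    rw [Polynomial.eval₂_mul, Polynomial.eval₂_X, map_mul]
    by_cases h : p' = p.1
    · subst h
      refine mul_eq_zero_of_left ?_ _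
      rw [← Polynomial.aeval_def, ← Polynomial.aeval_algHom_apply, Polynomial.aeval_def, hq]
      exact hf0
    · exact mul_eq_zero_of_right _ (hq0 p' hp' h)
end Groth.Agent.HensPair.BranchNormal
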