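import Groth.Agent.HensPair.BranchNbhd
import Groth.Prelude.Def_Hens2
import Mathlib.AlgebraicGeometry.Morphisms.Etale
import Mathlib.AlgebraicGeometry.ResidueField

/-!
Branches of a scheme at a point through etale neighbourhoods.
-/

set_option autoImplicit false

noncomputable section

open CategoryTheory AlgebraicGeometry IsLocalRing TopologicalSpace

namespace Groth.Agent.HensPair.BranchScheme

universe u

set_option backward.isDefEq.respectTransparency false

open HensPoint

theorem isEtColim_isLocalization {R A : Type u} [CommRing R] [CommRing A] [Algebra R A] (M : Submonoid R)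
    [IsLocalization M A] : EtColim.IsEtColim R A := by
  let e := IsLocalization.algEquiv M (Localization M) A
  let : Algebra (Localization M) A := e.toRingEquiv.toRingHom.toAlgebra
  have : IsScalarTower R (Localization M) A := IsScalarTower.of_algebraMap_eq fun r => (e.commutes r).symm
  have : Algebra.Etale (Localization M) A :=
    Algebra.Etale.of_equiv (AlgEquiv.ofBijective (Algebra.ofId (Localization M) A) e.bijective)
  exact HensPoint.Trans.trans (EtColimLoc.isEtColim_localization M) DirColim.isEtColim_self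

theorem card_components (U : Scheme.{u}) (u : U) :
    {Z : Set ↑U | Z ∈ irreducibleComponents ↑U ∧ u ∈ Z}.encard =
      ENat.card (minimalPrimes (U.presheaf.stalk u)) := by
  let f := U.fromSpecStalk u
  have hr : ∀ y : U, y ⤳ u → ∃ P, f P = y := fun y hy => by
    have : y ∈ Set.range f := by rw [Scheme.range_fromSpecStalk]; exact hy
    exact this
  have hu : ∀ P, f P ⤳ u := fun P => by
    have : f P ∈ Set.range f := ⟨P, rfl⟩
    rwa [Scheme.range_fromSpecStalk] at this
  have hind := f.isEmbedding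
  have hle : ∀ P Q : Spec (U.presheaf.stalk u), f P ⤳ f Q → P.asIdeal ≤ Q.asIdeal := fun P Q h =>
    (PrimeSpectrum.le_iff_specializes P Q).mpr (hind.toIsInducing.specializes_iff.mp h)
  let F : minimalPrimes (U.presheaf.stalk u) → {Z : Set ↑U | Z ∈ irreducibleComponents ↑U ∧ u ∈ Z} :=
    fun P => ⟨closure {f ⟨P.1, P.2.1.1⟩}, by
      refine ⟨⟨isIrreducible_singleton.closure, fun Z hZ hle' => ?_⟩, (hu _).mem_closure⟩
      have hz : (hZ.closure).genericPoint ⤳ f ⟨P.1, P.2.1.1⟩ :=
        (hZ.closure.isGenericPoint_genericPoint isClosed_closure).specializes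
          (subset_closure (hle' (subset_closure (Set.mem_singleton _))))
      obtain ⟨Q, hQ⟩ := hr _ (hz.trans (hu _))
      rw [← hQ] at hz
      have he : Q = (⟨P.1, P.2.1.1⟩ : Spec (U.presheaf.stalk u)) :=
        PrimeSpectrum.ext (le_antisymm (hle _ _ hz) (P.2.2 ⟨Q.isPrime, bot_le⟩ (hle _ _ hz)))
      have hg := (hZ.closure.isGenericPoint_genericPoint isClosed_closure).def
      rw [← hQ, he] at hg
      rw [hg]
      exact subset_closure⟩
  have hF : Function.Bijective F := by
    refine ⟨fun P Q e => ?_, fun ⟨Z, hZ, huZ⟩ => ?_⟩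
    · have h : IsGenericPoint (f ⟨P.1, P.2.1.1⟩) (closure {f ⟨Q.1, Q.2.1.1⟩}) := congrArg Subtype.val e
      exact Subtype.ext (congrArg PrimeSpectrum.asIdeal (hind.injective (h.eq isGenericPoint_closure)))
    · have hcl := isClosed_of_mem_irreducibleComponents Z hZ
      have hgen : IsGenericPoint hZ.1.genericPoint Z := hZ.1.isGenericPoint_genericPoint hcl
      obtain ⟨P, hP⟩ := hr _ (hgen.specializes huZ)
      have hmin : P.asIdeal ∈ minimalPrimes (U.presheaf.stalk u) := by
        refine ⟨⟨P.isPrime, bot_le⟩, fun J ⟨hJ, _⟩ hJP => ?_⟩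
        have hsp : f ⟨J, hJ⟩ ⤳ hZ.1.genericPoint := by
          rw [← hP]
          exact ((PrimeSpectrum.le_iff_specializes (⟨J, hJ⟩ : Spec (U.presheaf.stalk u)) P).mp hJP).map f.continuous
        have hsub : Z ⊆ closure {f ⟨J, hJ⟩} := by
          rw [← hgen.def]
          exact closure_minimal (Set.singleton_subset_iff.mpr hsp.mem_closure) isClosed_closure
        have heq : closure {f ⟨J, hJ⟩} = Z := le_antisymm (hZ.2 isIrreducible_singleton.closure hsub) hsub
        have h : IsGenericPoint (f ⟨J, hJ⟩) Z := heq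
        exact (congrArg PrimeSpectrum.asIdeal (hind.injective ((h.eq hgen).trans hP.symm))).ge
      exact ⟨⟨P.asIdeal, hmin⟩, Subtype.ext (by show closure {f P} = Z; rw [hP]; exact hgen.def)⟩
  exact (ENat.card_congr (Equiv.ofBijective F hF)).symm

section upper

variable {X U : Scheme.{u}} (g : U ⟶ X) [Etale g] (u : U)

theorem stalk_etColim :
    letI := (g.stalkMap u).hom.toAlgebra
    EtColim.IsEtColim (X.presheaf.stalk (g u)) (U.presheaf.stalk u) ∧
      letI : IsLocalHom (algebraMap (X.presheaf.stalk (g u)) (U.presheaf.stalk u)) :=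
        inferInstanceAs (IsLocalHom (g.stalkMap u).hom)
      Algebra.IsSeparable (ResidueField (X.presheaf.stalk (g u))) (ResidueField (U.presheaf.stalk u)) := by
  obtain ⟨_, ⟨W, hW, rfl⟩, hxW, -⟩ :=
    X.isBasis_affineOpens.exists_subset_of_mem_open (Set.mem_univ (g u)) isOpen_univ
  obtain ⟨_, ⟨V, hV, rfl⟩, huV, hVW⟩ :=
    U.isBasis_affineOpens.exists_subset_of_mem_open hxW (W.2.preimage g.continuous)
  let V : U.Opens := V
  let W : X.Opens := W
  let A := X.presheaf.stalk (g u)
  let T := U.presheaf.stalk u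
  let : Algebra A T := (g.stalkMap u).hom.toAlgebra
  have : IsLocalHom (algebraMap A T) := inferInstanceAs (IsLocalHom (g.stalkMap u).hom)
  have hE := g.etale_appLE hW hV hVW
  algebraize [(g.appLE W V hVW).hom]
  let := X.presheaf.algebra_section_stalk ⟨g u, hxW⟩
  let := U.presheaf.algebra_section_stalk ⟨u, huV⟩
  have := hW.isLocalization_stalk ⟨g u, hxW⟩
  have := hV.isLocalization_stalk ⟨u, huV⟩
  let : Algebra Γ(X, W) T := ((algebraMap Γ(U, V) T).comp (algebraMap Γ(X, W) Γ(U, V))).toAlgebra
  have : IsScalarTower Γ(X, W) Γ(U, V) T := IsScalarTower.of_algebraMap_eq fun _ => rfl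
  have : IsScalarTower Γ(X, W) A T := IsScalarTower.of_algebraMap_eq fun a => by
    show U.presheaf.germ V u huV (g.appLE W V hVW a) = g.stalkMap u (X.presheaf.germ W (g u) hxW a)
    rw [Scheme.Hom.germ_stalkMap_apply, Scheme.Hom.appLE, CategoryTheory.comp_apply,
      U.presheaf.germ_res_apply]
  have hA : EtColim.IsEtColim Γ(X, W) A :=
    isEtColim_isLocalization (hW.primeIdealOf ⟨g u, hxW⟩).asIdeal.primeCompl
  have hT : EtColim.IsEtColim Γ(X, W) T :=
    HensPoint.Trans.trans (DirColim.isEtColim_self (R := Γ(X, W)) (E := Γ(U, V)))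
      (isEtColim_isLocalization (hV.primeIdealOf ⟨u, huV⟩).asIdeal.primeCompl)
  refine ⟨HensPoint.Trans.cancel hA hT, ?_⟩
  have : Algebra.FormallyUnramified Γ(U, V) T :=
    Algebra.FormallyUnramified.of_isLocalization (hV.primeIdealOf ⟨u, huV⟩).asIdeal.primeCompl
  have : Algebra.FormallyUnramified Γ(X, W) T := Algebra.FormallyUnramified.comp _ Γ(U, V) T
  have : Algebra.FormallyUnramified A T := Algebra.FormallyUnramified.of_restrictScalars Γ(X, W) A T
  have : Algebra.EssFiniteType Γ(U, V) T :=
    Algebra.EssFiniteType.of_isLocalization T (hV.primeIdealOf ⟨u, huV⟩).asIdeal.primeCompl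
  have : Algebra.EssFiniteType Γ(X, W) T := Algebra.EssFiniteType.comp _ Γ(U, V) T
  have : Algebra.EssFiniteType A T := Algebra.EssFiniteType.of_comp Γ(X, W) A T
  exact inferInstance

theorem le_numGeomBranchesAt :
    {Z : Set ↑U | Z ∈ irreducibleComponents ↑U ∧ u ∈ Z}.encard ≤ Brnch.numGeomBranchesAt X (g u) := by
  rw [card_components]
  let A := X.presheaf.stalk (g u)
  let : Algebra A (U.presheaf.stalk u) := (g.stalkMap u).hom.toAlgebra
  have : IsLocalHom (algebraMap A (U.presheaf.stalk u)) := inferInstanceAs (IsLocalHom (g.stalkMap u).hom)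
  obtain ⟨hT, hsep⟩ := stalk_etColim g u
  have hs := Strict.isStrictHenselization (R := A)
  have := hs.henselian
  have : IsSepClosed (ResidueField (Strict.Sh A)) := hs.isSepClosure.1
  show _ ≤ Brnch.numGeomBranches A
  rw [← Branches.card_minimalPrimes_strict A (Strict.Sh A)]
  exact BranchNbhd.card_le hT StrictProps.strict IsSepClosed.lift

theorem le_numBranchesAt (hbij : Function.Bijective (g.residueFieldMap u)) :
    {Z : Set ↑U | Z ∈ irreducibleComponents ↑U ∧ u ∈ Z}.encard ≤ Brnch.numBranchesAt X (g u) := by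
  rw [card_components]
  let A := X.presheaf.stalk (g u)
  let : Algebra A (U.presheaf.stalk u) := (g.stalkMap u).hom.toAlgebra
  have : IsLocalHom (algebraMap A (U.presheaf.stalk u)) := inferInstanceAs (IsLocalHom (g.stalkMap u).hom)
  obtain ⟨hT, -⟩ := stalk_etColim g u
  have hh := StrictProps.isHenselization_hull (R := A)
  have := hh.henselian
  let e := AlgEquiv.ofBijective (Algebra.ofId (ResidueField A) (ResidueField (U.presheaf.stalk u))) hbij
  show _ ≤ Brnch.numBranches A
  rw [← Branches.card_minimalPrimes_hens A (Hull.H A (ResidueField A))]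
  exact BranchNbhd.card_le hT StrictProps.hens ((Algebra.ofId _ _).comp e.symm.toAlgHom)

end upper

section lower

variable {R R' : CommRingCat.{u}} (φ : R ⟶ R') (q : PrimeSpectrum R')

theorem residueFieldMap_bijective
    (h : ∀ r : R', ∃ a b : R, φ b ∉ q.asIdeal ∧ φ b * r - φ a ∈ q.asIdeal) :
    Function.Bijective ((Spec.map φ).residueFieldMap q) := by
  refine ⟨RingHom.injective _, ?_⟩
  let ev : R' →+* (Spec R').residueField q :=
    ((Scheme.ΓSpecIso R').inv ≫ (Spec R').presheaf.germ ⊤ q trivial ≫ (Spec R').residue q).hom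
  let F := ((Spec.map φ).residueFieldMap q).hom
  let K := F.fieldRange
  have hφ : ∀ a : R, ev (φ a) ∈ K := fun a => by
    refine ⟨(Spec R).Γevaluation (Spec.map φ q) ((Scheme.ΓSpecIso R).inv a), ?_⟩
    refine (Scheme.Γevaluation_naturality_apply (Spec.map φ) q _).trans ?_
    rw [show (Spec.map φ).appTop ((Scheme.ΓSpecIso R).inv a) = (Scheme.ΓSpecIso R').inv (φ a) from
      (ConcreteCategory.congr_hom (Scheme.ΓSpecIso_inv_naturality φ) a).symm]
    rfl
  have hev : ∀ r : R', ev r = (Scheme.Spec.residueFieldIso R' q).inv (algebraMap R' q.asIdeal.ResidueField r) :=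
    fun r => (ConcreteCategory.congr_hom (Scheme.Spec.algebraMap_residueFieldIso_inv R' q) r).symm
  have hev0 : ∀ r : R', ev r = 0 ↔ r ∈ q.asIdeal := fun r => by
    rw [hev, map_eq_zero, Ideal.algebraMap_residueField_eq_zero]
  have hr : ∀ r : R', ev r ∈ K := fun r => by
    obtain ⟨a, b, hb, hab⟩ := h r
    have h1 : ev (φ b) * ev r = ev (φ a) := by
      rw [← map_mul, ← sub_eq_zero, ← map_sub, hev0]; exact hab
    have hb' : ev (φ b) ≠ 0 := fun h0 => hb ((hev0 _).mp h0)
    have : ev r = ev (φ a) / ev (φ b) := by rw [eq_div_iff hb', mul_comm, h1]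
    rw [this]
    exact div_mem (hφ a) (hφ b)
  intro z
  obtain ⟨a, b, -, hab⟩ := IsFractionRing.div_surjective (A := R' ⧸ q.asIdeal)
    ((Scheme.Spec.residueFieldIso R' q).hom z)
  obtain ⟨a, rfl⟩ := Ideal.Quotient.mk_surjective a
  obtain ⟨b, rfl⟩ := Ideal.Quotient.mk_surjective b
  have : z = ev a / ev b := by
    rw [hev, hev, ← map_div₀, show algebraMap R' q.asIdeal.ResidueField a = algebraMap (R' ⧸ q.asIdeal) _
      (Ideal.Quotient.mk _ a) from rfl, show algebraMap R' q.asIdeal.ResidueField b =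
      algebraMap (R' ⧸ q.asIdeal) _ (Ideal.Quotient.mk _ b) from rfl, hab]
    exact (ConcreteCategory.congr_hom (Scheme.Spec.residueFieldIso R' q).hom_inv_id z).symm
  rw [this]
  exact div_mem (hr a) (hr b)

theorem card_stalk_Spec :
    ENat.card (minimalPrimes ((Spec R').presheaf.stalk q)) =
      ENat.card (minimalPrimes (Localization.AtPrime q.asIdeal)) := by
  let e := (Spec.stalkIso R' q).commRingCatIsoToRingEquiv
  have h := fun (f : (Spec R').presheaf.stalk q →+* Localization.AtPrime q.asIdeal) (hf : Function.Bijective f) =>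
    Branches.card_minimalPrimes_of_surjective f hf.2
  refine (h e.toRingHom e.bijective ?_).symm
  intro y hy
  rw [show y = 0 from e.injective (Eq.trans hy (map_zero e).symm)]
  exact zero_mem _

end lower

variable (X : Scheme.{u}) (x : X)

theorem exists_le (S : Type u) [CommRing S] [IsLocalRing S] [Algebra (X.presheaf.stalk x) S]
    [IsLocalHom (algebraMap (X.presheaf.stalk x) S)] (hS : EtColim.IsEtColim (X.presheaf.stalk x) S)
    (t : Finset (minimalPrimes S)) :
    ∃ (U : Scheme.{u}) (g : U ⟶ X) (u : U), Etale g ∧ g u = x ∧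
      (Function.Bijective (ResidueField.map (algebraMap (X.presheaf.stalk x) S)) →
        Function.Bijective (g.residueFieldMap u)) ∧
      (t.card : ℕ∞) ≤ {Z : Set ↑U | Z ∈ irreducibleComponents ↑U ∧ u ∈ Z}.encard := by
  obtain ⟨_, ⟨W, hW, rfl⟩, hxW, -⟩ :=
    X.isBasis_affineOpens.exists_subset_of_mem_open (Set.mem_univ x) isOpen_univ
  let W : X.Opens := W
  let A := X.presheaf.stalk x
  let R := Γ(X, W)
  let p := (hW.primeIdealOf ⟨x, hxW⟩)
  let := X.presheaf.algebra_section_stalk ⟨x, hxW⟩
  have hloc : IsLocalization p.asIdeal.primeCompl A := hW.isLocalization_stalk ⟨x, hxW⟩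
  let : Algebra R S := ((algebraMap A S).comp (algebraMap R A)).toAlgebra
  have : IsScalarTower R A S := IsScalarTower.of_algebraMap_eq fun _ => rfl
  have hRS : EtColim.IsEtColim R S := HensPoint.Trans.trans (isEtColim_isLocalization p.asIdeal.primeCompl) hS
  have hp : ∀ a : R, algebraMap R S a ∈ maximalIdeal S ↔ a ∈ p.asIdeal := fun a => by
    rw [IsScalarTower.algebraMap_apply R A S, ← Ideal.mem_comap, maximalIdeal_comap,
      IsLocalization.AtPrime.to_map_mem_maximal_iff A p.asIdeal]
  obtain ⟨R', _, _, _, ψ, hcard⟩ := BranchNbhd.exists_nbhd hRS t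
  let φ : R ⟶ CommRingCat.of R' := CommRingCat.ofHom (algebraMap R R')
  let q : PrimeSpectrum R' := ⟨(maximalIdeal S).comap ψ.toRingHom, inferInstance⟩
  have hE : Etale (Spec.map φ) :=
    HasRingHomProperty.Spec_iff.mpr (RingHom.etale_algebraMap.mpr inferInstance)
  refine ⟨Spec (CommRingCat.of R'), Spec.map φ ≫ hW.fromSpec, q, inferInstance, ?_, fun hbij => ?_, ?_⟩
  · have : Spec.map φ q = p := PrimeSpectrum.ext (Ideal.ext fun a => by
      show ψ (algebraMap R R' a) ∈ maximalIdeal S ↔ _
      rw [ψ.commutes, hp])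
    rw [Scheme.Hom.comp_apply, this]
    exact hW.fromSpec_primeIdealOf ⟨x, hxW⟩
  · rw [Scheme.residueFieldMap_comp]
    show Function.Bijective (((Spec.map φ).residueFieldMap q).hom ∘ (hW.fromSpec.residueFieldMap (Spec.map φ q)).hom)
    refine Function.Bijective.comp (residueFieldMap_bijective φ q fun r => ?_)
      (ConcreteCategory.bijective_of_isIso (hW.fromSpec.residueFieldMap (Spec.map φ q)))
    obtain ⟨z, hz⟩ := hbij.2 (residue S (ψ r))
    obtain ⟨y, rfl⟩ := residue_surjective z
    obtain ⟨a, b, rfl⟩ := IsLocalization.exists_mk'_eq p.asIdeal.primeCompl y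
    rw [ResidueField.map_residue, eq_comm] at hz
    refine ⟨a, b.1, ?_, ?_⟩
    · show ¬ ψ (algebraMap R R' b.1) ∈ maximalIdeal S
      rw [ψ.commutes, hp]
      exact b.2
    · show ψ (algebraMap R R' b.1 * r - algebraMap R R' a) ∈ maximalIdeal S
      rw [← residue_eq_zero_iff, map_sub, map_mul, ψ.commutes, ψ.commutes, map_sub, map_mul, hz, ← map_mul,
        sub_eq_zero, IsScalarTower.algebraMap_apply R A S, IsScalarTower.algebraMap_apply R A S, ← map_mul,
        IsLocalization.mk'_spec']
  · rw [card_components, card_stalk_Spec]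
    exact hcard

theorem numGeomBranchesAt_eq :
    Brnch.numGeomBranchesAt X x = ⨆ (U : Scheme.{u}) (g : U ⟶ X) (u : U) (_ : Etale g ∧ g u = x),
      {Z : Set ↑U | Z ∈ irreducibleComponents ↑U ∧ u ∈ Z}.encard := by
  refine le_antisymm ?_ (iSup_le fun U => iSup_le fun g => iSup_le fun u => iSup_le fun h => ?_)
  · let A := X.presheaf.stalk x
    have := Strict.isStrictHenselization (R := A)
    show Brnch.numGeomBranches A ≤ _
    rw [← Branches.card_minimalPrimes_strict A (Strict.Sh A)]
    refine BranchNbhd.card_le_of_finset fun t => ?_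
    obtain ⟨U, g, u, hg, hgu, -, hcard⟩ := exists_le X x (Strict.Sh A) StrictProps.strict t
    exact hcard.trans (le_iSup_of_le U (le_iSup_of_le g (le_iSup_of_le u (le_iSup_of_le ⟨hg, hgu⟩ le_rfl))))
  · obtain ⟨hg, rfl⟩ := h
    exact le_numGeomBranchesAt g u

theorem numBranchesAt_eq :
    Brnch.numBranchesAt X x = ⨆ (U : Scheme.{u}) (g : U ⟶ X) (u : U) (_ : Hens2.IsEtaleNbhd g u x),
      {Z : Set ↑U | Z ∈ irreducibleComponents ↑U ∧ u ∈ Z}.encard := by
  refine le_antisymm ?_ (iSup_le fun U => iSup_le fun g => iSup_le fun u => iSup_le fun h => ?_)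
  · let A := X.presheaf.stalk x
    have := StrictProps.isHenselization_hull (R := A)
    show Brnch.numBranches A ≤ _
    rw [← Branches.card_minimalPrimes_hens A (Hull.H A (ResidueField A))]
    refine BranchNbhd.card_le_of_finset fun t => ?_
    obtain ⟨U, g, u, hg, hgu, hb, hcard⟩ := exists_le X x (Hull.H A (ResidueField A)) StrictProps.hens t
    exact hcard.trans (le_iSup_of_le U (le_iSup_of_le g (le_iSup_of_le u (le_iSup_of_le
      ⟨hg, hgu, hb LocalFacts.residue_bijective⟩ le_rfl))))
  · obtain ⟨hg, hgu, hb⟩ := h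
    subst hgu
    exact le_numBranchesAt g u hb

theorem one_le_card {U : Scheme.{u}} (u : U) :
    1 ≤ {Z : Set ↑U | Z ∈ irreducibleComponents ↑U ∧ u ∈ Z}.encard :=
  Set.one_le_encard_iff_nonempty.mpr ⟨_, irreducibleComponent_mem_irreducibleComponents u, mem_irreducibleComponent⟩

theorem isUnibranch_iff :
    CAlg2.IsUnibranch ↑(X.presheaf.stalk x) ↔ ∀ (U : Scheme.{u}) (g : U ⟶ X) (u : U), Hens2.IsEtaleNbhd g u x →
      {Z : Set ↑U | Z ∈ irreducibleComponents ↑U ∧ u ∈ Z}.encard = 1 := by
  rw [← BranchUnibranch.numBranches_eq_one_iff]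
  have h := numBranchesAt_eq X x
  rw [show Brnch.numBranchesAt X x = Brnch.numBranches (X.presheaf.stalk x) from rfl] at h
  rw [h]
  refine ⟨fun h U g u hu => le_antisymm (h ▸ le_iSup_of_le U (le_iSup_of_le g (le_iSup_of_le u
    (le_iSup_of_le hu le_rfl)))) (one_le_card u), fun h => le_antisymm (iSup_le fun U => iSup_le fun g =>
    iSup_le fun u => iSup_le fun hu => (h U g u hu).le) ?_⟩
  exact le_iSup_of_le X (le_iSup_of_le (𝟙 X) (le_iSup_of_le x (le_iSup_of_le
    ⟨inferInstance, rfl, by rw [Scheme.residueFieldMap_id]; exact Function.bijective_id⟩ (one_le_card x))))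

theorem isGeomUnibranch_iff :
    CAlg2.IsGeomUnibranch ↑(X.presheaf.stalk x) ↔ ∀ (U : Scheme.{u}) (g : U ⟶ X) (u : U), Etale g → g u = x →
      {Z : Set ↑U | Z ∈ irreducibleComponents ↑U ∧ u ∈ Z}.encard = 1 := by
  rw [← BranchUnibranch.numGeomBranches_eq_one_iff]
  have h := numGeomBranchesAt_eq X x
  rw [show Brnch.numGeomBranchesAt X x = Brnch.numGeomBranches (X.presheaf.stalk x) from rfl] at h
  rw [h]
  refine ⟨fun h U g u hg hu => le_antisymm (h ▸ le_iSup_of_le U (le_iSup_of_le g (le_iSup_of_le u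
    (le_iSup_of_le ⟨hg, hu⟩ le_rfl)))) (one_le_card u), fun h => le_antisymm (iSup_le fun U => iSup_le fun g =>
    iSup_le fun u => iSup_le fun hu => (h U g u hu.1 hu.2).le) ?_⟩
  exact le_iSup_of_le X (le_iSup_of_le (𝟙 X) (le_iSup_of_le x (le_iSup_of_le
    ⟨inferInstance, rfl⟩ (one_le_card x))))

end Groth.Agent.HensPair.BranchScheme
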