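import Groth.Agent.Hensel.Decomp
import Groth.Agent.HensPair.Basic
import Groth.Agent.HensPair.Local
import Groth.Agent.HensPair.Radical
import Mathlib.FieldTheory.PurelyInseparable.Basic

/-!
Algebras integral over henselian local rings.
-/

set_option autoImplicit false

open IsLocalRing

namespace Groth.Agent.HensPair.Integral

universe u

variable {A B : Type u} [CommRing A] [CommRing B] [Algebra A B]

theorem isLocalRing_of_isDomain [HenselianLocalRing A] [IsDomain B] [Algebra.IsIntegral A B] :
    IsLocalRing B := by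
  classical
  obtain ⟨M, hM⟩ := Ideal.exists_maximal B
  refine IsLocalRing.of_unique_max_ideal ⟨M, hM, fun N hN => ?_⟩
  by_contra hne
  obtain ⟨x, hxM, hxN⟩ := SetLike.not_le_iff_exists.mp fun h : M ≤ N =>
    hne (hM.eq_of_le hN.ne_top h).symm
  let C := Algebra.adjoin A ({x} : Set B)
  have : Module.Finite A C := ⟨(Submodule.fg_top _).mpr
    (IsIntegral.fg_adjoin_singleton (Algebra.IsIntegral.isIntegral x))⟩
  have : Algebra.IsIntegral C B := Algebra.IsIntegral.tower_top A
  obtain ⟨_, e, hc, he⟩ := Hensel.Decomp.exists_finite_decomposition (R := A) (S := C)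
  let M' : MaximalSpectrum C := ⟨_, Ideal.isMaximal_comap_of_isIntegral_of_isMaximal (R := C) M⟩
  let N' : MaximalSpectrum C := ⟨_, Ideal.isMaximal_comap_of_isIntegral_of_isMaximal (R := C) N⟩
  have hMN : M' ≠ N' := fun h => hxN (by
    have h1 : (⟨x, Algebra.self_mem_adjoin_singleton A x⟩ : C) ∈ M'.asIdeal := hxM
    rw [h] at h1
    exact h1)
  rcases IsIdempotentElem.iff_eq_zero_or_one.mp (hc.idem M') with h | h
  · exact (he M' M').mpr rfl (h ▸ zero_mem _)
  · exact hMN ((he M' N').mp (h ▸ fun h1 => N'.isMaximal.ne_top ((Ideal.eq_top_iff_one _).mpr h1)))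

theorem isLocalHom [IsLocalRing A] [IsLocalRing B] [Algebra.IsIntegral A B] :
    IsLocalHom (algebraMap A B) :=
  ((local_hom_TFAE (algebraMap A B)).out 0 4).mpr
    (eq_maximalIdeal (Ideal.isMaximal_comap_of_isIntegral_of_isMaximal (R := A) (maximalIdeal B)))

theorem henselianLocalRing [HenselianLocalRing A] [IsLocalRing B] [Algebra.IsIntegral A B] :
    HenselianLocalRing B := by
  have h := Basic.henselian_of_isIntegral (I := maximalIdeal A) B
  refine Local.henselianLocalRing (Radical.henselian_of_radical_eq h ?_)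
  have := isLocalHom (A := A) (B := B)
  refine le_antisymm (Ideal.radical_mono (((local_hom_TFAE (algebraMap A B)).out 0 2).mp this)) ?_
  rw [(maximalIdeal.isMaximal B).isPrime.radical, Ideal.radical_eq_sInf]
  refine le_sInf fun P ⟨hP, hPp⟩ => ?_
  have : (P.comap (algebraMap A B)).IsMaximal := by
    rw [← (maximalIdeal.isMaximal A).eq_of_le (Ideal.comap_ne_top _ hPp.ne_top)
      (Ideal.map_le_iff_le_comap.mp hP)]
    exact maximalIdeal.isMaximal A
  exact (eq_maximalIdeal (Ideal.isMaximal_of_isIntegral_of_isMaximal_comap P this)).ge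

theorem residue_facts [IsLocalRing A] [IsLocalRing B] [Algebra.IsIntegral A B]
    [IsLocalHom (algebraMap A B)] [IsSepClosed (ResidueField A)] :
    IsSepClosed (ResidueField B) ∧
      IsPurelyInseparable (ResidueField A) (ResidueField B) := by
  have : Algebra.IsIntegral (ResidueField A) (ResidueField B) :=
    have : Algebra.IsIntegral A (ResidueField B) := Algebra.IsIntegral.trans B
    Algebra.IsIntegral.tower_top A
  have : Algebra.IsAlgebraic (ResidueField A) (ResidueField B) := Algebra.IsIntegral.isAlgebraic
  exact ⟨Algebra.IsAlgebraic.isSepClosed (F := ResidueField A), inferInstance⟩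

end Groth.Agent.HensPair.Integral
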