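import Groth.Prelude.Def_Brnch
import Groth.Agent.HensPair.BranchNormal
import Groth.Agent.HensPair.Integral
import Groth.Agent.HensPair.LocalFacts
import Groth.Agent.HensPoint.EtColimBC
import Groth.Agent.HensPoint.EtColimLoc
import Groth.Agent.HensPoint.Normal
import Groth.Agent.HensPoint.StrictProps

/-!
Minimal primes of (strict) henselizations and branches.
-/

set_option autoImplicit false

noncomputable section

open IsLocalRing
open scoped TensorProduct

namespace Groth.Agent.HensPair.Branches

universe u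

attribute [local instance] Algebra.TensorProduct.rightAlgebra

section general

theorem card_minimalPrimes_localization {R T : Type u} [CommRing R] [CommRing T] [Algebra R T]
    (M : Submonoid R) [IsLocalization M T] (hinj : Function.Injective (algebraMap R T)) :
    ENat.card (minimalPrimes T) = ENat.card (minimalPrimes R) := by
  have h := IsLocalization.minimalPrimes_comap (R := R) (A := T) M (⊥ : Ideal T)
  have h0 : (⊥ : Ideal T).comap (algebraMap R T) = ⊥ := by
    rw [← RingHom.ker_eq_comap_bot]
    exact (RingHom.injective_iff_ker_eq_bot _).mp hinj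
  rw [h0] at h
  have hI : Set.InjOn (Ideal.comap (algebraMap R T)) (minimalPrimes T) := fun P _ Q _ e => by
    rw [← IsLocalization.map_comap M T P, ← IsLocalization.map_comap M T Q]
    exact congrArg (Ideal.map (algebraMap R T)) e
  show Set.encard (minimalPrimes T) = Set.encard (minimalPrimes R)
  rw [← hI.encard_image]
  exact congrArg Set.encard h.symm

theorem card_minimalPrimes_of_surjective {R T : Type u} [CommRing R] [CommRing T] (f : R →+* T)
    (hf : Function.Surjective f) (hker : RingHom.ker f ≤ nilradical R) :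
    ENat.card (minimalPrimes T) = ENat.card (minimalPrimes R) := by
  have h := Ideal.comap_minimalPrimes_eq_of_surjective hf (⊥ : Ideal T)
  have h0 : ((⊥ : Ideal T).comap f).minimalPrimes = minimalPrimes R := by
    rw [← RingHom.ker_eq_comap_bot, ← Ideal.radical_minimalPrimes]
    have : (RingHom.ker f).radical = (⊥ : Ideal R).radical :=
      le_antisymm ((Ideal.radical_mono hker).trans (Ideal.radical_idem _).le) (Ideal.radical_mono bot_le)
    rw [this, Ideal.radical_minimalPrimes]
  rw [h0] at h
  have hI : Set.InjOn (Ideal.comap f) (minimalPrimes T) := fun P _ Q _ e =>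
    Ideal.comap_injective_of_surjective f hf e
  show Set.encard (minimalPrimes T) = Set.encard (minimalPrimes R)
  rw [← hI.encard_image]
  exact congrArg Set.encard h.symm

theorem isIntegral_right {A C S : Type u} [CommRing A] [CommRing C] [CommRing S] [Algebra A C]
    [Algebra A S] [Algebra.IsIntegral A C] : Algebra.IsIntegral S (C ⊗[A] S) := by
  have : IsScalarTower A S (C ⊗[A] S) := IsScalarTower.of_algebraMap_eq fun a => by
    show algebraMap A C a ⊗ₜ[A] (1 : S) = (1 : C) ⊗ₜ[A] algebraMap A S a
    rw [Algebra.algebraMap_eq_smul_one, Algebra.algebraMap_eq_smul_one, TensorProduct.smul_tmul]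
  exact ⟨fun x => by
    induction x with
    | zero => exact isIntegral_zero
    | add x y hx hy => exact hx.add hy
    | tmul b c =>
      have h1 : IsIntegral S ((b ⊗ₜ[A] (1 : S)) : C ⊗[A] S) :=
        ((Algebra.IsIntegral.isIntegral (R := A) b).map
          (Algebra.TensorProduct.includeLeft : C →ₐ[A] C ⊗[A] S)).tower_top
      have h2 : IsIntegral S ((1 : C) ⊗ₜ[A] c) :=
        isIntegral_algebraMap (R := S) (A := C ⊗[A] S) (x := c)
      simpa using h1.mul h2⟩

/-- normal ring integral over a henselian base after base change: maximal ideals = minimal primes -/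
theorem minimal_maximal_facts {A C S : Type u} [CommRing A] [CommRing C] [CommRing S]
    [Algebra A C] [Algebra A S] [Algebra.IsIntegral A C] [HenselianLocalRing S]
    (hS : HensPoint.EtColim.IsEtColim A S)
    (hC : ∀ (M : Ideal C) [M.IsPrime], IsDomain (Localization.AtPrime M) ∧ IsIntegrallyClosed (Localization.AtPrime M)) :
    (∀ N : MaximalSpectrum (C ⊗[A] S), ∃! P : minimalPrimes (C ⊗[A] S), P.1 ≤ N.asIdeal) ∧
      (∀ P : minimalPrimes (C ⊗[A] S), ∃! N : MaximalSpectrum (C ⊗[A] S), P.1 ≤ N.asIdeal) := by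
  have : Algebra.IsIntegral S (C ⊗[A] S) := isIntegral_right
  have hB : HensPoint.EtColim.IsEtColim C (C ⊗[A] S) := HensPoint.EtColimBC.baseChange hS
  have hdom : ∀ (N : Ideal (C ⊗[A] S)) [N.IsPrime], IsDomain (Localization.AtPrime N) := by
    intro N _
    let M : Ideal C := N.comap (algebraMap C (C ⊗[A] S))
    obtain ⟨hd, hn⟩ := hC M
    have : N.LiesOver M := ⟨rfl⟩
    let : Algebra (Localization.AtPrime M) (Localization.AtPrime N) := Localization.AtPrime.algebraOfLiesOver M N
    have hloc : IsLocalHom (algebraMap (Localization.AtPrime M) (Localization.AtPrime N)) := ⟨fun a ha => by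
      obtain ⟨b, s, rfl⟩ := IsLocalization.exists_mk'_eq M.primeCompl a
      rw [IsLocalization.AtPrime.isUnit_mk'_iff (Localization.AtPrime M) M]
      intro hb
      have h1 : IsUnit (algebraMap C (Localization.AtPrime N) b) := by
        rw [IsScalarTower.algebraMap_apply C (Localization.AtPrime M) (Localization.AtPrime N),
          ← IsLocalization.mk'_spec (Localization.AtPrime M) b s, map_mul]
        exact ha.mul ((IsLocalization.map_units (Localization.AtPrime M) s).map _)
      rw [IsScalarTower.algebraMap_apply C (C ⊗[A] S) (Localization.AtPrime N),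
        IsLocalization.AtPrime.isUnit_to_map_iff (Localization.AtPrime N) N] at h1
      exact h1 hb⟩
    have h1 : HensPoint.EtColim.IsEtColim C (Localization.AtPrime N) :=
      HensPoint.Trans.trans hB (HensPoint.EtColimLoc.isEtColim_localization N.primeCompl)
    have h2 : HensPoint.EtColim.IsEtColim (Localization.AtPrime M) (Localization.AtPrime N) :=
      HensPoint.Trans.cancel (HensPoint.EtColimLoc.isEtColim_localization M.primeCompl) h1
    have := h2.flat
    have : Module.FaithfullyFlat (Localization.AtPrime M) (Localization.AtPrime N) :=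
      Module.FaithfullyFlat.of_flat_of_isLocalHom
    exact (HensPoint.Normal.isDomain h2 (FaithfulSMul.algebraMap_injective _ _)).1
  have hbelow : ∀ N : MaximalSpectrum (C ⊗[A] S), ∃! P : minimalPrimes (C ⊗[A] S), P.1 ≤ N.asIdeal := by
    intro N
    have := N.isMaximal
    have := hdom N.asIdeal
    obtain ⟨P, hP, hPN⟩ := Ideal.exists_minimalPrimes_le (I := ⊥) (J := N.asIdeal) bot_le
    refine ⟨⟨P, hP⟩, hPN, fun Q hQN => Subtype.ext ?_⟩
    let K : Ideal (C ⊗[A] S) := RingHom.ker (algebraMap (C ⊗[A] S) (Localization.AtPrime N.asIdeal))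
    have hKp : K.IsPrime := RingHom.ker_isPrime _
    have hK : ∀ {P' : Ideal (C ⊗[A] S)}, P' ∈ minimalPrimes (C ⊗[A] S) → P' ≤ N.asIdeal → P' = K := by
      intro P' hP' hle
      have hKP : K ≤ P' := fun x hx => by
        obtain ⟨s, hs⟩ := (IsLocalization.map_eq_zero_iff N.asIdeal.primeCompl _ x).mp hx
        exact (hP'.1.1.mem_or_mem (show (s : C ⊗[A] S) * x ∈ P' from hs ▸ zero_mem _)).resolve_left
          fun h => s.2 (hle h)
      exact le_antisymm (hP'.2 ⟨hKp, bot_le⟩ hKP) hKP
    exact (hK Q.2 hQN).trans (hK hP hPN).symm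
  refine ⟨hbelow, fun P => ?_⟩
  have hP := P.2.1.1
  obtain ⟨N, hN, hPN⟩ := Ideal.exists_le_maximal P.1 P.2.1.1.ne_top
  have : Algebra.IsIntegral S ((C ⊗[A] S) ⧸ P.1) := inferInstance
  have hl : IsLocalRing ((C ⊗[A] S) ⧸ P.1) := Integral.isLocalRing_of_isDomain (A := S)
  have key : ∀ X : MaximalSpectrum (C ⊗[A] S), P.1 ≤ X.asIdeal →
      X.asIdeal = (maximalIdeal ((C ⊗[A] S) ⧸ P.1)).comap (Ideal.Quotient.mk _) := by
    intro X hX
    have := X.isMaximal
    refine this.eq_of_le (Ideal.comap_ne_top _ (IsLocalRing.maximalIdeal.isMaximal _).ne_top) fun x hx => ?_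
    refine (IsLocalRing.mem_maximalIdeal _).mpr fun hu => ?_
    obtain ⟨y, hy⟩ := hu.exists_right_inv
    obtain ⟨y, rfl⟩ := Ideal.Quotient.mk_surjective y
    rw [← map_mul, ← map_one (Ideal.Quotient.mk _), Ideal.Quotient.eq] at hy
    exact this.ne_top ((Ideal.eq_top_iff_one _).mpr
      (by simpa using sub_mem (X.asIdeal.mul_mem_right y hx) (hX hy)))
  exact ⟨⟨N, hN⟩, hPN, fun X hX => MaximalSpectrum.ext ((key X hX).trans (key ⟨N, hN⟩ hPN).symm)⟩

theorem card_maximal_eq_minimal {A C S : Type u} [CommRing A] [CommRing C] [CommRing S]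
    [Algebra A C] [Algebra A S] [Algebra.IsIntegral A C] [HenselianLocalRing S]
    (hS : HensPoint.EtColim.IsEtColim A S)
    (hC : ∀ (M : Ideal C) [M.IsPrime], IsDomain (Localization.AtPrime M) ∧ IsIntegrallyClosed (Localization.AtPrime M)) :
    ENat.card (MaximalSpectrum (C ⊗[A] S)) = ENat.card (minimalPrimes (C ⊗[A] S)) := by
  obtain ⟨hbelow, habove⟩ := minimal_maximal_facts hS hC
  choose f hf hu using hbelow
  refine ENat.card_congr (Equiv.ofBijective f ⟨fun N N' e => ?_, fun P => ?_⟩)
  · exact (habove (f N)).unique (hf N) (e ▸ hf N')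
  · obtain ⟨N, hPN, -⟩ := habove P
    exact ⟨N, (hu N P hPN).symm⟩

theorem card_minimalPrimes_tensor_localization {A S C Q : Type u} [CommRing A] [CommRing S] [Algebra A S]
    [Module.Flat A S] [CommRing C] [Algebra A C] [CommRing Q] [Algebra A Q] [Algebra C Q]
    [IsScalarTower A C Q] (M : Submonoid C) [IsLocalization M Q]
    (hinj : Function.Injective (algebraMap C Q)) :
    ENat.card (minimalPrimes (C ⊗[A] S)) = ENat.card (minimalPrimes (Q ⊗[A] S)) := by
  let ι : C →ₐ[A] Q := IsScalarTower.toAlgHom A C Q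
  let : Algebra (C ⊗[A] S) (Q ⊗[A] S) := (Algebra.TensorProduct.map ι (AlgHom.id A S)).toRingHom.toAlgebra
  have : IsScalarTower C (C ⊗[A] S) (Q ⊗[A] S) :=
    IsScalarTower.of_algebraMap_eq (R := C) (S := C ⊗[A] S) (A := Q ⊗[A] S) fun x => by
      show algebraMap C Q x ⊗ₜ[A] (1 : S) = Algebra.TensorProduct.map ι (AlgHom.id A S) (x ⊗ₜ[A] 1)
      simp [ι]
  have := IsLocalization.tensorProduct_tensorProduct A S M Q (by
    ext s
    show Algebra.TensorProduct.map ι (AlgHom.id A S) ((1 : C) ⊗ₜ[A] s) = (1 : Q) ⊗ₜ[A] s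
    simp)
  exact (card_minimalPrimes_localization (Algebra.algebraMapSubmonoid (C ⊗[A] S) M)
    (Module.Flat.rTensor_preserves_injective_linearMap ι.toLinearMap hinj)).symm

theorem bijOn_minimalPrimes_localization {R T : Type u} [CommRing R] [CommRing T] [Algebra R T]
    (M : Submonoid R) [IsLocalization M T] (hinj : Function.Injective (algebraMap R T)) :
    Set.BijOn (Ideal.comap (algebraMap R T)) (minimalPrimes T) (minimalPrimes R) := by
  have h := IsLocalization.minimalPrimes_comap (R := R) (A := T) M (⊥ : Ideal T)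
  have h0 : (⊥ : Ideal T).comap (algebraMap R T) = ⊥ := by
    rw [← RingHom.ker_eq_comap_bot]
    exact (RingHom.injective_iff_ker_eq_bot _).mp hinj
  rw [h0] at h
  have hI : Set.InjOn (Ideal.comap (algebraMap R T)) (minimalPrimes T) := fun P _ Q _ e => by
    rw [← IsLocalization.map_comap M T P, ← IsLocalization.map_comap M T Q]
    exact congrArg (Ideal.map (algebraMap R T)) e
  exact ⟨fun P hP => h.symm.subset ⟨P, hP, rfl⟩, hI, h.subset⟩

theorem bijOn_minimalPrimes_of_surjective {R T : Type u} [CommRing R] [CommRing T] (f : R →+* T)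
    (hf : Function.Surjective f) (hker : RingHom.ker f ≤ nilradical R) :
    Set.BijOn (Ideal.comap f) (minimalPrimes T) (minimalPrimes R) := by
  have h := Ideal.comap_minimalPrimes_eq_of_surjective hf (⊥ : Ideal T)
  have h0 : ((⊥ : Ideal T).comap f).minimalPrimes = minimalPrimes R := by
    rw [← RingHom.ker_eq_comap_bot, ← Ideal.radical_minimalPrimes]
    have : (RingHom.ker f).radical = (⊥ : Ideal R).radical :=
      le_antisymm ((Ideal.radical_mono hker).trans (Ideal.radical_idem _).le) (Ideal.radical_mono bot_le)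
    rw [this, Ideal.radical_minimalPrimes]
  rw [h0] at h
  exact ⟨fun P hP => h.symm.subset ⟨P, hP, rfl⟩,
    fun P _ Q _ e => Ideal.comap_injective_of_surjective f hf e, h.subset⟩

theorem bijOn_minimalPrimes_tensor_localization {A S C Q : Type u} [CommRing A] [CommRing S] [Algebra A S]
    [Module.Flat A S] [CommRing C] [Algebra A C] [CommRing Q] [Algebra A Q] [Algebra C Q]
    [IsScalarTower A C Q] (M : Submonoid C) [IsLocalization M Q]
    (hinj : Function.Injective (algebraMap C Q)) :
    Set.BijOn (Ideal.comap (Algebra.TensorProduct.map (IsScalarTower.toAlgHom A C Q) (AlgHom.id A S)).toRingHom)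
      (minimalPrimes (Q ⊗[A] S)) (minimalPrimes (C ⊗[A] S)) := by
  let ι : C →ₐ[A] Q := IsScalarTower.toAlgHom A C Q
  let : Algebra (C ⊗[A] S) (Q ⊗[A] S) := (Algebra.TensorProduct.map ι (AlgHom.id A S)).toRingHom.toAlgebra
  have : IsScalarTower C (C ⊗[A] S) (Q ⊗[A] S) :=
    IsScalarTower.of_algebraMap_eq (R := C) (S := C ⊗[A] S) (A := Q ⊗[A] S) fun x => by
      show algebraMap C Q x ⊗ₜ[A] (1 : S) = Algebra.TensorProduct.map ι (AlgHom.id A S) (x ⊗ₜ[A] 1)
      simp [ι]
  have := IsLocalization.tensorProduct_tensorProduct A S M Q (by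
    ext s
    show Algebra.TensorProduct.map ι (AlgHom.id A S) ((1 : C) ⊗ₜ[A] s) = (1 : Q) ⊗ₜ[A] s
    simp)
  exact bijOn_minimalPrimes_localization (Algebra.algebraMapSubmonoid (C ⊗[A] S) M)
    (Module.Flat.rTensor_preserves_injective_linearMap ι.toLinearMap hinj)

end general

section branches

variable (A : Type u) [CommRing A] [IsLocalRing A] {S : Type u} [CommRing S] [Algebra A S]

omit [IsLocalRing A] in
theorem minimalPrimes_red_finite (h : (minimalPrimes A).Finite) : Finite (minimalPrimes (CAlg2.red A)) := by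
  have hc := card_minimalPrimes_of_surjective (Ideal.Quotient.mk (nilradical A)) Ideal.Quotient.mk_surjective
    (by rw [Ideal.mk_ker])
  exact ENat.card_lt_top.mp (hc ▸ ENat.card_lt_top.mpr h.to_subtype)

omit [IsLocalRing A] in
theorem isIntegral_normRed : Algebra.IsIntegral A (CAlg2.normRed A) := by
  have : Algebra.IsIntegral A (CAlg2.red A) :=
    Algebra.IsIntegral.of_surjective (Algebra.ofId A (CAlg2.red A)) Ideal.Quotient.mk_surjective
  have : Algebra.IsIntegral (CAlg2.red A) (CAlg2.normRed A) :=
    IsIntegralClosure.isIntegral_algebra _ (FractionRing (CAlg2.red A))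
  exact Algebra.IsIntegral.trans (CAlg2.red A)

omit [IsLocalRing A] in
theorem card_minimalPrimes_tensor (hS : HensPoint.EtColim.IsEtColim A S) :
    ENat.card (minimalPrimes (CAlg2.normRed A ⊗[A] S)) = ENat.card (minimalPrimes S) := by
  have := hS.flat
  let R0 := CAlg2.red A
  let C := CAlg2.normRed A
  let Q := FractionRing R0
  have : IsReduced R0 := Ideal.isRadical_iff_quotient_reduced _ |>.mp (Ideal.radical_isRadical _)
  let ι0 : R0 →ₐ[A] Q := IsScalarTower.toAlgHom A R0 Q
  let ιC : C →ₐ[A] Q := IsScalarTower.toAlgHom A C Q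
  -- the kernel of `S → R0 ⊗ S`
  have h1 : ENat.card (minimalPrimes (R0 ⊗[A] S)) = ENat.card (minimalPrimes S) := by
    refine card_minimalPrimes_of_surjective (Algebra.TensorProduct.includeRight : S →ₐ[A] R0 ⊗[A] S).toRingHom ?_ ?_
    · intro x
      induction x with
      | zero => exact ⟨0, map_zero _⟩
      | add x y hx hy =>
        obtain ⟨a, rfl⟩ := hx
        obtain ⟨b, rfl⟩ := hy
        exact ⟨a + b, map_add _ _ _⟩
      | tmul r s =>
        obtain ⟨a, rfl⟩ := Ideal.Quotient.mk_surjective r
        refine ⟨a • s, ?_⟩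
        show (1 : R0) ⊗ₜ[A] (a • s) = _
        rw [← TensorProduct.smul_tmul, Algebra.smul_def, mul_one]
        rfl
    · intro x hx
      rw [← hS.map_nilradical]
      have : RingHom.ker (Algebra.TensorProduct.includeRight : S →ₐ[A] R0 ⊗[A] S).toRingHom =
          (nilradical A).map (algebraMap A S) := by
        refine le_antisymm (fun y hy => ?_) (Ideal.map_le_iff_le_comap.mpr fun a ha => ?_)
        · let e := Algebra.TensorProduct.quotIdealMapEquivQuotTensor S (nilradical A)
          rw [← Ideal.Quotient.eq_zero_iff_mem]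
          refine e.injective ?_
          rw [map_zero, Algebra.TensorProduct.quotIdealMapEquivQuotTensor_mk]
          exact hy
        · show (1 : R0) ⊗ₜ[A] algebraMap A S a = 0
          rw [← Algebra.TensorProduct.tmul_one_eq_one_tmul]
          rw [show algebraMap A R0 a = 0 from Ideal.Quotient.eq_zero_iff_mem.mpr ha, TensorProduct.zero_tmul]
      rwa [this] at hx
  -- both are localized to `Q ⊗ S`
  have : IsLocalization (Algebra.algebraMapSubmonoid C (nonZeroDivisors R0)) Q :=
    { map_units := by
        rintro ⟨_, x, hx, rfl⟩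
        rw [← IsScalarTower.algebraMap_apply]
        exact IsLocalization.map_units Q (⟨x, hx⟩ : nonZeroDivisors R0)
      surj := fun q => by
        obtain ⟨⟨a, s⟩, h⟩ := IsLocalization.surj (nonZeroDivisors R0) q
        exact ⟨⟨algebraMap R0 C a, ⟨algebraMap R0 C s, Algebra.mem_algebraMapSubmonoid_of_mem s⟩⟩, h⟩
      exists_of_eq := fun h => ⟨1, congrArg _ (Subtype.ext h)⟩ }
  rw [card_minimalPrimes_tensor_localization (A := A) (S := S) (C := C) (Q := Q)
      (Algebra.algebraMapSubmonoid C (nonZeroDivisors R0)) Subtype.val_injective,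
    ← card_minimalPrimes_tensor_localization (A := A) (S := S) (C := R0) (Q := Q)
      (nonZeroDivisors R0) (IsFractionRing.injective R0 Q), h1]

omit [IsLocalRing A] in
theorem bijOn_minimalPrimes_tensor (hS : HensPoint.EtColim.IsEtColim A S) :
    Set.BijOn (Ideal.comap (Algebra.TensorProduct.includeRight : S →ₐ[A] CAlg2.normRed A ⊗[A] S).toRingHom)
      (minimalPrimes (CAlg2.normRed A ⊗[A] S)) (minimalPrimes S) := by
  have := hS.flat
  let R0 := CAlg2.red A
  let C := CAlg2.normRed A
  let Q := FractionRing R0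
  have : IsReduced R0 := Ideal.isRadical_iff_quotient_reduced _ |>.mp (Ideal.radical_isRadical _)
  let ι0 : R0 →ₐ[A] Q := IsScalarTower.toAlgHom A R0 Q
  let ιC : C →ₐ[A] Q := IsScalarTower.toAlgHom A C Q
  -- the kernel of `S → R0 ⊗ S`
  have h1 : Set.BijOn (Ideal.comap (Algebra.TensorProduct.includeRight : S →ₐ[A] R0 ⊗[A] S).toRingHom)
      (minimalPrimes (R0 ⊗[A] S)) (minimalPrimes S) := by
    refine bijOn_minimalPrimes_of_surjective (Algebra.TensorProduct.includeRight : S →ₐ[A] R0 ⊗[A] S).toRingHom ?_ ?_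
    · intro x
      induction x with
      | zero => exact ⟨0, map_zero _⟩
      | add x y hx hy =>
        obtain ⟨a, rfl⟩ := hx
        obtain ⟨b, rfl⟩ := hy
        exact ⟨a + b, map_add _ _ _⟩
      | tmul r s =>
        obtain ⟨a, rfl⟩ := Ideal.Quotient.mk_surjective r
        refine ⟨a • s, ?_⟩
        show (1 : R0) ⊗ₜ[A] (a • s) = _
        rw [← TensorProduct.smul_tmul, Algebra.smul_def, mul_one]
        rfl
    · intro x hx
      rw [← hS.map_nilradical]
      have : RingHom.ker (Algebra.TensorProduct.includeRight : S →ₐ[A] R0 ⊗[A] S).toRingHom =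
          (nilradical A).map (algebraMap A S) := by
        refine le_antisymm (fun y hy => ?_) (Ideal.map_le_iff_le_comap.mpr fun a ha => ?_)
        · let e := Algebra.TensorProduct.quotIdealMapEquivQuotTensor S (nilradical A)
          rw [← Ideal.Quotient.eq_zero_iff_mem]
          refine e.injective ?_
          rw [map_zero, Algebra.TensorProduct.quotIdealMapEquivQuotTensor_mk]
          exact hy
        · show (1 : R0) ⊗ₜ[A] algebraMap A S a = 0
          rw [← Algebra.TensorProduct.tmul_one_eq_one_tmul]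
          rw [show algebraMap A R0 a = 0 from Ideal.Quotient.eq_zero_iff_mem.mpr ha, TensorProduct.zero_tmul]
      rwa [this] at hx
  -- both are localized to `Q ⊗ S`
  have : IsLocalization (Algebra.algebraMapSubmonoid C (nonZeroDivisors R0)) Q :=
    { map_units := by
        rintro ⟨_, x, hx, rfl⟩
        rw [← IsScalarTower.algebraMap_apply]
        exact IsLocalization.map_units Q (⟨x, hx⟩ : nonZeroDivisors R0)
      surj := fun q => by
        obtain ⟨⟨a, s⟩, h⟩ := IsLocalization.surj (nonZeroDivisors R0) q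
        exact ⟨⟨algebraMap R0 C a, ⟨algebraMap R0 C s, Algebra.mem_algebraMapSubmonoid_of_mem s⟩⟩, h⟩
      exists_of_eq := fun h => ⟨1, congrArg _ (Subtype.ext h)⟩ }
  have h2 := bijOn_minimalPrimes_tensor_localization (A := A) (S := S) (C := C) (Q := Q)
      (Algebra.algebraMapSubmonoid C (nonZeroDivisors R0)) Subtype.val_injective
  have h3 := bijOn_minimalPrimes_tensor_localization (A := A) (S := S) (C := R0) (Q := Q)
      (nonZeroDivisors R0) (IsFractionRing.injective R0 Q)
  have h4 := h1.comp h3
  have he : ∀ P : Ideal (Q ⊗[A] S),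
      (P.comap (Algebra.TensorProduct.map (IsScalarTower.toAlgHom A C Q) (AlgHom.id A S)).toRingHom).comap
        (Algebra.TensorProduct.includeRight : S →ₐ[A] C ⊗[A] S).toRingHom =
      (P.comap (Algebra.TensorProduct.map (IsScalarTower.toAlgHom A R0 Q) (AlgHom.id A S)).toRingHom).comap
        (Algebra.TensorProduct.includeRight : S →ₐ[A] R0 ⊗[A] S).toRingHom := fun P => by
    rw [Ideal.comap_comap, Ideal.comap_comap]
    congr 1
    ext s
    simp
  refine ⟨fun P hP => ?_, fun P hP P' hP' e => ?_, fun p hp => ?_⟩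
  · obtain ⟨T, hT, rfl⟩ := h2.surjOn hP
    rw [he]
    exact h4.mapsTo hT
  · obtain ⟨T, hT, rfl⟩ := h2.surjOn hP
    obtain ⟨T', hT', rfl⟩ := h2.surjOn hP'
    rw [he, he] at e
    rw [h4.injOn hT hT' e]
  · obtain ⟨T, hT, rfl⟩ := h4.surjOn hp
    exact ⟨_, h2.mapsTo hT, he T⟩

theorem card_minimalPrimes_eq [IsLocalRing S] [IsLocalHom (algebraMap A S)] [HenselianLocalRing S]
    (hS : HensPoint.EtColim.IsEtColim A S) (h : (minimalPrimes A).Finite) :
    ENat.card (minimalPrimes S) = ENat.card (MaximalSpectrum (CAlg2.normRed A ⊗[A] S)) := by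
  have := minimalPrimes_red_finite A h
  have : IsReduced (CAlg2.red A) := Ideal.isRadical_iff_quotient_reduced _ |>.mp (Ideal.radical_isRadical _)
  have := isIntegral_normRed A
  rw [card_maximal_eq_minimal hS fun M hM =>
    BranchNormal.isDomain_isIntegrallyClosed_localization (CAlg2.red A) (FractionRing (CAlg2.red A)) M,
    card_minimalPrimes_tensor A hS]

theorem minimalPrimes_infinite [IsLocalRing S] [IsLocalHom (algebraMap A S)]
    (hS : HensPoint.EtColim.IsEtColim A S) (h : ¬ (minimalPrimes A).Finite) :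
    ENat.card (minimalPrimes S) = ⊤ := by
  have := hS.flat
  have : Module.FaithfullyFlat A S := Module.FaithfullyFlat.of_flat_of_isLocalHom
  by_contra hc
  have hfin : (minimalPrimes S).Finite := Set.finite_coe_iff.mp (ENat.card_lt_top.mp (lt_top_iff_ne_top.mpr hc))
  refine h ((hfin.image (Ideal.comap (algebraMap A S))).subset fun p hp => ?_)
  have := hp.1.1
  obtain ⟨⟨P, hP⟩, hPp⟩ := PrimeSpectrum.comap_surjective_of_faithfullyFlat (A := A) (B := S) ⟨p, this⟩
  obtain ⟨Q, hQ, hQP⟩ := Ideal.exists_minimalPrimes_le (I := ⊥) (J := P) bot_le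
  have hle : Q.comap (algebraMap A S) ≤ p := by
    rw [show p = P.comap (algebraMap A S) from (congrArg PrimeSpectrum.asIdeal hPp).symm]
    exact Ideal.comap_mono hQP
  exact ⟨Q, hQ, le_antisymm hle (hp.2 ⟨hQ.1.1.comap _, bot_le⟩ hle)⟩

omit [IsLocalRing A] in
theorem comap_eq_maximal {C : Type u} [CommRing C] [Algebra A C] [IsLocalRing A] [Algebra.IsIntegral A C]
    (M : Ideal C) [M.IsMaximal] : M.comap (algebraMap A C) = maximalIdeal A :=
  eq_maximalIdeal (Ideal.isMaximal_comap_of_isIntegral_of_isMaximal M)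

theorem card_maximal_hens (S : Type u) [CommRing S] [Algebra A S] [IsLocalRing S] [IsLocalHom (algebraMap A S)]
    [Hensel.IsHenselization A S] (C : Type u) [CommRing C] [Algebra A C] [Algebra.IsIntegral A C] :
    ENat.card (MaximalSpectrum (C ⊗[A] S)) = ENat.card (MaximalSpectrum C) := by
  classical
  have : Algebra.IsIntegral S (C ⊗[A] S) := isIntegral_right
  let f : MaximalSpectrum (C ⊗[A] S) → MaximalSpectrum C := fun N =>
    ⟨N.asIdeal.comap (algebraMap C (C ⊗[A] S)), by
      have := N.isMaximal
      have hA : (N.asIdeal.comap (algebraMap C (C ⊗[A] S))).comap (algebraMap A C) = maximalIdeal A := by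
        rw [Ideal.comap_comap, ← IsScalarTower.algebraMap_eq]
        have : algebraMap A (C ⊗[A] S) = (algebraMap S (C ⊗[A] S)).comp (algebraMap A S) :=
          RingHom.ext fun a => Algebra.TensorProduct.tmul_one_eq_one_tmul a
        rw [this, ← Ideal.comap_comap, comap_eq_maximal S N.asIdeal, maximalIdeal_comap]
      exact Ideal.isMaximal_of_isIntegral_of_isMaximal_comap _ (hA ▸ maximalIdeal.isMaximal A)⟩
  refine ENat.card_congr (Equiv.ofBijective f ⟨fun N N' e => ?_, fun M => ?_⟩)
  · have hmS : ∀ X : MaximalSpectrum (C ⊗[A] S), ∀ s ∈ maximalIdeal S, (1 : C) ⊗ₜ[A] s ∈ X.asIdeal := by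
      intro X s hs
      have := X.isMaximal
      rw [← comap_eq_maximal S X.asIdeal] at hs
      exact hs
    have happ : ∀ x : C ⊗[A] S, ∃ c : C, ∀ X : MaximalSpectrum (C ⊗[A] S),
        x - algebraMap C (C ⊗[A] S) c ∈ X.asIdeal := by
      intro x
      induction x with
      | zero => exact ⟨0, fun X => by simp⟩
      | add x y hx hy =>
        obtain ⟨a, ha⟩ := hx
        obtain ⟨b, hb⟩ := hy
        exact ⟨a + b, fun X => by rw [map_add, add_sub_add_comm]; exact add_mem (ha X) (hb X)⟩
      | tmul c s =>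
        obtain ⟨z, hz⟩ := (LocalFacts.residue_bijective (R := A) (S := S)).2 (residue S s)
        obtain ⟨a, rfl⟩ := residue_surjective z
        rw [ResidueField.map_residue, eq_comm] at hz
        replace hz := Ideal.Quotient.eq.mp hz
        refine ⟨a • c, fun X => ?_⟩
        have : c ⊗ₜ[A] s - algebraMap C (C ⊗[A] S) (a • c) = (c ⊗ₜ[A] (1 : S)) * ((1 : C) ⊗ₜ[A] (s - algebraMap A S a)) := by
          rw [Algebra.TensorProduct.tmul_mul_tmul, mul_one, one_mul, TensorProduct.tmul_sub,
            Algebra.TensorProduct.algebraMap_apply, Algebra.algebraMap_self, RingHom.id_apply,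
            TensorProduct.smul_tmul, Algebra.smul_def, mul_one]
        rw [this]
        exact X.asIdeal.mul_mem_left _ (hmS X _ hz)
    refine MaximalSpectrum.ext (Ideal.ext fun x => ?_)
    obtain ⟨c, hc⟩ := happ x
    have h1 : ∀ X : MaximalSpectrum (C ⊗[A] S), x ∈ X.asIdeal ↔ c ∈ (f X).asIdeal := fun X =>
      ⟨fun h => show algebraMap C (C ⊗[A] S) c ∈ X.asIdeal from by have h' := sub_mem h (hc X); rwa [sub_sub_cancel] at h',
        fun h => sub_add_cancel x (algebraMap C (C ⊗[A] S) c) ▸ add_mem (hc X) h⟩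
    rw [h1 N, h1 N', e]
  · have := M.isMaximal
    let : Field (C ⧸ M.asIdeal) := Ideal.Quotient.field M.asIdeal
    let k : ResidueField A →+* C ⧸ M.asIdeal := Ideal.Quotient.lift _ (algebraMap A (C ⧸ M.asIdeal))
      fun a ha => by
        rw [IsScalarTower.algebraMap_apply A C (C ⧸ M.asIdeal), Ideal.Quotient.algebraMap_eq,
          Ideal.Quotient.eq_zero_iff_mem]
        exact Ideal.mem_comap.mp (comap_eq_maximal A M.asIdeal ▸ ha)
    let e := RingEquiv.ofBijective _ (LocalFacts.residue_bijective (R := A) (S := S))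
    let g : S →ₐ[A] C ⧸ M.asIdeal :=
      { toRingHom := (k.comp e.symm.toRingHom).comp (residue S)
        commutes' := fun a => by
          show k (e.symm (residue S (algebraMap A S a))) = _
          rw [show residue S (algebraMap A S a) = e (residue A a) from
            (ResidueField.map_residue (algebraMap A S) a).symm, e.symm_apply_apply]
          rfl }
    let G : C ⊗[A] S →ₐ[A] C ⧸ M.asIdeal :=
      Algebra.TensorProduct.lift (Ideal.Quotient.mkₐ A M.asIdeal) g fun _ _ => Commute.all _ _
    have hG : Function.Surjective G := fun z => by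
      obtain ⟨c, rfl⟩ := Ideal.Quotient.mk_surjective z
      exact ⟨c ⊗ₜ[A] 1, by simp [G]⟩
    refine ⟨⟨RingHom.ker G.toRingHom, RingHom.ker_isMaximal_of_surjective G.toRingHom hG⟩,
      MaximalSpectrum.ext (Ideal.ext fun c => ?_)⟩
    show G (c ⊗ₜ[A] 1) = 0 ↔ c ∈ M.asIdeal
    rw [← Ideal.Quotient.eq_zero_iff_mem]
    simp [G]

theorem card_maximal_strict (S : Type u) [CommRing S] [Algebra A S] [IsLocalRing S] [IsLocalHom (algebraMap A S)]
    [hS : Hensel.IsStrictHenselization A S] (C : Type u) [CommRing C] [Algebra A C] [Algebra.IsIntegral A C] :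
    ENat.card (MaximalSpectrum (C ⊗[A] S)) = ENat.card (Σ M : MaximalSpectrum C,
      {σ : C ⧸ M.asIdeal →+* AlgebraicClosure (ResidueField A) //
        σ.comp (algebraMap A (C ⧸ M.asIdeal)) = Brnch.toClosure A}) := by
  classical
  have := hS.isSepClosure
  have hsc : IsSepClosed (ResidueField S) := this.1
  have hsep : Algebra.IsSeparable (ResidueField A) (ResidueField S) := this.2
  have hI : Algebra.IsIntegral S (C ⊗[A] S) := isIntegral_right
  let L := AlgebraicClosure (ResidueField A)
  let θ : ResidueField S →ₐ[ResidueField A] L := IsAlgClosed.lift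
  let f0 : S →+* L := θ.toRingHom.comp (residue S)
  have hf0 : ∀ a, f0 (algebraMap A S a) = Brnch.toClosure A a := fun a => by
    show θ (residue S (algebraMap A S a)) = algebraMap (ResidueField A) L (residue A a)
    rw [← θ.commutes (residue A a)]
    rfl
  let G : ∀ (p : Σ M : MaximalSpectrum C, {σ : C ⧸ M.asIdeal →+* L //
      σ.comp (algebraMap A (C ⧸ M.asIdeal)) = Brnch.toClosure A}), C ⊗[A] S →+* L := fun p =>
    letI : Algebra A L := (Brnch.toClosure A).toAlgebra
    (Algebra.TensorProduct.lift (S := A)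
      (⟨p.2.1.comp (Ideal.Quotient.mk p.1.asIdeal), fun a => RingHom.congr_fun p.2.2 a⟩ : C →ₐ[A] L)
      (⟨f0, hf0⟩ : S →ₐ[A] L) fun _ _ => Commute.all _ _).toRingHom
  have hG : ∀ p c s, G p (c ⊗ₜ[A] s) = p.2.1 (Ideal.Quotient.mk _ c) * f0 s := fun p c s => rfl
  have hker : ∀ (F : C ⊗[A] S →+* L), F.comp (algebraMap S (C ⊗[A] S)) = f0 → (RingHom.ker F).IsMaximal := by
    intro F hF
    have : (RingHom.ker F).IsPrime := RingHom.ker_isPrime F
    refine Ideal.isMaximal_of_isIntegral_of_isMaximal_comap (R := S) _ ?_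
    rw [RingHom.comap_ker, hF]
    have : RingHom.ker f0 = maximalIdeal S := by
      ext x
      show θ (residue S x) = 0 ↔ _
      rw [map_eq_zero, residue_eq_zero_iff]
    rw [this]
    exact maximalIdeal.isMaximal S
  have hGS : ∀ p, (G p).comp (algebraMap S (C ⊗[A] S)) = f0 := fun p => RingHom.ext fun s => by
    show G p ((1 : C) ⊗ₜ[A] s) = f0 s
    rw [hG, map_one, map_one, one_mul]
  let Φ := fun p => (⟨RingHom.ker (G p), hker _ (hGS p)⟩ : MaximalSpectrum (C ⊗[A] S))
  refine (ENat.card_congr (Equiv.ofBijective Φ ⟨fun p q e => ?_, fun N => ?_⟩)).symm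
  · have e' : RingHom.ker (G p) = RingHom.ker (G q) := congrArg MaximalSpectrum.asIdeal e
    let N := RingHom.ker (G p)
    have hN : N.IsMaximal := hker _ (hGS p)
    let : Field ((C ⊗[A] S) ⧸ N) := Ideal.Quotient.field N
    have hlo : maximalIdeal S ≤ RingHom.ker ((Ideal.Quotient.mk N).comp (algebraMap S (C ⊗[A] S))) := by
      rw [← RingHom.comap_ker, Ideal.mk_ker, comap_eq_maximal S N]
    let : Algebra (ResidueField S) ((C ⊗[A] S) ⧸ N) := (Ideal.Quotient.lift _ _ hlo).toAlgebra
    let : Algebra (ResidueField S) L := θ.toRingHom.toAlgebra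
    have : IsScalarTower S (ResidueField S) ((C ⊗[A] S) ⧸ N) := IsScalarTower.of_algebraMap_eq fun _ => rfl
    have : Algebra.IsIntegral (ResidueField S) ((C ⊗[A] S) ⧸ N) := Algebra.IsIntegral.tower_top S
    have : Algebra.IsAlgebraic (ResidueField S) ((C ⊗[A] S) ⧸ N) := Algebra.IsIntegral.isAlgebraic
    have mk : ∀ r, RingHom.ker (G r) = N → ∃ h : (C ⊗[A] S) ⧸ N →ₐ[ResidueField S] L, ∀ x, h (Ideal.Quotient.mk N x) = G r x := by
      intro r hr
      refine ⟨⟨Ideal.Quotient.lift N (G r) hr.ge, fun z => ?_⟩, fun x => rfl⟩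
      obtain ⟨s, rfl⟩ := residue_surjective z
      exact RingHom.congr_fun (hGS r) s
    obtain ⟨h1, h1'⟩ := mk p rfl
    obtain ⟨h2, h2'⟩ := mk q e'.symm
    have hGG : G p = G q := RingHom.ext fun x => by rw [← h1', ← h2', Subsingleton.elim h1 h2]
    obtain ⟨M, σ, hσ⟩ := p
    obtain ⟨M', σ', hσ'⟩ := q
    have hc : ∀ c, σ (Ideal.Quotient.mk _ c) = σ' (Ideal.Quotient.mk _ c) := fun c => by
      have := RingHom.congr_fun hGG (c ⊗ₜ[A] 1)
      rwa [hG, hG, map_one, mul_one, mul_one] at this
    have hMM : M = M' := MaximalSpectrum.ext (Ideal.ext fun c => by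
      have := M.isMaximal
      have := M'.isMaximal
      let : Field (C ⧸ M.asIdeal) := Ideal.Quotient.field M.asIdeal
      let : Field (C ⧸ M'.asIdeal) := Ideal.Quotient.field M'.asIdeal
      rw [← Ideal.Quotient.eq_zero_iff_mem, ← Ideal.Quotient.eq_zero_iff_mem, ← map_eq_zero σ, hc,
        map_eq_zero σ'])
    subst hMM
    obtain rfl : σ = σ' := Ideal.Quotient.ringHom_ext (RingHom.ext hc)
    rfl
  · have := N.isMaximal
    let K := (C ⊗[A] S) ⧸ N.asIdeal
    let : Field K := Ideal.Quotient.field N.asIdeal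
    have hlo : maximalIdeal S ≤ RingHom.ker ((Ideal.Quotient.mk N.asIdeal).comp (algebraMap S (C ⊗[A] S))) := by
      rw [← RingHom.comap_ker, Ideal.mk_ker, comap_eq_maximal S N.asIdeal]
    let : Algebra (ResidueField S) K := (Ideal.Quotient.lift _ _ hlo).toAlgebra
    let : Algebra (ResidueField S) L := θ.toRingHom.toAlgebra
    have : IsScalarTower S (ResidueField S) K := IsScalarTower.of_algebraMap_eq fun _ => rfl
    have : Algebra.IsIntegral (ResidueField S) K := Algebra.IsIntegral.tower_top S
    have : Algebra.IsAlgebraic (ResidueField S) K := Algebra.IsIntegral.isAlgebraic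
    let τ : K →ₐ[ResidueField S] L := IsAlgClosed.lift
    let F : C ⊗[A] S →+* L := τ.toRingHom.comp (Ideal.Quotient.mk N.asIdeal)
    have hF : F.comp (algebraMap S (C ⊗[A] S)) = f0 := RingHom.ext fun s => τ.commutes (residue S s)
    let φ : C →+* L := F.comp (algebraMap C (C ⊗[A] S))
    have hφA : ∀ a, φ (algebraMap A C a) = Brnch.toClosure A a := fun a => by
      rw [← hf0, ← RingHom.congr_fun hF]
      exact congrArg F (Algebra.TensorProduct.tmul_one_eq_one_tmul a)
    have : (RingHom.ker φ).IsPrime := RingHom.ker_isPrime φ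
    have hMmax : (RingHom.ker φ).IsMaximal := by
      refine Ideal.isMaximal_of_isIntegral_of_isMaximal_comap (R := A) _ ?_
      rw [RingHom.comap_ker, show φ.comp (algebraMap A C) = Brnch.toClosure A from RingHom.ext hφA]
      have : RingHom.ker (Brnch.toClosure A) = maximalIdeal A := by
        ext x
        show algebraMap (ResidueField A) L (residue A x) = 0 ↔ _
        rw [map_eq_zero, residue_eq_zero_iff]
      rw [this]
      exact maximalIdeal.isMaximal A
    let p : Σ M : MaximalSpectrum C, {σ : C ⧸ M.asIdeal →+* L //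
        σ.comp (algebraMap A (C ⧸ M.asIdeal)) = Brnch.toClosure A} :=
      ⟨⟨RingHom.ker φ, hMmax⟩, Ideal.Quotient.lift _ φ fun _ h => h, RingHom.ext hφA⟩
    refine ⟨p, MaximalSpectrum.ext ?_⟩
    have : G p = F := RingHom.ext fun x => by
      induction x with
      | zero => rw [map_zero, map_zero]
      | add x y hx hy => rw [map_add, map_add, hx, hy]
      | tmul c s =>
        rw [hG, ← RingHom.congr_fun hF s, show (c ⊗ₜ[A] s : C ⊗[A] S) =
          algebraMap C (C ⊗[A] S) c * algebraMap S (C ⊗[A] S) s by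
            show _ = (c ⊗ₜ[A] (1 : S)) * ((1 : C) ⊗ₜ[A] s)
            simp, map_mul]
        rfl
    show RingHom.ker (G p) = N.asIdeal
    rw [this]
    ext x
    show τ (Ideal.Quotient.mk _ x) = 0 ↔ _
    rw [map_eq_zero, Ideal.Quotient.eq_zero_iff_mem]

theorem card_minimalPrimes_hens (S : Type u) [CommRing S] [Algebra A S] [IsLocalRing S]
    [IsLocalHom (algebraMap A S)] [hh : Hensel.IsHenselization A S] :
    ENat.card (minimalPrimes S) = Brnch.numBranches A := by
  have hS : HensPoint.EtColim.IsEtColim A S := HensPoint.StrictProps.hens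
  have := hh.henselian
  have := isIntegral_normRed A
  unfold Brnch.numBranches
  split_ifs with h
  · rw [card_minimalPrimes_eq A hS h, card_maximal_hens A S]
  · exact minimalPrimes_infinite A hS h

theorem card_minimalPrimes_strict (S : Type u) [CommRing S] [Algebra A S] [IsLocalRing S]
    [IsLocalHom (algebraMap A S)] [hh : Hensel.IsStrictHenselization A S] :
    ENat.card (minimalPrimes S) = Brnch.numGeomBranches A := by
  have hS : HensPoint.EtColim.IsEtColim A S := HensPoint.StrictProps.strict
  have := hh.henselian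
  have := isIntegral_normRed A
  unfold Brnch.numGeomBranches
  split_ifs with h
  · rw [card_minimalPrimes_eq A hS h, card_maximal_strict A S]
    rfl
  · exact minimalPrimes_infinite A hS h

end branches

end Groth.Agent.HensPair.Branches
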