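import Groth.Prelude.Def_Brnch
import Groth.Prelude.Def_CAlgX
import Groth.Agent.HensPair.Branches
import Mathlib.FieldTheory.PurelyInseparable.Basic

/-!
One branch = unibranch.
-/

set_option autoImplicit false

noncomputable section

open IsLocalRing

namespace Groth.Agent.HensPair.BranchUnibranch

universe u

theorem card_eq_one_iff' {α : Type u} : ENat.card α = 1 ↔ Subsingleton α ∧ Nonempty α := by
  rw [le_antisymm_iff, ENat.card_le_one_iff_subsingleton, ENat.one_le_card_iff_nonempty]

variable (A : Type u) [CommRing A] [IsLocalRing A]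

theorem nontrivial_normRed : Nontrivial (CAlg2.normRed A) := by
  have : Nontrivial (CAlg2.red A) := Ideal.Quotient.nontrivial_iff.mpr fun h => by
    have := (Ideal.eq_top_iff_one _).mp h
    rw [mem_nilradical] at this
    exact not_isNilpotent_one this
  exact (Function.Injective.nontrivial (f := algebraMap (CAlg2.red A) (CAlg2.normRed A))
    fun x y h => IsFractionRing.injective (CAlg2.red A) (FractionRing (CAlg2.red A)) (congrArg Subtype.val h))

theorem card_maximal_eq_one_iff {C : Type u} [CommRing C] :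
    ENat.card (MaximalSpectrum C) = 1 ↔ IsLocalRing C := by
  constructor
  · intro h
    obtain ⟨hs, ⟨M⟩⟩ := card_eq_one_iff'.mp h
    exact IsLocalRing.of_unique_max_ideal ⟨M.asIdeal, M.isMaximal, fun N hN =>
      congrArg MaximalSpectrum.asIdeal (hs.elim ⟨N, hN⟩ M)⟩
  · intro h
    exact card_eq_one_iff'.mpr ⟨⟨fun M N => MaximalSpectrum.ext
      ((eq_maximalIdeal M.isMaximal).trans (eq_maximalIdeal N.isMaximal).symm)⟩,
      ⟨⟨maximalIdeal C, maximalIdeal.isMaximal C⟩⟩⟩

omit [IsLocalRing A] in
theorem finite_of_isDomain [IsDomain (CAlg2.red A)] : (minimalPrimes A).Finite := by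
  have : (nilradical A).IsPrime := (Ideal.Quotient.isDomain_iff_prime _).mp ‹_›
  refine (Set.finite_singleton (nilradical A)).subset fun p hp => ?_
  exact le_antisymm (hp.2 ⟨this, bot_le⟩ (haveI := hp.1.1; nilradical_le_prime p))
    (haveI := hp.1.1; nilradical_le_prime p)

omit [IsLocalRing A] in
theorem isDomain_red (h : (minimalPrimes A).Finite) [IsLocalRing (CAlg2.normRed A)] :
    IsDomain (CAlg2.red A) := by
  have := Branches.minimalPrimes_red_finite A h
  have : IsReduced (CAlg2.red A) := Ideal.isRadical_iff_quotient_reduced _ |>.mp (Ideal.radical_isRadical _)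
  have hd := (BranchNormal.isDomain_isIntegrallyClosed_localization (CAlg2.red A) (FractionRing (CAlg2.red A))
    (maximalIdeal (CAlg2.normRed A))).1
  have h1 : Function.Injective (algebraMap (CAlg2.normRed A) (Localization.AtPrime (maximalIdeal (CAlg2.normRed A)))) :=
    fun x y e => by
      obtain ⟨s, hs⟩ := (IsLocalization.eq_iff_exists (maximalIdeal (CAlg2.normRed A)).primeCompl _).mp e
      exact (notMem_maximalIdeal.mp s.2).mul_left_cancel hs
  have h2 : Function.Injective (algebraMap (CAlg2.red A) (CAlg2.normRed A)) :=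
    fun x y h => IsFractionRing.injective (CAlg2.red A) (FractionRing (CAlg2.red A)) (congrArg Subtype.val h)
  exact (h1.comp h2).isDomain
    ((algebraMap (CAlg2.normRed A) _).comp (algebraMap (CAlg2.red A) (CAlg2.normRed A)))

theorem numBranches_eq_one_iff : Brnch.numBranches A = 1 ↔ CAlg2.IsUnibranch A := by
  unfold Brnch.numBranches CAlg2.IsUnibranch
  constructor
  · intro h
    split_ifs at h with hf
    · have := card_maximal_eq_one_iff.mp h
      exact ⟨isDomain_red A hf, this⟩
    · exact absurd h (by simp)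
  · rintro ⟨h1, h2⟩
    rw [if_pos (finite_of_isDomain A)]
    exact card_maximal_eq_one_iff.mpr h2

section field

variable {k K : Type u} [Field k] [Field K] [Algebra k K] [Algebra.IsAlgebraic k K]

theorem subsingleton_iff (L : Type u) [Field L] [Algebra k L] [IsAlgClosed L] :
    Subsingleton (K →ₐ[k] L) ↔ IsPurelyInseparable k K := by
  constructor
  · intro h
    rw [isPurelyInseparable_iff_finSepDegree_eq_one, Field.finSepDegree_eq_of_isAlgClosed k K L]
    exact Nat.card_eq_one_iff_unique.mpr ⟨h, ⟨IsAlgClosed.lift⟩⟩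
  · intro h
    infer_instance

end field

set_option synthInstance.maxHeartbeats 200000 in
theorem emb_facts (M : MaximalSpectrum (CAlg2.normRed A)) :
    Nonempty (Brnch.Emb A M) ∧ (Subsingleton (Brnch.Emb A M) ↔
      ∀ x : CAlg2.normRed A ⧸ M.asIdeal, ∃ n : ℕ,
        x ^ (ringExpChar (CAlg2.normRed A ⧸ M.asIdeal)) ^ n ∈ (Brnch.toResidue A M).range) := by
  have := M.isMaximal
  have := Branches.isIntegral_normRed A
  let K := CAlg2.normRed A ⧸ M.asIdeal
  let : Field K := Ideal.Quotient.field M.asIdeal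
  have hker : maximalIdeal A ≤ RingHom.ker (Brnch.toResidue A M) := fun a ha => by
    show Ideal.Quotient.mk M.asIdeal (algebraMap A (CAlg2.normRed A) a) = 0
    rw [Ideal.Quotient.eq_zero_iff_mem]
    exact Ideal.mem_comap.mp ((Branches.comap_eq_maximal A M.asIdeal).symm ▸ ha)
  let f : ResidueField A →+* K := Ideal.Quotient.lift _ (Brnch.toResidue A M) hker
  let : Algebra (ResidueField A) K := f.toAlgebra
  have : IsScalarTower A (ResidueField A) K := IsScalarTower.of_algebraMap_eq fun _ => rfl
  have : Algebra.IsIntegral A K := Algebra.IsIntegral.trans (CAlg2.normRed A)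
  have : Algebra.IsIntegral (ResidueField A) K := Algebra.IsIntegral.tower_top A
  have : Algebra.IsAlgebraic (ResidueField A) K := Algebra.IsIntegral.isAlgebraic
  let e : Brnch.Emb A M ≃ (K →ₐ[ResidueField A] AlgebraicClosure (ResidueField A)) :=
    { toFun := fun σ => { σ.1 with
        commutes' := fun z => by
          obtain ⟨a, rfl⟩ := residue_surjective z
          exact RingHom.congr_fun σ.2 a }
      invFun := fun τ => ⟨τ.toRingHom, RingHom.ext fun a => τ.commutes (residue A a)⟩
      left_inv := fun σ => rfl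
      right_inv := fun τ => rfl }
  refine ⟨⟨e.symm IsAlgClosed.lift⟩, ?_⟩
  rw [e.subsingleton_congr, subsingleton_iff]
  have hr : f.range = (Brnch.toResidue A M).range := by
    ext x
    constructor
    · rintro ⟨z, rfl⟩
      obtain ⟨a, rfl⟩ := residue_surjective z
      exact ⟨a, rfl⟩
    · rintro ⟨a, rfl⟩
      exact ⟨residue A a, rfl⟩
  have : ExpChar (ResidueField A) (ringExpChar K) :=
    f.expChar f.injective (ringExpChar K)
  rw [isPurelyInseparable_iff_pow_mem (ResidueField A) (ringExpChar K), ← hr]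
  rfl

theorem numGeomBranches_eq_one_iff : Brnch.numGeomBranches A = 1 ↔ CAlg2.IsGeomUnibranch A := by
  unfold Brnch.numGeomBranches CAlg2.IsGeomUnibranch
  constructor
  · intro h
    split_ifs at h with hf
    · obtain ⟨hs, -⟩ := card_eq_one_iff'.mp h
      have := nontrivial_normRed A
      obtain ⟨M, hM⟩ := Ideal.exists_maximal (CAlg2.normRed A)
      have huniq : Subsingleton (MaximalSpectrum (CAlg2.normRed A)) := ⟨fun P Q => by
        obtain ⟨σ⟩ := (emb_facts A P).1
        obtain ⟨τ⟩ := (emb_facts A Q).1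
        exact congrArg Sigma.fst (hs.elim (⟨P, σ⟩ : Σ m, Brnch.Emb A m) ⟨Q, τ⟩)⟩
      have hl : IsLocalRing (CAlg2.normRed A) := card_maximal_eq_one_iff.mp
        (card_eq_one_iff'.mpr ⟨huniq, ⟨⟨M, hM⟩⟩⟩)
      refine ⟨(numBranches_eq_one_iff A).mp ?_, fun m' hm' => ?_⟩
      · unfold Brnch.numBranches
        rw [if_pos hf]
        exact card_maximal_eq_one_iff.mpr hl
      · exact (emb_facts A ⟨m', hm'⟩).2.mp ⟨fun x y =>
          eq_of_heq (Sigma.mk.inj_iff.mp (hs.elim (⟨_, x⟩ : Σ m, Brnch.Emb A m) ⟨_, y⟩)).2⟩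
    · exact absurd h (by simp)
  · rintro ⟨⟨h1, h2⟩, h3⟩
    rw [if_pos (finite_of_isDomain A)]
    let M : MaximalSpectrum (CAlg2.normRed A) := ⟨maximalIdeal _, maximalIdeal.isMaximal _⟩
    refine card_eq_one_iff'.mpr ⟨⟨fun P Q => ?_⟩, ⟨⟨M, (emb_facts A M).1.some⟩⟩⟩
    obtain ⟨P, x⟩ := P
    obtain ⟨Q, y⟩ := Q
    obtain rfl : P = Q := MaximalSpectrum.ext
      ((eq_maximalIdeal P.isMaximal).trans (eq_maximalIdeal Q.isMaximal).symm)
    have := P.isMaximal
    have := (emb_facts A P).2.mpr (h3 P.asIdeal)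
    rw [Subsingleton.elim x y]

omit [IsLocalRing A] in
theorem card_eq_one_iff : ENat.card (minimalPrimes A) = 1 ↔ CAlgX.HasUniqueMinimalPrime A := by
  rw [card_eq_one_iff']
  constructor
  · rintro ⟨h, ⟨p⟩⟩
    exact ⟨p.1, p.2, fun q hq => congrArg Subtype.val (h.elim ⟨q, hq⟩ p)⟩
  · rintro ⟨p, hp, hu⟩
    exact ⟨⟨fun x y => Subtype.ext ((hu _ x.2).trans (hu _ y.2).symm)⟩, ⟨⟨p, hp⟩⟩⟩

omit [IsLocalRing A] in
theorem isDomain_iff : IsDomain A ↔ IsReduced A ∧ CAlgX.HasUniqueMinimalPrime A := by
  constructor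
  · intro h
    exact ⟨inferInstance, ⊥, ⟨⟨Ideal.isPrime_bot, le_rfl⟩, fun q hq _ => bot_le⟩, fun q hq =>
      le_antisymm (hq.2 ⟨Ideal.isPrime_bot, le_rfl⟩ bot_le) bot_le⟩
  · rintro ⟨h, p, hp, hu⟩
    have : p = ⊥ := le_bot_iff.mp fun x hx => by
      have : x ∈ nilradical A := by
        rw [nilradical_eq_sInf, Ideal.mem_sInf]
        intro q hq
        have : q.IsPrime := hq
        obtain ⟨r, hr, hrq⟩ := Ideal.exists_minimalPrimes_le (I := ⊥) (J := q) bot_le
        exact hrq ((hu r hr).symm ▸ hx)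
      rwa [nilradical_eq_zero] at this
    have : (⊥ : Ideal A).IsPrime := this ▸ hp.1.1
    exact IsDomain.of_bot_isPrime A

omit [IsLocalRing A] in
theorem isReduced_iff {S : Type u} [CommRing S] [Algebra A S] [Module.FaithfullyFlat A S]
    (hS : HensPoint.EtColim.IsEtColim A S) : IsReduced A ↔ IsReduced S :=
  ⟨fun _ => hS.isReduced, fun _ => isReduced_of_injective (algebraMap A S) (FaithfulSMul.algebraMap_injective A S)⟩

end Groth.Agent.HensPair.BranchUnibranch
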