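import Groth.Prelude.Def_EGA4b
import Groth.Agent.HensPair.BranchUnibranch
import Groth.Agent.HensPair.BaseChange
import Groth.Agent.HensPoint.StrictTensor
import Mathlib.RingTheory.Ideal.GoingDown
import Mathlib.Data.Set.Card.Arithmetic
import Mathlib.RingTheory.LocalRing.Quotient

/-!
Branches are the sum of the branches of the irreducible components.
-/

set_option autoImplicit false

noncomputable section

open IsLocalRing
open scoped TensorProduct

namespace Groth.Agent.HensPair.BranchSum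

universe u

variable {A S : Type u} [CommRing A] [CommRing S] [Algebra A S]

theorem minimalPrimes_map_eq [Module.Flat A S] (p : Ideal A) (hp : p ∈ minimalPrimes A) :
    (p.map (algebraMap A S)).minimalPrimes = {q ∈ minimalPrimes S | q.comap (algebraMap A S) = p} := by
  have hpp := hp.1.1
  ext q
  constructor
  · intro hq
    have := hq.1.1
    have hle : p ≤ q.comap (algebraMap A S) := Ideal.map_le_iff_le_comap.mp hq.1.2
    have : q.LiesOver (q.comap (algebraMap A S)) := ⟨rfl⟩
    obtain ⟨q', hq'le, hq'p, hq'c⟩ := Ideal.exists_ideal_le_liesOver_of_le (R := A) (S := S) (p := p) q hle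
    have hqq : q ≤ q' := hq.2 ⟨hq'p, Ideal.map_le_iff_le_comap.mpr hq'c.over.le⟩ hq'le
    have hc : q.comap (algebraMap A S) = p := le_antisymm ((Ideal.comap_mono hqq).trans hq'c.over.ge) hle
    refine ⟨⟨⟨inferInstance, bot_le⟩, fun r ⟨hr, _⟩ hrq => hq.2 ⟨hr, ?_⟩ hrq⟩, hc⟩
    rw [Ideal.map_le_iff_le_comap]
    exact hp.2 ⟨hr.comap _, bot_le⟩ ((Ideal.comap_mono hrq).trans hc.le)
  · rintro ⟨hq, hc⟩
    exact ⟨⟨hq.1.1, Ideal.map_le_iff_le_comap.mpr hc.ge⟩, fun r hr hrq => hq.2 ⟨hr.1, bot_le⟩ hrq⟩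

theorem card_over [Module.Flat A S] (p : Ideal A) (hp : p ∈ minimalPrimes A) :
    {q ∈ minimalPrimes S | q.comap (algebraMap A S) = p}.encard =
      ENat.card (minimalPrimes ((A ⧸ p) ⊗[A] S)) := by
  let f : S →ₐ[A] (A ⧸ p) ⊗[A] S := Algebra.TensorProduct.includeRight
  have hf : Function.Surjective f := fun x => by
    induction x with
    | zero => exact ⟨0, map_zero _⟩
    | add x y hx hy =>
      obtain ⟨a, rfl⟩ := hx
      obtain ⟨b, rfl⟩ := hy
      exact ⟨a + b, map_add _ _ _⟩
    | tmul r s =>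
      obtain ⟨a, rfl⟩ := Ideal.Quotient.mk_surjective r
      refine ⟨a • s, ?_⟩
      show (1 : A ⧸ p) ⊗ₜ[A] (a • s) = _
      rw [← TensorProduct.smul_tmul, Algebra.smul_def, mul_one]
      rfl
  have hker : (⊥ : Ideal ((A ⧸ p) ⊗[A] S)).comap f.toRingHom = p.map (algebraMap A S) := by
    refine le_antisymm (fun y hy => ?_) (Ideal.map_le_iff_le_comap.mpr fun a ha => ?_)
    · let e := Algebra.TensorProduct.quotIdealMapEquivQuotTensor S p
      rw [← Ideal.Quotient.eq_zero_iff_mem]
      refine e.injective ?_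
      rw [map_zero, Algebra.TensorProduct.quotIdealMapEquivQuotTensor_mk]
      exact hy
    · show (1 : A ⧸ p) ⊗ₜ[A] algebraMap A S a = 0
      rw [← Algebra.TensorProduct.tmul_one_eq_one_tmul,
        show algebraMap A (A ⧸ p) a = 0 from Ideal.Quotient.eq_zero_iff_mem.mpr ha, TensorProduct.zero_tmul]
  rw [← minimalPrimes_map_eq p hp, ← hker, Ideal.comap_minimalPrimes_eq_of_surjective (f := f.toRingHom) hf,
    Set.InjOn.encard_image (f := Ideal.comap f.toRingHom) (fun P _ Q _ e => Ideal.comap_injective_of_surjective f.toRingHom hf e)]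
  rfl

theorem card_minimalPrimes_eq_finsum [Module.Flat A S] (h : (minimalPrimes A).Finite) :
    ENat.card (minimalPrimes S) = ∑ᶠ p : minimalPrimes A, ENat.card (minimalPrimes ((A ⧸ p.1) ⊗[A] S)) := by
  have := h.to_subtype
  have hcover : minimalPrimes S = ⋃ p : minimalPrimes A, {q ∈ minimalPrimes S | q.comap (algebraMap A S) = p.1} := by
    ext q
    simp only [Set.mem_iUnion, Set.mem_ofPred_eq]
    refine ⟨fun hq => ?_, fun ⟨_, hq, _⟩ => hq⟩
    have := hq.1.1
    refine ⟨⟨q.comap (algebraMap A S), ⟨inferInstance, bot_le⟩, fun r ⟨hr, _⟩ hle => ?_⟩, hq, rfl⟩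
    have : q.LiesOver (q.comap (algebraMap A S)) := ⟨rfl⟩
    obtain ⟨q', hq'le, hq'p, hq'c⟩ := Ideal.exists_ideal_le_liesOver_of_le (R := A) (S := S) (p := r) q hle
    exact (Ideal.comap_mono (hq.2 ⟨hq'p, bot_le⟩ hq'le)).trans hq'c.over.ge
  show (minimalPrimes S).encard = _
  conv_lhs => rw [hcover]
  rw [Set.encard_iUnion_of_finite fun p p' hne => Set.disjoint_left.mpr fun q hq hq' =>
    hne (Subtype.ext (hq.2.symm.trans hq'.2))]
  exact finsum_congr fun p => card_over p.1 p.2

variable (A) [IsLocalRing A]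

theorem numBranches_eq_finsum (h : (minimalPrimes A).Finite) :
    Brnch.numBranches A = ∑ᶠ p : minimalPrimes A, haveI : p.1.IsPrime := p.2.1.1; Brnch.numBranches (A ⧸ p.1) := by
  have := HensPoint.StrictProps.isHenselization_hull (R := A)
  let Ah := HensPoint.Hull.H A (ResidueField A)
  have : Module.Flat A Ah := HensPoint.StrictProps.hens.flat
  rw [← Branches.card_minimalPrimes_hens A Ah, card_minimalPrimes_eq_finsum h]
  refine finsum_congr fun p => ?_
  have := p.2.1.1
  have : IsLocalHom (algebraMap A (A ⧸ p.1)) := IsLocalHom.of_surjective _ Ideal.Quotient.mk_surjective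
  have : Algebra.IsIntegral A (A ⧸ p.1) :=
    Algebra.IsIntegral.of_surjective (Algebra.ofId A (A ⧸ p.1)) Ideal.Quotient.mk_surjective
  obtain ⟨_, _, _⟩ := BaseChange.local_baseChange (A := A) (B := A ⧸ p.1) (Ah := Ah)
  exact Branches.card_minimalPrimes_hens (A ⧸ p.1) ((A ⧸ p.1) ⊗[A] Ah)

theorem numGeomBranches_eq_finsum (h : (minimalPrimes A).Finite) :
    Brnch.numGeomBranches A = ∑ᶠ p : minimalPrimes A, haveI : p.1.IsPrime := p.2.1.1; Brnch.numGeomBranches (A ⧸ p.1) := by
  have := HensPoint.Strict.isStrictHenselization (R := A)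
  let Ash := HensPoint.Strict.Sh A
  have : Module.Flat A Ash := HensPoint.StrictProps.strict.flat
  rw [← Branches.card_minimalPrimes_strict A Ash, card_minimalPrimes_eq_finsum h]
  refine finsum_congr fun p => ?_
  have := p.2.1.1
  obtain ⟨q, hq, _, _⟩ := HensPoint.StrictTensor.exists_strict (A := A) (B := A ⧸ p.1) (S := Ash)
  rw [← Branches.card_minimalPrimes_strict (A ⧸ p.1) (Localization.AtPrime q)]
  -- the tensor product is local, so localizing does nothing
  let f : Ash →ₐ[A] (A ⧸ p.1) ⊗[A] Ash := Algebra.TensorProduct.includeRight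
  have hf : Function.Surjective f.toRingHom := fun x => by
    induction x with
    | zero => exact ⟨0, map_zero _⟩
    | add x y hx hy =>
      obtain ⟨a, rfl⟩ := hx
      obtain ⟨b, rfl⟩ := hy
      exact ⟨a + b, map_add _ _ _⟩
    | tmul r s =>
      obtain ⟨a, rfl⟩ := Ideal.Quotient.mk_surjective r
      refine ⟨a • s, ?_⟩
      show (1 : A ⧸ p.1) ⊗ₜ[A] (a • s) = _
      rw [← TensorProduct.smul_tmul, Algebra.smul_def, mul_one]
      rfl
  have : Nontrivial ((A ⧸ p.1) ⊗[A] Ash) := ⟨⟨0, 1, fun e => hq.ne_top ((Ideal.eq_top_iff_one q).mpr (e ▸ q.zero_mem))⟩⟩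
  have hl : IsLocalRing ((A ⧸ p.1) ⊗[A] Ash) := IsLocalRing.of_surjective' f.toRingHom hf
  refine (Branches.card_minimalPrimes_localization q.primeCompl fun x y e => ?_).symm
  obtain ⟨s, hs⟩ := (IsLocalization.eq_iff_exists q.primeCompl (Localization.AtPrime q)).mp e
  have hs' : IsUnit (s : (A ⧸ p.1) ⊗[A] Ash) := by
    rw [← notMem_maximalIdeal, ← eq_maximalIdeal hq]
    exact s.2
  exact hs'.mul_left_cancel hs

end Groth.Agent.HensPair.BranchSum
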