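import Groth.Agent.HensPair.BranchDim
import Groth.Agent.HensPair.CompletionComp
import Groth.Agent.EtaleLocal.Basic
import Mathlib.Data.List.TFAE

/-!
The condition `c₂` through normalization, henselizations and completion.
-/

set_option autoImplicit false
set_option synthInstance.maxHeartbeats 200000

noncomputable section

open IsLocalRing

namespace Groth.Agent.HensPair.C2

universe u

theorem dim_quotient_map {S T : Type u} [CommRing S] [CommRing T] [Algebra S T] [IsLocalRing S]
    [HenselianLocalRing S] [IsNoetherianRing S] [IsLocalRing T] [IsNoetherianRing T] [Module.Flat S T]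
    (hm : (maximalIdeal S).map (algebraMap S T) = maximalIdeal T) (p : Ideal S) [p.IsPrime] :
    ringKrullDim (T ⧸ p.map (algebraMap S T)) = ringKrullDim (S ⧸ p) := by
  obtain ⟨_, _, _, h⟩ := CompletionComp.quotient_facts hm p
  have := CompletionComp.flat_quotient (T := T) p
  have : IsLocalHom (algebraMap (S ⧸ p) (T ⧸ p.map (algebraMap S T))) :=
    ((local_hom_TFAE (algebraMap (S ⧸ p) (T ⧸ p.map (algebraMap S T)))).out 0 2).mpr h.le
  exact EtaleLocal.Basic.ringKrullDim_eq h

theorem components_iff {S T : Type u} [CommRing S] [CommRing T] [Algebra S T] [IsLocalRing S]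
    [HenselianLocalRing S] [IsNoetherianRing S] [IsLocalRing T] [IsNoetherianRing T] [Module.FaithfullyFlat S T]
    (hm : (maximalIdeal S).map (algebraMap S T) = maximalIdeal T)
    (hsurj : ∀ t : T, ∃ a, t - algebraMap S T a ∈ maximalIdeal T) :
    (∀ p ∈ minimalPrimes S, (2 : WithBot ℕ∞) ≤ ringKrullDim (S ⧸ p)) ↔
      ∀ q ∈ minimalPrimes T, (2 : WithBot ℕ∞) ≤ ringKrullDim (T ⧸ q) := by
  constructor
  · intro h q hq
    by_contra hlt
    rw [not_le] at hlt
    have hqp := hq.1.1
    have : Nontrivial (T ⧸ q) := Ideal.Quotient.nontrivial_iff.mpr hqp.ne_top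
    have h0 := ringKrullDim_nonneg_of_nontrivial (R := T ⧸ q)
    have hle : ringKrullDim (T ⧸ q) ≤ 1 := ENat.WithBot.lt_add_one_iff.mp (lt_of_lt_of_eq hlt (by norm_num))
    rcases h0.lt_or_eq with hpos | h00
    · have h1 : ringKrullDim (T ⧸ q) = 1 := le_antisymm hle (not_lt.mp fun h' => hpos.not_ge (ENat.WithBot.lt_add_one_iff.mp (lt_of_lt_of_eq h' (by simp))))
      obtain ⟨hp, hrad⟩ := CompletionComp.radical_map_eq hm hsurj q hq h1
      have := hp.1.1
      have h2 := h _ hp
      rw [← dim_quotient_map hm (q.comap (algebraMap S T))] at h2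
      have h3 : ringKrullDim (T ⧸ (q.comap (algebraMap S T)).map (algebraMap S T)) = ringKrullDim (T ⧸ q) := by
        conv_rhs => rw [← hrad]
        rw [ringKrullDim_quotient, ringKrullDim_quotient, PrimeSpectrum.zeroLocus_radical]
      rw [h3] at h2
      exact absurd h2 (not_le.mpr hlt)
    · have h0' : Ring.KrullDimLE 0 (T ⧸ q) := Ring.krullDimLE_iff.mpr h00.ge
      have : IsDomain (T ⧸ q) := Ideal.Quotient.isDomain q
      have hqm : q = maximalIdeal T :=
        eq_maximalIdeal (Ideal.Quotient.maximal_of_isField q Ring.KrullDimLE.isField_of_isDomain)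
      let p := q.comap (algebraMap S T)
      have hpm : p = maximalIdeal S := by
        refine eq_maximalIdeal ?_
        show (q.comap (algebraMap S T)).IsMaximal
        rw [hqm, show (maximalIdeal T).comap (algebraMap S T) = maximalIdeal S from
          (eq_of_le_of_ge (le_maximalIdeal (Ideal.comap_ne_top _ (maximalIdeal.isMaximal T).ne_top))
            (Ideal.map_le_iff_le_comap.mp hm.le))]
        exact maximalIdeal.isMaximal S
      have hpmin : p ∈ minimalPrimes S := by
        have : q.LiesOver p := ⟨rfl⟩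
        refine ⟨⟨inferInstance, bot_le⟩, fun r ⟨hr, _⟩ hle => ?_⟩
        obtain ⟨P', hP', hP'p, hP'c⟩ := Ideal.exists_ideal_le_liesOver_of_le (R := S) (S := T) (p := r) q hle
        exact (Ideal.comap_mono (hq.2 ⟨hP'p, bot_le⟩ hP')).trans hP'c.over.ge
      have h2 := h p hpmin
      rw [hpm] at h2
      let := Ideal.Quotient.field (maximalIdeal S)
      rw [ringKrullDim_eq_zero_of_field] at h2
      exact absurd h2 (by decide)
  · intro h p hp
    have := hp.1.1
    obtain ⟨⟨P, hP⟩, hPp⟩ := PrimeSpectrum.comap_surjective_of_faithfullyFlat (A := S) (B := T) ⟨p, hp.1.1⟩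
    obtain ⟨Q, hQ, hQP⟩ := Ideal.exists_minimalPrimes_le (I := ⊥) (J := P) bot_le
    have hle : Q.comap (algebraMap S T) ≤ p := (Ideal.comap_mono hQP).trans (congrArg PrimeSpectrum.asIdeal hPp).le
    have hpQ : p ≤ Q.comap (algebraMap S T) := hp.2 ⟨hQ.1.1.comap _, bot_le⟩ hle
    rw [← dim_quotient_map hm p]
    exact (h Q hQ).trans (ringKrullDim_le_of_surjective _
      (Ideal.Quotient.factor_surjective (Ideal.map_le_iff_le_comap.mpr hpQ)))

theorem tfae (A : Type u) [CommRing A] [IsNoetherianRing A] [IsLocalRing A]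
    (S : Type u) [CommRing S] [IsLocalRing S] [Algebra A S] [IsLocalHom (algebraMap A S)]
    [hS : Hensel.IsHenselization A S]
    (S' : Type u) [CommRing S'] [IsLocalRing S'] [Algebra A S'] [IsLocalHom (algebraMap A S')]
    [hS' : Hensel.IsStrictHenselization A S'] :
    List.TFAE [
      ∀ m' : MaximalSpectrum (CAlg2.normRed A), (2 : WithBot ℕ∞) ≤ ringKrullDim (Localization.AtPrime m'.asIdeal),
      ∀ p ∈ minimalPrimes S, (2 : WithBot ℕ∞) ≤ ringKrullDim (S ⧸ p),
      ∀ p ∈ minimalPrimes S', (2 : WithBot ℕ∞) ≤ ringKrullDim (S' ⧸ p),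
      ∀ q ∈ minimalPrimes (AdicCompletion (maximalIdeal A) A),
        (2 : WithBot ℕ∞) ≤ ringKrullDim (AdicCompletion (maximalIdeal A) A ⧸ q)] := by
  have hfin := minimalPrimes.finite_of_isNoetherianRing A
  have := hS.henselian
  have := hS'.henselian
  obtain ⟨h1, h2⟩ := BranchDim.dim_branch A (S := S) HensPoint.StrictProps.hens hfin
  obtain ⟨h1', h2'⟩ := BranchDim.dim_branch A (S := S') HensPoint.StrictProps.strict hfin
  tfae_have 1 → 2 := fun h p hp => by
    obtain ⟨M, hM⟩ := h1 p hp
    exact hM ▸ h M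
  tfae_have 2 → 1 := fun h M => by
    obtain ⟨p, hp, hM⟩ := h2 M
    exact hM ▸ h p hp
  tfae_have 1 → 3 := fun h p hp => by
    obtain ⟨M, hM⟩ := h1' p hp
    exact hM ▸ h M
  tfae_have 3 → 1 := fun h M => by
    obtain ⟨p, hp, hM⟩ := h2' M
    exact hM ▸ h p hp
  tfae_have 2 ↔ 4 := by
    obtain ⟨hl, hh, hloc, -, -⟩ := BranchMore.completion_facts (A := A)
    obtain ⟨g, hg, -⟩ := hS.universal (AdicCompletion (maximalIdeal A) A) (algebraMap A _) hloc
    obtain ⟨_, _, hff, _, hm, hsurj⟩ := CompletionComp.hens_completion_facts A S g hg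
    let := g.toAlgebra
    exact components_iff hm hsurj
  tfae_finish

end Groth.Agent.HensPair.C2
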