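import Groth.Agent.HensPair.CatFormula

/-!
Codimensions add up over universally catenary local rings.
-/

set_option autoImplicit false
set_option synthInstance.maxHeartbeats 200000

noncomputable section

open CategoryTheory AlgebraicGeometry TopologicalSpace Topology

namespace Groth.Agent.HensPair.CatAdd

universe u

set_option backward.isDefEq.respectTransparency false

/-- additivity of heights when the local ring is catenary -/
theorem height_add_local {R : Type u} [CommRing R] [IsDomain R] (P Q : Ideal R) [P.IsPrime] [hQ : Q.IsPrime] (h : P ≤ Q)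
    (hcat : CAlg.IsCatenary (Localization.AtPrime Q)) :
    Q.height = P.height + (Q.map (Ideal.Quotient.mk P)).height := by
  let R' := Localization.AtPrime Q
  let φ := algebraMap R R'
  let c : PrimeSpectrum R' → PrimeSpectrum R := PrimeSpectrum.comap φ
  have hc : StrictMono c := fun a b hab => lt_of_le_of_ne (Ideal.comap_mono hab.le) fun he => hab.ne
    (PrimeSpectrum.localization_comap_injective R' Q.primeCompl he)
  have hlift : ∀ I : PrimeSpectrum R, I.asIdeal ≤ Q → ∃ J, c J = I := fun I hI => by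
    have hd : Disjoint (Q.primeCompl : Set R) I.asIdeal := Set.disjoint_left.mpr fun z hz hzI => hz (hI hzI)
    exact ⟨⟨I.asIdeal.map φ, IsLocalization.isPrime_of_isPrime_disjoint _ R' _ I.2 hd⟩,
      PrimeSpectrum.ext (IsLocalization.comap_map_of_isPrime_disjoint _ R' I.2 hd)⟩
  have hrefl : ∀ a b, c a ≤ c b → a ≤ b := fun a b hab => by
    show a.asIdeal ≤ b.asIdeal
    rw [← IsLocalization.map_comap Q.primeCompl R' a.asIdeal, ← IsLocalization.map_comap Q.primeCompl R' b.asIdeal]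
    exact Ideal.map_mono hab
  have hmax : ∀ s : LTSeries (PrimeSpectrum R'), Catenary.IsMaxChain s → (c s.last).asIdeal ≤ Q →
      Catenary.IsMaxChain (s.map c hc) := by
    intro s hs hle t ht ht'
    rw [LTSeries.head_map] at ht
    rw [LTSeries.last_map] at ht'
    have htle : ∀ i, (t i).asIdeal ≤ Q := fun i => le_trans (show t i ≤ t.last from t.monotone (Fin.le_last i)) (by rw [ht']; exact hle)
    choose g hg using fun i => hlift (t i) (htle i)
    have hlt : ∀ i : Fin t.length, g i.castSucc < g i.succ := fun i => by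
      have h1 : c (g i.castSucc) < c (g i.succ) := by rw [hg, hg]; exact t.step i
      exact lt_of_le_of_ne (hrefl _ _ h1.le) fun e => h1.ne (congrArg c e)
    refine hs ⟨t.length, g, hlt⟩ (PrimeSpectrum.localization_comap_injective R' Q.primeCompl ?_)
      (PrimeSpectrum.localization_comap_injective R' Q.primeCompl ?_)
    · exact (hg 0).trans ht
    · exact (hg _).trans ht'
  obtain ⟨b₀, hb₀⟩ := hlift ⟨⊥, Ideal.isPrime_bot⟩ bot_le
  obtain ⟨b₁, hb₁⟩ := hlift ⟨P, inferInstance⟩ h
  obtain ⟨b₂, hb₂⟩ := hlift ⟨Q, hQ⟩ le_rfl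
  obtain ⟨a, ha₀, ha₁, ha⟩ := Catenary.exists_max hcat b₀ b₁ (hrefl _ _ (by rw [hb₀, hb₁]; exact bot_le))
  obtain ⟨b, hbb₀, hbb₁, hb⟩ := Catenary.exists_max hcat b₁ b₂ (hrefl _ _ (by rw [hb₁, hb₂]; exact h))
  obtain ⟨d, hd₀, hd₁, hd⟩ := Catenary.exists_max hcat b₀ b₂ (hrefl _ _ (by rw [hb₀, hb₂]; exact bot_le))
  have hA := hmax a ha (by rw [ha₁, hb₁]; exact h)
  have hB := hmax b hb (by rw [hbb₁, hb₂])
  have hD := hmax d hd (by rw [hd₁, hb₂])
  have h1 := Catenary.height_eq hA (by rw [LTSeries.head_map, ha₀, hb₀])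
  have h2 := Catenary.height_eq hD (by rw [LTSeries.head_map, hd₀, hb₀])
  have h3 := Catenary.height_map_eq hB
  rw [LTSeries.last_map, ha₁, hb₁] at h1
  rw [LTSeries.last_map, hd₁, hb₂] at h2
  rw [LTSeries.last_map, hbb₁, hb₂, LTSeries.head_map, hbb₀, hb₁] at h3
  show (⟨Q, hQ⟩ : PrimeSpectrum R).asIdeal.height = _
  rw [h2, show P.height = _ from h1, show (Q.map (Ideal.Quotient.mk P)).height = _ from h3]
  have h4 := Catenary.max_add hcat ha hb hd (ha₀.trans hd₀.symm) (ha₁.trans hbb₀.symm) (hbb₁.trans hd₁.symm)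
  exact_mod_cast h4.symm

/-- codimensions add up -/
theorem cd_add {S : Scheme.{u}} (g a b : S) (hga : g ⤳ a) (hab : a ⤳ b)
    (hcat : CAlg.IsUniversallyCatenary (S.presheaf.stalk b)) :
    CatScheme.cd g b = CatScheme.cd g a + CatScheme.cd a b := by
  obtain ⟨V, hV, hbV, -⟩ := exists_isAffineOpen_mem_and_subset (X := S) (U := ⊤) (x := b) trivial
  have haV : a ∈ V := hab.mem_open V.2 hbV
  have hgV : g ∈ V := hga.mem_open V.2 haV
  rw [CatScheme.cd_chart hV g b hgV hbV (hga.trans hab), CatScheme.cd_chart hV g a hgV haV hga,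
    CatScheme.cd_chart hV a b haV hbV hab]
  let P := (hV.primeIdealOf ⟨g, hgV⟩).asIdeal
  let I := (hV.primeIdealOf ⟨a, haV⟩).asIdeal
  let Q := (hV.primeIdealOf ⟨b, hbV⟩).asIdeal
  have hle : ∀ c d : S, ∀ hc : c ∈ V, ∀ hd : d ∈ V, c ⤳ d →
      (hV.primeIdealOf ⟨c, hc⟩).asIdeal ≤ (hV.primeIdealOf ⟨d, hd⟩).asIdeal := fun c d hc hd h =>
    (PrimeSpectrum.le_iff_specializes (hV.primeIdealOf ⟨c, hc⟩) (hV.primeIdealOf ⟨d, hd⟩)).mpr
      (hV.fromSpec.isOpenEmbedding.isInducing.specializes_iff.mp (by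
        rw [hV.fromSpec_primeIdealOf, hV.fromSpec_primeIdealOf]; exact h))
  have hPI : P ≤ I := hle g a hgV haV hga
  have hIQ : I ≤ Q := hle a b haV hbV hab
  let mk := Ideal.Quotient.mk P
  haveI : (I.map mk).IsPrime := Ideal.map_isPrime_of_surjective Ideal.Quotient.mk_surjective (by rw [Ideal.mk_ker]; exact hPI)
  haveI : (Q.map mk).IsPrime := Ideal.map_isPrime_of_surjective Ideal.Quotient.mk_surjective (by rw [Ideal.mk_ker]; exact hPI.trans hIQ)
  have hloc : CAlg.IsUniversallyCatenary (Localization.AtPrime Q) := by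
    letI := S.presheaf.algebra_section_stalk ⟨b, hbV⟩
    haveI := hV.isLocalization_stalk ⟨b, hbV⟩
    let e : S.presheaf.stalk b ≃+* Localization.AtPrime Q :=
      (IsLocalization.algEquiv Q.primeCompl (S.presheaf.stalk b) (Localization.AtPrime Q)).toRingEquiv
    letI : Algebra (S.presheaf.stalk b) (Localization.AtPrime Q) := e.toRingHom.toAlgebra
    haveI : Algebra.FiniteType (S.presheaf.stalk b) (Localization.AtPrime Q) :=
      Algebra.FiniteType.of_surjective (Algebra.ofId _ _) e.surjective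
    exact Catenary.of_finiteType hcat
  have hu := AltitudeLocal.atPrime_quot P Q (hPI.trans hIQ) hloc
  have h := height_add_local (I.map mk) (Q.map mk) (Ideal.map_mono hIQ) (hu.2 _ inferInstance)
  have he : ((Q.map mk).map (Ideal.Quotient.mk (I.map mk))).height = (Q.map (Ideal.Quotient.mk I)).height := by
    let e := DoubleQuot.quotQuotEquivQuotOfLE hPI
    rw [← e.height_comap (Q.map (Ideal.Quotient.mk I))]
    haveI : (Q.map (Ideal.Quotient.mk I)).IsPrime :=
      Ideal.map_isPrime_of_surjective Ideal.Quotient.mk_surjective (by rw [Ideal.mk_ker]; exact hIQ)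
    refine congrArg Ideal.height (Ideal.comap_injective_of_surjective _ Ideal.Quotient.mk_surjective
      (Ideal.comap_injective_of_surjective mk Ideal.Quotient.mk_surjective ?_))
    rw [Ideal.comap_map_of_surjective' _ Ideal.Quotient.mk_surjective, Ideal.mk_ker,
      sup_eq_left.mpr (Ideal.map_mono hIQ), Ideal.comap_map_of_surjective' _ Ideal.Quotient.mk_surjective,
      Ideal.mk_ker, sup_eq_left.mpr (hPI.trans hIQ)]
    have h1 : (Q.map (Ideal.Quotient.mk I)).comap (Ideal.Quotient.mk I) = Q := by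
      rw [Ideal.comap_map_of_surjective' _ Ideal.Quotient.mk_surjective, Ideal.mk_ker, sup_eq_left.mpr hIQ]
    refine h1.symm.trans ?_
    ext z
    exact Iff.rfl
  rw [he] at h
  exact_mod_cast congrArg (WithBot.some : ℕ∞ → WithBot ℕ∞) h

theorem cd_mono {X : Scheme.{u}} (ξ : X) {a b : X} (h : a ⤳ b) : CatScheme.cd ξ a ≤ CatScheme.cd ξ b :=
  Order.krullDim_le_of_strictMono (fun t => (⟨t.1, t.2.1, t.2.2.trans h⟩ : {t : X | ξ ⤳ t ∧ t ⤳ b})) fun _ _ h => h

/-- topological dimension of the generizations inside a closure -/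
theorem topDim_gen {S : Scheme.{u}} (a s : S) (h : a ⤳ s) :
    topologicalKrullDim ↥({t : S | t ∈ closure ({a} : Set S) ∧ t ⤳ s}) = CatScheme.cd a s := by
  let R := S.presheaf.stalk s
  have hrange : ∀ Q : PrimeSpectrum R, S.fromSpecStalk s Q ⤳ s := fun Q => by
    have : S.fromSpecStalk s Q ∈ Set.range (S.fromSpecStalk s) := ⟨Q, rfl⟩
    rwa [Scheme.range_fromSpecStalk] at this
  have hsp : ∀ Q Q' : PrimeSpectrum R, S.fromSpecStalk s Q ⤳ S.fromSpecStalk s Q' ↔ Q ≤ Q' := fun Q Q' =>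
    (S.fromSpecStalk s).isEmbedding.isInducing.specializes_iff.trans (PrimeSpectrum.le_iff_specializes _ _).symm
  obtain ⟨P₀, hP₀⟩ : a ∈ Set.range (S.fromSpecStalk s) := by rw [Scheme.range_fromSpecStalk]; exact h
  let P : PrimeSpectrum R := P₀
  have hP : S.fromSpecStalk s P = a := hP₀
  let mk := Ideal.Quotient.mk P.asIdeal
  have hmk := PrimeSpectrum.isClosedEmbedding_comap_of_surjective (R ⧸ P.asIdeal) mk Ideal.Quotient.mk_surjective
  let φ : PrimeSpectrum (R ⧸ P.asIdeal) → S := fun Q => S.fromSpecStalk s (PrimeSpectrum.comap mk Q)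
  have hφ : IsEmbedding φ := (S.fromSpecStalk s).isEmbedding.comp hmk.isEmbedding
  have hr : Set.range φ = {t : S | t ∈ closure ({a} : Set S) ∧ t ⤳ s} := by
    ext t
    constructor
    · rintro ⟨Q, rfl⟩
      refine ⟨((specializes_of_eq hP.symm).trans ((hsp P _).mpr fun z hz => ?_)).mem_closure, hrange _⟩
      show mk z ∈ Q.asIdeal
      rw [Ideal.Quotient.eq_zero_iff_mem.mpr hz]; exact zero_mem _
    · rintro ⟨ht, hts⟩
      obtain ⟨Q₀, hQ₀⟩ : t ∈ Set.range (S.fromSpecStalk s) := by rw [Scheme.range_fromSpecStalk]; exact hts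
      let Q : PrimeSpectrum R := Q₀
      have hQ : S.fromSpecStalk s Q = t := hQ₀
      have hPQ : P ≤ Q := (hsp P Q).mp (by rw [hP, hQ]; exact specializes_iff_mem_closure.mpr ht)
      obtain ⟨Q₁, hQ₁⟩ : Q ∈ Set.range (PrimeSpectrum.comap mk) := by
        rw [range_comap_of_surjective _ _ Ideal.Quotient.mk_surjective, Ideal.mk_ker]; exact hPQ
      exact ⟨Q₁, by show S.fromSpecStalk s _ = t; rw [hQ₁, hQ]⟩
  rw [← hr, ← IsHomeomorph.topologicalKrullDim_eq _ hφ.toHomeomorph.isHomeomorph,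
    PrimeSpectrum.topologicalKrullDim_eq_ringKrullDim]
  refine le_antisymm ?_ ?_
  · show ringKrullDim _ ≤ _
    rw [show ringKrullDim (R ⧸ P.asIdeal) = Order.krullDim (PrimeSpectrum (R ⧸ P.asIdeal))ᵒᵈ from Order.krullDim_orderDual.symm]
    refine Order.krullDim_le_of_strictMono (fun Q => (⟨φ (OrderDual.ofDual Q), ?_⟩ : {t : S | a ⤳ t ∧ t ⤳ s})) fun Q Q' hQ => ?_
    · have h1 := hr.le ⟨OrderDual.ofDual Q, rfl⟩
      exact ⟨specializes_iff_mem_closure.mpr h1.1, h1.2⟩
    · have h1 := RingHom.strictMono_comap_of_surjective (f := mk) Ideal.Quotient.mk_surjective hQ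
      exact ⟨(hsp _ _).mpr h1.le, fun h2 => h1.not_ge ((hsp _ _).mp h2)⟩
  · show CatScheme.cd a s ≤ ringKrullDim _
    have hpre : ∀ t : {t : S | a ⤳ t ∧ t ⤳ s}, ∃ Q, φ Q = t.1 := fun t => hr.ge ⟨t.2.1.mem_closure, t.2.2⟩
    choose g hg using hpre
    refine le_of_le_of_eq (Order.krullDim_le_of_strictMono (fun t => OrderDual.toDual (g t)) fun x y hxy => ?_) Order.krullDim_orderDual
    have h1 : PrimeSpectrum.comap mk (g y) ≤ PrimeSpectrum.comap mk (g x) := (hsp _ _).mp (by
      show φ (g y) ⤳ φ (g x)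
      rw [hg, hg]; exact hxy.le)
    show g y < g x
    refine lt_of_le_of_ne (show (g y).asIdeal ≤ (g x).asIdeal from ?_) fun e => hxy.ne (Subtype.ext (by rw [← hg x, ← hg y, e]))
    exact (Ideal.comap_le_comap_iff_of_surjective mk Ideal.Quotient.mk_surjective _ _).mp h1

end Groth.Agent.HensPair.CatAdd
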