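import Groth.Agent.HensPair.Chevalley

/-!
Consequences of Chevalley's criterion.
-/

set_option autoImplicit false
set_option synthInstance.maxHeartbeats 200000

noncomputable section

open CategoryTheory CategoryTheory.Limits AlgebraicGeometry TopologicalSpace Topology

namespace Groth.Agent.HensPair.ChevalleyCor

universe u

set_option backward.isDefEq.respectTransparency false

theorem dim_subsingleton {α : Type*} [TopologicalSpace α] [Subsingleton α] : topologicalKrullDim α ≤ 0 := by
  refine TopDim.Basic.dim_le fun s => ?_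
  by_contra h
  have hl : 0 < s.length := Nat.pos_of_ne_zero fun h0 => h (by rw [h0]; exact le_rfl)
  have h1 := s.step ⟨0, hl⟩
  obtain ⟨a, ha⟩ := (s (Fin.castSucc ⟨0, hl⟩)).isIrreducible.nonempty
  have h2 : s (Fin.castSucc ⟨0, hl⟩) < s (Fin.succ ⟨0, hl⟩) := h1
  refine h2.ne (SetLike.ext fun z => ⟨fun hz => h2.le hz, fun _ => ?_⟩)
  rwa [Subsingleton.elim z a]

theorem localDim_isolated {α : Type*} [TopologicalSpace α] (a : α) (h : IsOpen ({a} : Set α)) :
    FlatMor.localDim α a ≤ 0 := by
  refine (TopDim.Basic.localDim_le a ⟨{a}, h⟩ rfl).trans ?_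
  haveI : Subsingleton ((⟨{a}, h⟩ : Opens α) : Set α) :=
    ⟨fun p q => Subtype.ext ((Set.mem_singleton_iff.mp p.2).trans (Set.mem_singleton_iff.mp q.2).symm)⟩
  exact dim_subsingleton

theorem dim_nonneg {α : Type*} [TopologicalSpace α] (a : α) : (0 : WithBot ℕ∞) ≤ topologicalKrullDim α :=
  haveI : Nonempty (IrreducibleCloseds α) := ⟨⟨closure {a}, isIrreducible_singleton.closure, isClosed_closure⟩⟩
  Order.krullDim_nonneg

/-- irreducible source and base -/
theorem universallyOpen_of_irreducible {X Y : Scheme.{u}} [IrreducibleSpace X] [IrreducibleSpace Y]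
    (hY : ∀ y : Y, CAlg2.IsGeomUnibranch (Y.presheaf.stalk y)) (f : X ⟶ Y) [LocallyOfFiniteType f] [IsDominant f]
    (h : ∀ x : X, FlatMor.fibreDimAt f x = topologicalKrullDim ↥(f.fiber (f.base (genericPoint X)))) :
    UniversallyOpen f :=
  UnivOpenGeomUni.universallyOpen_of_univOpenAt fun x =>
    Chevalley.univOpenAt_of_dim f f.denseRange x
      (by rw [h x, show f.base (genericPoint X) = genericPoint Y from Chevalley.map_genericPoint f f.denseRange])
      (hY _)

theorem universallyOpen_of_quasiFinite {X Y : Scheme.{u}} (f : X ⟶ Y) [LocallyQuasiFinite f] [LocallyOfFiniteType f]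
    [IsLocallyNoetherian Y] (hY : ∀ y : Y, CAlg2.IsGeomUnibranch (Y.presheaf.stalk y))
    (hdom : ∀ Z ∈ irreducibleComponents ↑X, ∀ x : X, IsGenericPoint x Z →
      ∃ W ∈ irreducibleComponents ↑Y, IsGenericPoint (f x) W) :
    UniversallyOpen f := by
  refine UnivOpenGeomUni.universallyOpen_of_univOpenAt fun x => ?_
  obtain ⟨V, hxV, hVirr, hVW⟩ := Chevalley.exists_irreducible_nhd (f x) (hY _)
  have hZ := irreducibleComponent_mem_irreducibleComponents x
  have hgen : IsGenericPoint hZ.1.genericPoint (irreducibleComponent x) :=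
    hZ.1.isGenericPoint_genericPoint isClosed_irreducibleComponent
  obtain ⟨W, hW, hfW⟩ := hdom _ hZ _ hgen
  have hsp : hZ.1.genericPoint ⤳ x := hgen.specializes mem_irreducibleComponent
  have hyW : f x ∈ W := by
    rw [← hfW.def]
    exact (hsp.map f.continuous).mem_closure
  have hη : (genericPoint (V : Scheme.{u})).1 = f hZ.1.genericPoint := by
    refine Chevalley.genericPoint_unique V _ ?_ fun z hz => ?_
    · rw [hfW.def]; exact hVW W hW hyW (genericPoint (V : Scheme.{u})).2
    · have hle : W ⊆ closure {z} := by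
        rw [← hfW.def]
        exact closure_minimal (Set.singleton_subset_iff.mpr hz.mem_closure) isClosed_closure
      have h1 : z ∈ W := hW.2 isIrreducible_singleton.closure hle (subset_closure rfl)
      exact (hz.antisymm (hfW.specializes h1)).eq
  refine Chevalley.univOpenAt_of_component f x (irreducibleComponent x) isClosed_irreducibleComponent hZ.1
    mem_irreducibleComponent V hxV ?_ ?_ (hY _)
  · rw [hη]
    exact subset_closure ⟨_, hgen.mem, rfl⟩
  · refine le_trans ?_ (dim_nonneg (⟨hZ.1.genericPoint, hgen.mem, hη.symm⟩ :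
      ↥(irreducibleComponent x ∩ f ⁻¹' {(genericPoint (V : Scheme.{u})).1})))
    refine localDim_isolated _ ?_
    obtain ⟨O, hO, hOx⟩ := (isDiscrete_iff_forall_exists_isOpen.mp (f.isDiscrete_preimage_singleton (f x))) x rfl
    refine isOpen_induced_iff.mpr ⟨O, hO, Set.ext fun s => ⟨fun hs => ?_, fun hs => ?_⟩⟩
    · exact Subtype.ext (hOx.le ⟨hs, s.2.2⟩)
    · show s.1 ∈ O
      rw [Set.mem_singleton_iff.mp hs]
      exact (hOx.ge rfl).1

/-- equidimensional at a point over a geometrically unibranch point -/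
theorem univOpenAt_of_equidimAt {X Y : Scheme.{u}} (f : X ⟶ Y) [LocallyOfFiniteType f] (x : X)
    (hY : CAlg2.IsGeomUnibranch (Y.presheaf.stalk (f x)))
    (hV : ∃ V : Y.Opens, f x ∈ V ∧ IrreducibleSpace (V : Scheme.{u}) ∧ ∀ W ∈ irreducibleComponents (Y : Type u),
      f x ∈ W → (V : Set Y) ⊆ W)
    (h : EGA43.IsEquidimAt f x) : EGA43.IsUnivOpenAt f x := by
  obtain ⟨e, U, hxU, hcomp, hfib⟩ := h
  let q := U.ι ≫ f
  let a : (U : Scheme.{u}) := ⟨x, hxU⟩
  suffices hq : EGA43.IsUnivOpenAt q a from UnivOpenAt.of_comp hq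
  obtain ⟨V, hxV, hVirr, hVW⟩ := hV
  have : QuasiSober (↥U : Type u) := U.2.isOpenEmbedding_subtypeVal.quasiSober
  have hZ := irreducibleComponent_mem_irreducibleComponents a
  obtain ⟨W, hW, hxW, hWc⟩ := hcomp _ hZ
  have hgen : IsGenericPoint hZ.1.genericPoint (irreducibleComponent a) :=
    hZ.1.isGenericPoint_genericPoint isClosed_irreducibleComponent
  let ξ : (U : Scheme.{u}) := hZ.1.genericPoint
  have hcl : closure (q '' irreducibleComponent a) = closure {q ξ} :=
    Equidim.AffineCrit.closure_image_component q.continuous hZ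
  have hWc' : closure (q '' irreducibleComponent a) = W := hWc
  have hWq : closure {q ξ} = W := hcl.symm.trans hWc'
  have hη : (genericPoint (V : Scheme.{u})).1 = q ξ := by
    refine Chevalley.genericPoint_unique V _ ?_ fun z hz => ?_
    · rw [hWq]; exact hVW W hW hxW (genericPoint (V : Scheme.{u})).2
    · have hle : W ⊆ closure {z} := by
        rw [← hWq]
        exact closure_minimal (Set.singleton_subset_iff.mpr hz.mem_closure) isClosed_closure
      have h1 : z ∈ W := hW.2 isIrreducible_singleton.closure hle (subset_closure rfl)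
      rw [← hWq] at h1
      exact (hz.antisymm (specializes_iff_mem_closure.mpr h1)).eq
  have hdimle : ∀ y : Y, topologicalKrullDim ↥(q.fiber y) ≤ (e : ℕ) := fun y => by
    refine Equidim.dim_le_of_components fun C hC => ?_
    obtain ⟨c, hc⟩ := hC.1.nonempty
    have hy : q (q.fiberι y c) = y := (q.range_fiberι y).subset ⟨c, rfl⟩
    obtain ⟨a', ha'⟩ : ∃ a' : (U : Scheme.{u}), q a' = y := ⟨_, hy⟩
    subst ha'
    exact (hfib a' C hC).le
  refine Chevalley.univOpenAt_of_component q a (irreducibleComponent a) isClosed_irreducibleComponent hZ.1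
    mem_irreducibleComponent V hxV ?_ ?_ hY
  · rw [hη]
    exact subset_closure ⟨_, hgen.mem, rfl⟩
  · refine le_trans ((TopDim.Basic.localDim_le_dim _).trans ?_) (?_ : ((e : ℕ) : WithBot ℕ∞) ≤ _)
    · refine le_trans (Equidim.dim_le_of_range
        (φ := fun s : ↥(irreducibleComponent a ∩ q ⁻¹' {q a}) => (s : (U : Scheme.{u})))
        IsInducing.subtypeVal (q.fiberι (q a)).isEmbedding fun s => ?_) (hdimle (q a))
      rw [q.range_fiberι]
      exact s.2.2
    · obtain ⟨c, hc⟩ : ξ ∈ Set.range (q.fiberι (q ξ)) := by rw [q.range_fiberι]; rfl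
      have hcmax : ∀ p, p ⤳ c → p = c := fun p hp => (q.fiberι (q ξ)).isEmbedding.injective <| by
        have h1 := hp.map (q.fiberι (q ξ)).continuous
        exact (Equidim.AffineCrit.genericPoint_maximal hZ _ (h1.trans (specializes_of_eq hc))).trans hc.symm
      rw [← hfib ξ _ (Equidim.closure_mem_irreducibleComponents c hcmax)]
      refine Equidim.dim_le_of_range (φ := fun s : ↥(closure ({c} : Set ↥(q.fiber (q ξ)))) => q.fiberι (q ξ) s.1)
        ((q.fiberι (q ξ)).isEmbedding.isInducing.comp IsInducing.subtypeVal) IsEmbedding.subtypeVal fun s => ?_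
      refine ⟨⟨q.fiberι (q ξ) s.1, ?_, ?_⟩, rfl⟩
      · rw [← hgen.def]
        refine specializes_iff_mem_closure.mp ?_
        show ξ ⤳ _
        exact (specializes_of_eq hc.symm).trans ((specializes_iff_mem_closure.mpr s.2).map (q.fiberι (q ξ)).continuous)
      · show q (q.fiberι (q ξ) s.1) = _
        rw [hη]
        exact (q.range_fiberι (q ξ)).subset ⟨_, rfl⟩

theorem universallyOpen_of_equidim {X Y : Scheme.{u}} [IsLocallyNoetherian Y]
    (hY : ∀ y : Y, CAlg2.IsGeomUnibranch (Y.presheaf.stalk y)) (f : X ⟶ Y) [LocallyOfFiniteType f]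
    (h : ∀ x : X, EGA43.IsEquidimAt f x) : UniversallyOpen f :=
  UnivOpenGeomUni.universallyOpen_of_univOpenAt fun x =>
    univOpenAt_of_equidimAt f x (hY _) (Chevalley.exists_irreducible_nhd (f x) (hY _)) (h x)

/-- irreducible neighbourhoods when there are finitely many components -/
theorem exists_irreducible_nhd_of_finite {Y : Scheme.{u}} (hfin : (irreducibleComponents (Y : Type u)).Finite)
    (y : Y) (hy : CAlg2.IsGeomUnibranch (Y.presheaf.stalk y)) :
    ∃ V : Y.Opens, y ∈ V ∧ IrreducibleSpace (V : Scheme.{u}) ∧ ∀ W ∈ irreducibleComponents (Y : Type u),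
      y ∈ W → (V : Set Y) ⊆ W := by
  classical
  have h1 : {Z : Set ↑Y | Z ∈ irreducibleComponents ↑Y ∧ y ∈ Z}.encard = 1 := by
    rw [HensPair.BranchScheme.card_components, HensPair.BranchUnibranch.card_eq_one_iff]
    have := hy.1.1
    have hN : (nilradical (Y.presheaf.stalk y)).IsPrime := (Ideal.Quotient.isDomain_iff_prime _).mp this
    exact ⟨nilradical _, ⟨⟨hN, bot_le⟩, fun J ⟨hJ, _⟩ _ => nilradical_le_prime J⟩,
      fun J hJ => le_antisymm (hJ.2 ⟨hN, bot_le⟩ (haveI := hJ.1.1; nilradical_le_prime J))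
        (haveI := hJ.1.1; nilradical_le_prime J)⟩
  obtain ⟨Z₀, hZ₀⟩ := Set.encard_eq_one.mp h1
  let bad : Set (Set Y) := {W | W ∈ irreducibleComponents (Y : Type u) ∧ y ∉ W}
  let V : Y.Opens := ⟨(⋃ W ∈ bad, W)ᶜ,
    (Set.Finite.isClosed_biUnion (hfin.subset fun W hW => hW.1) fun W hW =>
      isClosed_of_mem_irreducibleComponents W hW.1 : IsClosed (⋃ W ∈ bad, W)).isOpen_compl⟩
  have hyV : y ∈ V := fun h => by
    obtain ⟨W, hW, hyW⟩ := Set.mem_iUnion₂.mp h
    exact hW.2 hyW
  have hsub : (V : Set Y) ⊆ Z₀ := fun z hz => by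
    by_cases hy' : y ∈ irreducibleComponent z
    · have : irreducibleComponent z ∈ {Z : Set ↑Y | Z ∈ irreducibleComponents ↑Y ∧ y ∈ Z} :=
        ⟨irreducibleComponent_mem_irreducibleComponents z, hy'⟩
      rw [hZ₀] at this
      exact this ▸ mem_irreducibleComponent
    · exact absurd (Set.mem_iUnion₂.mpr
        ⟨_, (show irreducibleComponent z ∈ bad from ⟨irreducibleComponent_mem_irreducibleComponents z, hy'⟩),
          mem_irreducibleComponent⟩) hz
  have hZ₀mem : Z₀ ∈ irreducibleComponents ↥Y :=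
    (show Z₀ ∈ {Z : Set ↑Y | Z ∈ irreducibleComponents ↑Y ∧ y ∈ Z} by rw [hZ₀]; rfl).1
  have hirr : IsIrreducible (V : Set Y) := ⟨⟨y, hyV⟩, hZ₀mem.1.2.open_subset V.2 hsub⟩
  have hVirr : IrreducibleSpace (V : Scheme.{u}) := (Subtype.irreducibleSpace hirr : IrreducibleSpace (V : Set Y))
  refine ⟨V, hyV, hVirr, fun W hW hyW => ?_⟩
  have : W ∈ ({Z₀} : Set (Set Y)) := hZ₀ ▸ (⟨hW, hyW⟩ : W ∈ {Z : Set ↑Y | Z ∈ irreducibleComponents ↑Y ∧ y ∈ Z})
  rw [Set.mem_singleton_iff.mp this]
  exact hsub

theorem universallyOpen_of_conditionT {X S : Scheme.{u}}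
    (hS : ∀ s : S, CAlg2.IsGeomUnibranch (S.presheaf.stalk s))
    (hfin : (irreducibleComponents (S : Type u)).Finite)
    (f : X ⟶ S) [LocallyOfFiniteType f]
    (hT : ∀ x : X, ∃ W : TopologicalSpace.Closeds X, (W : Set X) ∈ irreducibleComponents (X : Type u) ∧
      ∃ w : ↥((Scheme.IdealSheafData.vanishingIdeal W).subscheme),
        (Scheme.IdealSheafData.vanishingIdeal W).subschemeι.base w = x ∧
        EGA43.IsEquidimAt ((Scheme.IdealSheafData.vanishingIdeal W).subschemeι ≫ f) w) :
    UniversallyOpen f := by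
  refine UnivOpenGeomUni.universallyOpen_of_univOpenAt fun x => ?_
  obtain ⟨W, -, w, rfl, hw⟩ := hT x
  exact UnivOpenAt.of_comp
    (univOpenAt_of_equidimAt _ w (hS _) (exists_irreducible_nhd_of_finite hfin _ (hS _)) hw)

end Groth.Agent.HensPair.ChevalleyCor
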