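import Groth.Agent.DimFibre.Basic
import Groth.Agent.Equidim.AffineCrit
import Groth.Prelude.Def_EGA43

/-!
Dimension of local rings along a morphism open at the maximal points of the fibre.
-/

set_option autoImplicit false
set_option synthInstance.maxHeartbeats 200000

noncomputable section

open CategoryTheory CategoryTheory.Limits AlgebraicGeometry TopologicalSpace Topology

namespace Groth.Agent.HensPair.OpenStalkDim

universe u

set_option backward.isDefEq.respectTransparency false

theorem nat_le_dim_of_surjective (n : ℕ) : ∀ (R S : Type u) [CommRing R] [CommRing S] [IsLocalRing R] [IsLocalRing S]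
    [IsNoetherianRing R] [IsNoetherianRing S] (φ : R →+* S), Function.Surjective (PrimeSpectrum.comap φ) →
    (∀ Q : PrimeSpectrum S, Q.asIdeal.comap φ = IsLocalRing.maximalIdeal R → Q.asIdeal = IsLocalRing.maximalIdeal S) →
    ((n : ℕ) : WithBot ℕ∞) ≤ ringKrullDim R → ((n : ℕ) : WithBot ℕ∞) ≤ ringKrullDim S := by
  induction n with
  | zero => intros; exact_mod_cast ringKrullDim_nonneg_of_nontrivial
  | succ n ih =>
    intro R S _ _ _ _ _ _ φ hsurj honly hn
    classical
    let m := IsLocalRing.maximalIdeal R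
    have hmin : ∀ Q ∈ minimalPrimes S, Q.comap φ ≠ m := fun Q hQ he => by
      have hQm : Q = IsLocalRing.maximalIdeal S := honly ⟨Q, hQ.1.1⟩ he
      have : Subsingleton (PrimeSpectrum S) := ⟨fun a b => by
        have key : ∀ c : PrimeSpectrum S, c.asIdeal = IsLocalRing.maximalIdeal S := fun c => by
          have hc : c.asIdeal ≤ IsLocalRing.maximalIdeal S := IsLocalRing.le_maximalIdeal c.2.ne_top
          refine le_antisymm hc (hQm ▸ hQ.2 ⟨c.2, bot_le⟩ (by rw [hQm]; exact hc))
        exact PrimeSpectrum.ext ((key a).trans (key b).symm)⟩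
      have : Subsingleton (PrimeSpectrum R) := hsurj.subsingleton
      have h0 : ringKrullDim R ≤ 0 := Order.krullDim_nonpos_of_subsingleton
      have h2 : n + 1 ≤ 0 := by exact_mod_cast hn.trans h0
      omega
    have hfin := minimalPrimes.finite_of_isNoetherianRing S
    obtain ⟨r, hrm, hr⟩ : ∃ r ∈ m, ∀ Q ∈ minimalPrimes S, r ∉ Q.comap φ := by
      by_contra hc
      push Not at hc
      have hsub : (m : Set R) ⊆ ⋃ Q ∈ (hfin.toFinset : Set (Ideal S)), ((Q.comap φ : Ideal R) : Set R) := fun r hr => by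
        obtain ⟨Q, hQ, h⟩ := hc r hr
        exact Set.mem_iUnion₂.mpr ⟨Q, hfin.mem_toFinset.mpr hQ, h⟩
      obtain ⟨Q, hQ, hle⟩ := (Ideal.subset_union_prime (f := fun Q : Ideal S => Q.comap φ) ⊥ ⊥ fun Q hQ _ _ =>
        haveI := (hfin.mem_toFinset.mp hQ).1.1
        Ideal.IsPrime.comap φ).mp hsub
      have hQ' := hfin.mem_toFinset.mp hQ
      haveI := hQ'.1.1
      exact hmin Q hQ' (le_antisymm (IsLocalRing.le_maximalIdeal (Ideal.IsPrime.comap (K := Q) φ).ne_top) hle)
    have hsm : φ r ∈ IsLocalRing.maximalIdeal S := by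
      obtain ⟨Q, hQ⟩ := hsurj ⟨m, inferInstance⟩
      have h1 := honly Q (congrArg PrimeSpectrum.asIdeal hQ)
      rw [← h1]
      exact (congrArg PrimeSpectrum.asIdeal hQ).ge hrm
    let I := Ideal.span ({r} : Set R)
    let J := Ideal.span ({φ r} : Set S)
    have hI : I ≠ ⊤ := fun h => (IsLocalRing.maximalIdeal.isMaximal R).ne_top
      (top_le_iff.mp (h.ge.trans ((Ideal.span_singleton_le_iff_mem _).mpr hrm)))
    have hJ : J ≠ ⊤ := fun h => (IsLocalRing.maximalIdeal.isMaximal S).ne_top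
      (top_le_iff.mp (h.ge.trans ((Ideal.span_singleton_le_iff_mem _).mpr hsm)))
    have : Nontrivial (R ⧸ I) := Ideal.Quotient.nontrivial_iff.mpr hI
    have : Nontrivial (S ⧸ J) := Ideal.Quotient.nontrivial_iff.mpr hJ
    have : IsLocalRing (R ⧸ I) := IsLocalRing.of_surjective' _ Ideal.Quotient.mk_surjective
    have : IsLocalRing (S ⧸ J) := IsLocalRing.of_surjective' _ Ideal.Quotient.mk_surjective
    have hIJ : I ≤ J.comap φ := (Ideal.span_singleton_le_iff_mem _).mpr (Ideal.mem_span_singleton_self _)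
    let ψ : R ⧸ I →+* S ⧸ J := Ideal.quotientMap J φ hIJ
    have hmaxR : (IsLocalRing.maximalIdeal (R ⧸ I)).comap (Ideal.Quotient.mk I) = m :=
      IsLocalRing.eq_maximalIdeal (Ideal.comap_isMaximal_of_surjective _ Ideal.Quotient.mk_surjective)
    have hmaxS : (IsLocalRing.maximalIdeal (S ⧸ J)).comap (Ideal.Quotient.mk J) = IsLocalRing.maximalIdeal S :=
      IsLocalRing.eq_maximalIdeal (Ideal.comap_isMaximal_of_surjective _ Ideal.Quotient.mk_surjective)
    have hψ : ∀ K : Ideal (S ⧸ J), (K.comap ψ).comap (Ideal.Quotient.mk I) = (K.comap (Ideal.Quotient.mk J)).comap φ :=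
      fun K => rfl
    have hsurj' : Function.Surjective (PrimeSpectrum.comap ψ) := fun P => by
      obtain ⟨Q, hQ⟩ := hsurj (PrimeSpectrum.comap (Ideal.Quotient.mk I) P)
      have hrQ : φ r ∈ Q.asIdeal := (congrArg PrimeSpectrum.asIdeal hQ).ge (by
        show Ideal.Quotient.mk I r ∈ P.asIdeal
        rw [Ideal.Quotient.eq_zero_iff_mem.mpr (Ideal.mem_span_singleton_self r)]
        exact zero_mem _)
      obtain ⟨Q', hQ'⟩ : Q ∈ Set.range (PrimeSpectrum.comap (Ideal.Quotient.mk J)) := by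
        rw [range_comap_of_surjective _ _ Ideal.Quotient.mk_surjective, Ideal.mk_ker]
        exact (Ideal.span_singleton_le_iff_mem _).mpr hrQ
      refine ⟨Q', PrimeSpectrum.comap_injective_of_surjective _ Ideal.Quotient.mk_surjective ?_⟩
      rw [← hQ, ← hQ']
      exact PrimeSpectrum.ext (hψ _)
    have honly' : ∀ Q : PrimeSpectrum (S ⧸ J), Q.asIdeal.comap ψ = IsLocalRing.maximalIdeal (R ⧸ I) →
        Q.asIdeal = IsLocalRing.maximalIdeal (S ⧸ J) := fun Q hQ => by
      refine Ideal.comap_injective_of_surjective _ Ideal.Quotient.mk_surjective ?_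
      rw [hmaxS]
      exact honly (PrimeSpectrum.comap (Ideal.Quotient.mk J) Q) (by
        show (Q.asIdeal.comap (Ideal.Quotient.mk J)).comap φ = _
        rw [← hψ, hQ, hmaxR])
    have h1 : ((n : ℕ) : WithBot ℕ∞) ≤ ringKrullDim (R ⧸ I) := by
      have h2 := ringKrullDim_le_ringKrullDim_quotient_add_card ({r} : Finset R) (by
        rw [IsLocalRing.ringJacobson_eq_maximalIdeal]; simp only [Finset.coe_singleton, Set.singleton_subset_iff]; exact hrm)
      rw [Finset.coe_singleton, Finset.card_singleton] at h2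
      have h3 := hn.trans h2
      have h0 : (0 : WithBot ℕ∞) ≤ ringKrullDim (R ⧸ I) := ringKrullDim_nonneg_of_nontrivial
      change _ ≤ ringKrullDim (R ⧸ I) + _ at h3
      cases hd : ringKrullDim (R ⧸ I) with
      | bot => rw [hd] at h0; exact absurd h0 (by simp)
      | coe e =>
        cases e with
        | top => exact WithBot.coe_le_coe.mpr le_top
        | coe e =>
          rw [hd] at h3
          have h4 : n + 1 ≤ e + 1 := by exact_mod_cast h3
          exact_mod_cast Nat.le_of_succ_le_succ h4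
    have h2 := ih (R ⧸ I) (S ⧸ J) ψ hsurj' honly' h1
    -- a chain above `φ r` can be extended by a minimal prime
    obtain ⟨l, hl⟩ := Order.le_krullDim_iff.mp h2
    let l' : LTSeries (PrimeSpectrum S) := l.map (PrimeSpectrum.comap (Ideal.Quotient.mk J))
      (RingHom.strictMono_comap_of_surjective Ideal.Quotient.mk_surjective)
    obtain ⟨Q₀, hQ₀, hQ₀le⟩ := Ideal.exists_minimalPrimes_le (bot_le (a := l'.head.asIdeal))
    have hlt : (⟨Q₀, hQ₀.1.1⟩ : PrimeSpectrum S) < l'.head := by
      refine lt_of_le_of_ne hQ₀le fun he => hr Q₀ hQ₀ ?_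
      have h3 : φ r ∈ l'.head.asIdeal := by
        show Ideal.Quotient.mk J (φ r) ∈ l.head.asIdeal
        rw [Ideal.Quotient.eq_zero_iff_mem.mpr (Ideal.mem_span_singleton_self _)]
        exact zero_mem _
      rw [← he] at h3
      exact h3
    refine Order.le_krullDim_iff.mpr ⟨l'.cons _ hlt, ?_⟩
    simp [l', hl]

theorem exists_generization {X Y : Scheme.{u}} [IsLocallyNoetherian X] (f : X ⟶ Y) (z : X)
    (hopen : EGA43.IsOpenAt f.base z) (y' : Y) (hy' : y' ⤳ f z) : ∃ w : X, w ⤳ z ∧ f w = y' := by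
  classical
  obtain ⟨V, hV, hzV, -⟩ := exists_isAffineOpen_mem_and_subset (X := X) (U := ⊤) (x := z) trivial
  have : CompactSpace (V : Scheme.{u}) := isCompact_iff_compactSpace.mp hV.isCompact
  have : AlgebraicGeometry.IsNoetherian (V : Scheme.{u}) := {}
  let T : Set (V : Scheme.{u}) := V.ι ⁻¹' (f ⁻¹' {y'})
  have hN : NoetherianSpace ↥T := IsInducing.noetherianSpace IsInducing.subtypeVal
  have hfin := NoetherianSpace.finite_irreducibleComponents (α := ↥T)
  let g : ↥T → X := fun t => V.ι t.1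
  let bad : Set (Set ↥T) := {C | C ∈ irreducibleComponents ↥T ∧ z ∉ closure (g '' C)}
  let N : Set X := (V : Set X) ∩ (⋃ C ∈ bad, closure (g '' C))ᶜ
  have hN' : N ∈ nhds z := (V.2.inter
    ((hfin.subset fun C hC => hC.1).isClosed_biUnion fun _ _ => isClosed_closure).isOpen_compl).mem_nhds
    ⟨hzV, fun h => by obtain ⟨C, hC, hzC⟩ := Set.mem_iUnion₂.mp h; exact hC.2 hzC⟩
  obtain ⟨O, hOs, hO, hyO⟩ := mem_nhds_iff.mp (hopen N hN')
  obtain ⟨a, ⟨haV, ha⟩, hay⟩ := hOs (hy'.mem_open hO hyO)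
  let t : ↥T := ⟨(⟨a, haV⟩ : (V : Scheme.{u})), hay⟩
  have hC := irreducibleComponent_mem_irreducibleComponents t
  have hzC : z ∈ closure (g '' irreducibleComponent t) := by_contra fun h => ha
    (Set.mem_iUnion₂.mpr ⟨_, ⟨hC, h⟩, subset_closure ⟨t, mem_irreducibleComponent, rfl⟩⟩)
  have hg : Continuous g := V.ι.continuous.comp continuous_subtype_val
  have hirr := (hC.1.image g hg.continuousOn).closure
  have hω := hirr.isGenericPoint_genericPoint isClosed_closure
  let ω := hirr.genericPoint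
  refine ⟨ω, hω.specializes hzC, ?_⟩
  have h1 : ω ⤳ a := hω.specializes (subset_closure ⟨t, mem_irreducibleComponent, rfl⟩)
  have h2 : f ω ∈ closure ({y'} : Set Y) := by
    refine closure_minimal ?_ (isClosed_closure.preimage f.continuous) hω.mem
    rintro _ ⟨s, -, rfl⟩
    exact subset_closure (show f (g s) = y' from s.2)
  exact (((h1.map f.continuous).trans (specializes_of_eq hay)).antisymm (specializes_iff_mem_closure.mpr h2)).eq

theorem nat_le_dim_of_openAt {X Y : Scheme.{u}} [IsLocallyNoetherian X] [IsLocallyNoetherian Y] (f : X ⟶ Y) (z : X)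
    (hmax : ∀ w : X, w ⤳ z → f w = f z → w = z) (hopen : EGA43.IsOpenAt f.base z) (n : ℕ)
    (hn : ((n : ℕ) : WithBot ℕ∞) ≤ ringKrullDim (Y.presheaf.stalk (f z))) :
    ((n : ℕ) : WithBot ℕ∞) ≤ ringKrullDim (X.presheaf.stalk z) := by
  have hnat : ∀ Q : PrimeSpectrum (X.presheaf.stalk z),
      Y.fromSpecStalk (f z) (PrimeSpectrum.comap (f.stalkMap z).hom Q) = f (X.fromSpecStalk z Q) :=
    fun Q => congr($(Scheme.SpecMap_stalkMap_fromSpecStalk f (x := z)) Q)
  refine nat_le_dim_of_surjective n _ _ (f.stalkMap z).hom (fun P => ?_) (fun Q hQ => ?_) hn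
  · have hP : Y.fromSpecStalk (f z) P ⤳ f z := by
      have : Y.fromSpecStalk (f z) P ∈ Set.range (Y.fromSpecStalk (f z)) := ⟨P, rfl⟩
      rwa [Scheme.range_fromSpecStalk] at this
    obtain ⟨w, hwz, hw⟩ := exists_generization f z hopen _ hP
    obtain ⟨Q, rfl⟩ : w ∈ Set.range (X.fromSpecStalk z) := by rw [Scheme.range_fromSpecStalk]; exact hwz
    exact ⟨Q, (Y.fromSpecStalk (f z)).isEmbedding.injective ((hnat Q).trans hw)⟩
  · have hQz : X.fromSpecStalk z Q ⤳ z := by
      have : X.fromSpecStalk z Q ∈ Set.range (X.fromSpecStalk z) := ⟨Q, rfl⟩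
      rwa [Scheme.range_fromSpecStalk] at this
    have he : f (X.fromSpecStalk z Q) = f z := by
      rw [← hnat, show PrimeSpectrum.comap (f.stalkMap z).hom Q = IsLocalRing.closedPoint _ from PrimeSpectrum.ext hQ,
        Scheme.fromSpecStalk_closedPoint]
    exact congrArg PrimeSpectrum.asIdeal ((X.fromSpecStalk z).isEmbedding.injective
      ((hmax _ hQz he).trans Scheme.fromSpecStalk_closedPoint.symm))

theorem add_le_dim_of_openAt {X Y : Scheme.{u}} [IsLocallyNoetherian X] [IsLocallyNoetherian Y] (f : X ⟶ Y) (x : X)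
    (h : ∀ z : ↥(f.fiber (f x)), f.asFiber x ∈ closure {z} →
      (∀ z' : ↥(f.fiber (f x)), z ∈ closure {z'} → z' = z) →
      EGA43.IsOpenAt f.base (f.fiberι (f x) z)) (k n : ℕ)
    (hk : (k : ℕ∞) ≤ Order.coheight (f.asFiber x)) (hn : ((n : ℕ) : WithBot ℕ∞) ≤ ringKrullDim (Y.presheaf.stalk (f x))) :
    ((k + n : ℕ) : ℕ∞) ≤ Order.coheight x := by
  let ι := f.fiberι (f x)
  obtain ⟨l, hl, hlk⟩ := Order.exists_series_of_le_coheight _ hk
  obtain ⟨g, hg, hgmax⟩ := Equidim.AffineCrit.exists_maximal_above l.last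
  have hgx : g ⤳ f.asFiber x := by
    have h1 : l.head ≤ l.last := l.head_le_last
    rw [hl] at h1
    exact hg.trans h1
  have hmax : ∀ w : X, w ⤳ ι g → f w = f (ι g) → w = ι g := fun w hw he => by
    obtain ⟨c, rfl⟩ := (f.range_fiberι (f x)).ge (he.trans ((f.range_fiberι (f x)).subset ⟨g, rfl⟩))
    exact congrArg ι (hgmax c (ι.isEmbedding.isInducing.specializes_iff.mp hw))
  have hfg : f (ι g) = f x := (f.range_fiberι (f x)).subset ⟨g, rfl⟩
  have h2 := nat_le_dim_of_openAt f (ι g) hmax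
    (h g hgx.mem_closure fun z' hz' => hgmax z' (specializes_iff_mem_closure.mpr hz')) n (hfg.symm ▸ hn)
  rw [ringKrullDim_stalk_eq_coheight] at h2
  obtain ⟨q, hq, hqn⟩ := Order.exists_series_of_le_coheight (ι g) (show ((n : ℕ) : ℕ∞) ≤ _ by exact_mod_cast h2)
  have hmono : StrictMono (ι : ↥(f.fiber (f x)) → X) := fun a b hab =>
    ⟨(show b ⤳ a from hab.le).map ι.continuous, fun hle => hab.not_ge (ι.isEmbedding.isInducing.specializes_iff.mp hle)⟩
  obtain ⟨l₂, hl₂h, hl₂l, hl₂n⟩ : ∃ l₂ : LTSeries X, l₂.head = x ∧ l₂.last = ι g ∧ k ≤ l₂.length := by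
    let l₁ := l.map ι hmono
    have hh : l₁.head = x := by
      show ι l.head = x
      rw [hl]; exact f.fiberι_asFiber x
    by_cases he : l.last = g
    · exact ⟨l₁, hh, congrArg ι he, by simp [l₁, hlk]⟩
    · have hlt : l₁.last < ι g := hmono ⟨hg, fun hle => he ((show l.last ⤳ g from hle).antisymm hg).eq⟩
      exact ⟨l₁.snoc _ hlt, by rw [RelSeries.head_snoc]; exact hh, RelSeries.last_snoc _ _ _, by simp [l₁, hlk]⟩
  refine le_trans ?_ (Order.length_le_coheight (x := x) (p := l₂.smash q (hl₂l.trans hq.symm))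
    (le_of_eq (by rw [RelSeries.head_smash]; exact hl₂h.symm)))
  rw [RelSeries.smash_length, hqn]
  exact_mod_cast Nat.add_le_add_right hl₂n n

end Groth.Agent.HensPair.OpenStalkDim
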