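import Groth.Agent.HensPair.EquidimCore
import Groth.Agent.HensPair.OpenStalkDim
import Groth.Agent.HensPair.ChevalleyCor

/-!
Equidimensionality at a point over a geometrically unibranch point gives an equidimensional local ring.
-/

set_option autoImplicit false
set_option synthInstance.maxHeartbeats 200000

noncomputable section

open CategoryTheory AlgebraicGeometry TopologicalSpace Topology

namespace Groth.Agent.HensPair.EquidimStalk

universe u

set_option backward.isDefEq.respectTransparency false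

theorem isEquidim_of_ringEquiv {R S : Type u} [CommRing R] [CommRing S] (e : R ≃+* S) (h : EGA4.IsEquidim R) :
    EGA4.IsEquidim S := by
  intro p hp
  haveI := hp.1.1
  have hp' : p.comap e.toRingHom ∈ minimalPrimes R := ⟨⟨inferInstance, bot_le⟩, fun J hJ hle => by
    haveI := hJ.1
    have h1 : p ≤ J.comap e.symm.toRingHom := hp.2 ⟨inferInstance, bot_le⟩ fun z hz => by
      have h2 : e (e.symm z) ∈ p := hle (show e.symm z ∈ J from hz)
      rwa [e.apply_symm_apply] at h2
    intro z hz
    have h2 : e.symm (e z) ∈ J := h1 (show e z ∈ p from hz)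
    rwa [e.symm_apply_apply] at h2⟩
  rw [← ringKrullDim_eq_of_ringEquiv e, ← h _ hp']
  refine (ringKrullDim_eq_of_ringEquiv (Ideal.quotientEquiv _ _ e ?_)).symm
  exact (Ideal.map_comap_of_surjective e.toRingHom e.surjective p).symm

theorem T_comp {T X Y : Scheme.{u}} (i : T ⟶ X) [IsClosedImmersion i] (f : X ⟶ Y) [LocallyOfFiniteType f] (t : T) :
    FibreTrdeg.T (i ≫ f) t = FibreTrdeg.T f (i t) := by
  letI := (f.residueFieldMap (i t)).hom.toAlgebra
  letI := ((i ≫ f).residueFieldMap t).hom.toAlgebra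
  have hb : Function.Bijective (i.residueFieldMap t).hom := ⟨RingHom.injective _, fun z => by
    obtain ⟨z, rfl⟩ := T.residue_surjective t z
    obtain ⟨z, rfl⟩ := i.stalkMap_surjective t z
    exact ⟨(X.residue (i t)).hom z, congr($(Scheme.residue_residueFieldMap i t).hom z)⟩⟩
  have h := AltitudeScheme.trdeg_congr (A₁ := Y.residueField (f (i t))) (B₁ := X.residueField (i t))
    (A₂ := Y.residueField ((i ≫ f) t)) (B₂ := T.residueField t) (RingHom.id _) Function.bijective_id
    (i.residueFieldMap t).hom hb (RingHom.injective _) (fun a => by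
      show _ = ((i ≫ f).residueFieldMap t).hom a
      rw [Scheme.residueFieldMap_comp]
      rfl)
  exact congrArg Cardinal.toNat h.symm

variable {X Y : Scheme.{u}} [IsLocallyNoetherian Y] (f : X ⟶ Y) [LocallyOfFiniteType f]

/-- constant fibre dimension -/
theorem fibreDimAt_eq (e : ℕ) (hfib : ∀ x' : X, ∀ Z ∈ irreducibleComponents (↥(f.fiber (f x')) : Type u),
      topologicalKrullDim (↥Z : Type u) = e) (a : X) : FlatMor.fibreDimAt f a = (e : ℕ) := by
  refine le_antisymm ((Equidim.fibreDimAt_le_dim f a).trans (Equidim.dim_le_of_components fun C hC => (hfib a C hC).le)) ?_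
  rw [← hfib a _ (irreducibleComponent_mem_irreducibleComponents (f.asFiber a))]
  exact Equidim.AffineCrit.le_localDim f (f a) _ isIrreducible_irreducibleComponent isClosed_irreducibleComponent _
    mem_irreducibleComponent

set_option maxHeartbeats 800000 in
theorem stalk_equidim (a : X) (hy : CAlg2.IsGeomUnibranch (Y.presheaf.stalk (f a))) (e : ℕ)
    (hcomp : ∀ Z ∈ irreducibleComponents (X : Type u),
      ∃ W ∈ irreducibleComponents (Y : Type u), f a ∈ W ∧ closure (f '' Z) = W)
    (hfib : ∀ x' : X, ∀ Z ∈ irreducibleComponents (↥(f.fiber (f x')) : Type u),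
      topologicalKrullDim (↥Z : Type u) = e) :
    EGA4.IsEquidim (X.presheaf.stalk a) := by
  classical
  haveI : IsLocallyNoetherian X := LocallyOfFiniteType.isLocallyNoetherian f
  intro P hP
  haveI := hP.1.1
  refine le_antisymm (ringKrullDim_le_of_surjective _ Ideal.Quotient.mk_surjective) ?_
  let R := X.presheaf.stalk a
  let Pp : PrimeSpectrum R := ⟨P, hP.1.1⟩
  let ξ := X.fromSpecStalk a Pp
  have hξa : ξ ⤳ a := by
    have : ξ ∈ Set.range (X.fromSpecStalk a) := ⟨Pp, rfl⟩
    rwa [Scheme.range_fromSpecStalk] at this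
  have hsp : ∀ Q Q' : PrimeSpectrum R, X.fromSpecStalk a Q ⤳ X.fromSpecStalk a Q' ↔ Q ≤ Q' := fun Q Q' =>
    (X.fromSpecStalk a).isEmbedding.isInducing.specializes_iff.trans (PrimeSpectrum.le_iff_specializes _ _).symm
  have hmax : ∀ z : X, z ⤳ ξ → z = ξ := fun z hz => by
    obtain ⟨Q, rfl⟩ : z ∈ Set.range (X.fromSpecStalk a) := by rw [Scheme.range_fromSpecStalk]; exact hz.trans hξa
    have hle : Q.asIdeal ≤ P := (hsp Q Pp).mp hz
    exact congrArg _ (PrimeSpectrum.ext (le_antisymm hle (hP.2 ⟨Q.2, bot_le⟩ hle)))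
  -- the component
  let C : Closeds X := ⟨closure {ξ}, isClosed_closure⟩
  let T := (Scheme.IdealSheafData.vanishingIdeal C).subscheme
  let i : T ⟶ X := (Scheme.IdealSheafData.vanishingIdeal C).subschemeι
  have hr : Set.range i = closure {ξ} := by exact Scheme.IdealSheafData.range_subschemeι _
  obtain ⟨t₀, ht₀⟩ : ξ ∈ Set.range i := by rw [hr]; exact subset_closure rfl
  obtain ⟨s, hs⟩ : a ∈ Set.range i := by rw [hr]; exact hξa.mem_closure
  have hgen : ∀ t : T, t₀ ⤳ t := fun t => i.isEmbedding.isInducing.specializes_iff.mp <| by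
    rw [ht₀]; exact specializes_iff_mem_closure.mpr (hr.le ⟨t, rfl⟩)
  haveI : IrreducibleSpace T := Chevalley.irreducibleSpace_of_range i i.isEmbedding isIrreducible_singleton.closure hr
  haveI : IsLocallyNoetherian T := LocallyOfFiniteType.isLocallyNoetherian i
  let h := i ≫ f
  obtain ⟨W, hW, haW, hWc⟩ := hcomp _ (Equidim.closure_mem_irreducibleComponents ξ hmax)
  have hWξ : closure ({f ξ} : Set Y) = W := by
    rw [← hWc]
    refine le_antisymm (closure_mono (Set.singleton_subset_iff.mpr ⟨ξ, subset_closure rfl, rfl⟩))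
      (closure_minimal ?_ isClosed_closure)
    exact (image_closure_subset_closure_image f.continuous).trans (by rw [Set.image_singleton])
  obtain ⟨V, haV, hVirr, hVW⟩ := Chevalley.exists_irreducible_nhd (f a) hy
  have hη : (genericPoint (V : Scheme.{u})).1 = f ξ :=
    Chevalley.genericPoint_unique V _ (hWξ.ge (hVW W hW haW (genericPoint (V : Scheme.{u})).2))
      (ChevalleyTfae.maximal_of_component hW hWξ)
  have hfd := fibreDimAt_eq f e hfib
  have hTξ : FibreTrdeg.T f ξ = e := by
    have h1 := FibreTrdeg.fibreDimAt_eq_T_of_maximal f ξ fun z _ hz => hmax z (specializes_iff_mem_closure.mpr hz)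
    rw [hfd] at h1
    exact_mod_cast h1.symm
  have hTh : FibreTrdeg.T h t₀ = e := by rw [T_comp, ht₀, hTξ]
  -- openness along the special fibre
  have hopen : ∀ g : T, h g = h s → EGA43.IsOpenAt h.base g := fun g hg => by
    have hga : h g = f a := hg.trans (show f (i s) = f a by rw [hs])
    refine ChevalleyTfae.isOpenAt_of_univOpenAt h ?_
    refine Chevalley.univOpenAt_of_component h g Set.univ isClosed_univ (IrreducibleSpace.isIrreducible_univ T) trivial V
      (by rw [hga]; exact haV) ?_ ?_ (by rw [hga]; exact hy)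
    · rw [hη, ← ht₀]; exact subset_closure ⟨t₀, trivial, rfl⟩
    · refine le_trans (TopDim.Basic.localDim_le_dim _) (le_trans (?_ : _ ≤ ((e : ℕ) : WithBot ℕ∞)) ?_)
      · refine le_trans (Equidim.dim_le_of_range (φ := fun w : ↥(Set.univ ∩ h ⁻¹' {h g}) => i w.1)
          (i.isEmbedding.isInducing.comp IsInducing.subtypeVal) (f.fiberι (f a)).isEmbedding fun w => ?_)
          (Equidim.dim_le_of_components fun C hC => (hfib a C hC).le)
        rw [f.range_fiberι]
        exact w.2.2.trans hga
      · obtain ⟨c, hc⟩ : ξ ∈ Set.range (f.fiberι (f ξ)) := by rw [f.range_fiberι]; rfl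
        have hcmax : ∀ p, p ⤳ c → p = c := fun p hp => (f.fiberι (f ξ)).isEmbedding.injective
          ((hmax _ ((hp.map (f.fiberι (f ξ)).continuous).trans (specializes_of_eq hc))).trans hc.symm)
        rw [← hfib ξ _ (Equidim.closure_mem_irreducibleComponents c hcmax)]
        refine Equidim.dim_le_of_range (φ := fun w : ↥(closure ({c} : Set ↥(f.fiber (f ξ)))) => f.fiberι (f ξ) w.1)
          ((f.fiberι (f ξ)).isEmbedding.isInducing.comp IsInducing.subtypeVal) (i.isEmbedding.comp IsEmbedding.subtypeVal) fun w => ?_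
        obtain ⟨w', hw'⟩ : f.fiberι (f ξ) w.1 ∈ Set.range i := by
          rw [hr]
          exact ((specializes_of_eq hc.symm).trans
            ((specializes_iff_mem_closure.mpr w.2).map (f.fiberι (f ξ)).continuous)).mem_closure
        refine ⟨⟨w', trivial, ?_⟩, hw'⟩
        show f (i w') = _
        rw [hw', hη]
        exact (f.range_fiberι (f ξ)).subset ⟨w.1, rfl⟩
  obtain ⟨kh, hkh, hdh⟩ := FibreTrdeg.main h s
  obtain ⟨k, hk, hdk⟩ := FibreTrdeg.main f a
  rw [hfd] at hdk
  have hk_le : k ≤ kh := by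
    have h1 : (((e : ℕ)) : WithBot ℕ∞) ≤ (((kh + FibreTrdeg.T h s : ℕ)) : WithBot ℕ∞) := by
      rw [← hdh, ← hTh]
      exact (FibreTrdeg.T_le_fibreDimAt h t₀).trans (FibreTrdeg.fibreDimAt_mono h (hgen s))
    have h2 : e ≤ kh + FibreTrdeg.T h s := by exact_mod_cast h1
    have h3 : e = k + FibreTrdeg.T f a := by exact_mod_cast hdk
    rw [show FibreTrdeg.T h s = FibreTrdeg.T f a by rw [T_comp, hs]] at h2
    omega
  obtain ⟨d, hd⟩ := EquidimCore.natCast_of_bounds (ringKrullDim (Y.presheaf.stalk (f a))) ringKrullDim_ne_bot ringKrullDim_ne_top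
  have hsa : h s = f a := show f (i s) = f a by rw [hs]
  have hlow := OpenStalkDim.add_le_dim_of_openAt h s
    (fun z _ _ => hopen _ ((h.range_fiberι (h s)).subset ⟨z, rfl⟩)) k d
    (by rw [hkh]; exact_mod_cast hk_le) (by rw [hsa, hd])
  obtain ⟨l, hl, hlen⟩ := Order.exists_series_of_le_coheight s hlow
  have hup : ringKrullDim (X.presheaf.stalk a) ≤ ((k + d : ℕ) : WithBot ℕ∞) := by
    refine (DimFibre.ringKrullDim_le_add f a (DimFibre.quot_dim_le_fibre_stalk f a)).trans (le_of_eq ?_)
    rw [hd, ringKrullDim_stalk_eq_coheight (f.asFiber a), hk]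
    push_cast
    rw [add_comm]
  refine hup.trans ?_
  rw [ringKrullDim_quotient, ← hlen]
  -- lift the chain to the spectrum
  have hmem : ∀ j, i (l j) ∈ Set.range (X.fromSpecStalk a) := fun j => by
    rw [Scheme.range_fromSpecStalk, ← hs]
    have h1 : l.head ≤ l j := l.monotone (Fin.zero_le j)
    rw [hl] at h1
    exact (show l j ⤳ s from h1).map i.continuous
  choose Q' hQ' using hmem
  let Q : Fin (l.length + 1) → PrimeSpectrum R := Q'
  have hQ : ∀ j, X.fromSpecStalk a (Q j) = i (l j) := hQ'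
  have hmemW : ∀ j, Q j ∈ PrimeSpectrum.zeroLocus (P : Set R) := fun j =>
    (hsp Pp (Q j)).mp (by rw [hQ]; exact specializes_iff_mem_closure.mpr (hr.le ⟨l j, rfl⟩))
  refine le_of_le_of_eq (Order.LTSeries.length_le_krullDim (⟨l.length, fun j => ⟨Q j.rev, hmemW _⟩, fun j => ?_⟩ :
    LTSeries ↥(PrimeSpectrum.zeroLocus (P : Set R)))) rfl
  show (⟨Q j.castSucc.rev, hmemW _⟩ : ↥(PrimeSpectrum.zeroLocus (P : Set R))) < ⟨Q j.succ.rev, hmemW _⟩
  have hlt : l j.succ.rev < l j.castSucc.rev := l.strictMono (Fin.rev_lt_rev.mpr j.castSucc_lt_succ)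
  have hle : Q j.castSucc.rev ≤ Q j.succ.rev := (hsp (Q j.castSucc.rev) (Q j.succ.rev)).mp (by
    rw [hQ, hQ]; exact (show l j.castSucc.rev ⤳ l j.succ.rev from hlt.le).map i.continuous)
  refine Subtype.mk_lt_mk.mpr (lt_of_le_of_ne hle fun he => hlt.ne ?_)
  refine i.isEmbedding.injective ?_
  rw [← hQ, ← hQ, he]

end Groth.Agent.HensPair.EquidimStalk
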