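import Groth.Agent.HensPair.FibreTrdeg
import Mathlib.RingTheory.KrullDimension.NonZeroDivisors

/-!
Transcendence degrees along specializations inside one fibre.
-/

set_option autoImplicit false
set_option synthInstance.maxHeartbeats 200000

noncomputable section

open CategoryTheory AlgebraicGeometry TopologicalSpace Topology

namespace Groth.Agent.HensPair.FibreSpec

universe u

set_option backward.isDefEq.respectTransparency false

/-- in a domain of finite type over a field, a covering prime has quotient of dimension one less -/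
theorem quot_dim_bounds (K F : Type u) [Field K] [CommRing F] [Algebra K F] [Algebra.FiniteType K F]
    (M M' : PrimeSpectrum F) (h : M < M') (n n' : ℕ) (hn : ringKrullDim (F ⧸ M.asIdeal) = n)
    (hn' : ringKrullDim (F ⧸ M'.asIdeal) = n') :
    n' < n ∧ ((∀ P : PrimeSpectrum F, M ≤ P → P ≤ M' → P = M ∨ P = M') → n ≤ n' + 1) := by
  let mk := Ideal.Quotient.mk M.asIdeal
  let P := M'.asIdeal.map mk
  haveI : P.IsPrime := Ideal.map_isPrime_of_surjective Ideal.Quotient.mk_surjective (by rw [Ideal.mk_ker]; exact h.le)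
  have hP : P.comap mk = M'.asIdeal := by
    rw [Ideal.comap_map_of_surjective' _ Ideal.Quotient.mk_surjective, Ideal.mk_ker, sup_eq_left.mpr h.le]
  have e : ringKrullDim ((F ⧸ M.asIdeal) ⧸ P) = n' := by
    refine Eq.trans ?_ hn'
    exact ringKrullDim_eq_of_ringEquiv (DoubleQuot.quotQuotEquivQuotOfLE h.le)
  refine ⟨?_, fun himm => ?_⟩
  · obtain ⟨r, hr, hrM⟩ := Set.exists_of_ssubset (lt_of_le_of_ne h.le fun he => h.ne (PrimeSpectrum.ext he) : M.asIdeal < M'.asIdeal)
    have hnz : mk r ∈ nonZeroDivisors (F ⧸ M.asIdeal) :=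
      mem_nonZeroDivisors_of_ne_zero fun h0 => hrM (Ideal.Quotient.eq_zero_iff_mem.mp h0)
    have h1 := ringKrullDim_quotient_succ_le_of_nonZeroDivisor hnz
    rw [hn] at h1
    have h2 : (n' : WithBot ℕ∞) ≤ ringKrullDim ((F ⧸ M.asIdeal) ⧸ Ideal.span {mk r}) := by
      rw [← e]
      exact ringKrullDim_le_of_surjective (Ideal.Quotient.factor ((Ideal.span_singleton_le_iff_mem _).mpr (Ideal.mem_map_of_mem mk hr)))
        (Ideal.Quotient.factor_surjective _)
    have h3 : ((n' + 1 : ℕ) : WithBot ℕ∞) ≤ n := by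
      push_cast
      exact (add_le_add h2 le_rfl).trans h1
    have h4 : n' + 1 ≤ n := by exact_mod_cast h3
    omega
  · have h1 := Equidim.ringKrullDim_le_height_add K (F ⧸ M.asIdeal) P
    rw [hn, e] at h1
    have h2 : P.height ≤ 1 := by
      rw [PrimeSpectrum.height_eq_orderHeight (R := F ⧸ M.asIdeal) ⟨P, inferInstance⟩]
      refine Order.height_le fun l hl => ?_
      by_contra hlt
      have hlen : 2 ≤ l.length := by
        have : (1 : ℕ∞) < l.length := not_le.mp hlt
        exact_mod_cast this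
      have hsm := RingHom.strictMono_comap_of_surjective (f := mk) Ideal.Quotient.mk_surjective
      let Q := PrimeSpectrum.comap mk (l ⟨1, by omega⟩)
      have h01 : l 0 < l ⟨1, by omega⟩ := l.strictMono (by simp [Fin.lt_def])
      have h12 : l ⟨1, by omega⟩ < l.last := l.strictMono (by simp [Fin.lt_def]; omega)
      have hMQ : M < Q := lt_of_le_of_lt (fun z hz => by
        show mk z ∈ (l 0).asIdeal
        rw [Ideal.Quotient.eq_zero_iff_mem.mpr hz]; exact zero_mem _) (hsm h01)
      have hQM : Q < M' := by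
        have h3 := hsm h12
        rwa [show PrimeSpectrum.comap mk l.last = M' from PrimeSpectrum.ext (by rw [hl]; exact hP)] at h3
      rcases himm Q hMQ.le hQM.le with h | h
      exacts [hMQ.ne h.symm, hQM.ne h]
    have h3 : ((n : ℕ) : WithBot ℕ∞) ≤ ((1 : ℕ∞) : WithBot ℕ∞) + n' := h1.trans (add_le_add (WithBot.coe_le_coe.mpr h2) le_rfl)
    have h4 : n ≤ 1 + n' := by exact_mod_cast h3
    omega

variable {X Y : Scheme.{u}} (f : X ⟶ Y) [LocallyOfFiniteType f]

theorem T_bounds (x x' : X) (hsp : x ⤳ x') (hne : x ≠ x') (hfx : f x = f x') :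
    FibreTrdeg.T f x' < FibreTrdeg.T f x ∧ ((∀ y : X, f y = f x → x ⤳ y → y ⤳ x' → y = x ∨ y = x') →
      FibreTrdeg.T f x ≤ FibreTrdeg.T f x' + 1) := by
  obtain ⟨U₀, hU₀, hyU₀, -⟩ := exists_isAffineOpen_mem_and_subset (X := Y) (U := ⊤) (x := f x') trivial
  obtain ⟨V, hV, hxV, hVU⟩ := exists_isAffineOpen_mem_and_subset (X := X) (U := f ⁻¹ᵁ U₀) (x := x') hyU₀
  let : Algebra Γ(Y, U₀) Γ(X, V) := (f.appLE U₀ V hVU).hom.toAlgebra
  haveI : Algebra.FiniteType Γ(Y, U₀) Γ(X, V) := Equidim.finiteType_chart f hU₀ hV hVU rfl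
  let π := AlgHom.id Γ(Y, U₀) Γ(X, V)
  have hπ : Function.Surjective π := Function.surjective_id
  let p := hU₀.primeIdealOf ⟨f x', hyU₀⟩
  have hp : hU₀.fromSpec p = f x' := hU₀.fromSpec_primeIdealOf _
  have hlift : ∀ z : X, z ∈ V → f z = f x' → ∃ M, Equidim.ch hV π p M = z := fun z hzV hz => by
    obtain ⟨Q, hQ⟩ := hV.range_fromSpec.superset hzV
    obtain ⟨M, hM⟩ := Equidim.exists_ch f hU₀ hV hVU rfl π hπ p Q
      (fun a ha => by rw [(show a = 0 from ha)]; exact Ideal.zero_mem _) (by rw [hQ, hp]; exact hz)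
    exact ⟨M, hM.trans hQ⟩
  obtain ⟨M', hM'⟩ := hlift x' hxV rfl
  obtain ⟨M, hM⟩ := hlift x (hsp.mem_open V.2 hxV) hfx
  have hlt : M < M' := lt_of_le_of_ne ((Equidim.ch_specializes hV π hπ p M M').mp (by rw [hM, hM']; exact hsp))
    fun he => hne (by rw [← hM, ← hM', he])
  obtain ⟨h1, h2⟩ := quot_dim_bounds p.asIdeal.ResidueField _ M M' hlt _ _
    (FibreTrdeg.quot_dim_eq_T f hU₀ hV hVU rfl p M x hM) (FibreTrdeg.quot_dim_eq_T f hU₀ hV hVU rfl p M' x' hM')
  refine ⟨h1, fun himm => h2 fun P hMP hPM => ?_⟩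
  have hinj := (Equidim.ch_isEmbedding hV π hπ p).injective
  rcases himm (Equidim.ch hV π p P) (((Equidim.f_ch f hU₀ hV hVU rfl π p P).trans hp).trans hfx.symm)
    (by rw [← hM]; exact (Equidim.ch_specializes hV π hπ p M P).mpr hMP)
    (by rw [← hM']; exact (Equidim.ch_specializes hV π hπ p P M').mpr hPM) with h | h
  · exact Or.inl (hinj (h.trans hM.symm))
  · exact Or.inr (hinj (h.trans hM'.symm))

end Groth.Agent.HensPair.FibreSpec
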