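import Groth.Agent.HensPair.CatScheme
import Groth.Agent.DimFibre.Basic
import Groth.Agent.HensPair.EquidimStalk
import Groth.Agent.HensPair.FibreSpec

/-!
Consequences of the dimension formula over universally catenary local rings.
-/

set_option autoImplicit false
set_option synthInstance.maxHeartbeats 200000

noncomputable section

open CategoryTheory AlgebraicGeometry TopologicalSpace Topology

namespace Groth.Agent.HensPair.CatFormula

universe u

variable {X Y : Scheme.{u}} (f : X ⟶ Y) [IsLocallyNoetherian Y] [LocallyOfFiniteType f]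

/-- the dimensions at a point: local ring, base, fibre, and the upper bound -/
theorem dims (x : X) : ∃ m d k : ℕ, ringKrullDim (X.presheaf.stalk x) = (m : ℕ) ∧
    ringKrullDim (Y.presheaf.stalk (f x)) = (d : ℕ) ∧
    ringKrullDim ((f.fiber (f.base x)).presheaf.stalk (f.asFiber x)) = (k : ℕ) ∧ m ≤ d + k ∧
    FlatMor.fibreDimAt f x = ((k + FibreTrdeg.T f x : ℕ) : WithBot ℕ∞) := by
  haveI : IsLocallyNoetherian X := LocallyOfFiniteType.isLocallyNoetherian f
  obtain ⟨m, hm⟩ := EquidimCore.natCast_of_bounds (ringKrullDim (X.presheaf.stalk x)) ringKrullDim_ne_bot ringKrullDim_ne_top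
  obtain ⟨d, hd⟩ := EquidimCore.natCast_of_bounds (ringKrullDim (Y.presheaf.stalk (f x))) ringKrullDim_ne_bot ringKrullDim_ne_top
  obtain ⟨k, hk, he⟩ := FibreTrdeg.main f x
  have hk' : ringKrullDim ((f.fiber (f.base x)).presheaf.stalk (f.asFiber x)) = (k : ℕ) := by
    rw [ringKrullDim_stalk_eq_coheight (f.asFiber x), hk]; rfl
  refine ⟨m, d, k, hm, hd, hk', ?_, he⟩
  have h := DimFibre.ringKrullDim_le_add f x (DimFibre.quot_dim_le_fibre_stalk f x)
  rw [hm, hd, hk'] at h
  exact_mod_cast h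

theorem formula_of_eq (x : X) (m d k : ℕ) (h : m = d + k) (hm : ringKrullDim (X.presheaf.stalk x) = (m : ℕ))
    (hd : ringKrullDim (Y.presheaf.stalk (f x)) = (d : ℕ))
    (hk : ringKrullDim ((f.fiber (f.base x)).presheaf.stalk (f.asFiber x)) = (k : ℕ)) :
    ringKrullDim (X.presheaf.stalk x) = ringKrullDim (Y.presheaf.stalk (f.base x)) +
      ringKrullDim ((f.fiber (f.base x)).presheaf.stalk (f.asFiber x)) := by
  rw [hm, hd, hk, h]; push_cast; rfl

theorem eq_of_formula (x : X) (m d k : ℕ) (hm : ringKrullDim (X.presheaf.stalk x) = (m : ℕ))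
    (hd : ringKrullDim (Y.presheaf.stalk (f x)) = (d : ℕ))
    (hk : ringKrullDim ((f.fiber (f.base x)).presheaf.stalk (f.asFiber x)) = (k : ℕ))
    (h : ringKrullDim (X.presheaf.stalk x) = ringKrullDim (Y.presheaf.stalk (f.base x)) +
      ringKrullDim ((f.fiber (f.base x)).presheaf.stalk (f.asFiber x))) : m = d + k := by
  rw [hm, hd, hk] at h
  exact_mod_cast h

theorem maximal_iff (z : X) : (∀ z' : X, f z' = f z → z' ⤳ z → z' = z) ↔
    ∀ z' : X, f z' = f z → z ∈ closure {z'} → z' = z := by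
  simp only [specializes_iff_mem_closure]

/-- the formula from a fibre component of full dimension -/
theorem of_component (x z : X) (hcat : CAlg.IsUniversallyCatenary (Y.presheaf.stalk (f x))) (hfz : f z = f x)
    (hzx : z ⤳ x) (hmax : ∀ z' : X, f z' = f z → z' ⤳ z → z' = z)
    (hfd : FlatMor.fibreDimAt f z = FlatMor.fibreDimAt f x)
    (hz : ringKrullDim (X.presheaf.stalk z) = ringKrullDim (Y.presheaf.stalk (f z))) :
    ringKrullDim (X.presheaf.stalk x) = ringKrullDim (Y.presheaf.stalk (f.base x)) +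
      ringKrullDim ((f.fiber (f.base x)).presheaf.stalk (f.asFiber x)) := by
  obtain ⟨m, d, k, hm, hd, hk, hle, he⟩ := dims f x
  refine formula_of_eq f x m d k ?_ hm hd hk
  rw [hfz, hd] at hz
  obtain ⟨ξ, hξz, hξmax, hξ⟩ := CatScheme.exists_component_dim z d hz
  have hTz := FibreTrdeg.fibreDimAt_eq_T_of_maximal f z ((maximal_iff f z).mp hmax)
  rw [hfd, he] at hTz
  have hTz' : k + FibreTrdeg.T f x = FibreTrdeg.T f z := by exact_mod_cast hTz
  have hTξ : FibreTrdeg.T f ξ ≤ FibreTrdeg.T f z := by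
    have h1 := (FibreTrdeg.T_le_fibreDimAt f ξ).trans (FibreTrdeg.fibreDimAt_mono f (hξz.trans hzx))
    rw [he, hTz'] at h1
    exact_mod_cast h1
  obtain ⟨j, i, hi, hj, hineq, -⟩ := CatScheme.alt f z ξ hξz
  obtain ⟨j', i', hi', hj', -, heq⟩ := CatScheme.alt f x ξ (hξz.trans hzx)
  have hii : i = d := by rw [hξ] at hi; exact_mod_cast hi.symm
  rw [hfz, hj'] at hj
  have hjj : j' = j := by exact_mod_cast hj
  have hjd : j' ≤ d := by
    have h1 := CatScheme.cd_le_stalk (f ξ) (f x)
    rw [hj', hd] at h1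
    exact_mod_cast h1
  have him : i' ≤ m := by
    have h1 := CatScheme.cd_le_stalk ξ x
    rw [hi', hm] at h1
    exact_mod_cast h1
  have := heq hcat
  omega

theorem exists_component_of_formula (x : X) (hcat : CAlg.IsUniversallyCatenary (Y.presheaf.stalk (f x)))
    (h : ringKrullDim (X.presheaf.stalk x) = ringKrullDim (Y.presheaf.stalk (f.base x)) +
      ringKrullDim ((f.fiber (f.base x)).presheaf.stalk (f.asFiber x))) :
    ∃ z : X, f.base z = f.base x ∧ z ⤳ x ∧ (∀ z' : X, f.base z' = f.base x → z' ⤳ z → z' = z) ∧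
      FlatMor.fibreDimAt f z = FlatMor.fibreDimAt f x ∧
      ringKrullDim (X.presheaf.stalk z) = ringKrullDim (Y.presheaf.stalk (f.base z)) := by
  obtain ⟨m, d, k, hm, hd, hk, hle, he⟩ := dims f x
  have hmdk := eq_of_formula f x m d k hm hd hk h
  obtain ⟨ξ, hξx, hξmax, hξ⟩ := CatScheme.exists_component_dim x m hm
  obtain ⟨j, i, hi, hj, hineq, -⟩ := CatScheme.alt f x ξ hξx
  have him : i = m := by rw [hξ] at hi; exact_mod_cast hi.symm
  have hjd : j ≤ d := by
    have h1 := CatScheme.cd_le_stalk (f ξ) (f x)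
    rw [hj, hd] at h1
    exact_mod_cast h1
  have hTξ : FibreTrdeg.T f ξ ≤ k + FibreTrdeg.T f x := by
    have h1 := (FibreTrdeg.T_le_fibreDimAt f ξ).trans (FibreTrdeg.fibreDimAt_mono f hξx)
    rw [he] at h1
    exact_mod_cast h1
  have hTe : FibreTrdeg.T f ξ = k + FibreTrdeg.T f x := by omega
  have hjd' : j = d := by omega
  -- the component of the fibre inside the closure of ξ
  let C : Closeds X := ⟨closure {ξ}, isClosed_closure⟩
  let T := (Scheme.IdealSheafData.vanishingIdeal C).subscheme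
  let ι : T ⟶ X := (Scheme.IdealSheafData.vanishingIdeal C).subschemeι
  have hr : Set.range ι = closure {ξ} := by exact Scheme.IdealSheafData.range_subschemeι _
  obtain ⟨t₀, ht₀⟩ : ξ ∈ Set.range ι := by rw [hr]; exact subset_closure rfl
  obtain ⟨s, hs⟩ : x ∈ Set.range ι := by rw [hr]; exact hξx.mem_closure
  have hgen : t₀ ⤳ s := ι.isEmbedding.isInducing.specializes_iff.mp (by rw [ht₀, hs]; exact hξx)
  let q := ι ≫ f
  have hqs : q s = f x := show f (ι s) = f x by rw [hs]
  obtain ⟨g, hg, hgmax, hgdim⟩ := FibreTrdeg.exists_maximal_dim q s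
  let t := q.fiberι (q s) g
  have hts : t ⤳ s := (hg.map (q.fiberι (q s)).continuous).trans (specializes_of_eq (q.fiberι_asFiber s))
  have hqt : q t = q s := (q.range_fiberι (q s)).subset ⟨g, rfl⟩
  have htmax : ∀ t' : T, q t' = q t → t ∈ closure {t'} → t' = t := fun t' ht' hcl =>
    FibreComp.maximal_image q (q s) g hgmax t' (ht'.trans hqt) hcl
  have hTt : ((FibreTrdeg.T f (ι t) : ℕ) : WithBot ℕ∞) ≥ ((k + FibreTrdeg.T f x : ℕ) : WithBot ℕ∞) := by
    rw [← EquidimStalk.T_comp ι f t, ← FibreTrdeg.fibreDimAt_eq_T_of_maximal q t htmax]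
    refine le_trans ?_ hgdim
    rw [← hTe, ← ht₀, ← EquidimStalk.T_comp ι f t₀]
    exact (FibreTrdeg.T_le_fibreDimAt q t₀).trans (FibreTrdeg.fibreDimAt_mono q hgen)
  let z := ι t
  have hfz : f z = f x := (show f (ι t) = q t from rfl).trans (hqt.trans hqs)
  have hzx : z ⤳ x := (hts.map ι.continuous).trans (specializes_of_eq hs)
  have hξz : ξ ⤳ z := specializes_iff_mem_closure.mpr (hr.le ⟨t, rfl⟩)
  have hTz : k + FibreTrdeg.T f x ≤ FibreTrdeg.T f z := by exact_mod_cast hTt
  have hzle : FlatMor.fibreDimAt f z ≤ ((k + FibreTrdeg.T f x : ℕ) : WithBot ℕ∞) := (FibreTrdeg.fibreDimAt_mono f hzx).trans he.le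
  have hTzeq : FibreTrdeg.T f z = k + FibreTrdeg.T f x := by
    have h1 : FibreTrdeg.T f z ≤ k + FibreTrdeg.T f x := by exact_mod_cast (FibreTrdeg.T_le_fibreDimAt f z).trans hzle
    omega
  have hzmax : ∀ z' : X, f z' = f x → z' ⤳ z → z' = z := fun z' hz' hz'z => by
    by_contra hne
    have h1 := (FibreSpec.T_bounds f z' z hz'z hne (hz'.trans hfz.symm)).1
    have h2 : FibreTrdeg.T f z' ≤ k + FibreTrdeg.T f x := by
      exact_mod_cast (FibreTrdeg.T_le_fibreDimAt f z').trans ((FibreTrdeg.fibreDimAt_mono f hz'z).trans hzle)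
    omega
  have hzfd : FlatMor.fibreDimAt f z = FlatMor.fibreDimAt f x := by
    rw [FibreTrdeg.fibreDimAt_eq_T_of_maximal f z ((maximal_iff f z).mp fun z' hz' => hzmax z' (hz'.trans hfz)), hTzeq, he]
  refine ⟨z, hfz, hzx, hzmax, hzfd, ?_⟩
  obtain ⟨mz, dz, kz, hmz, hdz, -, hlez, hez⟩ := dims f z
  obtain ⟨jz, iz, hiz, hjz, -, heqz⟩ := CatScheme.alt f z ξ hξz
  have hdd : dz = d := by rw [hfz, hd] at hdz; exact_mod_cast hdz.symm
  have hjj : jz = j := by rw [hfz, hj] at hjz; exact_mod_cast hjz.symm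
  have hcatz : CAlg.IsUniversallyCatenary (Y.presheaf.stalk (f z)) := by rw [hfz]; exact hcat
  have h1 := heqz hcatz
  have hkz : kz = 0 := by
    rw [hzfd, he] at hez
    have : k + FibreTrdeg.T f x = kz + FibreTrdeg.T f z := by exact_mod_cast hez
    omega
  have him' : iz ≤ mz := by
    have h2 := CatScheme.cd_le_stalk ξ z
    rw [hiz, hmz] at h2
    exact_mod_cast h2
  rw [hmz, hdz, show mz = dz by omega]

/-- irreducible source and base -/
theorem of_generic [IrreducibleSpace X] [IrreducibleSpace Y] [IsDominant f] (x : X)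
    (hcat : CAlg.IsUniversallyCatenary (Y.presheaf.stalk (f x)))
    (h : FlatMor.fibreDimAt f x = topologicalKrullDim ↥(f.fiber (genericPoint Y))) :
    ringKrullDim (X.presheaf.stalk x) = ringKrullDim (Y.presheaf.stalk (f.base x)) +
      ringKrullDim ((f.fiber (f.base x)).presheaf.stalk (f.asFiber x)) := by
  obtain ⟨m, d, k, hm, hd, hk, hle, he⟩ := dims f x
  refine formula_of_eq f x m d k ?_ hm hd hk
  let ξ := genericPoint X
  have hξ : ∀ z : X, ξ ⤳ z := fun z => (genericPoint_spec X).specializes trivial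
  have hη : f ξ = genericPoint Y := by
    refine IsGenericPoint.eq (S := Set.univ) ?_ (genericPoint_spec Y)
    refine Set.eq_univ_of_univ_subset ?_
    rw [← f.denseRange.closure_range]
    refine closure_minimal ?_ isClosed_closure
    rintro _ ⟨z, rfl⟩
    exact ((hξ z).map f.continuous).mem_closure
  have hηgen : ∀ y : Y, f ξ ⤳ y := fun y => hη ▸ (genericPoint_spec Y).specializes trivial
  obtain ⟨j, i, hi, hj, -, heq⟩ := CatScheme.alt f x ξ (hξ x)
  rw [CatScheme.cd_eq_stalk_of_generic ξ x hξ, hm] at hi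
  rw [CatScheme.cd_eq_stalk_of_generic (f ξ) (f x) hηgen, hd] at hj
  have h1 : m = i := by exact_mod_cast hi
  have h2 : d = j := by exact_mod_cast hj
  have hmaxξ : ∀ z : X, f z = f ξ → ξ ∈ closure {z} → z = ξ := fun z _ hz =>
    ((specializes_iff_mem_closure.mpr hz).antisymm (hξ z)).eq
  have hTξ := FibreTrdeg.fibreDimAt_eq_T_of_maximal f ξ hmaxξ
  have hge := Equidim.generic_fibre_dim_le f ξ
  have hdle := Equidim.fibreDimAt_le_dim f ξ
  rw [hη] at hdle
  rw [le_antisymm hge hdle, hTξ, he] at h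
  have h3 : k + FibreTrdeg.T f x = FibreTrdeg.T f ξ := by exact_mod_cast h
  have := heq hcat
  omega

/-- equidimensional morphism over an equidimensional base -/
theorem of_equidimAt (x : X) (hY : EGA4.IsEquidim (Y.presheaf.stalk (f x)))
    (hcat : CAlg.IsUniversallyCatenary (Y.presheaf.stalk (f x))) (hf : EGA43.IsEquidimAt f x) :
    ringKrullDim (X.presheaf.stalk x) = ringKrullDim (Y.presheaf.stalk (f.base x)) +
      ringKrullDim ((f.fiber (f.base x)).presheaf.stalk (f.asFiber x)) := by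
  obtain ⟨m, d, k, hm, hd, hk, hle, he⟩ := dims f x
  refine formula_of_eq f x m d k ?_ hm hd hk
  obtain ⟨e, U, hxU, hcomp, hfib⟩ := hf
  let q := U.ι ≫ f
  have hfd : ∀ a : X, a ∈ U → FlatMor.fibreDimAt f a = (e : ℕ) := fun a ha => by
    rw [← EquidimStalk.fibreDimAt_eq q e hfib ⟨a, ha⟩]
    exact (AlgSpTopo.ThickScheme.fibreDimAt_etale (k := f) (k' := q) U.ι (𝟙 Y) (by simp [q]) ⟨a, ha⟩).symm
  obtain ⟨ξ, hξx, hξmax⟩ := Equidim.AffineCrit.exists_maximal_above x
  have hξU : ξ ∈ U := hξx.mem_open U.2 hxU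
  let u : (U : Scheme.{u}) := ⟨ξ, hξU⟩
  haveI : QuasiSober (↥U : Type u) := U.2.isOpenEmbedding_subtypeVal.quasiSober
  have hu : ∀ p : (U : Scheme.{u}), p ⤳ u → p = u := fun p hp =>
    Subtype.ext (hξmax p.1 (hp.map continuous_subtype_val))
  obtain ⟨W, hW, hxW, hWc⟩ := hcomp _ (Equidim.closure_mem_irreducibleComponents u hu)
  have hWξ : closure ({f ξ} : Set Y) = W := by
    rw [← hWc]
    refine le_antisymm (closure_mono (Set.singleton_subset_iff.mpr ⟨u, subset_closure rfl, rfl⟩))
      (closure_minimal ?_ isClosed_closure)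
    exact (image_closure_subset_closure_image q.continuous).trans (by rw [Set.image_singleton]; rfl)
  have hfmax := ChevalleyTfae.maximal_of_component hW hWξ
  obtain ⟨j, i, hi, hj, -, heq⟩ := CatScheme.alt f x ξ hξx
  rw [CatScheme.cd_eq_of_equidim (f ξ) (f x) (hξx.map f.continuous) hfmax hY, hd] at hj
  have h2 : d = j := by exact_mod_cast hj
  have h1 : i ≤ m := by
    have h := CatScheme.cd_le_stalk ξ x
    rw [hi, hm] at h
    exact_mod_cast h
  have hTξ := FibreTrdeg.fibreDimAt_eq_T_of_maximal f ξ fun z _ hz => hξmax z (specializes_iff_mem_closure.mpr hz)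
  rw [hfd ξ hξU] at hTξ
  rw [hfd x hxU] at he
  have h3 : e = FibreTrdeg.T f ξ := by exact_mod_cast hTξ
  have h4 : e = k + FibreTrdeg.T f x := by exact_mod_cast he
  have := heq hcat
  omega

end Groth.Agent.HensPair.CatFormula
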