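import Groth.Agent.HensPair.OpenDim
import Groth.Agent.HensPair.ChevalleyCor

/-!
Equivalent forms of Chevalley's criterion at a point and along a fibre.
-/

set_option autoImplicit false
set_option synthInstance.maxHeartbeats 200000

noncomputable section

open CategoryTheory CategoryTheory.Limits AlgebraicGeometry TopologicalSpace Topology

namespace Groth.Agent.HensPair.ChevalleyTfae

universe u

set_option backward.isDefEq.respectTransparency false

variable {X Y : Scheme.{u}} (f : X ⟶ Y)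

theorem isOpenAt_of_univOpenAt {x : X} (h : EGA43.IsUnivOpenAt f x) : EGA43.IsOpenAt f.base x :=
  UnivOpenAt.isOpenAt_of_isPullback (IsPullback.of_horiz_isIso (f := f) (g := 𝟙 Y) (fst := 𝟙 X) (snd := f) ⟨by simp⟩) h x rfl

theorem isOpenAt_of_specializes {x x' : X} (hx : x' ⤳ x) (he : f x' = f x) (h : EGA43.IsOpenAt f.base x') :
    EGA43.IsOpenAt f.base x := fun U hU => by
  obtain ⟨O, hOU, hO, hxO⟩ := mem_nhds_iff.mp hU
  have h1 := h U (mem_nhds_iff.mpr ⟨O, hOU, hO, hx.mem_open hO hxO⟩)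
  rwa [he] at h1

theorem maximal_of_component {Y₀ : Set Y} (hY₀ : Y₀ ∈ irreducibleComponents (Y : Type u)) {η : Y}
    (hη : closure ({η} : Set Y) = Y₀) (z : Y) (hz : z ⤳ η) : z = η := by
  have hle : Y₀ ⊆ closure {z} :=
    hη ▸ closure_minimal (Set.singleton_subset_iff.mpr hz.mem_closure) isClosed_closure
  have h1 : z ∈ Y₀ := hY₀.2 isIrreducible_singleton.closure hle (subset_closure rfl)
  rw [← hη] at h1
  exact (hz.antisymm (specializes_iff_mem_closure.mpr h1)).eq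

variable [LocallyOfFiniteType f]

theorem exists_nat_eq (x : X) : ∃ m : ℕ, FlatMor.fibreDimAt f x = (m : ℕ) := by
  obtain ⟨n, hn⟩ := Equidim.exists_nat_fibreDimAt_le f x
  have h0 : (0 : WithBot ℕ∞) ≤ FlatMor.fibreDimAt f x := by
    rw [AlgSpTopo.ThickScheme.fibreDimAt_eq]
    exact le_iInf fun O => ChevalleyCor.dim_nonneg (⟨_, O.2⟩ : ↥(O.1 : Set ↥(f ⁻¹' {f x})))
  cases hD : FlatMor.fibreDimAt f x with
  | bot => rw [hD] at h0; exact absurd h0 (by simp)
  | coe d =>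
    cases d with
    | top =>
      rw [hD] at hn
      exact absurd (top_le_iff.mp (WithBot.coe_le_coe.mp hn)) (ENat.natCast_ne_top n)
    | coe k => exact ⟨k, rfl⟩

theorem fibreDimAt_le_inter (x : X) (U : X.Opens) (hxU : x ∈ U) :
    FlatMor.fibreDimAt f x ≤ topologicalKrullDim ↥((U : Set X) ∩ f ⁻¹' {f x}) := by
  rw [AlgSpTopo.ThickScheme.fibreDimAt_eq]
  exact (TopDim.Basic.localDim_le _ ⟨Subtype.val ⁻¹' (U : Set X), U.2.preimage continuous_subtype_val⟩ hxU).trans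
    (Equidim.dim_le_of_range (φ := fun s : ↥((Subtype.val ⁻¹' (U : Set X)) : Set ↥(f ⁻¹' {f x})) => (s.1.1 : X))
      (IsInducing.subtypeVal.comp IsInducing.subtypeVal) IsEmbedding.subtypeVal fun s => ⟨⟨s.1.1, s.2, s.1.2⟩, rfl⟩)

theorem localDim_inter_le (x : X) (Z : Set X) (hx : x ∈ Z) :
    FlatMor.localDim ↥(Z ∩ f ⁻¹' {f x}) ⟨x, hx, rfl⟩ ≤ FlatMor.fibreDimAt f x := by
  rw [AlgSpTopo.ThickScheme.fibreDimAt_eq]
  refine le_iInf fun O => ?_
  obtain ⟨O', hO', he⟩ := isOpen_induced_iff.mp O.1.2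
  refine (TopDim.Basic.localDim_le (⟨x, hx, rfl⟩ : ↥(Z ∩ f ⁻¹' {f x}))
    ⟨Subtype.val ⁻¹' O', hO'.preimage continuous_subtype_val⟩ (show x ∈ O' from he.ge O.2)).trans ?_
  refine Equidim.dim_le_of_range
    (φ := fun s : ↥((Subtype.val ⁻¹' O') : Set ↥(Z ∩ f ⁻¹' {f x})) => (s.1.1 : X))
    (IsInducing.subtypeVal.comp IsInducing.subtypeVal) (IsEmbedding.subtypeVal.comp IsEmbedding.subtypeVal)
    fun s => ⟨⟨⟨s.1.1, s.1.2.2⟩, he.le s.2⟩, rfl⟩

/-- the generic fibre of an irreducible closed subset bounds the dimension of every fibre from below -/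
theorem generic_dim_le_localDim (x : X) (Z : Set X) (hZc : IsClosed Z) (hZ : IsIrreducible Z) (hx : x ∈ Z)
    (ζ : X) (hζ : closure ({ζ} : Set X) = Z) :
    topologicalKrullDim ↥(Z ∩ f ⁻¹' {f ζ}) ≤ FlatMor.localDim ↥(Z ∩ f ⁻¹' {f x}) ⟨x, hx, rfl⟩ := by
  let C : Closeds X := ⟨Z, hZc⟩
  let T := (Scheme.IdealSheafData.vanishingIdeal C).subscheme
  let i : T ⟶ X := (Scheme.IdealSheafData.vanishingIdeal C).subschemeι
  have hr : Set.range i = Z := by exact Scheme.IdealSheafData.range_subschemeι _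
  obtain ⟨t, ht⟩ : x ∈ Set.range i := by rw [hr]; exact hx
  obtain ⟨t₀, ht₀⟩ : ζ ∈ Set.range i := by rw [hr, ← hζ]; exact subset_closure rfl
  have hgen : ∀ s : T, t₀ ⤳ s := fun s => i.isEmbedding.isInducing.specializes_iff.mp <| by
    rw [ht₀, specializes_iff_mem_closure, hζ, ← hr]
    exact ⟨s, rfl⟩
  let h := i ≫ f
  have hfib : ∀ s : T, ∀ a : X, ∀ hsa : i s = a,
      FlatMor.fibreDimAt h s = FlatMor.localDim ↥(Z ∩ f ⁻¹' {f a}) ⟨a, by
        exact ⟨hr.le ⟨s, hsa⟩, rfl⟩⟩ ∧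
      topologicalKrullDim ↥(h ⁻¹' {h s}) = topologicalKrullDim ↥(Z ∩ f ⁻¹' {f a}) := by
    intro s a hsa
    subst hsa
    let e : ↥(h ⁻¹' {h s}) ≃ₜ ↥(Z ∩ f ⁻¹' {f (i s)}) := by
      refine ((i.isEmbedding.comp IsEmbedding.subtypeVal).toHomeomorph
        (f := fun w : ↥(h ⁻¹' {h s}) => i w.1)).trans (Homeomorph.setCongr (Set.ext fun z => ⟨?_, ?_⟩))
      · rintro ⟨⟨w, hw⟩, rfl⟩
        exact ⟨hr.le ⟨w, rfl⟩, hw⟩
      · rintro ⟨hz, hzy⟩
        rw [← hr] at hz
        obtain ⟨w, rfl⟩ := hz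
        exact ⟨⟨w, hzy⟩, rfl⟩
    refine ⟨?_, IsHomeomorph.topologicalKrullDim_eq _ e.isHomeomorph⟩
    rw [AlgSpTopo.ThickScheme.fibreDimAt_eq, AlgSpTopo.ThickScheme.localDim_homeo e]
    rfl
  have h1 : FlatMor.fibreDimAt h t₀ ≤ FlatMor.fibreDimAt h t :=
    (hgen t).mem_open (Equidim.isOpen_fibreDimAt_le h _) (le_refl (FlatMor.fibreDimAt h t))
  rw [(hfib t x ht).1] at h1
  refine le_trans ?_ h1
  rw [← (hfib t₀ ζ ht₀).2, ← IsHomeomorph.topologicalKrullDim_eq _ (h.fiberHomeo (h t₀)).isHomeomorph]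
  obtain ⟨c, hc⟩ : t₀ ∈ Set.range (h.fiberι (h t₀)) := by rw [h.range_fiberι]; rfl
  rw [← Equidim.localDim_fiber_eq h _ c t₀ hc]
  refine le_trans ?_ (Equidim.AffineCrit.le_localDim h (h t₀) (closure {c}) isIrreducible_singleton.closure
    isClosed_closure c (subset_closure rfl))
  refine Equidim.dim_le_of_range (φ := (id : ↥(h.fiber (h t₀)) → ↥(h.fiber (h t₀)))) IsInducing.id
    IsEmbedding.subtypeVal fun s => ⟨⟨s, specializes_iff_mem_closure.mp
      ((h.fiberι (h t₀)).isEmbedding.isInducing.specializes_iff.mp (by rw [hc]; exact hgen _))⟩, rfl⟩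

theorem le_of_lt_succ {a : WithBot ℕ∞} {k : ℕ} (h : a < ((k + 1 : ℕ) : WithBot ℕ∞)) : a ≤ (k : ℕ) := by
  cases a with
  | bot => exact bot_le
  | coe d =>
    cases d with
    | top => exact absurd (WithBot.coe_lt_coe.mp h) not_top_lt
    | coe j =>
      have h1 : j < k + 1 := by exact_mod_cast h
      exact_mod_cast Nat.lt_succ_iff.mp h1

/-- large fibre dimension arbitrarily near `x` over a maximal point gives a component through `x` -/
theorem exists_component (x : X) (η : Y) (hηy : η ⤳ f x) (hηmax : ∀ z : Y, z ⤳ η → z = η) (m : ℕ)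
    (hdim : ∀ U : X.Opens, x ∈ U → ((m : ℕ) : WithBot ℕ∞) ≤ topologicalKrullDim ↥((U : Set X) ∩ f ⁻¹' {η})) :
    ∃ Z ∈ irreducibleComponents (X : Type u), x ∈ Z ∧ ∃ ζ : X, closure ({ζ} : Set X) = Z ∧ f ζ = η ∧
      ((m : ℕ) : WithBot ℕ∞) ≤ topologicalKrullDim ↥(Z ∩ f ⁻¹' {η}) := by
  classical
  obtain ⟨U₀, hU₀, hyU₀, -⟩ := exists_isAffineOpen_mem_and_subset (X := Y) (U := ⊤) (x := f x) trivial
  obtain ⟨V, hV, hxV, hVU⟩ := exists_isAffineOpen_mem_and_subset (X := X) (U := f ⁻¹ᵁ U₀) (x := x) hyU₀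
  let : Algebra Γ(Y, U₀) Γ(X, V) := (f.appLE U₀ V hVU).hom.toAlgebra
  have : Algebra.FiniteType Γ(Y, U₀) Γ(X, V) := Equidim.finiteType_chart f hU₀ hV hVU rfl
  let π := AlgHom.id Γ(Y, U₀) Γ(X, V)
  have hπ : Function.Surjective π := Function.surjective_id
  have hkerπ : ∀ Q : PrimeSpectrum Γ(X, V), RingHom.ker π.toRingHom ≤ Q.asIdeal := fun Q a ha => by
    rw [(show a = 0 from ha)]; exact Ideal.zero_mem _
  let p := hU₀.primeIdealOf ⟨η, hηy.mem_open U₀.2 hyU₀⟩
  have hp : hU₀.fromSpec p = η := hU₀.fromSpec_primeIdealOf _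
  have : IsNoetherianRing (p.asIdeal.Fiber Γ(X, V)) :=
    Algebra.FiniteType.isNoetherianRing p.asIdeal.ResidueField _
  let ι := f.fiberι η
  let F := f.fiber η
  let A : Set ↥F := {g | (∀ g', g' ⤳ g → g' = g) ∧ ι g ∈ V ∧
    ((m : ℕ) : WithBot ℕ∞) ≤ topologicalKrullDim ↥(closure ({g} : Set ↥F))}
  have hA : A.Finite := by
    refine Set.Finite.of_finite_image ?_ ι.isEmbedding.injective.injOn
    refine (((minimalPrimes.finite_of_isNoetherianRing (p.asIdeal.Fiber Γ(X, V))).preimage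
      (fun a _ b _ h => PrimeSpectrum.ext h) (f := fun M : PrimeSpectrum (p.asIdeal.Fiber Γ(X, V)) => M.asIdeal)).image
      (Equidim.ch hV π p)).subset ?_
    rintro _ ⟨g, ⟨hg, hgV, -⟩, rfl⟩
    obtain ⟨Q, hQ⟩ := hV.range_fromSpec.superset hgV
    obtain ⟨M, hM⟩ := Equidim.exists_ch f hU₀ hV hVU rfl π hπ p Q (hkerπ _)
      (by rw [hQ, hp]; exact (f.range_fiberι η).subset ⟨g, rfl⟩)
    rw [hQ] at hM
    obtain ⟨q, hq, hqM⟩ := Ideal.exists_minimalPrimes_le (bot_le (a := M.asIdeal))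
    let q' : PrimeSpectrum (p.asIdeal.Fiber Γ(X, V)) := ⟨q, hq.1.1⟩
    obtain ⟨g', hg'⟩ : Equidim.ch hV π p q' ∈ Set.range ι := by
      rw [f.range_fiberι, ← hp]
      exact Equidim.f_ch f hU₀ hV hVU rfl π p q'
    refine ⟨q', hq, ?_⟩
    rw [← hg']
    refine congrArg ι (hg g' (ι.isEmbedding.isInducing.specializes_iff.mp ?_))
    rw [hg', ← hM]
    exact (Equidim.ch_specializes hV π hπ p q' M).mpr hqM
  suffices h : ∃ g ∈ A, ι g ⤳ x by
    obtain ⟨g, ⟨hg, hgV, hgm⟩, hgx⟩ := h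
    obtain ⟨ζ, hζg, hζmax⟩ := Equidim.AffineCrit.exists_maximal_above (ι g)
    have hfζ : f ζ = η := hηmax _ ((hζg.map f.continuous).trans
      (specializes_of_eq ((f.range_fiberι η).subset ⟨g, rfl⟩)))
    obtain ⟨c, hc⟩ : ζ ∈ Set.range ι := by rw [f.range_fiberι]; exact hfζ
    obtain rfl : c = g := hg c (ι.isEmbedding.isInducing.specializes_iff.mp (by rw [hc]; exact hζg))
    refine ⟨closure {ζ}, Equidim.closure_mem_irreducibleComponents ζ hζmax,
      specializes_iff_mem_closure.mp ((specializes_of_eq hc.symm).trans hgx), ζ, rfl, hfζ, hgm.trans ?_⟩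
    refine Equidim.dim_le_of_range (φ := fun s : ↥(closure ({c} : Set ↥F)) => ι s.1)
      (ι.isEmbedding.isInducing.comp IsInducing.subtypeVal) IsEmbedding.subtypeVal fun s => ⟨⟨ι s.1, ?_, ?_⟩, rfl⟩
    · rw [← hc]
      exact specializes_iff_mem_closure.mp ((specializes_iff_mem_closure.mpr s.2).map ι.continuous)
    · exact (f.range_fiberι η).subset ⟨_, rfl⟩
  by_contra hno
  push Not at hno
  let C : Set X := ⋃ g ∈ A, closure {ι g}
  let U : X.Opens := ⟨(V : Set X) ∩ Cᶜ, V.2.inter (hA.isClosed_biUnion fun _ _ => isClosed_closure).isOpen_compl⟩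
  have hxU : x ∈ U := ⟨hxV, fun h => by
    obtain ⟨g, hg, hgx⟩ := Set.mem_iUnion₂.mp h
    exact hno g hg (specializes_iff_mem_closure.mpr hgx)⟩
  let O : Opens ↥F := ⟨ι ⁻¹' (U : Set X), U.2.preimage ι.continuous⟩
  have h1 : ((m : ℕ) : WithBot ℕ∞) ≤ topologicalKrullDim ↥(O : Set ↥F) :=
    (hdim U hxU).trans (Equidim.dim_le_of_range (φ := fun s : ↥((U : Set X) ∩ f ⁻¹' {η}) => (s : X))
      IsInducing.subtypeVal (ι.isEmbedding.comp IsEmbedding.subtypeVal) fun s => by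
      obtain ⟨c, hc⟩ := (f.range_fiberι η).ge s.2.2
      exact ⟨⟨c, show ι c ∈ U by rw [hc]; exact s.2.1⟩, hc⟩)
  have : QuasiSober ↥(O : Set ↥F) := O.2.isOpenEmbedding_subtypeVal.quasiSober
  have key : ∀ D ∈ irreducibleComponents ↥(O : Set ↥F), ∃ g : ↥F, topologicalKrullDim D ≤
      topologicalKrullDim ↥(closure ({g} : Set ↥F)) ∧
      topologicalKrullDim ↥(closure ({g} : Set ↥F)) < ((m : ℕ) : WithBot ℕ∞) := by
    intro D hD
    let d := hD.1.genericPoint
    have hd : closure ({d} : Set ↥(O : Set ↥F)) = D := by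
      rw [hD.1.genericPoint_closure_eq, (isClosed_of_mem_irreducibleComponents D hD).closure_eq]
    refine ⟨d.1, Equidim.dim_le_of_range (φ := fun s : D => (s.1.1 : ↥F))
      (IsInducing.subtypeVal.comp IsInducing.subtypeVal) IsEmbedding.subtypeVal fun s => ⟨⟨s.1.1, ?_⟩, rfl⟩, ?_⟩
    · exact specializes_iff_mem_closure.mp
        ((specializes_iff_mem_closure.mpr (hd.ge s.2)).map continuous_subtype_val)
    · refine lt_of_not_ge fun hge => d.2.2 (Set.mem_iUnion₂.mpr ⟨d.1, ⟨fun g' hg' => ?_, d.2.1, hge⟩, subset_closure rfl⟩)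
      exact congrArg Subtype.val (Equidim.AffineCrit.genericPoint_maximal hD ⟨g', hg'.mem_open O.2 d.2⟩
        (IsInducing.subtypeVal.specializes_iff.mp hg'))
  cases m with
  | zero =>
    have h2 : topologicalKrullDim ↥(O : Set ↥F) ≤ ⊥ := Equidim.dim_le_of_components fun D hD => by
      obtain ⟨g, -, hlt⟩ := key D hD
      exact absurd (ChevalleyCor.dim_nonneg (⟨g, subset_closure rfl⟩ : ↥(closure ({g} : Set ↥F))))
        (not_le.mpr (by exact_mod_cast hlt))
    exact absurd (h1.trans h2) (by simp)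
  | succ k =>
    have h2 : topologicalKrullDim ↥(O : Set ↥F) ≤ ((k : ℕ) : WithBot ℕ∞) := Equidim.dim_le_of_components fun D hD => by
      obtain ⟨g, hle, hlt⟩ := key D hD
      exact hle.trans (le_of_lt_succ hlt)
    have h3 : k + 1 ≤ k := by exact_mod_cast h1.trans h2
    omega

/-- large dimensions nearby over every maximal generization give condition b) -/
theorem b_of_dims (x : X)
    (hdim : ∀ U : X.Opens, x ∈ U → ∀ η : Y, η ⤳ f x → (∀ z : Y, z ⤳ η → z = η) →
      FlatMor.fibreDimAt f x ≤ topologicalKrullDim ↥((U : Set X) ∩ f ⁻¹' {η}))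
    (Y₀ : Set Y) (hY₀ : Y₀ ∈ irreducibleComponents (Y : Type u)) (hy : f x ∈ Y₀) :
    ∃ Z ∈ irreducibleComponents (X : Type u), ∃ hx : x ∈ Z, closure (f '' Z) = Y₀ ∧
      ∀ η : Y, closure ({η} : Set Y) = Y₀ →
        FlatMor.fibreDimAt f x = FlatMor.localDim ↥(Z ∩ f ⁻¹' {f x}) ⟨x, hx, rfl⟩ ∧
        FlatMor.localDim ↥(Z ∩ f ⁻¹' {f x}) ⟨x, hx, rfl⟩ = topologicalKrullDim ↥(Z ∩ f ⁻¹' {η}) := by
  obtain ⟨m, hm⟩ := exists_nat_eq f x
  let η₀ := hY₀.1.genericPoint
  have hη₀ : closure ({η₀} : Set Y) = Y₀ := by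
    rw [hY₀.1.genericPoint_closure_eq, (isClosed_of_mem_irreducibleComponents Y₀ hY₀).closure_eq]
  have hη₀y : η₀ ⤳ f x := specializes_iff_mem_closure.mpr (hη₀.ge hy)
  have hmax := maximal_of_component hY₀ hη₀
  obtain ⟨Z, hZ, hxZ, ζ, hζ, hfζ, hle⟩ := exists_component f x η₀ hη₀y hmax m fun U hU =>
    hm.symm.le.trans (hdim U hU η₀ hη₀y hmax)
  refine ⟨Z, hZ, hxZ, ?_, fun η hη => ?_⟩
  · rw [← hη₀, ← hfζ]
    refine le_antisymm (closure_minimal ?_ isClosed_closure)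
      (closure_mono (Set.singleton_subset_iff.mpr ⟨ζ, hζ.le (subset_closure rfl), rfl⟩))
    rw [← hζ]
    exact (image_closure_subset_closure_image f.continuous).trans (by rw [Set.image_singleton])
  · obtain rfl : η = η₀ := IsGenericPoint.eq (S := Y₀) hη hη₀
    have h1 := localDim_inter_le f x Z hxZ
    have h2 := generic_dim_le_localDim f x Z (isClosed_of_mem_irreducibleComponents Z hZ) hZ.1 hxZ ζ hζ
    rw [hfζ] at h2
    exact ⟨le_antisymm (hm.le.trans (hle.trans h2)) h1, le_antisymm (h1.trans (hm.le.trans hle)) h2⟩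

/-- condition b) implies universal openness -/
theorem univOpenAt_of_b [IsLocallyNoetherian Y] (x : X) (hy : CAlg2.IsGeomUnibranch (Y.presheaf.stalk (f x)))
    (hb : ∀ Y₀ ∈ irreducibleComponents (Y : Type u), f x ∈ Y₀ →
      ∃ Z ∈ irreducibleComponents (X : Type u), ∃ hx : x ∈ Z, closure (f '' Z) = Y₀ ∧
        ∀ η : Y, closure ({η} : Set Y) = Y₀ →
          FlatMor.localDim ↥(Z ∩ f ⁻¹' {f x}) ⟨x, ⟨hx, rfl⟩⟩ = topologicalKrullDim ↥(Z ∩ f ⁻¹' {η})) :
    EGA43.IsUnivOpenAt f x := by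
  obtain ⟨V, hxV, hVirr, hVW⟩ := Chevalley.exists_irreducible_nhd (f x) hy
  have hY₀ := irreducibleComponent_mem_irreducibleComponents (f x)
  obtain ⟨Z, hZ, hxZ, hcl, heq⟩ := hb _ hY₀ mem_irreducibleComponent
  let η := hY₀.1.genericPoint
  have hη : closure ({η} : Set Y) = irreducibleComponent (f x) := by
    rw [hY₀.1.genericPoint_closure_eq, isClosed_irreducibleComponent.closure_eq]
  have hV : (genericPoint (V : Scheme.{u})).1 = η := Chevalley.genericPoint_unique V η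
    (hη.ge (hVW _ hY₀ mem_irreducibleComponent (genericPoint (V : Scheme.{u})).2)) (maximal_of_component hY₀ hη)
  refine Chevalley.univOpenAt_of_component f x Z (isClosed_of_mem_irreducibleComponents Z hZ) hZ.1 hxZ V hxV ?_ ?_ hy
  · rw [hV, hcl, ← hη]; exact subset_closure rfl
  · rw [hV]; exact (heq η hη).le

/-- openness along a fibre gives dimension inequalities -/
theorem dims_of_openAt [IsLocallyNoetherian Y] (y : Y) (U : X.Opens)
    (hopen : ∀ g : X, f g = y → g ∈ U → (∀ g' : X, f g' = y → g ∈ closure {g'} → g' = g) → EGA43.IsOpenAt f.base g)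
    (η : Y) (hη : η ⤳ y) :
    topologicalKrullDim ↥((U : Set X) ∩ f ⁻¹' {y}) ≤ topologicalKrullDim ↥((U : Set X) ∩ f ⁻¹' {η}) := by
  let ι := f.fiberι y
  let O : Opens ↥(f.fiber y) := ⟨ι ⁻¹' (U : Set X), U.2.preimage ι.continuous⟩
  refine le_trans (Equidim.dim_le_of_range (φ := fun s : ↥((U : Set X) ∩ f ⁻¹' {y}) => (s : X))
      IsInducing.subtypeVal (ι.isEmbedding.comp IsEmbedding.subtypeVal) (T := ↥(O : Set ↥(f.fiber y))) fun s => ?_) ?_
  · obtain ⟨c, hc⟩ := (f.range_fiberι y).ge s.2.2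
    exact ⟨⟨c, show ι c ∈ U by rw [hc]; exact s.2.1⟩, hc⟩
  have : QuasiSober ↥(O : Set ↥(f.fiber y)) := O.2.isOpenEmbedding_subtypeVal.quasiSober
  refine Equidim.dim_le_of_components fun D hD => ?_
  let d := hD.1.genericPoint
  have hd : closure ({d} : Set ↥(O : Set ↥(f.fiber y))) = D := by
    rw [hD.1.genericPoint_closure_eq, (isClosed_of_mem_irreducibleComponents D hD).closure_eq]
  let g := ι d.1
  have hg : f g = y := (f.range_fiberι y).subset ⟨_, rfl⟩
  have hmax : ∀ g' : X, f g' = f g → g ∈ closure {g'} → g' = g := fun g' hg' hgg => by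
    obtain ⟨c, hc⟩ := (f.range_fiberι y).ge (hg'.trans hg)
    have hsp : c ⤳ d.1 := ι.isEmbedding.isInducing.specializes_iff.mp (by rw [hc]; exact specializes_iff_mem_closure.mpr hgg)
    rw [← hc]
    exact congrArg ι (congrArg Subtype.val (Equidim.AffineCrit.genericPoint_maximal hD ⟨c, hsp.mem_open O.2 d.2⟩
      (IsInducing.subtypeVal.specializes_iff.mp hsp)))
  have hU : g ∈ U := d.2
  have h1 := OpenDim.dim_ge_of_openAt f g hmax
    (hopen g hg hU fun g' hg' => hmax g' (hg'.trans hg.symm)) U hU η (by rw [hg]; exact hη)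
  refine le_trans ?_ h1
  rw [← Equidim.localDim_fiber_eq f y d.1 g rfl]
  refine le_trans ?_ (Equidim.AffineCrit.le_localDim f y (closure {d.1}) isIrreducible_singleton.closure
    isClosed_closure d.1 (subset_closure rfl))
  exact Equidim.dim_le_of_range (φ := fun s : D => (s.1.1 : ↥(f.fiber y)))
    (IsInducing.subtypeVal.comp IsInducing.subtypeVal) IsEmbedding.subtypeVal fun s => ⟨⟨s.1.1,
      specializes_iff_mem_closure.mp ((specializes_iff_mem_closure.mpr (hd.ge s.2)).map continuous_subtype_val)⟩, rfl⟩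

/-- openness along a whole fibre over a geometrically unibranch point is universal openness -/
theorem univOpenAt_of_openAt_fibre [IsLocallyNoetherian Y] (y : Y) (hy : CAlg2.IsGeomUnibranch (Y.presheaf.stalk y))
    (hopen : ∀ g : X, f g = y → (∀ g' : X, f g' = y → g ∈ closure {g'} → g' = g) → EGA43.IsOpenAt f.base g)
    (x : X) (hx : f x = y) : EGA43.IsUnivOpenAt f x := by
  subst hx
  refine univOpenAt_of_b f x hy fun Y₀ hY₀ hxY₀ => ?_
  obtain ⟨Z, hZ, hxZ, hcl, h⟩ := b_of_dims f x (fun U hU η hη _ =>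
    (fibreDimAt_le_inter f x U hU).trans (dims_of_openAt f (f x) U (fun g hg _ hm => hopen g hg hm) η hη)) Y₀ hY₀ hxY₀
  exact ⟨Z, hZ, hxZ, hcl, fun η hη => (h η hη).2⟩

/-- an irreducible scheme with constant fibre dimension at a point is equidimensional there -/
theorem isEquidimAt_of_dim [IrreducibleSpace X] [IrreducibleSpace Y] (hd : DenseRange f) (x : X)
    (hdim : FlatMor.fibreDimAt f x ≤ topologicalKrullDim ↥(f.fiber (genericPoint Y))) :
    EGA43.IsEquidimAt f x := by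
  have : IsDominant f := ⟨hd⟩
  obtain ⟨e, he⟩ := exists_nat_eq f x
  have hge : ∀ a : X, ((e : ℕ) : WithBot ℕ∞) ≤ FlatMor.fibreDimAt f a := fun a =>
    he.symm.le.trans (hdim.trans (Equidim.generic_fibre_dim_le f a))
  let U : X.Opens := ⟨{a | FlatMor.fibreDimAt f a ≤ (e : ℕ)}, Equidim.isOpen_fibreDimAt_le f _⟩
  let q := U.ι ≫ f
  have hq : ∀ a : (U : Scheme.{u}), FlatMor.fibreDimAt q a = (e : ℕ) := fun a => by
    have h1 : FlatMor.fibreDimAt q a = FlatMor.fibreDimAt f (U.ι a) :=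
      AlgSpTopo.ThickScheme.fibreDimAt_etale (k := f) (k' := q) U.ι (𝟙 Y) (by simp [q]) a
    rw [h1]
    exact le_antisymm a.2 (hge _)
  refine ⟨e, U, he.le, fun Z hZ => ?_, fun a Z hZ => ?_⟩
  · refine ⟨Set.univ, by rw [irreducibleComponents_eq_singleton]; exact Set.mem_singleton _, trivial, ?_⟩
    have : IrreducibleSpace ↥U := Subtype.irreducibleSpace
      ⟨⟨x, he.le⟩, (IrreducibleSpace.isIrreducible_univ X).2.open_subset U.2 (Set.subset_univ _)⟩
    rw [irreducibleComponents_eq_singleton, Set.mem_singleton_iff] at hZ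
    subst hZ
    rw [Set.image_univ]
    refine dense_iff_closure_eq.mp ?_
    show DenseRange (f ∘ U.ι)
    refine hd.comp ?_ f.continuous
    rw [DenseRange, Scheme.Opens.range_ι]
    exact U.2.dense ⟨x, he.le⟩
  · let c := hZ.1.genericPoint
    have hc : closure ({c} : Set ↥(q.fiber (q a))) = Z := by
      rw [hZ.1.genericPoint_closure_eq, (isClosed_of_mem_irreducibleComponents Z hZ).closure_eq]
    refine le_antisymm ?_ ?_
    · refine (Equidim.AffineCrit.le_localDim q (q a) Z hZ.1 (isClosed_of_mem_irreducibleComponents Z hZ) c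
        (hc ▸ subset_closure rfl)).trans ?_
      rw [Equidim.localDim_fiber_eq q _ c _ rfl, hq]
    · rw [← hc, ← hq (q.fiberι (q a) c), ← Equidim.localDim_fiber_eq q _ c _ rfl]
      exact Equidim.AffineCrit.localDim_le_component q _ c (Equidim.AffineCrit.genericPoint_maximal hZ)

end Groth.Agent.HensPair.ChevalleyTfae
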