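import Groth.Agent.HensPair.FibreTrdeg
import Groth.Agent.HensPair.ChevalleyTfae
import Groth.Prelude.Def_EGA43
import Groth.Prelude.Def_EGA4b

/-!
An equidimensional local ring of the expected dimension gives equidimensionality.
-/

set_option autoImplicit false
set_option synthInstance.maxHeartbeats 200000

noncomputable section

open CategoryTheory AlgebraicGeometry TopologicalSpace Topology

namespace Groth.Agent.HensPair.EquidimCore

universe u

set_option backward.isDefEq.respectTransparency false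

theorem natCast_of_bounds (a : WithBot ℕ∞) (hb : a ≠ ⊥) (ht : a ≠ ⊤) : ∃ n : ℕ, a = (n : ℕ) := by
  match a with
  | ⊥ => exact absurd rfl hb
  | (⊤ : ℕ∞) => exact absurd rfl ht
  | ((n : ℕ) : ℕ∞) => exact ⟨n, rfl⟩

/-- chains of primes below `q` starting over any minimal prime, of full length -/
theorem exists_series {B R : Type u} [CommRing B] [CommRing R] [IsLocalRing R] [Algebra B R] (q P : Ideal B)
    [q.IsPrime] [hP : P.IsPrime] [IsLocalization.AtPrime R q] (hPq : P ≤ q) (hPmin : P ∈ minimalPrimes B)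
    (hR : EGA4.IsEquidim R) (m : ℕ) (hm : ringKrullDim R = m) :
    ∃ l : LTSeries (PrimeSpectrum B), l.length = m ∧ P ≤ l.head.asIdeal ∧ l.last.asIdeal = q := by
  let φ := algebraMap B R
  let Q := P.map φ
  have hd : Disjoint (q.primeCompl : Set B) P := Set.disjoint_left.mpr fun z hz hzP => hz (hPq hzP)
  haveI : Q.IsPrime := IsLocalization.isPrime_of_isPrime_disjoint q.primeCompl R P hP hd
  have hQ : Q.comap φ = P := IsLocalization.comap_map_of_isPrime_disjoint q.primeCompl R hP hd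
  have hQmin : Q ∈ minimalPrimes R := by
    refine ⟨⟨inferInstance, bot_le⟩, fun J hJ hle => ?_⟩
    haveI := hJ.1
    have h1 : P ≤ J.comap φ := hPmin.2 ⟨inferInstance, bot_le⟩ ((Ideal.comap_mono hle).trans_eq hQ)
    exact Ideal.map_le_iff_le_comap.mpr h1
  obtain ⟨lR, hlR⟩ := Order.le_krullDim_iff.mp (show ((m : ℕ) : WithBot ℕ∞) ≤ ringKrullDim (R ⧸ Q) by
    rw [hR Q hQmin, hm])
  let g : PrimeSpectrum (R ⧸ Q) → PrimeSpectrum R := PrimeSpectrum.comap (Ideal.Quotient.mk Q)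
  have hg : StrictMono g := RingHom.strictMono_comap_of_surjective Ideal.Quotient.mk_surjective
  let l₁ := lR.map g hg
  have hlast : l₁.last.asIdeal = IsLocalRing.maximalIdeal R := by
    by_contra hne
    have hlt : l₁.last < IsLocalRing.closedPoint R :=
      lt_of_le_of_ne (IsLocalRing.le_maximalIdeal l₁.last.2.ne_top) fun he => hne (congrArg PrimeSpectrum.asIdeal he)
    have h1 := Order.LTSeries.length_le_krullDim (l₁.snoc _ hlt)
    rw [RelSeries.snoc_length] at h1
    rw [show Order.krullDim (PrimeSpectrum R) = ringKrullDim R from rfl, hm] at h1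
    have h2 : l₁.length + 1 ≤ m := by exact_mod_cast h1
    have h3 : l₁.length = m := hlR
    omega
  let c : PrimeSpectrum R → PrimeSpectrum B := PrimeSpectrum.comap φ
  have hc : StrictMono c := fun a b hab => lt_of_le_of_ne (Ideal.comap_mono hab.le) fun he => hab.ne
    (PrimeSpectrum.localization_comap_injective R q.primeCompl he)
  refine ⟨l₁.map c hc, hlR, ?_, ?_⟩
  · show P ≤ (g lR.head).asIdeal.comap φ
    rw [← hQ]
    refine Ideal.comap_mono fun z hz => ?_
    show Ideal.Quotient.mk Q z ∈ lR.head.asIdeal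
    rw [Ideal.Quotient.eq_zero_iff_mem.mpr hz]
    exact zero_mem _
  · show l₁.last.asIdeal.comap φ = q
    rw [hlast]
    exact IsLocalization.AtPrime.under_maximalIdeal R q

variable {X Y : Scheme.{u}} (f : X ⟶ Y) [IsLocallyNoetherian Y] [LocallyOfFiniteType f]

/-- the altitude inequality along a component through a point with equidimensional local ring -/
theorem alt_component (x : X) (hX : EGA4.IsEquidim (X.presheaf.stalk x)) (ξ : X) (hξ : ξ ⤳ x)
    (hmax : ∀ z : X, z ⤳ ξ → z = ξ) (m d : ℕ) (hm : ringKrullDim (X.presheaf.stalk x) = m)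
    (hd : ringKrullDim (Y.presheaf.stalk (f x)) = d) :
    ∃ j : ℕ, m + FibreTrdeg.T f x ≤ j + FibreTrdeg.T f ξ ∧ j ≤ d ∧
      ∀ η : Y, η ⤳ f ξ → η ≠ f ξ → j + 1 ≤ d := by
  obtain ⟨U₀, hU₀, hyU₀, -⟩ := exists_isAffineOpen_mem_and_subset (X := Y) (U := ⊤) (x := f x) trivial
  obtain ⟨V, hV, hxV, hVU⟩ := exists_isAffineOpen_mem_and_subset (X := X) (U := f ⁻¹ᵁ U₀) (x := x) hyU₀
  let : Algebra Γ(Y, U₀) Γ(X, V) := (f.appLE U₀ V hVU).hom.toAlgebra
  haveI : Algebra.FiniteType Γ(Y, U₀) Γ(X, V) := Equidim.finiteType_chart f hU₀ hV hVU rfl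
  haveI : IsNoetherianRing Γ(Y, U₀) := IsLocallyNoetherian.component_noetherian ⟨U₀, hU₀⟩
  have hξV : ξ ∈ V := hξ.mem_open V.2 hxV
  let qx := hV.primeIdealOf ⟨x, hxV⟩
  let px := hU₀.primeIdealOf ⟨f x, hVU hxV⟩
  let qξ := hV.primeIdealOf ⟨ξ, hξV⟩
  let pξ := hU₀.primeIdealOf ⟨f ξ, hVU hξV⟩
  haveI : qx.asIdeal.LiesOver px.asIdeal := TrdegScheme.liesOver f hU₀ hV hVU rfl x hxV
  haveI : qξ.asIdeal.LiesOver pξ.asIdeal := TrdegScheme.liesOver f hU₀ hV hVU rfl ξ hξV
  have hle : qξ.asIdeal ≤ qx.asIdeal := (PrimeSpectrum.le_iff_specializes qξ qx).mpr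
    (hV.fromSpec.isOpenEmbedding.isInducing.specializes_iff.mp (by
      rw [hV.fromSpec_primeIdealOf, hV.fromSpec_primeIdealOf]; exact hξ))
  have hmin : qξ.asIdeal ∈ minimalPrimes Γ(X, V) := ⟨⟨qξ.2, bot_le⟩, fun J hJ hJle => by
    let Jp : PrimeSpectrum Γ(X, V) := ⟨J, hJ.1⟩
    have h1 := hmax (hV.fromSpec Jp) ((((PrimeSpectrum.le_iff_specializes Jp qξ).mp hJle).map hV.fromSpec.continuous).trans
      (specializes_of_eq (hV.fromSpec_primeIdealOf ⟨ξ, hξV⟩)))
    exact (congrArg PrimeSpectrum.asIdeal (hV.fromSpec.isOpenEmbedding.injective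
      (a₁ := Jp) (h1.trans (hV.fromSpec_primeIdealOf ⟨ξ, hξV⟩).symm))).ge⟩
  letI := X.presheaf.algebra_section_stalk ⟨x, hxV⟩
  haveI := hV.isLocalization_stalk ⟨x, hxV⟩
  obtain ⟨l, hl, hhead, hlast⟩ := exists_series (R := X.presheaf.stalk x) qx.asIdeal qξ.asIdeal hle hmin hX m hm
  have h := AltitudeScheme.altitude_quot₁ px.asIdeal pξ.asIdeal qξ.asIdeal qx.asIdeal m l hl hhead hlast
  rw [← TrdegScheme.trdeg_residueFieldMap f hU₀ hV hVU rfl x hxV px.asIdeal qx.asIdeal rfl rfl,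
    ← TrdegScheme.trdeg_residueFieldMap f hU₀ hV hVU rfl ξ hξV pξ.asIdeal qξ.asIdeal rfl rfl,
    FibreTrdeg.T_spec f x, FibreTrdeg.T_spec f ξ] at h
  have hPp : pξ.asIdeal ≤ px.asIdeal := by
    rw [Ideal.LiesOver.over (P := qξ.asIdeal) (p := pξ.asIdeal), Ideal.LiesOver.over (P := qx.asIdeal) (p := px.asIdeal)]
    exact Ideal.comap_mono hle
  let p₁ := px.asIdeal.map (Ideal.Quotient.mk pξ.asIdeal)
  haveI : p₁.IsPrime := Ideal.map_isPrime_of_surjective Ideal.Quotient.mk_surjective (by rw [Ideal.mk_ker]; exact hPp)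
  haveI : p₁.FiniteHeight := Ideal.finiteHeight_of_isNoetherianRing p₁
  obtain ⟨la, hlast₁, hlen⟩ := p₁.exists_ltSeries_length_eq_height
  rw [← hlen, Cardinal.ofENat_nat] at h
  have hj : m + FibreTrdeg.T f x ≤ la.length + FibreTrdeg.T f ξ := by exact_mod_cast h
  have hmk : StrictMono (PrimeSpectrum.comap (Ideal.Quotient.mk pξ.asIdeal)) :=
    RingHom.strictMono_comap_of_surjective Ideal.Quotient.mk_surjective
  let lc := la.map _ hmk
  have hlc : lc.last = px := PrimeSpectrum.ext (by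
    show la.last.asIdeal.comap _ = _
    rw [hlast₁]
    show p₁.comap _ = _
    rw [Ideal.comap_map_of_surjective' _ Ideal.Quotient.mk_surjective, Ideal.mk_ker, sup_eq_left.mpr hPp])
  have hbound : ∀ s : LTSeries (PrimeSpectrum Γ(Y, U₀)), s.last = px → s.length ≤ d := fun s hs => by
    have h1 : (s.length : ℕ∞) ≤ px.asIdeal.height := by
      rw [PrimeSpectrum.height_eq_orderHeight px]
      exact Order.length_le_height hs.le
    have h2 := AltitudeScheme.stalk_dim_eq_height hU₀ (f x) (hVU hxV)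
    rw [hd] at h2
    have h3 : ((s.length : ℕ∞) : WithBot ℕ∞) ≤ ((d : ℕ) : WithBot ℕ∞) := (WithBot.coe_le_coe.mpr h1).trans h2.ge
    exact_mod_cast h3
  refine ⟨la.length, hj, hbound lc hlc, fun η hη hne => ?_⟩
  have hηU : η ∈ U₀ := hη.mem_open U₀.2 (hVU hξV)
  let pη := hU₀.primeIdealOf ⟨η, hηU⟩
  have h1 : pη < lc.head := by
    refine lt_of_lt_of_le (lt_of_le_of_ne ?_ ?_) (show pξ ≤ lc.head from fun z hz => ?_)
    · exact (PrimeSpectrum.le_iff_specializes pη pξ).mpr (hU₀.fromSpec.isOpenEmbedding.isInducing.specializes_iff.mp (by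
        rw [hU₀.fromSpec_primeIdealOf, hU₀.fromSpec_primeIdealOf]; exact hη))
    · intro he
      exact hne ((hU₀.fromSpec_primeIdealOf ⟨η, hηU⟩).symm.trans ((congrArg hU₀.fromSpec he).trans (hU₀.fromSpec_primeIdealOf _)))
    · show Ideal.Quotient.mk _ z ∈ la.head.asIdeal
      rw [Ideal.Quotient.eq_zero_iff_mem.mpr hz]
      exact zero_mem _
  have h2 := hbound (lc.cons pη h1) (by rw [RelSeries.last_cons]; exact hlc)
  simpa [lc] using h2

/-- components of the right dimensions give equidimensionality -/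
theorem of_components (x : X) (e : ℕ) (he : FlatMor.fibreDimAt f x = (e : ℕ))
    (hcomp : ∀ ξ : X, ξ ⤳ x → (∀ z : X, z ⤳ ξ → z = ξ) →
      FibreTrdeg.T f ξ = e ∧ ∀ η : Y, η ⤳ f ξ → η = f ξ) :
    EGA43.IsEquidimAt f x := by
  classical
  haveI : IsLocallyNoetherian X := LocallyOfFiniteType.isLocallyNoetherian f
  obtain ⟨O, hxO, hO⟩ := Equidim.AffineParam.exists_nhd_gen x
  let U : X.Opens := ⟨(O : Set X) ∩ {a | FlatMor.fibreDimAt f a ≤ (e : ℕ)}, O.2.inter (Equidim.isOpen_fibreDimAt_le f _)⟩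
  let q := U.ι ≫ f
  have hdim : ∀ a : X, a ∈ U → ((e : ℕ) : WithBot ℕ∞) ≤ FlatMor.fibreDimAt f a := by
    intro a ha
    obtain ⟨ξ, hξa, hmax⟩ := Equidim.AffineCrit.exists_maximal_above a
    obtain ⟨hT, -⟩ := hcomp ξ (hO ξ (hξa.mem_open O.2 ha.1) hmax) hmax
    obtain ⟨c, hc⟩ : ξ ∈ Set.range (f.fiberι (f ξ)) := by rw [f.range_fiberι]; rfl
    have hcmax : ∀ p, p ⤳ c → p = c := fun p hp => (f.fiberι (f ξ)).isEmbedding.injective
      ((hmax _ ((hp.map (f.fiberι (f ξ)).continuous).trans (specializes_of_eq hc))).trans hc.symm)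
    have h1 := ChevalleyTfae.generic_dim_le_localDim f a (closure {ξ}) isClosed_closure
      isIrreducible_singleton.closure hξa.mem_closure ξ rfl
    refine le_trans ?_ (h1.trans (ChevalleyTfae.localDim_inter_le f a _ hξa.mem_closure))
    refine le_trans ?_ (Equidim.dim_le_of_range (S := ↥(closure ({c} : Set ↥(f.fiber (f ξ)))))
      (φ := fun s => f.fiberι (f ξ) s.1) ((f.fiberι (f ξ)).isEmbedding.isInducing.comp IsInducing.subtypeVal)
      IsEmbedding.subtypeVal fun s => ⟨⟨_, ?_, (f.range_fiberι (f ξ)).subset ⟨s.1, rfl⟩⟩, rfl⟩)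
    · rw [FibreComp.dim_closure_eq f (f ξ) c hcmax, hc, ← hT]
      exact FibreTrdeg.T_le_fibreDimAt f ξ
    · exact ((specializes_of_eq hc.symm).trans
        ((specializes_iff_mem_closure.mpr s.2).map (f.fiberι (f ξ)).continuous)).mem_closure
  have hq : ∀ a : (U : Scheme.{u}), FlatMor.fibreDimAt q a = (e : ℕ) := fun a => by
    have h1 : FlatMor.fibreDimAt q a = FlatMor.fibreDimAt f (U.ι a) :=
      AlgSpTopo.ThickScheme.fibreDimAt_etale (k := f) (k' := q) U.ι (𝟙 Y) (by simp [q]) a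
    rw [h1]
    exact le_antisymm a.2.2 (hdim _ a.2)
  haveI : QuasiSober (↥U : Type u) := U.2.isOpenEmbedding_subtypeVal.quasiSober
  refine ⟨e, U, ⟨hxO, he.le⟩, fun Z hZ => ?_, fun a Z hZ => ?_⟩
  · let Zg : (U : Scheme.{u}) := hZ.1.genericPoint
    have hZmax : ∀ p : X, p ⤳ U.ι Zg → p = U.ι Zg := fun p hp => congrArg Subtype.val
      (Equidim.AffineCrit.genericPoint_maximal hZ ⟨p, hp.mem_open U.2 Zg.2⟩ (IsInducing.subtypeVal.specializes_iff.mp hp))
    have hZx := hO (U.ι Zg) Zg.2.1 hZmax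
    obtain ⟨-, hfmax⟩ := hcomp _ hZx hZmax
    exact ⟨closure {f (U.ι Zg)}, Equidim.closure_mem_irreducibleComponents _ hfmax,
      (hZx.map f.continuous).mem_closure, Equidim.AffineCrit.closure_image_component (φ := q.base) q.continuous hZ⟩
  · let c := hZ.1.genericPoint
    have hc : closure ({c} : Set ↥(q.fiber (q a))) = Z := by
      rw [hZ.1.genericPoint_closure_eq, (isClosed_of_mem_irreducibleComponents Z hZ).closure_eq]
    refine le_antisymm ?_ ?_
    · refine (Equidim.AffineCrit.le_localDim q (q a) Z hZ.1 (isClosed_of_mem_irreducibleComponents Z hZ) c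
        (hc ▸ subset_closure rfl)).trans ?_
      rw [Equidim.localDim_fiber_eq q _ c _ rfl, hq]
    · rw [← hc, ← hq (q.fiberι (q a) c), ← Equidim.localDim_fiber_eq q _ c _ rfl]
      exact Equidim.AffineCrit.localDim_le_component q _ c (Equidim.AffineCrit.genericPoint_maximal hZ)

theorem main (x : X) (hX : EGA4.IsEquidim (X.presheaf.stalk x)) (d k : ℕ)
    (hdx : ringKrullDim (X.presheaf.stalk x) = ((d + k : ℕ) : WithBot ℕ∞))
    (hdy : ringKrullDim (Y.presheaf.stalk (f x)) = (d : ℕ))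
    (hk : Order.coheight (f.asFiber x) = (k : ℕ∞)) :
    EGA43.IsEquidimAt f x := by
  classical
  haveI : IsLocallyNoetherian X := LocallyOfFiniteType.isLocallyNoetherian f
  obtain ⟨k', hk', he⟩ := FibreTrdeg.main f x
  obtain rfl : k = k' := by rw [hk] at hk'; exact_mod_cast hk'
  generalize hedef : k + FibreTrdeg.T f x = e at he
  have hcomp : ∀ ξ : X, ξ ⤳ x → (∀ z : X, z ⤳ ξ → z = ξ) →
      FibreTrdeg.T f ξ = e ∧ ∀ η : Y, η ⤳ f ξ → η = f ξ := by
    intro ξ hξ hmax
    obtain ⟨j, hj, hjd, hstrict⟩ := alt_component f x hX ξ hξ hmax _ _ hdx hdy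
    have h1 : ((FibreTrdeg.T f ξ : ℕ) : WithBot ℕ∞) ≤ (e : ℕ) :=
      (FibreTrdeg.T_le_fibreDimAt f ξ).trans ((FibreTrdeg.fibreDimAt_mono f hξ).trans he.le)
    have h2 : FibreTrdeg.T f ξ ≤ e := by exact_mod_cast h1
    refine ⟨by omega, fun η hη => by_contra fun hne => ?_⟩
    have := hstrict η hη hne
    omega
  exact of_components f x e he hcomp

/-- the same with the dimension formula as hypothesis -/
theorem of_formula (x : X) (hX : EGA4.IsEquidim (X.presheaf.stalk x))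
    (h : ringKrullDim (X.presheaf.stalk x) = ringKrullDim (Y.presheaf.stalk (f.base x)) +
      ringKrullDim ((f.fiber (f.base x)).presheaf.stalk (f.asFiber x))) :
    EGA43.IsEquidimAt f x := by
  obtain ⟨k, hk, -⟩ := FibreTrdeg.main f x
  obtain ⟨d, hd⟩ := natCast_of_bounds (ringKrullDim (Y.presheaf.stalk (f.base x))) ringKrullDim_ne_bot ringKrullDim_ne_top
  refine main f x hX d k ?_ hd hk
  rw [h, hd, ringKrullDim_stalk_eq_coheight (f.asFiber x), hk]
  push_cast
  rfl

end Groth.Agent.HensPair.EquidimCore
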