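import Groth.Agent.HensPair.AltitudeLocal
import Groth.Agent.HensPair.EquidimCore

/-!
The dimension formula on schemes over universally catenary local rings.
-/

set_option autoImplicit false
set_option synthInstance.maxHeartbeats 200000

noncomputable section

open CategoryTheory AlgebraicGeometry TopologicalSpace Topology

namespace Groth.Agent.HensPair.CatScheme

universe u

set_option backward.isDefEq.respectTransparency false

/-- the dimension at `x` of the closure of `ξ` -/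
def cd {X : Scheme.{u}} (ξ x : X) : WithBot ℕ∞ := Order.krullDim ↥({t : X | ξ ⤳ t ∧ t ⤳ x})

theorem cd_le_stalk {X : Scheme.{u}} (ξ x : X) : cd ξ x ≤ ringKrullDim (X.presheaf.stalk x) := by
  rw [ringKrullDim_stalk_eq_coheight, Order.coheight_eq_krullDim_Ici]
  exact Order.krullDim_le_of_strictMono (fun t => (⟨t.1, t.2.2⟩ : Set.Ici x)) fun a b h => h

theorem cd_eq_stalk_of_generic {X : Scheme.{u}} (η x : X) (hη : ∀ t : X, η ⤳ t) :
    cd η x = ringKrullDim (X.presheaf.stalk x) := by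
  refine le_antisymm (cd_le_stalk η x) ?_
  rw [ringKrullDim_stalk_eq_coheight, Order.coheight_eq_krullDim_Ici]
  exact Order.krullDim_le_of_strictMono (fun t : Set.Ici x => (⟨t.1, hη _, t.2⟩ : {t : X | η ⤳ t ∧ t ⤳ x})) fun a b h => h

theorem exists_component_dim {X : Scheme.{u}} (x : X) (m : ℕ) (hm : ringKrullDim (X.presheaf.stalk x) = m) :
    ∃ ξ : X, ξ ⤳ x ∧ (∀ z, z ⤳ ξ → z = ξ) ∧ cd ξ x = m := by
  have hc : ((m : ℕ) : ℕ∞) ≤ Order.coheight x := by
    rw [ringKrullDim_stalk_eq_coheight] at hm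
    exact_mod_cast hm.ge
  obtain ⟨l, hl, hlen⟩ := Order.exists_series_of_le_coheight x hc
  obtain ⟨ξ, hξ, hmax⟩ := Equidim.AffineCrit.exists_maximal_above l.last
  have hx : ∀ i, l i ⤳ x := fun i => by
    have h1 : l.head ≤ l i := l.monotone (Fin.zero_le i)
    rw [hl] at h1; exact h1
  refine ⟨ξ, hξ.trans (hx _), hmax, le_antisymm ((cd_le_stalk ξ x).trans hm.le) ?_⟩
  rw [← hlen]
  exact Order.LTSeries.length_le_krullDim (⟨l.length, fun i => ⟨l i, hξ.trans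
    (show l.last ⤳ l i from (l.monotone (Fin.le_last i) : l i ≤ l.last)), hx i⟩, fun i => l.step i⟩ :
    LTSeries ↥({t : X | ξ ⤳ t ∧ t ⤳ x}))

theorem cd_eq_of_equidim {X : Scheme.{u}} (ξ x : X) (hξ : ξ ⤳ x) (hmax : ∀ z, z ⤳ ξ → z = ξ)
    (hX : EGA4.IsEquidim (X.presheaf.stalk x)) : cd ξ x = ringKrullDim (X.presheaf.stalk x) := by
  refine le_antisymm (cd_le_stalk ξ x) ?_
  let R := X.presheaf.stalk x
  have hrange : ∀ Q : PrimeSpectrum R, X.fromSpecStalk x Q ⤳ x := fun Q => by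
    have : X.fromSpecStalk x Q ∈ Set.range (X.fromSpecStalk x) := ⟨Q, rfl⟩
    rwa [Scheme.range_fromSpecStalk] at this
  have hsp : ∀ Q Q' : PrimeSpectrum R, X.fromSpecStalk x Q ⤳ X.fromSpecStalk x Q' ↔ Q ≤ Q' := fun Q Q' =>
    (X.fromSpecStalk x).isEmbedding.isInducing.specializes_iff.trans (PrimeSpectrum.le_iff_specializes _ _).symm
  obtain ⟨P₀, hP₀⟩ : ξ ∈ Set.range (X.fromSpecStalk x) := by rw [Scheme.range_fromSpecStalk]; exact hξ
  let P : PrimeSpectrum R := P₀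
  have hP : X.fromSpecStalk x P = ξ := hP₀
  have hPmin : P.asIdeal ∈ minimalPrimes R := ⟨⟨P.2, bot_le⟩, fun J hJ hle => by
    let Jp : PrimeSpectrum R := ⟨J, hJ.1⟩
    have h1 := hmax _ (((hsp Jp P).mpr hle).trans (specializes_of_eq hP))
    exact (congrArg PrimeSpectrum.asIdeal ((X.fromSpecStalk x).isEmbedding.injective (a₁ := Jp) (h1.trans hP.symm))).ge⟩
  show ringKrullDim R ≤ _
  rw [← hX _ hPmin, ringKrullDim_quotient, ← Order.krullDim_orderDual]
  refine Order.krullDim_le_of_strictMono (fun Q => (⟨X.fromSpecStalk x (OrderDual.ofDual Q).1,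
    (specializes_of_eq hP.symm).trans ((hsp P _).mpr (OrderDual.ofDual Q).2), hrange _⟩ : {t : X | ξ ⤳ t ∧ t ⤳ x})) fun Q Q' hQ => ?_
  exact ⟨(hsp _ _).mpr hQ.le, fun h => hQ.not_ge ((hsp _ _).mp h)⟩

theorem cd_chart {X : Scheme.{u}} {V : X.Opens} (hV : IsAffineOpen V) (ξ x : X) (hξV : ξ ∈ V) (hxV : x ∈ V)
    (h : ξ ⤳ x) :
    cd ξ x = (((hV.primeIdealOf ⟨x, hxV⟩).asIdeal.map
      (Ideal.Quotient.mk (hV.primeIdealOf ⟨ξ, hξV⟩).asIdeal)).height : WithBot ℕ∞) := by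
  let q := hV.primeIdealOf ⟨x, hxV⟩
  let P := hV.primeIdealOf ⟨ξ, hξV⟩
  let mk := Ideal.Quotient.mk P.asIdeal
  have hsp : ∀ Q Q' : PrimeSpectrum Γ(X, V), hV.fromSpec Q ⤳ hV.fromSpec Q' ↔ Q ≤ Q' := fun Q Q' =>
    hV.fromSpec.isOpenEmbedding.isInducing.specializes_iff.trans (PrimeSpectrum.le_iff_specializes _ _).symm
  have hq : hV.fromSpec q = x := hV.fromSpec_primeIdealOf _
  have hP : hV.fromSpec P = ξ := hV.fromSpec_primeIdealOf _
  have hPq : P.asIdeal ≤ q.asIdeal := (hsp P q).mp (by rw [hP, hq]; exact h)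
  let q₁ : PrimeSpectrum (Γ(X, V) ⧸ P.asIdeal) :=
    ⟨q.asIdeal.map mk, Ideal.map_isPrime_of_surjective Ideal.Quotient.mk_surjective (by rw [Ideal.mk_ker]; exact hPq)⟩
  have hq₁ : PrimeSpectrum.comap mk q₁ = q := PrimeSpectrum.ext (by
    show (q.asIdeal.map mk).comap mk = _
    rw [Ideal.comap_map_of_surjective' _ Ideal.Quotient.mk_surjective, Ideal.mk_ker, sup_eq_left.mpr hPq])
  have hmk := RingHom.strictMono_comap_of_surjective (f := mk) Ideal.Quotient.mk_surjective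
  show cd ξ x = (q₁.asIdeal.height : WithBot ℕ∞)
  rw [PrimeSpectrum.height_eq_orderHeight, Order.height_eq_krullDim_Iic]
  refine le_antisymm ?_ ?_
  · have hpre : ∀ t : {t : X | ξ ⤳ t ∧ t ⤳ x}, ∃ Q : Set.Iic q₁, hV.fromSpec (PrimeSpectrum.comap mk Q.1) = t.1 := fun t => by
      obtain ⟨Q₀, hQ₀⟩ := hV.range_fromSpec.superset (t.2.2.mem_open V.2 hxV)
      let Q : PrimeSpectrum Γ(X, V) := Q₀
      have hQ : hV.fromSpec Q = t.1 := hQ₀
      have hPQ : P ≤ Q := (hsp P Q).mp (by rw [hP, hQ]; exact t.2.1)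
      obtain ⟨Q₁, hQ₁⟩ : Q ∈ Set.range (PrimeSpectrum.comap mk) := by
        rw [range_comap_of_surjective _ _ Ideal.Quotient.mk_surjective, Ideal.mk_ker]; exact hPQ
      have hQq : Q ≤ q := (hsp Q q).mp (by rw [hQ, hq]; exact t.2.2)
      refine ⟨⟨Q₁, ?_⟩, by show hV.fromSpec (PrimeSpectrum.comap mk Q₁) = _; rw [hQ₁, hQ]⟩
      show Q₁.asIdeal ≤ q₁.asIdeal
      rw [← Ideal.map_comap_of_surjective mk Ideal.Quotient.mk_surjective Q₁.asIdeal]
      refine Ideal.map_mono ?_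
      show (PrimeSpectrum.comap mk Q₁).asIdeal ≤ q.asIdeal
      rw [hQ₁]; exact hQq
    choose g hg using hpre
    refine le_of_le_of_eq (Order.krullDim_le_of_strictMono (fun t => OrderDual.toDual (g t)) fun a b hab => ?_) Order.krullDim_orderDual
    have h1 : PrimeSpectrum.comap mk (g b).1 ≤ PrimeSpectrum.comap mk (g a).1 := (hsp _ _).mp (by rw [hg, hg]; exact hab.le)
    show g b < g a
    refine lt_of_le_of_ne (show (g b).1.asIdeal ≤ (g a).1.asIdeal from ?_) fun e => hab.ne (Subtype.ext (by rw [← hg a, ← hg b, e]))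
    exact (Ideal.comap_le_comap_iff_of_surjective mk Ideal.Quotient.mk_surjective _ _).mp h1
  · rw [← Order.krullDim_orderDual]
    refine Order.krullDim_le_of_strictMono (fun Q => (⟨hV.fromSpec (PrimeSpectrum.comap mk (OrderDual.ofDual Q).1), ?_, ?_⟩ :
      {t : X | ξ ⤳ t ∧ t ⤳ x})) fun a b hab => ?_
    · refine (specializes_of_eq hP.symm).trans ((hsp P _).mpr fun z hz => ?_)
      show mk z ∈ (OrderDual.ofDual Q).1.asIdeal
      rw [Ideal.Quotient.eq_zero_iff_mem.mpr hz]; exact zero_mem _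
    · refine ((hsp _ q).mpr ?_).trans (specializes_of_eq hq)
      rw [← hq₁]; exact hmk.monotone (OrderDual.ofDual Q).2
    · have h1 : PrimeSpectrum.comap mk (OrderDual.ofDual b).1 < PrimeSpectrum.comap mk (OrderDual.ofDual a).1 := hmk hab
      exact ⟨(hsp _ _).mpr h1.le, fun h2 => h1.not_ge ((hsp _ _).mp h2)⟩

variable {X Y : Scheme.{u}} (f : X ⟶ Y) [IsLocallyNoetherian Y] [LocallyOfFiniteType f]

/-- the altitude inequality and formula along an irreducible closed subset -/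
theorem alt (x ξ : X) (hξ : ξ ⤳ x) : ∃ j i : ℕ, cd ξ x = (i : ℕ) ∧ cd (f ξ) (f x) = (j : ℕ) ∧
    i + FibreTrdeg.T f x ≤ j + FibreTrdeg.T f ξ ∧
    (CAlg.IsUniversallyCatenary (Y.presheaf.stalk (f x)) → i + FibreTrdeg.T f x = j + FibreTrdeg.T f ξ) := by
  obtain ⟨U₀, hU₀, hyU₀, -⟩ := exists_isAffineOpen_mem_and_subset (X := Y) (U := ⊤) (x := f x) trivial
  obtain ⟨V, hV, hxV, hVU⟩ := exists_isAffineOpen_mem_and_subset (X := X) (U := f ⁻¹ᵁ U₀) (x := x) hyU₀
  let : Algebra Γ(Y, U₀) Γ(X, V) := (f.appLE U₀ V hVU).hom.toAlgebra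
  haveI : Algebra.FiniteType Γ(Y, U₀) Γ(X, V) := Equidim.finiteType_chart f hU₀ hV hVU rfl
  haveI : IsNoetherianRing Γ(Y, U₀) := IsLocallyNoetherian.component_noetherian ⟨U₀, hU₀⟩
  have hξV : ξ ∈ V := hξ.mem_open V.2 hxV
  let q := (hV.primeIdealOf ⟨x, hxV⟩).asIdeal
  let p := (hU₀.primeIdealOf ⟨f x, hVU hxV⟩).asIdeal
  let P := (hV.primeIdealOf ⟨ξ, hξV⟩).asIdeal
  let P' := (hU₀.primeIdealOf ⟨f ξ, hVU hξV⟩).asIdeal
  haveI : q.LiesOver p := TrdegScheme.liesOver f hU₀ hV hVU rfl x hxV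
  haveI : P.LiesOver P' := TrdegScheme.liesOver f hU₀ hV hVU rfl ξ hξV
  have hPq : P ≤ q := (PrimeSpectrum.le_iff_specializes (hV.primeIdealOf ⟨ξ, hξV⟩) (hV.primeIdealOf ⟨x, hxV⟩)).mpr
    (hV.fromSpec.isOpenEmbedding.isInducing.specializes_iff.mp (by
      rw [hV.fromSpec_primeIdealOf, hV.fromSpec_primeIdealOf]; exact hξ))
  have hP'p : P' ≤ p := by
    rw [Ideal.LiesOver.over (P := P) (p := P'), Ideal.LiesOver.over (P := q) (p := p)]
    exact Ideal.comap_mono hPq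
  let q₁ := q.map (Ideal.Quotient.mk P)
  let p₁ := p.map (Ideal.Quotient.mk P')
  haveI : q₁.IsPrime := Ideal.map_isPrime_of_surjective Ideal.Quotient.mk_surjective (by rw [Ideal.mk_ker]; exact hPq)
  haveI : p₁.IsPrime := Ideal.map_isPrime_of_surjective Ideal.Quotient.mk_surjective (by rw [Ideal.mk_ker]; exact hP'p)
  haveI : IsNoetherianRing Γ(X, V) := Algebra.FiniteType.isNoetherianRing Γ(Y, U₀) _
  haveI : q₁.FiniteHeight := Ideal.finiteHeight_of_isNoetherianRing q₁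
  haveI : p₁.FiniteHeight := Ideal.finiteHeight_of_isNoetherianRing p₁
  obtain ⟨lq, -, hlq⟩ := q₁.exists_ltSeries_length_eq_height
  obtain ⟨lp, -, hlp⟩ := p₁.exists_ltSeries_length_eq_height
  haveI : IsScalarTower Γ(Y, U₀) (Γ(Y, U₀) ⧸ P') (Γ(X, V) ⧸ P) := IsScalarTower.of_algebraMap_eq fun x => rfl
  haveI : Algebra.FiniteType (Γ(Y, U₀) ⧸ P') (Γ(X, V) ⧸ P) :=
    Algebra.FiniteType.of_restrictScalars_finiteType Γ(Y, U₀) _ _
  haveI : FaithfulSMul (Γ(Y, U₀) ⧸ P') (Γ(X, V) ⧸ P) :=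
    (faithfulSMul_iff_algebraMap_injective _ _).mpr (Altitude.quot_injective P' P)
  have hp₁ : p₁.comap (Ideal.Quotient.mk P') = p := by
    rw [Ideal.comap_map_of_surjective' _ Ideal.Quotient.mk_surjective, Ideal.mk_ker, sup_eq_left.mpr hP'p]
  have hq₁ : q₁.comap (Ideal.Quotient.mk P) = q := by
    rw [Ideal.comap_map_of_surjective' _ Ideal.Quotient.mk_surjective, Ideal.mk_ker, sup_eq_left.mpr hPq]
  haveI : q₁.LiesOver p₁ := ⟨by
    refine Ideal.comap_injective_of_surjective _ Ideal.Quotient.mk_surjective ?_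
    rw [hp₁, Ideal.LiesOver.over (P := q) (p := p)]
    show q.comap (algebraMap Γ(Y, U₀) Γ(X, V)) =
      (q₁.comap (algebraMap (Γ(Y, U₀) ⧸ P') (Γ(X, V) ⧸ P))).comap (Ideal.Quotient.mk P')
    rw [Ideal.comap_comap]
    conv_lhs => rw [← hq₁, Ideal.comap_comap]
    rfl⟩
  have ht : Algebra.trdeg (Γ(Y, U₀) ⧸ p) (Γ(X, V) ⧸ q) =
      Algebra.trdeg ((Γ(Y, U₀) ⧸ P') ⧸ p₁) ((Γ(X, V) ⧸ P) ⧸ q₁) := by
    refine AltitudeScheme.trdeg_congr (Ideal.Quotient.lift p ((Ideal.Quotient.mk p₁).comp (Ideal.Quotient.mk P'))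
        fun z hz => Ideal.Quotient.eq_zero_iff_mem.mpr (Ideal.mem_map_of_mem _ hz)) ⟨?_, ?_⟩
      (Ideal.Quotient.lift q ((Ideal.Quotient.mk q₁).comp (Ideal.Quotient.mk P))
        fun z hz => Ideal.Quotient.eq_zero_iff_mem.mpr (Ideal.mem_map_of_mem _ hz)) ⟨?_, ?_⟩
      (Altitude.quot_injective p₁ q₁) fun a => ?_
    · rw [injective_iff_map_eq_zero]
      intro z hz
      obtain ⟨z, rfl⟩ := Ideal.Quotient.mk_surjective z
      rw [Ideal.Quotient.eq_zero_iff_mem, ← hp₁]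
      show Ideal.Quotient.mk P' z ∈ p₁
      exact Ideal.Quotient.eq_zero_iff_mem.mp hz
    · intro z
      obtain ⟨z, rfl⟩ := Ideal.Quotient.mk_surjective z
      obtain ⟨z, rfl⟩ := Ideal.Quotient.mk_surjective z
      exact ⟨Ideal.Quotient.mk p z, rfl⟩
    · rw [injective_iff_map_eq_zero]
      intro z hz
      obtain ⟨z, rfl⟩ := Ideal.Quotient.mk_surjective z
      rw [Ideal.Quotient.eq_zero_iff_mem, ← hq₁]
      show Ideal.Quotient.mk P z ∈ q₁
      exact Ideal.Quotient.eq_zero_iff_mem.mp hz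
    · intro z
      obtain ⟨z, rfl⟩ := Ideal.Quotient.mk_surjective z
      obtain ⟨z, rfl⟩ := Ideal.Quotient.mk_surjective z
      exact ⟨Ideal.Quotient.mk q z, rfl⟩
    · obtain ⟨a, rfl⟩ := Ideal.Quotient.mk_surjective a
      rfl
  have htξ := (TrdegScheme.trdeg_residueFieldMap f hU₀ hV hVU rfl ξ hξV P' P rfl rfl).symm.trans (FibreTrdeg.T_spec f ξ)
  have htx := (TrdegScheme.trdeg_residueFieldMap f hU₀ hV hVU rfl x hxV p q rfl rfl).symm.trans (FibreTrdeg.T_spec f x)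
  rw [ht] at htx
  refine ⟨lp.length, lq.length, ?_, ?_, ?_, fun hcat => ?_⟩
  · rw [cd_chart hV ξ x hξV hxV hξ]
    exact congrArg WithBot.some hlq.symm
  · rw [cd_chart hU₀ (f ξ) (f x) (hVU hξV) (hVU hxV) (hξ.map f.continuous)]
    exact congrArg WithBot.some hlp.symm
  · have h := Altitude.altitude (Γ(Y, U₀) ⧸ P') (Γ(X, V) ⧸ P) p₁ q₁
    rw [htξ, htx, ← hlq, ← hlp, Cardinal.ofENat_nat, Cardinal.ofENat_nat] at h
    exact_mod_cast h
  · have hloc : CAlg.IsUniversallyCatenary (Localization.AtPrime p) := by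
      letI := Y.presheaf.algebra_section_stalk ⟨f x, hVU hxV⟩
      haveI := hU₀.isLocalization_stalk ⟨f x, hVU hxV⟩
      let e : Y.presheaf.stalk (f x) ≃+* Localization.AtPrime p :=
        (IsLocalization.algEquiv p.primeCompl (Y.presheaf.stalk (f x)) (Localization.AtPrime p)).toRingEquiv
      letI : Algebra (Y.presheaf.stalk (f x)) (Localization.AtPrime p) := e.toRingHom.toAlgebra
      haveI : Algebra.FiniteType (Y.presheaf.stalk (f x)) (Localization.AtPrime p) :=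
        Algebra.FiniteType.of_surjective (Algebra.ofId _ _) e.surjective
      exact Catenary.of_finiteType hcat
    have h := AltitudeLocal.altitude_eq_local (Γ(Y, U₀) ⧸ P') (Γ(X, V) ⧸ P) p₁ q₁
      (AltitudeLocal.atPrime_quot P' p hP'p hloc)
    rw [htξ, htx, ← hlq, ← hlp, Cardinal.ofENat_nat, Cardinal.ofENat_nat] at h
    exact_mod_cast h

end Groth.Agent.HensPair.CatScheme
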