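import Groth.Agent.HensPair.AltitudeLocal
import Mathlib.RingTheory.EssentialFiniteness

/-!
Elementary permanence properties of catenary rings.
-/

set_option autoImplicit false

noncomputable section

namespace Groth.Agent.HensPair.CatenaryBasic

universe u

variable {A B : Type u} [CommRing A] [CommRing B]

/-- an order embedding of spectra with convex image -/
structure Convex (e : PrimeSpectrum B → PrimeSpectrum A) : Prop where
  mono : StrictMono e
  refl : ∀ a b, e a ≤ e b → a ≤ b
  convex : ∀ a b, ∀ c, e a ≤ c → c ≤ e b → ∃ d, e d = c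

theorem inj {e : PrimeSpectrum B → PrimeSpectrum A} (he : Convex e) : Function.Injective e := fun a b h =>
  le_antisymm (he.refl a b h.le) (he.refl b a h.ge)

theorem covBy {e : PrimeSpectrum B → PrimeSpectrum A} (he : Convex e) {a b : PrimeSpectrum B} (h : a ⋖ b) : e a ⋖ e b := by
  refine ⟨he.mono h.1, fun c hc1 hc2 => ?_⟩
  obtain ⟨d, rfl⟩ := he.convex a b c hc1.le hc2.le
  exact h.2 (lt_of_le_of_ne (he.refl _ _ hc1.le) fun h' => hc1.ne (congrArg e h'))
    (lt_of_le_of_ne (he.refl _ _ hc2.le) fun h' => hc2.ne (congrArg e h'))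

theorem of_convex {e : PrimeSpectrum B → PrimeSpectrum A} (he : Convex e) (hA : CAlg.IsCatenary A) : CAlg.IsCatenary B := by
  refine ⟨fun p q hpq => ?_, fun s t h1 h2 hs ht => ?_⟩
  · obtain ⟨n, hn⟩ := hA.1 (e p) (e q) (he.mono.monotone hpq)
    exact ⟨n, fun s hs hs' => hn (s.map e he.mono) (by rw [LTSeries.head_map, hs]) (by rw [LTSeries.last_map, hs'])⟩
  · exact hA.2 (s.map e he.mono) (t.map e he.mono) (by rw [LTSeries.head_map, LTSeries.head_map, h1])
      (by rw [LTSeries.last_map, LTSeries.last_map, h2]) (fun i => covBy he (hs i)) (fun i => covBy he (ht i))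

theorem lift_series {e : PrimeSpectrum B → PrimeSpectrum A} (he : Convex e) (p q : PrimeSpectrum B)
    (s : LTSeries (PrimeSpectrum A)) (hs : s.head = e p) (hs' : s.last = e q) :
    ∃ t : LTSeries (PrimeSpectrum B), t.length = s.length ∧ t.head = p ∧ t.last = q ∧
      ((∀ i : Fin s.length, s (Fin.castSucc i) ⋖ s i.succ) → ∀ i : Fin t.length, t (Fin.castSucc i) ⋖ t i.succ) := by
  have hmem : ∀ i, ∃ d, e d = s i := fun i => he.convex p q _
    (hs ▸ s.monotone (Fin.zero_le i)) (hs' ▸ s.monotone (Fin.le_last i))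
  choose g hg using hmem
  have hlt : ∀ i : Fin s.length, g i.castSucc < g i.succ := fun i => by
    have h1 : e (g i.castSucc) < e (g i.succ) := by rw [hg, hg]; exact s.step i
    exact lt_of_le_of_ne (he.refl _ _ h1.le) fun h => h1.ne (congrArg e h)
  refine ⟨⟨s.length, g, hlt⟩, rfl, inj he ((hg 0).trans hs), inj he ((hg _).trans hs'), fun hsat i => ?_⟩
  show g (Fin.castSucc i) ⋖ g i.succ
  refine ⟨hlt i, fun c h1 h2 => ?_⟩
  have h3 := hsat i
  rw [← hg, ← hg] at h3
  exact h3.2 (he.mono h1) (he.mono h2)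

/-- a ring covered by catenary convex pieces is catenary -/
theorem of_cover (h : ∀ p q : PrimeSpectrum A, p ≤ q → ∃ (C : Type u) (_ : CommRing C) (e : PrimeSpectrum C → PrimeSpectrum A),
    Convex e ∧ CAlg.IsCatenary C ∧ ∃ a b, e a = p ∧ e b = q) : CAlg.IsCatenary A := by
  refine ⟨fun p q hpq => ?_, fun s t h1 h2 hs ht => ?_⟩
  · obtain ⟨C, _, e, he, hC, a, b, rfl, rfl⟩ := h p q hpq
    obtain ⟨n, hn⟩ := hC.1 a b (he.refl _ _ hpq)
    refine ⟨n, fun s hs hs' => ?_⟩
    obtain ⟨t, hlen, ht, ht', -⟩ := lift_series he a b s hs hs'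
    exact hlen ▸ hn t ht ht'
  · obtain ⟨C, _, e, he, hC, a, b, ha, hb⟩ := h s.head s.last s.head_le_last
    obtain ⟨s', hls, hs1, hs2, hs3⟩ := lift_series he a b s ha.symm hb.symm
    obtain ⟨t', hlt, ht1, ht2, ht3⟩ := lift_series he a b t (h1.symm.trans ha.symm) (h2.symm.trans hb.symm)
    rw [← hls, ← hlt]
    exact hC.2 s' t' (hs1.trans ht1.symm) (hs2.trans ht2.symm) (hs3 hs) (ht3 ht)

theorem convex_localization [Algebra A B] (S : Submonoid A) [IsLocalization S B] :
    Convex (PrimeSpectrum.comap (algebraMap A B)) := by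
  refine ⟨fun a b hab => lt_of_le_of_ne (Ideal.comap_mono hab.le) fun he => hab.ne
    (PrimeSpectrum.localization_comap_injective B S he), fun a b hab => ?_, fun a b c _ hcb => ?_⟩
  · show a.asIdeal ≤ b.asIdeal
    rw [← IsLocalization.map_comap S B a.asIdeal, ← IsLocalization.map_comap S B b.asIdeal]
    exact Ideal.map_mono hab
  · have hd : Disjoint (S : Set A) c.asIdeal := Set.disjoint_left.mpr fun z hz hzc =>
      b.2.ne_top (Ideal.eq_top_of_isUnit_mem _ (hcb hzc) (IsLocalization.map_units B ⟨z, hz⟩))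
    exact ⟨⟨c.asIdeal.map (algebraMap A B), IsLocalization.isPrime_of_isPrime_disjoint _ B _ c.2 hd⟩,
      PrimeSpectrum.ext (IsLocalization.comap_map_of_isPrime_disjoint _ B c.2 hd)⟩

theorem mem_range_localization [Algebra A B] (S : Submonoid A) [IsLocalization S B] (c : PrimeSpectrum A)
    (hd : Disjoint (S : Set A) c.asIdeal) : ∃ d, PrimeSpectrum.comap (algebraMap A B) d = c :=
  ⟨⟨c.asIdeal.map (algebraMap A B), IsLocalization.isPrime_of_isPrime_disjoint _ B _ c.2 hd⟩,
    PrimeSpectrum.ext (IsLocalization.comap_map_of_isPrime_disjoint _ B c.2 hd)⟩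

theorem convex_quotient (I : Ideal A) : Convex (PrimeSpectrum.comap (Ideal.Quotient.mk I)) := by
  refine ⟨RingHom.strictMono_comap_of_surjective Ideal.Quotient.mk_surjective,
    fun a b hab => (Ideal.comap_le_comap_iff_of_surjective _ Ideal.Quotient.mk_surjective _ _).mp hab, fun a b c hac _ => ?_⟩
  have hI : I ≤ c.asIdeal := fun z hz => hac (by
    show Ideal.Quotient.mk I z ∈ a.asIdeal
    rw [Ideal.Quotient.eq_zero_iff_mem.mpr hz]; exact zero_mem _)
  have : c ∈ Set.range (PrimeSpectrum.comap (Ideal.Quotient.mk I)) := by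
    rw [range_comap_of_surjective _ _ Ideal.Quotient.mk_surjective, Ideal.mk_ker]; exact hI
  exact this

theorem isCatenary_of_localization [Algebra A B] (S : Submonoid A) [IsLocalization S B] (h : CAlg.IsCatenary A) :
    CAlg.IsCatenary B :=
  of_convex (convex_localization S) h

theorem isUnivCatenary_of_essFiniteType [Algebra A B] [Algebra.EssFiniteType A B] (hA : CAlg.IsUniversallyCatenary A) :
    CAlg.IsUniversallyCatenary B := by
  haveI := hA.1
  refine ⟨Algebra.EssFiniteType.isNoetherianRing A B, fun S _ _ hS => ?_⟩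
  letI : Algebra A S := ((algebraMap B S).comp (algebraMap A B)).toAlgebra
  haveI : IsScalarTower A B S := IsScalarTower.of_algebraMap_eq fun _ => rfl
  haveI := hS
  haveI : Algebra.EssFiniteType A S := Algebra.EssFiniteType.comp A B S
  exact isCatenary_of_localization (A := Algebra.EssFiniteType.subalgebra A S) (Algebra.EssFiniteType.submonoid A S)
    (hA.2 (Algebra.EssFiniteType.subalgebra A S) inferInstance)

theorem isCatenary_iff_localization_maximal :
    CAlg.IsCatenary A ↔ ∀ (m : Ideal A) [m.IsMaximal], CAlg.IsCatenary (Localization.AtPrime m) := by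
  refine ⟨fun h m _ => isCatenary_of_localization m.primeCompl h, fun h => of_cover fun p q hpq => ?_⟩
  obtain ⟨m, hm, hqm⟩ := Ideal.exists_le_maximal q.asIdeal q.2.ne_top
  haveI := hm
  exact ⟨_, inferInstance, _, convex_localization (B := Localization.AtPrime m) m.primeCompl, h m,
    (mem_range_localization m.primeCompl p (Set.disjoint_left.mpr fun z hz hzp => hz (hqm (hpq hzp)))).choose,
    (mem_range_localization m.primeCompl q (Set.disjoint_left.mpr fun z hz hzq => hz (hqm hzq))).choose,
    (mem_range_localization m.primeCompl p (Set.disjoint_left.mpr fun z hz hzp => hz (hqm (hpq hzp)))).choose_spec,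
    (mem_range_localization m.primeCompl q (Set.disjoint_left.mpr fun z hz hzq => hz (hqm hzq))).choose_spec⟩

theorem isCatenary_iff_minimalPrimes :
    CAlg.IsCatenary A ↔ ∀ p ∈ minimalPrimes A, CAlg.IsCatenary (A ⧸ p) := by
  refine ⟨fun h p _ => of_convex (convex_quotient p) h, fun h => of_cover fun p q hpq => ?_⟩
  obtain ⟨P, hP, hPp⟩ := Ideal.exists_minimalPrimes_le (bot_le (a := p.asIdeal))
  have hmem : ∀ c : PrimeSpectrum A, P ≤ c.asIdeal → c ∈ Set.range (PrimeSpectrum.comap (Ideal.Quotient.mk P)) := fun c hc => by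
    rw [range_comap_of_surjective _ _ Ideal.Quotient.mk_surjective, Ideal.mk_ker]; exact hc
  obtain ⟨a, ha⟩ := hmem p hPp
  obtain ⟨b, hb⟩ := hmem q (hPp.trans hpq)
  exact ⟨_, inferInstance, _, convex_quotient P, h P hP, a, b, ha, hb⟩

theorem isUnivCatenary_iff_localization_maximal [IsNoetherianRing A] :
    CAlg.IsUniversallyCatenary A ↔ ∀ (m : Ideal A) [m.IsMaximal], CAlg.IsUniversallyCatenary (Localization.AtPrime m) := by
  refine ⟨fun h m _ => isUnivCatenary_of_essFiniteType h, fun h => ⟨inferInstance, fun S _ _ hS => of_cover fun p q hpq => ?_⟩⟩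
  haveI := hS
  obtain ⟨m, hm, hqm⟩ := Ideal.exists_le_maximal (q.asIdeal.comap (algebraMap A S)) (Ideal.IsPrime.comap _).ne_top
  haveI := hm
  let M := Algebra.algebraMapSubmonoid S m.primeCompl
  have hd : ∀ c : PrimeSpectrum S, c ≤ q → Disjoint (M : Set S) c.asIdeal := fun c hc => Set.disjoint_left.mpr (by
    rintro _ ⟨a, ha, rfl⟩ hac
    exact ha (hqm (hc hac)))
  obtain ⟨a, ha⟩ := mem_range_localization (B := Localization M) M p (hd p hpq)
  obtain ⟨b, hb⟩ := mem_range_localization (B := Localization M) M q (hd q le_rfl)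
  exact ⟨_, inferInstance, _, convex_localization (B := Localization M) M,
    (h m).2 (Localization M) (AltitudeLocal.finiteType_localization m.primeCompl), a, b, ha, hb⟩

theorem dim_function [IsNoetherianRing A] [IsLocalRing A] :
    CAlg.IsCatenary A ↔
      ∀ p q : PrimeSpectrum A, p < q →
        ringKrullDim (A ⧸ q.asIdeal) < ringKrullDim (A ⧸ p.asIdeal) ∧
          (p ⋖ q → ringKrullDim (A ⧸ p.asIdeal) = ringKrullDim (A ⧸ q.asIdeal) + 1) := by
  let m : PrimeSpectrum A := IsLocalRing.closedPoint A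
  have hm : ∀ p : PrimeSpectrum A, p ≤ m := fun p => IsLocalRing.le_maximalIdeal p.2.ne_top
  have hdim : ∀ p : PrimeSpectrum A, ∀ s : LTSeries (PrimeSpectrum A), s.head = p → Catenary.IsMaxChain s → s.last = m →
      ringKrullDim (A ⧸ p.asIdeal) = (s.length : ℕ) := by
    intro p s hs hmax hlast
    rw [ringKrullDim_quotient]
    refine le_antisymm (iSup_le fun l => ?_) ?_
    · let l' : LTSeries (PrimeSpectrum A) := l.map Subtype.val fun _ _ h => h
      obtain ⟨t, ht1, ht2, ht3⟩ : ∃ t : LTSeries (PrimeSpectrum A), t.head = p ∧ t.last = m ∧ l.length ≤ t.length := by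
        obtain ⟨t₁, ht₁, ht₁', htlen⟩ : ∃ t : LTSeries (PrimeSpectrum A), t.head = p ∧ t.last = l'.last ∧ l.length ≤ t.length := by
          rcases (show p ≤ l'.head from l.head.2).lt_or_eq with h | h
          · exact ⟨l'.cons p h, by simp, by simp, by simp [l']⟩
          · exact ⟨l', h.symm, rfl, by simp [l']⟩
        rcases (hm t₁.last).lt_or_eq with h | h
        · exact ⟨t₁.snoc m h, by rw [RelSeries.head_snoc]; exact ht₁, RelSeries.last_snoc _ _ _, by rw [RelSeries.snoc_length]; omega⟩
        · exact ⟨t₁, ht₁, h, htlen⟩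
      exact_mod_cast ht3.trans (hmax t (ht1.trans hs.symm) (ht2.trans hlast.symm))
    · have hmem : ∀ i, (s i) ∈ PrimeSpectrum.zeroLocus (p.asIdeal : Set A) := fun i => by
        show (p.asIdeal : Set A) ⊆ _
        rw [← hs]
        exact s.monotone (Fin.zero_le i)
      exact Order.LTSeries.length_le_krullDim
        (⟨s.length, fun i => ⟨s i, hmem i⟩, fun i => s.step i⟩ : LTSeries ↥(PrimeSpectrum.zeroLocus (p.asIdeal : Set A)))
  constructor
  · intro hA p q hpq
    obtain ⟨a, ha0, ha1, ha⟩ := Catenary.exists_max hA p q hpq.le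
    obtain ⟨b, hb0, hb1, hb⟩ := Catenary.exists_max hA q m (hm q)
    obtain ⟨c, hc0, hc1, hc⟩ := Catenary.exists_max hA p m (hm p)
    have hadd := Catenary.max_add hA ha hb hc (ha0.trans hc0.symm) (ha1.trans hb0.symm) (hb1.trans hc1.symm)
    have h1 : 1 ≤ a.length := by
      by_contra h
      have hl : Fin.last a.length = 0 := Fin.ext (by simp; omega)
      apply hpq.ne
      rw [← ha0, ← ha1]
      show a 0 = a (Fin.last _)
      rw [hl]
    rw [hdim q b hb0 hb hb1, hdim p c hc0 hc hc1, ← hadd]
    refine ⟨by exact_mod_cast (by omega : b.length < a.length + b.length), fun hcov => ?_⟩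
    have h2 : a.length = 1 := by
      by_contra h
      have h01 : a 0 < a ⟨1, by omega⟩ := a.strictMono (by simp [Fin.lt_def])
      have h12 : a ⟨1, by omega⟩ < a.last := a.strictMono (by simp [Fin.lt_def]; omega)
      exact hcov.2 (ha0 ▸ h01) (ha1 ▸ h12)
    rw [h2]; push_cast; rw [add_comm]
  · intro h
    have hfin : ∀ p : PrimeSpectrum A, ∃ n : ℕ, ringKrullDim (A ⧸ p.asIdeal) = (n : ℕ) := fun p => by
      haveI : Nontrivial (A ⧸ p.asIdeal) := Ideal.Quotient.nontrivial_iff.mpr p.2.ne_top
      haveI : IsLocalRing (A ⧸ p.asIdeal) := IsLocalRing.of_surjective' _ Ideal.Quotient.mk_surjective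
      have hb : ringKrullDim (A ⧸ p.asIdeal) ≠ ⊥ := ringKrullDim_ne_bot
      have ht : ringKrullDim (A ⧸ p.asIdeal) ≠ ⊤ := ringKrullDim_ne_top
      match hd : ringKrullDim (A ⧸ p.asIdeal), hb, ht with
      | ⊥, hb, _ => exact absurd rfl hb
      | (⊤ : ℕ∞), _, ht => exact absurd rfl ht
      | ((n : ℕ) : ℕ∞), _, _ => exact ⟨n, rfl⟩
    choose d hd using hfin
    have hdrop : ∀ p q, p < q → d q < d p := fun p q hpq => by
      have h1 := (h p q hpq).1
      rw [hd, hd] at h1
      exact_mod_cast h1
    have hcov : ∀ p q, p ⋖ q → d p = d q + 1 := fun p q hpq => by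
      have h1 := (h p q hpq.1).2 hpq
      rw [hd, hd] at h1
      exact_mod_cast h1
    refine ⟨fun p q _ => ⟨d p, fun s hs _ => ?_⟩, fun s t h1 h2 hs ht => ?_⟩
    · have key : ∀ i : Fin (s.length + 1), d (s i) + i.val ≤ d p := fun i => by
        induction i using Fin.induction with
        | zero => rw [show s 0 = p from hs]; simp
        | succ i ih =>
          have := hdrop _ _ (s.step i)
          simp only [Fin.val_succ, Fin.val_castSucc] at *
          omega
      have := key (Fin.last _)
      simp only [Fin.val_last] at this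
      omega
    · have key : ∀ (s : LTSeries (PrimeSpectrum A)), (∀ i : Fin s.length, s (Fin.castSucc i) ⋖ s i.succ) →
          ∀ i : Fin (s.length + 1), d (s i) + i.val = d s.head := fun s hs i => by
        induction i using Fin.induction with
        | zero => simp [RelSeries.head]
        | succ i ih =>
          have := hcov _ _ (hs i)
          simp only [Fin.val_succ, Fin.val_castSucc] at *
          omega
      have a1 : d s.last + s.length = d s.head := key s hs (Fin.last _)
      have a2 : d t.last + t.length = d t.head := key t ht (Fin.last _)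
      rw [h1, h2] at a1
      omega

end Groth.Agent.HensPair.CatenaryBasic
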