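import Groth.Agent.HensPair.UnivOpenGeomUni
import Groth.Agent.HensPair.BranchScheme
import Mathlib.AlgebraicGeometry.Noetherian
import Groth.Agent.Equidim.AffineCrit
import Groth.Agent.AlgSpTopo.ThickScheme
import Mathlib.AlgebraicGeometry.IdealSheaf.Subscheme

/-!
Chevalley's criterion of universal openness over geometrically unibranch points.
-/

set_option autoImplicit false
set_option synthInstance.maxHeartbeats 200000

noncomputable section

open CategoryTheory CategoryTheory.Limits AlgebraicGeometry TopologicalSpace Topology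

namespace Groth.Agent.HensPair.Chevalley

universe u

set_option backward.isDefEq.respectTransparency false

theorem eq_genericPoint {Y : Scheme.{u}} [IrreducibleSpace Y] {η : Y} (h : ∀ y : Y, η ⤳ y) : η = genericPoint Y :=
  ((h _).antisymm ((genericPoint_spec Y).specializes trivial)).eq

theorem map_genericPoint {X Y : Scheme.{u}} [IrreducibleSpace X] [IrreducibleSpace Y] (f : X ⟶ Y) (hd : DenseRange f) :
    f (genericPoint X) = genericPoint Y := by
  refine eq_genericPoint fun y => specializes_iff_mem_closure.mpr ?_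
  refine closure_minimal ?_ isClosed_closure (hd y)
  rintro _ ⟨z, rfl⟩
  exact specializes_iff_mem_closure.mp (((genericPoint_spec X).specializes trivial).map f.continuous)

/-- affine space is universally open over its base -/
theorem universallyOpen_over (σ : Type u) (Y : Scheme.{u}) : UniversallyOpen (𝔸(σ; Y) ↘ Y) := by
  refine ⟨fun X' Y' i₁ i₂ f' H => ?_⟩
  have e := H.flip.isoIsPullback _ _ (AffineSpace.isPullback_map (n := σ) i₂)
  have he : (H.flip.isoIsPullback _ _ (AffineSpace.isPullback_map (n := σ) i₂)).hom ≫ (𝔸(σ; Y') ↘ Y') = f' :=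
    IsPullback.isoIsPullback_hom_snd _ _ _ _
  show IsOpenMap f'
  rw [← he, Scheme.Hom.comp_base, TopCat.coe_comp]
  exact (AffineSpace.isOpenMap_over Y').comp (H.flip.isoIsPullback _ _ (AffineSpace.isPullback_map (n := σ) i₂)).hom.homeomorph.isOpenMap

/-- the case of irreducible schemes -/
theorem univOpenAt_of_dim {X Y : Scheme.{u}} [IrreducibleSpace X] [IrreducibleSpace Y] (f : X ⟶ Y)
    [LocallyOfFiniteType f] (hd : DenseRange f) (x : X)
    (hdim : FlatMor.fibreDimAt f x ≤ topologicalKrullDim ↥(f.fiber (genericPoint Y)))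
    (hy : CAlg2.IsGeomUnibranch (Y.presheaf.stalk (f x))) : EGA43.IsUnivOpenAt f x := by
  have : IsDominant f := ⟨hd⟩
  let D := topologicalKrullDim ↥(f.fiber (genericPoint Y))
  have hge : ∀ a : X, D ≤ FlatMor.fibreDimAt f a := fun a => Equidim.generic_fibre_dim_le f a
  obtain ⟨n, hn⟩ := Equidim.exists_nat_fibreDimAt_le f x
  obtain ⟨g₀, hg₀⟩ : genericPoint X ∈ Set.range (f.fiberι (genericPoint Y)) := by
    rw [f.range_fiberι]; exact map_genericPoint f hd
  have hne : Nonempty ↥(f.fiber (genericPoint Y)) := ⟨g₀⟩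
  obtain ⟨e, he⟩ : ∃ e : ℕ, D = (e : ℕ) := by
    have h1 : D ≤ (n : ℕ) := (hge x).trans hn
    have : Nonempty (IrreducibleCloseds ↥(f.fiber (genericPoint Y))) :=
      ⟨⟨closure {g₀}, isIrreducible_singleton.closure, isClosed_closure⟩⟩
    have h0 : (0 : WithBot ℕ∞) ≤ D := Order.krullDim_nonneg
    cases hD : D with
    | bot => rw [hD] at h0; exact absurd h0 (by simp)
    | coe d =>
      cases d with
      | top =>
        rw [hD] at h1
        exact absurd (top_le_iff.mp (WithBot.coe_le_coe.mp h1)) (ENat.natCast_ne_top n)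
      | coe k => exact ⟨k, rfl⟩
  let U : X.Opens := ⟨{a | FlatMor.fibreDimAt f a ≤ (e : ℕ)}, Equidim.isOpen_fibreDimAt_le f _⟩
  have hxU : x ∈ U := show FlatMor.fibreDimAt f x ≤ (e : ℕ) from he ▸ hdim
  let q := U.ι ≫ f
  have hq : ∀ a : (U : Scheme.{u}), FlatMor.fibreDimAt q a = (e : ℕ) := fun a => by
    have h1 : FlatMor.fibreDimAt q a = FlatMor.fibreDimAt f (U.ι a) :=
      AlgSpTopo.ThickScheme.fibreDimAt_etale (k := f) (k' := q) U.ι (𝟙 Y) (by simp [q]) a
    rw [h1]
    exact le_antisymm a.2 (he ▸ hge _)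
  have hUne : Nonempty ↥U := ⟨⟨x, hxU⟩⟩
  have : IrreducibleSpace (U : Scheme.{u}) := by
    have h : IsIrreducible (U : Set X) :=
      ⟨⟨x, hxU⟩, (IrreducibleSpace.isIrreducible_univ X).2.open_subset U.2 (Set.subset_univ _)⟩
    exact (Subtype.irreducibleSpace h : IrreducibleSpace (U : Set X))
  have hdq : DenseRange q := by
    have : DenseRange U.ι := by
      rw [DenseRange, Scheme.Opens.range_ι]
      exact U.2.dense ⟨x, hxU⟩
    show DenseRange (f ∘ U.ι)
    exact hd.comp this f.continuous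
  obtain ⟨W, g, hxW, hgq, hqf, hcomp⟩ := Equidim.AffineCrit.exists_param q (e := e) (fun ξ hξ s hs => by
      have hgen : ξ = genericPoint (U : Scheme.{u}) :=
        (hξ _ ((genericPoint_spec (U : Scheme.{u})).specializes trivial)).symm
      rw [hgen, map_genericPoint q hdq] at hs ⊢
      exact (hs.antisymm ((genericPoint_spec Y).specializes trivial)).eq) (fun a Z hZ => by
      let c := hZ.1.genericPoint
      have hc : closure ({c} : Set ↥(q.fiber (q a))) = Z := by
        rw [hZ.1.genericPoint_closure_eq, (isClosed_of_mem_irreducibleComponents Z hZ).closure_eq]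
      refine le_antisymm ?_ ?_
      · refine (Equidim.AffineCrit.le_localDim q (q a) Z hZ.1 (isClosed_of_mem_irreducibleComponents Z hZ) c
          (hc ▸ subset_closure rfl)).trans ?_
        rw [Equidim.localDim_fiber_eq q _ c _ rfl, hq]
      · rw [← hc, ← hq (q.fiberι (q a) c), ← Equidim.localDim_fiber_eq q _ c _ rfl]
        exact Equidim.AffineCrit.localDim_le_component q _ c (Equidim.AffineCrit.genericPoint_maximal hZ))
    (⟨x, hxU⟩ : (U : Scheme.{u}))
  have : IrreducibleSpace (W : Scheme.{u}) := by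
    have h : IsIrreducible (W : Set (U : Scheme.{u})) :=
      ⟨⟨_, hxW⟩, (IrreducibleSpace.isIrreducible_univ (U : Scheme.{u})).2.open_subset W.2 (Set.subset_univ _)⟩
    exact (Subtype.irreducibleSpace h : IrreducibleSpace (W : Set (U : Scheme.{u})))
  have : IrreducibleSpace ↥W := ‹IrreducibleSpace (W : Scheme.{u})›
  have hdg : DenseRange g := by
    have h := hcomp Set.univ (by rw [irreducibleComponents_eq_singleton]; exact Set.mem_singleton _)
    rw [irreducibleComponents_eq_singleton, Set.mem_singleton_iff, Set.image_univ] at h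
    exact dense_iff_closure_eq.mpr h
  have : LocallyOfFiniteType (g ≫ (𝔸(ULift.{u} (Fin e); Y) ↘ Y)) := by rw [hgq]; infer_instance
  have : LocallyOfFiniteType g := locallyOfFiniteType_of_comp g (𝔸(ULift.{u} (Fin e); Y) ↘ Y)
  let w : (W : Scheme.{u}) := ⟨⟨x, hxU⟩, hxW⟩
  have hover : (𝔸(ULift.{u} (Fin e); Y) ↘ Y) (g w) = f x := by
    rw [← Scheme.Hom.comp_apply, hgq]
    rfl
  have h1 := UnivOpenGeomUni.univOpenAt_of_quasiFinite g hdg w (by
    refine UnivOpenGeomUni.geomUnibranch_affineSpace _ (g w) ?_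
    show CAlg2.IsGeomUnibranch (Y.presheaf.stalk ((𝔸(ULift.{u} (Fin e); Y) ↘ Y) (g w)))
    rw [hover]
    exact hy)
  have : UniversallyOpen (𝔸(ULift.{u} (Fin e); Y) ↘ Y) := universallyOpen_over _ Y
  have h2 := UnivOpenAt.comp h1
    (UnivOpenGeomUni.univOpenAt_of_universallyOpen (𝔸(ULift.{u} (Fin e); Y) ↘ Y) (g w))
  rw [hgq, ← Category.assoc] at h2
  have h3 := UnivOpenAt.of_comp h2
  exact h3

theorem irreducibleSpace_of_range {T X : Scheme.{u}} (i : T ⟶ X) (hi : IsEmbedding i) {Z : Set X}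
    (hZ : IsIrreducible Z) (hr : Set.range i = Z) : IrreducibleSpace T := by
  have h : IsIrreducible (Set.univ : Set T) := by
    refine ⟨?_, fun u v hu hv ⟨a, _, ha⟩ ⟨b, _, hb⟩ => ?_⟩
    · obtain ⟨z, hz⟩ := hZ.1
      obtain ⟨t, -⟩ := hr ▸ hz
      exact ⟨t, trivial⟩
    · obtain ⟨u', hu', rfl⟩ := hi.isInducing.isOpen_iff.mp hu
      obtain ⟨v', hv', rfl⟩ := hi.isInducing.isOpen_iff.mp hv
      obtain ⟨z, hz, hzu, hzv⟩ := hZ.2 u' v' hu' hv' ⟨i a, hr ▸ ⟨a, rfl⟩, ha⟩ ⟨i b, hr ▸ ⟨b, rfl⟩, hb⟩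
      rw [← hr] at hz
      obtain ⟨t, rfl⟩ := hz
      exact ⟨t, trivial, hzu, hzv⟩
  exact { toPreirreducibleSpace := ⟨h.2⟩, toNonempty := ⟨h.1.some⟩ }

/-- an irreducible closed subset witnesses universal openness at a geometrically unibranch point -/
theorem univOpenAt_of_component {X Y : Scheme.{u}} (f : X ⟶ Y) [LocallyOfFiniteType f] (x : X)
    (Z : Set X) (hZc : IsClosed Z) (hZ : IsIrreducible Z) (hxZ : x ∈ Z)
    (V : Y.Opens) [IrreducibleSpace (V : Scheme.{u})] (hxV : f x ∈ V)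
    (hdom : (genericPoint (V : Scheme.{u})).1 ∈ closure (f '' Z))
    (hdim : FlatMor.localDim ↥(Z ∩ f ⁻¹' {f x}) ⟨x, hxZ, rfl⟩ ≤
      topologicalKrullDim ↥(Z ∩ f ⁻¹' {(genericPoint (V : Scheme.{u})).1}))
    (hy : CAlg2.IsGeomUnibranch (Y.presheaf.stalk (f x))) : EGA43.IsUnivOpenAt f x := by
  let C : Closeds X := ⟨Z, hZc⟩
  let T := (Scheme.IdealSheafData.vanishingIdeal C).subscheme
  let i : T ⟶ X := (Scheme.IdealSheafData.vanishingIdeal C).subschemeι
  have hr : Set.range i = Z := by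
    exact Scheme.IdealSheafData.range_subschemeι _
  have : IrreducibleSpace T := irreducibleSpace_of_range i i.isEmbedding hZ hr
  obtain ⟨t, ht⟩ : x ∈ Set.range i := by rw [hr]; exact hxZ
  let h := i ≫ f
  have htV : t ∈ h ⁻¹ᵁ V := by
    show f (i t) ∈ V
    rw [ht]; exact hxV
  have : IrreducibleSpace (↑(h ⁻¹ᵁ V) : Scheme.{u}) := by
    have hh : IsIrreducible ((h ⁻¹ᵁ V : T.Opens) : Set T) :=
      ⟨⟨t, htV⟩, (IrreducibleSpace.isIrreducible_univ T).2.open_subset (h ⁻¹ᵁ V).2 (Set.subset_univ _)⟩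
    exact (Subtype.irreducibleSpace hh : IrreducibleSpace ((h ⁻¹ᵁ V : T.Opens) : Set T))
  let q := h ∣_ V
  have hqv : ∀ a, (q a).1 = f (i a.1) := fun a => morphismRestrict_base_coe h V a
  have hd : DenseRange q := by
    intro v
    rw [mem_closure_iff]
    intro O hO hvO
    obtain ⟨O', hO', rfl⟩ := isOpen_induced_iff.mp hO
    have hg : (genericPoint (V : Scheme.{u})).1 ∈ O' ∩ (V : Set Y) :=
      ⟨((genericPoint_spec (V : Scheme.{u})).specializes (show v ∈ Set.univ from trivial)).mem_open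
        (hO'.preimage continuous_subtype_val) hvO, (genericPoint (V : Scheme.{u})).2⟩
    obtain ⟨_, ⟨hO'z, hVz⟩, z, hz, rfl⟩ := mem_closure_iff.mp hdom _ (hO'.inter V.2) hg
    rw [← hr] at hz
    obtain ⟨a, rfl⟩ := hz
    exact ⟨q ⟨a, hVz⟩, show (q ⟨a, hVz⟩).1 ∈ O' by rw [hqv]; exact hO'z, ⟨a, hVz⟩, rfl⟩
  let η := genericPoint (V : Scheme.{u})
  have he : ∀ b : (↑(h ⁻¹ᵁ V) : Scheme.{u}), IsEmbedding fun s : ↥(q ⁻¹' {q b}) => i s.1.1 := fun b =>
    i.isEmbedding.comp (IsEmbedding.subtypeVal.comp IsEmbedding.subtypeVal)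
  have hdim' : FlatMor.fibreDimAt q ⟨t, htV⟩ ≤ topologicalKrullDim ↥(q.fiber η) := by
    rw [AlgSpTopo.ThickScheme.fibreDimAt_eq]
    let e1 : ↥(q ⁻¹' {q ⟨t, htV⟩}) ≃ₜ ↥(Z ∩ f ⁻¹' {f x}) := by
      refine (he ⟨t, htV⟩).toHomeomorph.trans (Homeomorph.setCongr (Set.ext fun z => ⟨?_, ?_⟩))
      · rintro ⟨⟨s, hs⟩, rfl⟩
        refine ⟨hr ▸ ⟨_, rfl⟩, ?_⟩
        show f (i s.1) = f x
        rw [← hqv, show q s = q ⟨t, htV⟩ from hs, hqv]
        exact congrArg f ht
      · rintro ⟨hz, hzy⟩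
        rw [← hr] at hz
        obtain ⟨a, rfl⟩ := hz
        have haV : a ∈ h ⁻¹ᵁ V := by
          show f (i a) ∈ V
          rw [show f (i a) = f x from hzy]; exact hxV
        exact ⟨⟨⟨a, haV⟩, Subtype.ext (by rw [hqv, hqv]; exact hzy.trans (congrArg f ht).symm)⟩, rfl⟩
    have e2 : ↥(q.fiber η) ≃ₜ ↥(Z ∩ f ⁻¹' {η.1}) := by
      refine (q.fiberHomeo η).trans
        (((i.isEmbedding.comp (IsEmbedding.subtypeVal.comp IsEmbedding.subtypeVal)).toHomeomorph
          (f := fun s : ↥(q ⁻¹' {η}) => i s.1.1)).trans (Homeomorph.setCongr (Set.ext fun z => ⟨?_, ?_⟩)))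
      · rintro ⟨⟨s, hs⟩, rfl⟩
        refine ⟨hr ▸ ⟨_, rfl⟩, ?_⟩
        show f (i s.1) = η.1
        rw [← hqv, show q s = η from hs]
      · rintro ⟨hz, hzy⟩
        rw [← hr] at hz
        obtain ⟨a, rfl⟩ := hz
        have haV : a ∈ h ⁻¹ᵁ V := by
          show f (i a) ∈ V
          rw [show f (i a) = η.1 from hzy]; exact η.2
        exact ⟨⟨⟨a, haV⟩, Subtype.ext (by rw [hqv]; exact hzy)⟩, rfl⟩
    rw [IsHomeomorph.topologicalKrullDim_eq _ e2.isHomeomorph, AlgSpTopo.ThickScheme.localDim_homeo e1]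
    refine le_of_eq_of_le ?_ hdim
    congr 1
    exact Subtype.ext (show i t = x from ht)
  have hyV : CAlg2.IsGeomUnibranch ((V : Scheme.{u}).presheaf.stalk (q ⟨t, htV⟩)) := by
    have e := (asIso (V.ι.stalkMap (q ⟨t, htV⟩))).commRingCatIsoToRingEquiv
    refine HensPoint.GeomUniScheme.geomUnibranch_of_ringEquiv' e ?_
    rw [show V.ι (q ⟨t, htV⟩) = f x from (hqv ⟨t, htV⟩).trans (congrArg f ht)]
    exact hy
  have h1 := univOpenAt_of_dim q hd ⟨t, htV⟩ hdim' hyV
  have h2 := UnivOpenAt.comp h1 (UnivOpenGeomUni.univOpenAt_of_universallyOpen V.ι _)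
  rw [morphismRestrict_ι] at h2
  have h3 := UnivOpenAt.of_comp h2
  have h4 := UnivOpenAt.of_comp (f := i) (g := f) h3
  rw [show i.base ((h ⁻¹ᵁ V).ι.base ⟨t, htV⟩) = x from ht] at h4
  exact h4

/-- at a geometrically unibranch point of a locally noetherian scheme there is an irreducible neighbourhood -/
theorem exists_irreducible_nhd {Y : Scheme.{u}} [IsLocallyNoetherian Y] (y : Y)
    (hy : CAlg2.IsGeomUnibranch (Y.presheaf.stalk y)) :
    ∃ V : Y.Opens, y ∈ V ∧ IrreducibleSpace (V : Scheme.{u}) ∧ ∀ W ∈ irreducibleComponents (Y : Type u),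
      y ∈ W → (V : Set Y) ⊆ W := by
  classical
  have h1 : {Z : Set ↑Y | Z ∈ irreducibleComponents ↑Y ∧ y ∈ Z}.encard = 1 := by
    rw [HensPair.BranchScheme.card_components, HensPair.BranchUnibranch.card_eq_one_iff]
    have := hy.1.1
    have hN : (nilradical (Y.presheaf.stalk y)).IsPrime := (Ideal.Quotient.isDomain_iff_prime _).mp this
    exact ⟨nilradical _, ⟨⟨hN, bot_le⟩, fun J ⟨hJ, _⟩ _ => nilradical_le_prime J⟩,
      fun J hJ => le_antisymm (hJ.2 ⟨hN, bot_le⟩ (haveI := hJ.1.1; nilradical_le_prime J))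
        (haveI := hJ.1.1; nilradical_le_prime J)⟩
  obtain ⟨Z₀, hZ₀⟩ := Set.encard_eq_one.mp h1
  obtain ⟨U₀, hU₀, hyU₀, -⟩ := exists_isAffineOpen_mem_and_subset (X := Y) (U := ⊤) (x := y) trivial
  have : IsNoetherianRing Γ(Y, U₀) := IsLocallyNoetherian.component_noetherian ⟨U₀, hU₀⟩
  have : NoetherianSpace (U₀ : Set Y) := noetherianSpace_of_isAffineOpen U₀ hU₀
  let bad : Set (Set Y) := {W | W ∈ irreducibleComponents (Y : Type u) ∧ (W ∩ (U₀ : Set Y)).Nonempty ∧ y ∉ W}
  have hfin : bad.Finite := by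
    have h := NoetherianSpace.finite_irreducibleComponents (α := (U₀ : Set Y))
    refine (h.image fun T => closure (Subtype.val '' T)).subset fun W hW => ?_
    refine ⟨Subtype.val ⁻¹' W, ?_, ?_⟩
    · exact preimage_mem_irreducibleComponents hW.1 U₀.2.isOpenEmbedding_subtypeVal
        (by rw [Subtype.range_val]; exact hW.2.1)
    · show closure (Subtype.val '' (Subtype.val ⁻¹' W)) = W
      rw [Subtype.image_preimage_val, Set.inter_comm]
      exact (closure_minimal Set.inter_subset_left (isClosed_of_mem_irreducibleComponents W hW.1)).antisymm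
        (subset_closure_inter_of_isPreirreducible_of_isOpen hW.1.1.2 U₀.2 hW.2.1)
  let V : Y.Opens := ⟨(U₀ : Set Y) ∩ (⋃ W ∈ bad, W)ᶜ,
    U₀.2.inter (Set.Finite.isClosed_biUnion hfin fun W hW => isClosed_of_mem_irreducibleComponents W hW.1 : IsClosed (⋃ W ∈ bad, W)).isOpen_compl⟩
  have hyV : y ∈ V := ⟨hyU₀, fun h => by
    obtain ⟨W, hW, hyW⟩ := Set.mem_iUnion₂.mp h
    exact hW.2.2 hyW⟩
  have hsub : (V : Set Y) ⊆ Z₀ := fun z hz => by
    by_cases hy' : y ∈ irreducibleComponent z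
    · have : irreducibleComponent z ∈ {Z : Set ↑Y | Z ∈ irreducibleComponents ↑Y ∧ y ∈ Z} :=
        ⟨irreducibleComponent_mem_irreducibleComponents z, hy'⟩
      rw [hZ₀] at this
      exact this ▸ mem_irreducibleComponent
    · have hbad : irreducibleComponent z ∈ bad :=
        ⟨irreducibleComponent_mem_irreducibleComponents z, ⟨z, mem_irreducibleComponent, hz.1⟩, hy'⟩
      exact absurd (Set.mem_iUnion₂.mpr ⟨_, hbad, mem_irreducibleComponent⟩) hz.2
  have hZ₀mem : Z₀ ∈ irreducibleComponents ↥Y :=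
    (show Z₀ ∈ {Z : Set ↑Y | Z ∈ irreducibleComponents ↑Y ∧ y ∈ Z} by rw [hZ₀]; rfl).1
  have hirr : IsIrreducible (V : Set Y) := ⟨⟨y, hyV⟩, hZ₀mem.1.2.open_subset V.2 hsub⟩
  have hVirr : IrreducibleSpace (V : Scheme.{u}) := (Subtype.irreducibleSpace hirr : IrreducibleSpace (V : Set Y))
  refine ⟨V, hyV, hVirr, fun W hW hyW => ?_⟩
  have : W ∈ ({Z₀} : Set (Set Y)) := hZ₀ ▸ (⟨hW, hyW⟩ : W ∈ {Z : Set ↑Y | Z ∈ irreducibleComponents ↑Y ∧ y ∈ Z})
  rw [Set.mem_singleton_iff.mp this]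
  exact hsub

/-- the generic point of an irreducible open is maximal -/
theorem genericPoint_unique {Y : Scheme.{u}} (V : Y.Opens) [IrreducibleSpace (V : Scheme.{u})] (η : Y)
    (h : (genericPoint (V : Scheme.{u})).1 ∈ closure {η}) (hmax : ∀ z : Y, z ⤳ η → z = η) :
    (genericPoint (V : Scheme.{u})).1 = η := by
  have hηV : η ∈ V := (specializes_iff_mem_closure.mpr h).mem_open V.2 (genericPoint (V : Scheme.{u})).2
  exact hmax _ (((genericPoint_spec (V : Scheme.{u})).specializes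
    (show (⟨η, hηV⟩ : (V : Scheme.{u})) ∈ Set.univ from trivial)).map continuous_subtype_val)

end Groth.Agent.HensPair.Chevalley
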