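import Groth.Agent.HensPair.JacobsonDim

/-!
Local dimension of closed subsets of Jacobson schemes with universally catenary local rings.
-/

set_option autoImplicit false
set_option synthInstance.maxHeartbeats 200000

noncomputable section

open CategoryTheory AlgebraicGeometry TopologicalSpace Topology

namespace Groth.Agent.HensPair.ClosedDim

universe u

set_option backward.isDefEq.respectTransparency false

theorem cd_closedImmersion {T S : Scheme.{u}} (i : T ⟶ S) [IsClosedImmersion i] (a b : T) :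
    CatScheme.cd (i a) (i b) = CatScheme.cd a b := by
  have hsp : ∀ x y : T, i x ⤳ i y ↔ x ⤳ y := fun x y => i.isEmbedding.isInducing.specializes_iff
  refine le_antisymm ?_ (Order.krullDim_le_of_strictMono
    (fun t => (⟨i t.1, (hsp _ _).mpr t.2.1, (hsp _ _).mpr t.2.2⟩ : {t : S | i a ⤳ t ∧ t ⤳ i b})) fun x y h => ?_)
  · have hpre : ∀ t : {t : S | i a ⤳ t ∧ t ⤳ i b}, ∃ w : {t : T | a ⤳ t ∧ t ⤳ b}, i w.1 = t.1 := fun t => by
      obtain ⟨w, hw⟩ : t.1 ∈ Set.range i :=
        closure_minimal (Set.singleton_subset_iff.mpr (show i a ∈ Set.range i from ⟨a, rfl⟩)) i.isClosedEmbedding.isClosed_range t.2.1.mem_closure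
      exact ⟨⟨w, (hsp _ _).mp (hw ▸ t.2.1), (hsp _ _).mp (hw ▸ t.2.2)⟩, hw⟩
    choose g hg using hpre
    refine Order.krullDim_le_of_strictMono g fun x y hxy => ?_
    refine (⟨(hsp (g y).1 (g x).1).mp (by rw [hg, hg]; exact hxy.le), fun h => hxy.not_ge ?_⟩ : (g x).1 ≤ (g y).1 ∧ ¬ (g y).1 ≤ (g x).1)
    show x.1 ⤳ y.1
    rw [← hg x, ← hg y]
    exact (hsp _ _).mpr h
  · exact ⟨(hsp _ _).mpr h.le, fun h' => h.not_ge ((hsp _ _).mp h')⟩

theorem T_id {S : Scheme.{u}} (x : S) : FibreTrdeg.T (𝟙 S) x = 0 := by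
  have h := JacobsonDim.T_add (𝟙 S) (𝟙 S) x
  rw [Category.comp_id] at h
  have h' : FibreTrdeg.T (𝟙 S) x = FibreTrdeg.T (𝟙 S) x + FibreTrdeg.T (𝟙 S) x := h
  omega

variable {S : Scheme.{u}} [IsLocallyNoetherian S] [JacobsonSpace S]
  (h2 : ∀ s : S, CAlg.IsUniversallyCatenary (S.presheaf.stalk s))
  (h3 : ∀ S' ∈ irreducibleComponents (S : Type u), ∀ s ∈ S', IsClosed ({s} : Set S) →
    topologicalKrullDim (↥S' : Type u) = topologicalKrullDim ↥{t : S | t ∈ S' ∧ t ⤳ s})

include h2 h3 in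
theorem dim_closure (a s : S) (hs : a ⤳ s) (hsc : IsClosed ({s} : Set S)) :
    topologicalKrullDim ↥(closure ({a} : Set S)) = CatScheme.cd a s := by
  let C : Closeds S := ⟨closure {a}, isClosed_closure⟩
  let T := (Scheme.IdealSheafData.vanishingIdeal C).subscheme
  let i : T ⟶ S := (Scheme.IdealSheafData.vanishingIdeal C).subschemeι
  have hr : Set.range i = closure {a} := by exact Scheme.IdealSheafData.range_subschemeι _
  haveI : IrreducibleSpace T := Chevalley.irreducibleSpace_of_range i i.isEmbedding isIrreducible_singleton.closure hr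
  obtain ⟨t₀, ht₀⟩ : a ∈ Set.range i := by rw [hr]; exact subset_closure rfl
  have hgen : genericPoint T = t₀ := IsGenericPoint.eq (S := Set.univ) (genericPoint_spec T)
    (Set.eq_univ_of_forall fun w => (i.isEmbedding.isInducing.specializes_iff.mp
      (by rw [ht₀]; exact specializes_iff_mem_closure.mpr (hr.le ⟨w, rfl⟩))).mem_closure)
  have hT : FibreTrdeg.T i t₀ = 0 := by
    have h := EquidimStalk.T_comp i (𝟙 S) t₀
    rwa [Category.comp_id, T_id] at h
  have h := JacobsonDim.dim_irreducible h2 h3 i s (by rw [hgen, ht₀]; exact hs) hsc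
  rw [hgen, ht₀, hT, Nat.cast_zero, add_zero] at h
  rw [← h]
  refine le_antisymm ?_ ?_
  · exact Equidim.dim_le_of_range (φ := fun w : ↥(closure ({a} : Set S)) => w.1) IsInducing.subtypeVal i.isEmbedding
      fun w => by rw [hr]; exact w.2
  · exact Equidim.dim_le_of_range (φ := i.base) i.isEmbedding.isInducing IsEmbedding.subtypeVal
      fun w => ⟨⟨i w, hr.le ⟨w, rfl⟩⟩, rfl⟩

include h2 h3 in
theorem main (Y : Set S) (hY : IsClosed Y) (x : S) (hx : x ∈ Y) :
    FlatMor.localDim ↥Y ⟨x, hx⟩ =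
        topologicalKrullDim ↥(closure ({x} : Set S)) + topologicalKrullDim ↥{t : S | t ∈ Y ∧ t ⤳ x} ∧
      FlatMor.localDim ↥Y ⟨x, hx⟩ =
        ⨆ C ∈ {C : Set ↥Y | C ∈ irreducibleComponents ↥Y ∧ (⟨x, hx⟩ : ↥Y) ∈ C}, topologicalKrullDim ↥C ∧
      ∀ U : Set S, IsOpen U → x ∈ U →
        (∀ C ∈ irreducibleComponents ↥Y, (⟨x, hx⟩ : ↥Y) ∉ C → Disjoint (Subtype.val ⁻¹' U) C) →
        topologicalKrullDim ↥(U ∩ Y) = FlatMor.localDim ↥Y ⟨x, hx⟩ := by
  classical
  haveI : QuasiSober ↥Y := hY.isClosedEmbedding_subtypeVal.quasiSober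
  let i : (Scheme.IdealSheafData.vanishingIdeal (⟨Y, hY⟩ : Closeds S)).subscheme ⟶ S :=
    (Scheme.IdealSheafData.vanishingIdeal (⟨Y, hY⟩ : Closeds S)).subschemeι
  have hr : Set.range i = Y := by exact Scheme.IdealSheafData.range_subschemeι _
  haveI : IsLocallyNoetherian (Scheme.IdealSheafData.vanishingIdeal (⟨Y, hY⟩ : Closeds S)).subscheme :=
    LocallyOfFiniteType.isLocallyNoetherian i
  obtain ⟨t, ht⟩ : x ∈ Set.range i := by rw [hr]; exact hx
  obtain ⟨m, hm⟩ := EquidimCore.natCast_of_bounds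
    (ringKrullDim ((Scheme.IdealSheafData.vanishingIdeal (⟨Y, hY⟩ : Closeds S)).subscheme.presheaf.stalk t))
    ringKrullDim_ne_bot ringKrullDim_ne_top
  obtain ⟨τ, hτt, hτmax, hτ⟩ := CatScheme.exists_component_dim t m hm
  obtain ⟨s₀, hxs₀, hs₀⟩ := JacobsonDim.exists_closed_below x
  obtain ⟨D, hD⟩ := JacobsonDim.cd_nat x s₀ hxs₀
  -- maximal points of Y
  have hmax_lift : ∀ η : ↥Y, (∀ z, z ⤳ η → z = η) → ∀ w, i w = η.1 → ∀ z, z ⤳ w → z = w := fun η hη w hw z hz =>
    i.isEmbedding.injective (by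
      have h1 := hη ⟨i z, hr.le ⟨z, rfl⟩⟩ (IsInducing.subtypeVal.specializes_iff.mp ((hz.map i.continuous).trans (specializes_of_eq hw)))
      exact (congrArg Subtype.val h1).trans hw.symm)
  have hcomp_le : ∀ η : ↥Y, η.1 ⤳ x → topologicalKrullDim ↥(closure ({η.1} : Set S)) ≤ ((m + D : ℕ) : WithBot ℕ∞) := by
    intro η hη
    obtain ⟨w, hw⟩ : η.1 ∈ Set.range i := hr.ge η.2
    rw [dim_closure h2 h3 η.1 s₀ (hη.trans hxs₀) hs₀, CatAdd.cd_add η.1 x s₀ hη hxs₀ (h2 s₀), hD, ← hw, ← ht,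
      cd_closedImmersion]
    push_cast
    exact add_le_add ((CatScheme.cd_le_stalk w t).trans hm.le) le_rfl
  have hxτ : i τ ⤳ x := (hτt.map i.continuous).trans (specializes_of_eq ht)
  have hcdτ : CatScheme.cd (i τ) x = (m : ℕ) := by rw [← ht, cd_closedImmersion, hτ]
  have hlower : ∀ U : Set S, IsOpen U → x ∈ U → ((m + D : ℕ) : WithBot ℕ∞) ≤ topologicalKrullDim ↥(U ∩ Y) := by
    intro U hU hxU
    obtain ⟨s', ⟨hs'cl, hs'U⟩, hs'c⟩ := nonempty_inter_closedPoints (Z := closure ({x} : Set S) ∩ U)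
      ⟨x, subset_closure rfl, hxU⟩ (isClosed_closure.isLocallyClosed.inter hU.isLocallyClosed)
    have hxs' := specializes_iff_mem_closure.mpr hs'cl
    have h1 := CatAdd.cd_add (i τ) x s' hxτ hxs' (h2 s')
    rw [hcdτ, JacobsonDim.cd_const h2 h3 x s' s₀ hxs' hxs₀ hs'c hs₀, hD] at h1
    rw [Nat.cast_add, ← h1, ← CatAdd.topDim_gen (i τ) s' (hxτ.trans hxs')]
    refine Equidim.dim_le_of_range (φ := fun w : ↥{u : S | u ∈ closure ({i τ} : Set S) ∧ u ⤳ s'} => w.1)
      IsInducing.subtypeVal IsEmbedding.subtypeVal fun w => ⟨⟨w.1, w.2.2.mem_open hU hs'U, ?_⟩, rfl⟩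
    exact closure_minimal (Set.singleton_subset_iff.mpr (hr.le ⟨τ, rfl⟩)) hY w.2.1
  have hupper : ∀ U : Set S, IsOpen U → x ∈ U →
      (∀ C ∈ irreducibleComponents ↥Y, (⟨x, hx⟩ : ↥Y) ∉ C → Disjoint (Subtype.val ⁻¹' U) C) →
      topologicalKrullDim ↥(U ∩ Y) ≤ ((m + D : ℕ) : WithBot ℕ∞) := by
    intro U hU hxU hdisj
    let O : Set ↥Y := Subtype.val ⁻¹' U
    have hO : IsOpen O := hU.preimage continuous_subtype_val
    refine le_trans (Equidim.dim_le_of_range (φ := fun w : ↥(U ∩ Y) => w.1) (T := ↥O) IsInducing.subtypeVal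
      (IsEmbedding.subtypeVal.comp IsEmbedding.subtypeVal) fun w => ⟨⟨⟨w.1, w.2.2⟩, w.2.1⟩, rfl⟩) ?_
    haveI : QuasiSober ↥O := hO.isOpenEmbedding_subtypeVal.quasiSober
    refine Equidim.dim_le_of_components fun C hC => ?_
    let c := hC.1.genericPoint
    have hc : closure ({c} : Set ↥O) = C := by
      rw [hC.1.genericPoint_closure_eq, (isClosed_of_mem_irreducibleComponents C hC).closure_eq]
    have hcmax : ∀ z : ↥Y, z ⤳ c.1 → z = c.1 := fun z hz => congrArg Subtype.val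
      (Equidim.AffineCrit.genericPoint_maximal hC ⟨z, hz.mem_open hO c.2⟩ (IsInducing.subtypeVal.specializes_iff.mp hz))
    have hxc : c.1.1 ⤳ x := by
      by_contra hno
      refine Set.disjoint_left.mp (hdisj _ (Equidim.closure_mem_irreducibleComponents c.1 hcmax) fun hmem => hno ?_) c.2 (subset_closure rfl)
      exact (specializes_iff_mem_closure.mpr hmem).map continuous_subtype_val
    refine le_trans ?_ (hcomp_le c.1 hxc)
    exact Equidim.dim_le_of_range (φ := fun w : ↥C => w.1.1.1)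
      (IsInducing.subtypeVal.comp (IsInducing.subtypeVal.comp IsInducing.subtypeVal))
      IsEmbedding.subtypeVal fun w => ⟨⟨w.1.1.1, specializes_iff_mem_closure.mp
        ((specializes_iff_mem_closure.mpr (hc.ge w.2)).map (continuous_subtype_val.comp continuous_subtype_val))⟩, rfl⟩
  -- a good neighbourhood
  obtain ⟨O, htO, hO⟩ := Equidim.AffineParam.exists_nhd_gen t
  obtain ⟨U₀, hU₀, hU₀O⟩ := i.isEmbedding.isInducing.isOpen_iff.mp O.2
  have hxU₀ : x ∈ U₀ := by rw [← ht]; exact hU₀O.ge htO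
  have hdisj₀ : ∀ C ∈ irreducibleComponents ↥Y, (⟨x, hx⟩ : ↥Y) ∉ C → Disjoint (Subtype.val ⁻¹' U₀) C := by
    intro C hC hxC
    refine Set.disjoint_left.mpr fun w hwU hwC => hxC ?_
    let c := hC.1.genericPoint
    have hc : closure ({c} : Set ↥Y) = C := by
      rw [hC.1.genericPoint_closure_eq, (isClosed_of_mem_irreducibleComponents C hC).closure_eq]
    have hcU : c.1 ∈ U₀ := ((specializes_iff_mem_closure.mpr (hc.ge hwC)).map continuous_subtype_val).mem_open hU₀ hwU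
    obtain ⟨v, hv⟩ : c.1 ∈ Set.range i := hr.ge c.2
    have h1 := hO v (hU₀O.le (show i v ∈ U₀ from hv ▸ hcU))
      (hmax_lift c (fun z hz => Equidim.AffineCrit.genericPoint_maximal hC z hz) v hv)
    rw [← hc]
    refine specializes_iff_mem_closure.mp (IsInducing.subtypeVal.specializes_iff.mp ?_)
    exact (specializes_of_eq hv.symm).trans ((h1.map i.continuous).trans (specializes_of_eq ht))
  have hlocal : FlatMor.localDim ↥Y ⟨x, hx⟩ = ((m + D : ℕ) : WithBot ℕ∞) := by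
    refine le_antisymm ?_ (le_iInf fun V => ?_)
    · refine (TopDim.Basic.localDim_le (⟨x, hx⟩ : ↥Y) ⟨Subtype.val ⁻¹' U₀, hU₀.preimage continuous_subtype_val⟩ hxU₀).trans ?_
      refine le_trans (Equidim.dim_le_of_range (φ := fun w : ↥(Subtype.val ⁻¹' U₀ : Set ↥Y) => w.1.1) (T := ↥(U₀ ∩ Y))
        (IsInducing.subtypeVal.comp IsInducing.subtypeVal) IsEmbedding.subtypeVal fun w => ⟨⟨w.1.1, w.2, w.1.2⟩, rfl⟩)
        (hupper U₀ hU₀ hxU₀ hdisj₀)
    · obtain ⟨U', hU', hU'V⟩ := isOpen_induced_iff.mp V.1.2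
      refine (hlower U' hU' (hU'V.ge V.2)).trans ?_
      exact Equidim.dim_le_of_range (φ := fun w : ↥(U' ∩ Y) => w.1) IsInducing.subtypeVal
        (IsEmbedding.subtypeVal.comp IsEmbedding.subtypeVal) fun w => ⟨⟨⟨w.1, w.2.2⟩, hU'V.le w.2.1⟩, rfl⟩
  refine ⟨?_, ?_, fun U hU hxU hdisj => by rw [hlocal]; exact le_antisymm (hupper U hU hxU hdisj) (hlower U hU hxU)⟩
  · have hcodim : topologicalKrullDim ↥{u : S | u ∈ Y ∧ u ⤳ x} = (m : ℕ) := by
      refine le_antisymm ?_ ?_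
      · rw [← hm]
        rw [← PrimeSpectrum.topologicalKrullDim_eq_ringKrullDim]
        refine Equidim.dim_le_of_range (φ := fun w : ↥{u : S | u ∈ Y ∧ u ⤳ x} => w.1) IsInducing.subtypeVal
          (i.isEmbedding.comp ((Scheme.fromSpecStalk _ t).isEmbedding)) fun w => ?_
        obtain ⟨v, hv⟩ : w.1 ∈ Set.range i := hr.ge w.2.1
        obtain ⟨P, hP⟩ : v ∈ Set.range (Scheme.fromSpecStalk _ t) := by
          rw [Scheme.range_fromSpecStalk]
          exact i.isEmbedding.isInducing.specializes_iff.mp (by rw [hv, ht]; exact w.2.2)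
        exact ⟨P, by show i _ = _; rw [hP, hv]⟩
      · rw [← hcdτ, ← CatAdd.topDim_gen (i τ) x hxτ]
        exact Equidim.dim_le_of_range (φ := fun w : ↥{u : S | u ∈ closure ({i τ} : Set S) ∧ u ⤳ x} => w.1)
          IsInducing.subtypeVal IsEmbedding.subtypeVal fun w =>
          ⟨⟨w.1, closure_minimal (Set.singleton_subset_iff.mpr (hr.le ⟨τ, rfl⟩)) hY w.2.1, w.2.2⟩, rfl⟩
    rw [hlocal, hcodim, dim_closure h2 h3 x s₀ hxs₀ hs₀, hD, Nat.cast_add, add_comm]
  · rw [hlocal]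
    refine le_antisymm ?_ (iSup₂_le fun C hC => ?_)
    · let η : ↥Y := ⟨i τ, hr.le ⟨τ, rfl⟩⟩
      have hηmax : ∀ z : ↥Y, z ⤳ η → z = η := fun z hz => by
        obtain ⟨v, hv⟩ : z.1 ∈ Set.range i := hr.ge z.2
        refine Subtype.ext (hv.symm.trans (congrArg i (hτmax v (i.isEmbedding.isInducing.specializes_iff.mp ?_))))
        rw [hv]; exact hz.map continuous_subtype_val
      refine le_iSup₂_of_le (closure ({η} : Set ↥Y)) ⟨Equidim.closure_mem_irreducibleComponents η hηmax, ?_⟩ ?_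
      · exact specializes_iff_mem_closure.mp (IsInducing.subtypeVal.specializes_iff.mp hxτ)
      rw [Nat.cast_add, ← hcdτ, ← hD, ← CatAdd.cd_add (i τ) x s₀ hxτ hxs₀ (h2 s₀), ← dim_closure h2 h3 (i τ) s₀ (hxτ.trans hxs₀) hs₀]
      refine Equidim.dim_le_of_range (φ := fun w : ↥(closure ({i τ} : Set S)) => w.1) IsInducing.subtypeVal
        (IsEmbedding.subtypeVal.comp IsEmbedding.subtypeVal) fun w => ?_
      have hwY : w.1 ∈ Y := closure_minimal (Set.singleton_subset_iff.mpr (hr.le ⟨τ, rfl⟩)) hY w.2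
      exact ⟨⟨⟨w.1, hwY⟩, specializes_iff_mem_closure.mp (IsInducing.subtypeVal.specializes_iff.mp
        (specializes_iff_mem_closure.mpr w.2))⟩, rfl⟩
    · let c := hC.1.1.genericPoint
      have hc : closure ({c} : Set ↥Y) = C := by
        rw [hC.1.1.genericPoint_closure_eq, (isClosed_of_mem_irreducibleComponents C hC.1).closure_eq]
      refine le_trans ?_ (hcomp_le c ((specializes_iff_mem_closure.mpr (hc.ge hC.2)).map continuous_subtype_val))
      exact Equidim.dim_le_of_range (φ := fun w : ↥C => w.1.1)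
        (IsInducing.subtypeVal.comp IsInducing.subtypeVal)
        IsEmbedding.subtypeVal fun w => ⟨⟨w.1.1, specializes_iff_mem_closure.mp
          ((specializes_iff_mem_closure.mpr (hc.ge w.2)).map continuous_subtype_val)⟩, rfl⟩

end Groth.Agent.HensPair.ClosedDim
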