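import Groth.Agent.HensPair.Integral
import Mathlib.RingTheory.Flat.EquationalCriterion
import Mathlib.RingTheory.Flat.TorsionFree
import Mathlib.RingTheory.Localization.FractionRing
import Mathlib.RingTheory.IntegralClosure.Algebra.Basic
import Mathlib.RingTheory.Nakayama
import Mathlib.RingTheory.Noetherian.Basic

/-!
For a noetherian henselian local domain the completion has connected punctured spectrum.
-/

set_option autoImplicit false

noncomputable section

open IsLocalRing

namespace Groth.Agent.HensPair.CompletionConn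

universe u v

variable {A : Type u} {T : Type v} [CommRing A] [IsLocalRing A] [CommRing T] [IsLocalRing T] [Algebra A T]

theorem approx (hm : (maximalIdeal A).map (algebraMap A T) = maximalIdeal T)
    (hsurj : ∀ t : T, ∃ a, t - algebraMap A T a ∈ maximalIdeal T) :
    ∀ (n : ℕ) (t : T), ∃ a, t - algebraMap A T a ∈ maximalIdeal T ^ n := by
  intro n
  induction n with
  | zero => exact fun t => ⟨0, by simp⟩
  | succ n ih =>
    intro t
    obtain ⟨a, ha⟩ := ih t
    suffices ∀ x ∈ maximalIdeal T ^ n, ∃ b ∈ maximalIdeal A ^ n, x - algebraMap A T b ∈ maximalIdeal T ^ (n + 1) by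
      obtain ⟨b, -, hb⟩ := this _ ha
      exact ⟨a + b, by rw [map_add, ← sub_sub]; exact hb⟩
    intro x hx
    rw [← hm, ← Ideal.map_pow, Ideal.map] at hx
    induction hx using Submodule.span_induction with
    | mem x h =>
      obtain ⟨c, hc, rfl⟩ := h
      exact ⟨c, hc, by rw [sub_self]; exact zero_mem _⟩
    | zero => exact ⟨0, zero_mem _, by simp⟩
    | add x y _ _ hx hy =>
      obtain ⟨b, hb, hb'⟩ := hx
      obtain ⟨c, hc, hc'⟩ := hy
      exact ⟨b + c, add_mem hb hc, by rw [map_add, add_sub_add_comm]; exact add_mem hb' hc'⟩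
    | smul r x _ hx =>
      obtain ⟨b, hb, hb'⟩ := hx
      obtain ⟨e, he⟩ := hsurj r
      refine ⟨e * b, Ideal.mul_mem_left _ _ hb, ?_⟩
      have h1 : (r - algebraMap A T e) * algebraMap A T b ∈ maximalIdeal T ^ (n + 1) := by
        rw [pow_succ']
        refine Ideal.mul_mem_mul he ?_
        rw [← hm, ← Ideal.map_pow]
        exact Ideal.mem_map_of_mem _ hb
      have := add_mem (Ideal.mul_mem_left _ r hb') h1
      convert this using 1
      rw [map_mul, smul_eq_mul]
      ring

variable [IsDomain A] [IsNoetherianRing A] [HenselianLocalRing A] [IsNoetherianRing T] [Module.Flat A T]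

theorem eq_bot_or_eq_bot (hm : (maximalIdeal A).map (algebraMap A T) = maximalIdeal T)
    (hsurj : ∀ t : T, ∃ a, t - algebraMap A T a ∈ maximalIdeal T) (hA : maximalIdeal A ≠ ⊥)
    (K₁ K₂ : Ideal T) (h12 : K₁ * K₂ = ⊥) (k : ℕ) (hk : maximalIdeal T ^ k ≤ K₁ ⊔ K₂) :
    K₁ = ⊥ ∨ K₂ = ⊥ := by
  classical
  let ι := algebraMap A T
  let K := FractionRing A
  let M := maximalIdeal T
  let L := K₁ ⊔ K₂
  let L₀ : Ideal A := L.comap ι
  have happ := approx hm hsurj
  have hk0 : maximalIdeal A ^ k ≤ L₀ := by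
    rw [← Ideal.map_le_iff_le_comap, Ideal.map_pow, hm]
    exact hk
  have hL : L ≤ L₀.map ι := fun x hx => by
    obtain ⟨a, ha⟩ := happ k x
    have ha0 : a ∈ L₀ := by
      show ι a ∈ L
      have := sub_mem hx (hk ha)
      rwa [sub_sub_cancel] at this
    have : x - ι a ∈ L₀.map ι := by
      refine Ideal.map_mono hk0 ?_
      rw [Ideal.map_pow, hm]
      exact ha
    have := add_mem this (Ideal.mem_map_of_mem ι ha0)
    rwa [sub_add_cancel] at this
  obtain ⟨c, hc, hc0⟩ := Submodule.exists_mem_ne_zero_of_ne_bot hA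
  let y := c ^ k
  have hy0 : y ≠ 0 := pow_ne_zero _ hc0
  have hyL : y ∈ L₀ := hk0 (Ideal.pow_mem_pow hc k)
  obtain ⟨u, hu, v, hv, huv⟩ := Submodule.mem_sup.mp (show ι y ∈ K₁ ⊔ K₂ from hyL)
  have hmul : ∀ {p q : T}, p ∈ K₁ → q ∈ K₂ → p * q = 0 := fun hp hq =>
    (Submodule.mem_bot T).mp (h12 ▸ Ideal.mul_mem_mul hp hq)
  have hinf : K₁ ⊓ K₂ = ⊥ := by
    rw [eq_bot_iff]
    rintro x ⟨h1, h2⟩
    have : y • x = (0 : T) := by
      rw [Algebra.smul_def, show algebraMap A T y = u + v from huv.symm, add_mul, hmul hu h2, zero_add,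
        mul_comm, hmul h1 hv]
    exact (Submodule.mem_bot T).mpr ((smul_eq_zero.mp this).resolve_left hy0)
  obtain ⟨n, a, ha⟩ := Submodule.fg_iff_exists_fin_generating_family.mp (IsNoetherian.noetherian L₀)
  have ha' : ∀ i, a i ∈ L₀ := fun i => ha ▸ Submodule.subset_span ⟨i, rfl⟩
  choose p hp b hb hpb using fun i => Submodule.mem_sup.mp (show ι (a i) ∈ K₁ ⊔ K₂ from ha' i)
  let g : Fin n → (Option (Fin n) → A) := fun i => Pi.single none (a i) - Pi.single (some i) y
  let x : (Option (Fin n) → A) →ₗ[A] T := Fintype.linearCombination A fun o => Option.elim o v b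
  let f : (Fin n → A) →ₗ[A] (Option (Fin n) → A) := Fintype.linearCombination A g
  have hxg : ∀ i, x (g i) = 0 := fun i => by
    simp only [g, x, map_sub, Fintype.linearCombination_apply_single, Option.elim_none, Option.elim_some]
    rw [Algebra.smul_def, Algebra.smul_def, show algebraMap A T (a i) = p i + b i from (hpb i).symm,
      show algebraMap A T y = u + v from huv.symm, add_mul, add_mul, hmul (hp i) hv, hmul hu (hb i),
      zero_add, zero_add, mul_comm, sub_self]
  have hxf : x ∘ₗ f = 0 := (Pi.basisFun A (Fin n)).ext fun i => by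
    simp only [Pi.basisFun_apply, LinearMap.comp_apply, LinearMap.zero_apply, f,
      Fintype.linearCombination_apply_single, one_smul, hxg]
  obtain ⟨k', α, z, hz, hα⟩ := Module.Flat.exists_factorization_of_comp_eq_zero_of_free hxf
  choose r hr using fun j => happ (k + 1) (z (Finsupp.single j 1))
  let z' : (Fin k' →₀ A) →ₗ[A] A := Finsupp.linearCombination A r
  have hz' : ∀ w, z w - ι (z' w) ∈ M ^ (k + 1) := by
    intro w
    induction w using Finsupp.induction_linear with
    | zero => simp
    | add w w' hw hw' => rw [map_add, map_add, map_add, add_sub_add_comm]; exact add_mem hw hw'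
    | single j c =>
      have e : z' (Finsupp.single j 1) = r j := by simp [z']
      rw [show (Finsupp.single j c : Fin k' →₀ A) = c • Finsupp.single j 1 by simp, map_smul, map_smul, e,
        Algebra.smul_def, smul_eq_mul, map_mul, ← mul_sub]
      exact Ideal.mul_mem_left _ _ (hr j)
  let s : A := z' (α (Pi.single none 1))
  let w : Fin n → A := fun i => z' (α (Pi.single (some i) 1))
  have hrel : ∀ i, a i * s = y * w i := fun i => by
    have h0 : α (f (Pi.single i 1)) = 0 := LinearMap.congr_fun hα _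
    simp only [f, g, Fintype.linearCombination_apply_single, one_smul, map_sub, sub_eq_zero] at h0
    have e1 : (Pi.single none (a i) : Option (Fin n) → A) = a i • Pi.single none 1 := by
      rw [← Pi.single_smul, smul_eq_mul, mul_one]
    have e2 : (Pi.single (some i) y : Option (Fin n) → A) = y • Pi.single (some i) 1 := by
      rw [← Pi.single_smul, smul_eq_mul, mul_one]
    rw [e1, e2, map_smul, map_smul] at h0
    have := congrArg z' h0
    rwa [map_smul, map_smul, smul_eq_mul, smul_eq_mul] at this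
  have hpowle : M ^ (k + 1) ≤ M * L := by
    rw [pow_succ']
    exact Ideal.mul_mono_right hk
  have hw : ∀ i, ι (w i) - b i ∈ M * L := fun i => by
    have := hz' (α (Pi.single (some i) 1))
    rw [← LinearMap.comp_apply, ← hz] at this
    simp only [x, Fintype.linearCombination_apply_single, Option.elim_some, one_smul] at this
    have := neg_mem (hpowle this)
    rwa [neg_sub] at this
  let z₀ : K := algebraMap A K s / algebraMap A K y
  have hyK : algebraMap A K y ≠ 0 := (map_ne_zero_iff _ (IsFractionRing.injective A K)).mpr hy0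
  have key : ∀ e ∈ L₀, ∃ d ∈ L₀, z₀ * algebraMap A K e = algebraMap A K d ∧
      ι d ∈ K₂ ⊔ M * L ∧ ι (e - d) ∈ K₁ ⊔ M * L := by
    intro e he
    rw [← ha] at he
    induction he using Submodule.span_induction with
    | mem e he =>
      obtain ⟨i, rfl⟩ := he
      refine ⟨w i, ?_, ?_, ?_, ?_⟩
      · show ι (w i) ∈ L
        have := add_mem (Ideal.mul_le_right (hw i)) (show b i ∈ L from Submodule.mem_sup_right (hb i))
        rwa [sub_add_cancel] at this
      · rw [div_mul_eq_mul_div, div_eq_iff hyK, ← map_mul, ← map_mul, mul_comm s, hrel, mul_comm y]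
      · have := add_mem (Submodule.mem_sup_right (S := K₂) (hw i)) (Submodule.mem_sup_left (T := M * L) (hb i))
        rwa [sub_add_cancel] at this
      · have := sub_mem (Submodule.mem_sup_left (T := M * L) (hp i)) (Submodule.mem_sup_right (S := K₁) (hw i))
        rwa [show p i - (ι (w i) - b i) = ι (a i - w i) by rw [map_sub, ← hpb i]; ring] at this
    | zero => exact ⟨0, zero_mem _, by simp, by simp, by simp⟩
    | add e e' _ _ h h' =>
      obtain ⟨d, h0, h1, h2, h3⟩ := h
      obtain ⟨d', h0', h1', h2', h3'⟩ := h'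
      exact ⟨d + d', add_mem h0 h0', by rw [map_add, map_add, mul_add, h1, h1'],
        by rw [map_add]; exact add_mem h2 h2', by rw [add_sub_add_comm, map_add]; exact add_mem h3 h3'⟩
    | smul c e _ h =>
      obtain ⟨d, h0, h1, h2, h3⟩ := h
      exact ⟨c * d, Ideal.mul_mem_left _ _ h0, by rw [smul_eq_mul, map_mul, map_mul, ← h1]; ring,
        by rw [map_mul]; exact Ideal.mul_mem_left _ _ h2,
        by rw [smul_eq_mul, ← mul_sub, map_mul]; exact Ideal.mul_mem_left _ _ h3⟩
  let N : Submodule A K := Submodule.map (Algebra.linearMap A K) L₀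
  have hint : IsIntegral A z₀ := by
    refine isIntegral_of_smul_mem_submodule N (fun h => hyK ?_) ((IsNoetherian.noetherian L₀).map _) _ ?_
    · exact (Submodule.eq_bot_iff _).mp h _ ⟨y, hyL, rfl⟩
    · rintro _ ⟨e, he, rfl⟩
      obtain ⟨d, hd, h1, -⟩ := key e he
      exact ⟨d, hd, h1.symm⟩
  let E : Subalgebra A K := Algebra.adjoin A {z₀}
  have : Algebra.IsIntegral A E := Algebra.IsIntegral.adjoin fun x hx => (Set.mem_singleton_iff.mp hx) ▸ hint
  have : IsLocalRing E := Integral.isLocalRing_of_isDomain (A := A)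
  have hstab : ∀ ε ∈ E, ∀ e ∈ L₀, ∃ d ∈ L₀, ε * algebraMap A K e = algebraMap A K d := by
    intro ε hε
    induction hε using Algebra.adjoin_induction with
    | mem x hx =>
      intro e he
      obtain rfl : x = z₀ := hx
      obtain ⟨d, hd, h1, -⟩ := key e he
      exact ⟨d, hd, h1⟩
    | algebraMap c => exact fun e he => ⟨c * e, Ideal.mul_mem_left _ _ he, (map_mul _ _ _).symm⟩
    | add x x' _ _ h h' =>
      intro e he
      obtain ⟨d, hd, h1⟩ := h e he
      obtain ⟨d', hd', h1'⟩ := h' e he
      exact ⟨d + d', add_mem hd hd', by rw [add_mul, h1, h1', map_add]⟩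
    | mul x x' _ _ h h' =>
      intro e he
      obtain ⟨d', hd', h1'⟩ := h' e he
      obtain ⟨d, hd, h1⟩ := h d' hd'
      exact ⟨d, hd, by rw [mul_assoc, h1', h1]⟩
  have hjac : M ≤ Ideal.jacobson ⊥ := by rw [IsLocalRing.jacobson_eq_maximalIdeal ⊥ bot_ne_top]
  have hfg : L.FG := IsNoetherian.noetherian _
  rcases IsLocalRing.isUnit_or_isUnit_one_sub_self (⟨z₀, Algebra.self_mem_adjoin_singleton A z₀⟩ : E) with h | h
  · left
    obtain ⟨ε, hε⟩ := h.exists_right_inv
    have hsub : L₀ ≤ (K₂ ⊔ M * L).comap ι := fun e he => by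
      obtain ⟨d, hd, h1⟩ := hstab ε.1 ε.2 e he
      obtain ⟨d', -, h1', h2, -⟩ := key d hd
      have : d' = e := IsFractionRing.injective A K (by
        rw [← h1', ← h1, ← mul_assoc, show z₀ * ε.1 = 1 from congrArg Subtype.val hε, one_mul])
      exact this ▸ h2
    have hle : L ≤ K₂ := Submodule.le_of_le_smul_of_le_jacobson_bot hfg hjac
      (hL.trans (Ideal.map_le_iff_le_comap.mpr hsub))
    rw [eq_bot_iff, ← hinf]
    exact le_inf le_rfl (le_sup_left.trans hle)
  · right
    obtain ⟨ε, hε⟩ := h.exists_right_inv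
    have hsub : L₀ ≤ (K₁ ⊔ M * L).comap ι := fun e he => by
      obtain ⟨d, hd, h1⟩ := hstab ε.1 ε.2 e he
      obtain ⟨d', -, h1', -, h3⟩ := key d hd
      have : d - d' = e := IsFractionRing.injective A K (by
        rw [map_sub, ← h1', ← h1]
        have h2 : (1 - z₀) * ε.1 = 1 := congrArg Subtype.val hε
        linear_combination (algebraMap A K e) * h2)
      exact this ▸ h3
    have hle : L ≤ K₁ := Submodule.le_of_le_smul_of_le_jacobson_bot hfg hjac
      (hL.trans (Ideal.map_le_iff_le_comap.mpr hsub))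
    rw [eq_bot_iff, ← hinf]
    exact le_inf (le_sup_right.trans hle) le_rfl

/-- an isolated one-dimensional minimal prime of the completion is the only one -/
theorem minimal_unique (hm : (maximalIdeal A).map (algebraMap A T) = maximalIdeal T)
    (hsurj : ∀ t : T, ∃ a, t - algebraMap A T a ∈ maximalIdeal T) (hA : maximalIdeal A ≠ ⊥)
    (q : Ideal T) (hq : q ∈ minimalPrimes T) (hdim : ∀ Q : Ideal T, Q.IsPrime → q < Q → Q = maximalIdeal T)
    (P : Ideal T) (hP : P ∈ minimalPrimes T) : P = q := by
  classical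
  by_contra hne
  have hfin := minimalPrimes.finite_of_isNoetherianRing T
  let S := hfin.toFinset.erase q
  let J : Ideal T := S.inf id
  have hqp := hq.1.1
  have hnil : q * J ≤ nilradical T := by
    rw [nilradical_eq_sInf]
    refine le_sInf fun Q hQ => ?_
    have : Q.IsPrime := hQ
    obtain ⟨P', hP', hle⟩ := Ideal.exists_minimalPrimes_le (I := ⊥) (J := Q) bot_le
    by_cases h : P' = q
    · exact Ideal.mul_le_left.trans (h ▸ hle)
    · exact Ideal.mul_le_right.trans ((Finset.inf_le (f := id)
        (Finset.mem_erase.mpr ⟨h, hfin.mem_toFinset.mpr hP'⟩)).trans hle)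
  obtain ⟨n, hn⟩ := IsNoetherianRing.isNilpotent_nilradical T
  have h12 : q ^ n * J ^ n = ⊥ := by
    rw [← mul_pow, eq_bot_iff]
    exact (Ideal.pow_right_mono hnil n).trans hn.le
  have hrad : maximalIdeal T ≤ (q ^ n ⊔ J ^ n).radical := by
    rw [Ideal.radical_eq_sInf]
    refine le_sInf fun Q ⟨hle, hQ⟩ => ?_
    have h1 : q ≤ Q := fun a ha => hQ.mem_of_pow_mem n (hle (Submodule.mem_sup_left (Ideal.pow_mem_pow ha n)))
    have h2 : J ≤ Q := fun a ha => hQ.mem_of_pow_mem n (hle (Submodule.mem_sup_right (Ideal.pow_mem_pow ha n)))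
    rcases h1.lt_or_eq with h | h
    · exact (hdim Q hQ h).ge
    · obtain ⟨P', hP', hle'⟩ := (Ideal.IsPrime.inf_le' hQ).mp h2
      obtain ⟨h', hP''⟩ := Finset.mem_erase.mp hP'
      have hle'' : P' ≤ q := h ▸ hle'
      exact absurd (le_antisymm hle'' (hq.2 ⟨(hfin.mem_toFinset.mp hP'').1.1, bot_le⟩ hle'')) h'
  obtain ⟨k, hk⟩ := Ideal.exists_pow_le_of_le_radical_of_fg hrad (IsNoetherian.noetherian _)
  rcases eq_bot_or_eq_bot hm hsurj hA (q ^ n) (J ^ n) h12 k hk with h | h
  · have hqP : q ≤ P := fun a ha => hP.1.1.mem_of_pow_mem n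
      (by have := Ideal.pow_mem_pow ha n; rw [h, Ideal.mem_bot] at this; rw [this]; exact zero_mem _)
    exact hne (le_antisymm (hP.2 ⟨hqp, bot_le⟩ hqP) hqP)
  · have hJq : J ≤ q := fun a ha => hqp.mem_of_pow_mem n
      (by have := Ideal.pow_mem_pow ha n; rw [h, Ideal.mem_bot] at this; rw [this]; exact zero_mem _)
    obtain ⟨P', hP', hle'⟩ := (Ideal.IsPrime.inf_le' hqp).mp hJq
    obtain ⟨h', hP''⟩ := Finset.mem_erase.mp hP'
    exact h' (le_antisymm hle' (hq.2 ⟨(hfin.mem_toFinset.mp hP'').1.1, bot_le⟩ hle'))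

end Groth.Agent.HensPair.CompletionConn
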