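import Groth.Agent.HensPair.Nbhd
import Mathlib.RingTheory.FinitePresentation
import Mathlib.RingTheory.Flat.EquationalCriterion

/-!
The henselization of a pair.
-/

set_option autoImplicit false

noncomputable section

open MvPolynomial

namespace Groth.Agent.HensPair.Construction

universe u

variable {A : Type u} [CommRing A] (I : Ideal A)

/-- the algebra of a finite presentation -/
abbrev Pres (p : Σ n : ℕ, Finset (MvPolynomial (Fin n) A)) : Type u :=
  MvPolynomial (Fin p.1) A ⧸ Ideal.span (p.2 : Set (MvPolynomial (Fin p.1) A))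

/-- presentations of etale neighbourhoods -/
def Idx : Type u := {p : Σ n : ℕ, Finset (MvPolynomial (Fin n) A) // Nbhd.IsNbhd I (Pres p)}

variable {I}

abbrev Idx.nVars (i : Idx I) : ℕ := i.1.1

abbrev Idx.rels (i : Idx I) : Finset (MvPolynomial (Fin i.nVars) A) := i.1.2

abbrev Idx.Ring (i : Idx I) : Type u := Pres i.1

theorem exists_idx (A' : Type u) [CommRing A'] [Algebra A A'] (h : Nbhd.IsNbhd I A') :
    ∃ i : Idx I, Nonempty (i.Ring ≃ₐ[A] A') := by
  have := h.etale
  obtain ⟨n, π, hπ, hker⟩ := (inferInstance : Algebra.FinitePresentation A A').out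
  obtain ⟨s, hs⟩ := hker
  let e : (MvPolynomial (Fin n) A ⧸ Ideal.span (s : Set (MvPolynomial (Fin n) A))) ≃ₐ[A] A' :=
    (Ideal.quotientEquivAlgOfEq A hs).trans (Ideal.quotientKerAlgEquivOfSurjective hπ)
  exact ⟨⟨⟨n, s⟩, Nbhd.of_equiv h e.symm⟩, ⟨e⟩⟩

variable (I)

/-- variables of all neighbourhoods in a set -/
abbrev Var (S : Set (Idx I)) : Type u := Σ i : S, ULift.{u} (Fin (i : Idx I).nVars)

/-- the inclusion of the variables of one neighbourhood -/
def inc (S : Set (Idx I)) (i : S) :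
    MvPolynomial (Fin (i : Idx I).nVars) A →ₐ[A] MvPolynomial (Var I S) A :=
  rename fun k => ⟨i, ⟨k⟩⟩

/-- all relations -/
def rel (S : Set (Idx I)) : Set (MvPolynomial (Var I S) A) :=
  ⋃ i : S, inc I S i '' ((i : Idx I).rels : Set _)

/-- the tensor product of a set of neighbourhoods -/
abbrev Tens (S : Set (Idx I)) : Type u := MvPolynomial (Var I S) A ⧸ Ideal.span (rel I S)

variable {I}

def tensInj (S : Set (Idx I)) (i : S) : (i : Idx I).Ring →ₐ[A] Tens I S :=
  Ideal.Quotient.liftₐ _ ((Ideal.Quotient.mkₐ A _).comp (inc I S i)) fun a ha => by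
    have : Ideal.span ((i : Idx I).rels : Set _) ≤
        RingHom.ker ((Ideal.Quotient.mkₐ A (Ideal.span (rel I S))).comp (inc I S i)) :=
      Ideal.span_le.mpr fun r hr => Ideal.Quotient.eq_zero_iff_mem.mpr
        (Ideal.subset_span (Set.mem_iUnion.mpr ⟨i, r, hr, rfl⟩))
    exact this ha

theorem tensInj_mk (S : Set (Idx I)) (i : S) (x : MvPolynomial (Fin (i : Idx I).nVars) A) :
    tensInj S i (Ideal.Quotient.mk _ x) = Ideal.Quotient.mk _ (inc I S i x) := rfl

def tensLift (S : Set (Idx I)) {B : Type u} [CommRing B] [Algebra A B]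
    (f : ∀ i : S, (i : Idx I).Ring →ₐ[A] B) : Tens I S →ₐ[A] B :=
  Ideal.Quotient.liftₐ _ (aeval fun v : Var I S => f v.1 (Ideal.Quotient.mk _ (X v.2.down)))
    fun a ha => by
      have h : Ideal.span (rel I S) ≤
          RingHom.ker (aeval fun v : Var I S => f v.1 (Ideal.Quotient.mk _ (X v.2.down))) := by
        refine Ideal.span_le.mpr ?_
        intro r hr
        obtain ⟨i, x, hx, rfl⟩ := Set.mem_iUnion.mp hr
        show aeval _ (inc I S i x) = 0
        rw [inc, aeval_rename]
        have h1 : (f i).comp (Ideal.Quotient.mkₐ A _) =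
            aeval fun k => f i (Ideal.Quotient.mk _ (X k)) := by
          ext k; simp
        show (aeval fun k => f i (Ideal.Quotient.mk _ (X k))) x = 0
        rw [← h1]
        show f i (Ideal.Quotient.mk _ x) = 0
        rw [Ideal.Quotient.eq_zero_iff_mem.mpr (Ideal.subset_span hx), map_zero]
      exact h ha

theorem tensLift_inj (S : Set (Idx I)) {B : Type u} [CommRing B] [Algebra A B]
    (f : ∀ i : S, (i : Idx I).Ring →ₐ[A] B) (i : S) : (tensLift S f).comp (tensInj S i) = f i := by
  apply Ideal.Quotient.algHom_ext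
  ext k
  show tensLift S f (tensInj S i (Ideal.Quotient.mk _ (X k))) = f i (Ideal.Quotient.mk _ (X k))
  rw [tensInj_mk]
  show aeval _ (inc I S i (X k)) = _
  rw [inc, rename_X, aeval_X]

theorem tens_ext (S : Set (Idx I)) {B : Type u} [CommRing B] [Algebra A B]
    (f g : Tens I S →ₐ[A] B) (h : ∀ i : S, f.comp (tensInj S i) = g.comp (tensInj S i)) :
    f = g := by
  apply Ideal.Quotient.algHom_ext
  ext v
  obtain ⟨i, ⟨k⟩⟩ := v
  have := DFunLike.congr_fun (h i) (Ideal.Quotient.mk _ (X k))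
  rw [AlgHom.comp_apply, AlgHom.comp_apply, tensInj_mk, inc, rename_X] at this
  exact this

theorem tens_approx (S : Set (Idx I)) (x : Tens I S) :
    ∃ a : A, x - algebraMap A _ a ∈ I.map (algebraMap A (Tens I S)) := by
  let K := I.map (algebraMap A (Tens I S))
  obtain ⟨x, rfl⟩ := Ideal.Quotient.mk_surjective x
  induction x using MvPolynomial.induction_on with
  | C a => exact ⟨a, by simp [IsScalarTower.algebraMap_apply A (MvPolynomial (Var I S) A) (Tens I S)]⟩
  | add p q hp hq =>
    obtain ⟨a, ha⟩ := hp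
    obtain ⟨b, hb⟩ := hq
    refine ⟨a + b, ?_⟩
    simpa [map_add, add_sub_add_comm] using add_mem ha hb
  | mul_X p v hp =>
    obtain ⟨a, ha⟩ := hp
    obtain ⟨i, ⟨k⟩⟩ := v
    obtain ⟨b, hb⟩ := (i : Idx I).2.approx (Ideal.Quotient.mk _ (X k))
    have hb' : Ideal.Quotient.mk _ (X ⟨i, ⟨k⟩⟩) - algebraMap A (Tens I S) b ∈ K := by
      have := Ideal.mem_map_of_mem (tensInj S i).toRingHom hb
      rw [Ideal.map_map, AlgHom.toRingHom_eq_coe, AlgHom.comp_algebraMap] at this
      simp only [AlgHom.coe_toRingHom, map_sub, AlgHom.commutes, tensInj_mk, inc, rename_X] at this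
      exact this
    refine ⟨a * b, ?_⟩
    rw [map_mul, map_mul]
    exact Ideal.mul_sub_mul_mem _ ha hb'

theorem tens_isNbhd (S : Set (Idx I)) (hS : S.Finite) : Nbhd.IsNbhd I (Tens I S) := by
  have : Finite S := hS
  have hfe : Algebra.FormallyEtale A (Tens I S) := by
    rw [Algebra.FormallyEtale.iff_comp_bijective]
    intro B _ _ J hJ
    refine ⟨fun f g hfg => tens_ext S f g fun i => ?_, fun σ => ?_⟩
    · have := (i : Idx I).2.etale
      refine Algebra.FormallyUnramified.comp_injective J hJ ?_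
      exact congrArg (fun t => AlgHom.comp t (tensInj S i)) hfg
    · have hl : ∀ i : S, ∃ τ : (i : Idx I).Ring →ₐ[A] B,
          (Ideal.Quotient.mkₐ A J).comp τ = σ.comp (tensInj S i) := fun i => by
        have := (i : Idx I).2.etale
        exact Algebra.FormallySmooth.comp_surjective A _ J hJ _
      choose τ hτ using hl
      refine ⟨tensLift S τ, tens_ext S _ _ fun i => ?_⟩
      show ((Ideal.Quotient.mkₐ A J).comp (tensLift S τ)).comp (tensInj S i) = _
      rw [AlgHom.comp_assoc, tensLift_inj, hτ]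
  have hfp : Algebra.FinitePresentation A (Tens I S) := by
    have : Finite (Var I S) := inferInstance
    exact Algebra.FinitePresentation.quotient (Submodule.fg_span
      (Set.finite_iUnion fun i => (Finset.finite_toSet _).image _))
  exact ⟨⟨hfe, hfp⟩, ⟨tensLift S fun i => ((i : Idx I).2.section_exists).some⟩, tens_approx S⟩

theorem exists_finite_stage {x : MvPolynomial (Var I Set.univ) A}
    (hx : x ∈ Ideal.span (rel I Set.univ)) :
    ∃ S : Set (Idx I), S.Finite ∧ ∀ (T : Set (Idx I)), S ⊆ T → ∀ (f : MvPolynomial (Var I T) A),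
      rename (fun v => (⟨⟨v.1.1, trivial⟩, v.2⟩ : Var I Set.univ)) f = x →
      f ∈ Ideal.span (rel I T) := by
  classical
  obtain ⟨R, hR, hxR⟩ := Submodule.mem_span_finite_of_mem_span hx
  obtain ⟨c, -, hc⟩ := Submodule.mem_span_finset.mp hxR
  have hr : ∀ r : R, ∃ i : Idx I, ∃ y ∈ i.rels, inc I Set.univ ⟨i, trivial⟩ y = r := fun r => by
    obtain ⟨i, y, hy, hyr⟩ := Set.mem_iUnion.mp (hR r.2)
    exact ⟨i, y, hy, hyr⟩
  choose ir yr hyr hyeq using hr
  let vars' : Finset (Var I Set.univ) := (R.attach.biUnion fun r => (c r).vars)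
  refine ⟨Set.range ir ∪ (fun v : Var I Set.univ => v.1.1) '' (vars' : Set _),
    (Set.finite_range ir).union (vars'.finite_toSet.image _), fun T hT f hf => ?_⟩
  let j : Var I T → Var I Set.univ := fun v => ⟨⟨v.1.1, trivial⟩, v.2⟩
  have hj : Function.Injective j := by
    rintro ⟨⟨a, ha⟩, x⟩ ⟨⟨b, hb⟩, y⟩ h
    simp only [j, Sigma.mk.injEq, Subtype.mk.injEq] at h
    obtain ⟨rfl, h⟩ := h
    rw [eq_of_heq h]
  have hc' : ∀ r : R, ∃ d : MvPolynomial (Var I T) A, rename j d = c r := fun r =>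
    exists_rename_eq_of_vars_subset_range (c r) j hj fun v hv => by
      have hvT : v.1.1 ∈ T := hT (Or.inr ⟨v, Finset.mem_biUnion.mpr ⟨r, Finset.mem_attach _ _, hv⟩, rfl⟩)
      exact ⟨⟨⟨v.1.1, hvT⟩, v.2⟩, rfl⟩
  choose d hd using hc'
  have heq : f = ∑ r : R, d r * inc I T ⟨ir r, hT (Or.inl ⟨r, rfl⟩)⟩ (yr r) := by
    refine rename_injective j hj ?_
    rw [hf, map_sum, ← hc, ← Finset.sum_coe_sort R]
    refine Finset.sum_congr rfl fun r _ => ?_
    rw [map_mul, hd, inc, rename_rename, smul_eq_mul]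
    congr 1
    exact (hyeq r).symm
  rw [heq]
  exact sum_mem fun r _ => Ideal.mul_mem_left _ _
    (Ideal.subset_span (Set.mem_iUnion.mpr ⟨_, _, hyr r, rfl⟩))

variable (I)

/-- the elements congruent to one -/
def unitsMod : Submonoid (Tens I Set.univ) :=
  MonoidHom.mker (Ideal.Quotient.mk (I.map (algebraMap A (Tens I Set.univ)))).toMonoidHom

/-- the henselization -/
def Hull : Type u := Localization (unitsMod I)

instance : CommRing (Hull I) := inferInstanceAs (CommRing (Localization (unitsMod I)))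

instance : Algebra A (Hull I) := inferInstanceAs (Algebra A (Localization (unitsMod I)))

instance : Algebra (Tens I Set.univ) (Hull I) :=
  inferInstanceAs (Algebra (Tens I Set.univ) (Localization (unitsMod I)))

instance : IsScalarTower A (Tens I Set.univ) (Hull I) :=
  inferInstanceAs (IsScalarTower A (Tens I Set.univ) (Localization (unitsMod I)))

instance : IsLocalization (unitsMod I) (Hull I) :=
  inferInstanceAs (IsLocalization (unitsMod I) (Localization (unitsMod I)))

variable {I}

theorem map_le_jacobson : I.map (algebraMap A (Hull I)) ≤ Ideal.jacobson ⊥ := by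
  intro x hx
  refine Ideal.mem_jacobson_bot.mpr fun y => ?_
  rw [IsScalarTower.algebraMap_eq A (Tens I Set.univ) (Hull I), ← Ideal.map_map] at hx
  have hxy := Ideal.mul_mem_right y _ hx
  obtain ⟨⟨⟨j, hj⟩, m⟩, hm⟩ := (IsLocalization.mem_map_algebraMap_iff (unitsMod I) (Hull I)).mp hxy
  have hmem : (m : Tens I Set.univ) + j ∈ unitsMod I := by
    have h1 : Ideal.Quotient.mk (I.map (algebraMap A (Tens I Set.univ))) (m : Tens I Set.univ) = 1 := m.2
    show Ideal.Quotient.mk _ _ = 1
    rw [map_add, h1, Ideal.Quotient.eq_zero_iff_mem.mpr hj, add_zero]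
  refine isUnit_of_mul_isUnit_left (y := algebraMap _ (Hull I) (m : Tens I Set.univ)) ?_
  rw [add_mul, one_mul, hm, ← map_add, add_comm]
  exact IsLocalization.map_units (Hull I) (⟨_, hmem⟩ : unitsMod I)

theorem hom_eq (A' : Type u) [CommRing A'] [Algebra A A'] (h : Nbhd.IsNbhd I A')
    (τ₁ τ₂ : A' →ₐ[A] Hull I) : τ₁ = τ₂ :=
  h.hom_eq map_le_jacobson τ₁ τ₂

theorem exists_hom (A' : Type u) [CommRing A'] [Algebra A A'] (h : Nbhd.IsNbhd I A') :
    Nonempty (A' →ₐ[A] Hull I) := by
  obtain ⟨i, ⟨e⟩⟩ := exists_idx A' h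
  exact ⟨((IsScalarTower.toAlgHom A (Tens I Set.univ) (Hull I)).comp
    (tensInj Set.univ ⟨i, trivial⟩)).comp e.symm.toAlgHom⟩

/-- restriction to a set of neighbourhoods -/
def stage (S : Set (Idx I)) : Tens I S →ₐ[A] Tens I Set.univ :=
  tensLift S fun i => tensInj Set.univ ⟨i.1, trivial⟩

theorem stage_mk (S : Set (Idx I)) (f : MvPolynomial (Var I S) A) :
    stage S (Ideal.Quotient.mk _ f) = Ideal.Quotient.mk _
      (rename (fun v => (⟨⟨v.1.1, trivial⟩, v.2⟩ : Var I Set.univ)) f) := by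
  have : (stage S).comp (Ideal.Quotient.mkₐ A _) =
      (Ideal.Quotient.mkₐ A _).comp (rename (fun v => (⟨⟨v.1.1, trivial⟩, v.2⟩ : Var I Set.univ))) := by
    refine MvPolynomial.algHom_ext fun v => ?_
    show aeval _ (X v) = Ideal.Quotient.mk _ (rename _ (X v))
    rw [rename_X, aeval_X, tensInj_mk, inc, rename_X]
  exact DFunLike.congr_fun this f

theorem exists_rename_finite (f : MvPolynomial (Var I Set.univ) A) :
    ∃ S : Set (Idx I), S.Finite ∧ ∀ T, S ⊆ T → ∃ g : MvPolynomial (Var I T) A,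
      rename (fun v => (⟨⟨v.1.1, trivial⟩, v.2⟩ : Var I Set.univ)) g = f := by
  classical
  refine ⟨(fun v : Var I Set.univ => v.1.1) '' (f.vars : Set _), f.vars.finite_toSet.image _,
    fun T hT => ?_⟩
  refine exists_rename_eq_of_vars_subset_range f _ ?_ fun v hv => ⟨⟨⟨v.1.1, hT ⟨v, hv, rfl⟩⟩, v.2⟩, rfl⟩
  rintro ⟨⟨a, ha⟩, x⟩ ⟨⟨b, hb⟩, y⟩ h
  simp only [Sigma.mk.injEq, Subtype.mk.injEq] at h
  obtain ⟨rfl, h⟩ := h
  rw [eq_of_heq h]

theorem sub_one_mem_of_mem_unitsMod {T : Set (Idx I)} (hT : T.Finite) {g : Tens I T}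
    (hg : stage T g ∈ unitsMod I) : g - 1 ∈ I.map (algebraMap A (Tens I T)) := by
  obtain ⟨a, ha⟩ := (tens_isNbhd T hT).approx g
  have h1 := Ideal.mem_map_of_mem (stage T).toRingHom ha
  rw [Ideal.map_map, AlgHom.toRingHom_eq_coe, AlgHom.comp_algebraMap] at h1
  simp only [AlgHom.coe_toRingHom, map_sub, AlgHom.commutes] at h1
  have h2 : algebraMap A (Tens I Set.univ) (a - 1) ∈ I.map (algebraMap A (Tens I Set.univ)) := by
    have hg' : stage T g - 1 ∈ I.map (algebraMap A (Tens I Set.univ)) := by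
      rw [← Ideal.Quotient.eq, map_one]; exact hg
    have := sub_mem hg' h1
    rw [map_sub, map_one]
    simpa using this
  have h3 : a - 1 ∈ I := by
    let σ : Tens I Set.univ →ₐ[A] A ⧸ I := tensLift Set.univ fun i => (i : Idx I).2.section_exists.some
    have := Ideal.mem_map_of_mem σ.toRingHom h2
    rw [Ideal.map_map, AlgHom.toRingHom_eq_coe, AlgHom.comp_algebraMap] at this
    simp only [AlgHom.coe_toRingHom, AlgHom.commutes] at this
    rw [Ideal.Quotient.algebraMap_eq, Ideal.map_quotient_self, Ideal.mem_bot] at this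
    exact Ideal.Quotient.eq_zero_iff_mem.mp this
  have := add_mem ha (Ideal.mem_map_of_mem (algebraMap A (Tens I T)) h3)
  simpa using this

/-- every finite family of elements comes from one neighbourhood -/
theorem exists_rep {ι : Type*} [Finite ι] (x : ι → Hull I) :
    ∃ (i : Idx I) (φ : i.Ring →ₐ[A] Hull I), ∀ k, ∃ r, φ r = x k := by
  classical
  choose t ht using fun k => IsLocalization.surj (unitsMod I) (x k)
  choose p hp using fun k => Ideal.Quotient.mk_surjective (t k).1
  choose q hq using fun k => Ideal.Quotient.mk_surjective ((t k).2 : Tens I Set.univ)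
  choose Sp hSpf hSp using fun k => exists_rename_finite (p k)
  choose Sq hSqf hSq using fun k => exists_rename_finite (q k)
  let T : Set (Idx I) := ⋃ k, (Sp k ∪ Sq k)
  have hT : T.Finite := Set.finite_iUnion fun k => (hSpf k).union (hSqf k)
  choose p' hp' using fun k => hSp k T ((Set.subset_union_left).trans (Set.subset_iUnion (fun k => Sp k ∪ Sq k) k))
  choose q' hq' using fun k => hSq k T ((Set.subset_union_right).trans (Set.subset_iUnion (fun k => Sp k ∪ Sq k) k))
  have : Fintype ι := Fintype.ofFinite ι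
  let g : Tens I T := ∏ k, Ideal.Quotient.mk _ (q' k)
  have hstage : ∀ k, stage T (Ideal.Quotient.mk _ (q' k)) = (t k).2 := fun k => by
    rw [stage_mk, hq', hq]
  have hg : stage T g ∈ unitsMod I := by
    rw [map_prod]
    exact Submonoid.prod_mem _ fun k _ => (hstage k).symm ▸ (t k).2.2
  let L := Localization.Away g
  have hL : Nbhd.IsNbhd I L := (tens_isNbhd T hT).away (sub_one_mem_of_mem_unitsMod hT hg)
  let ψ₀ : Tens I T →ₐ[A] Hull I := (IsScalarTower.toAlgHom A _ (Hull I)).comp (stage T)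
  have hψg : IsUnit (ψ₀ g) := IsLocalization.map_units (Hull I) (⟨_, hg⟩ : unitsMod I)
  let ψ : L →ₐ[A] Hull I := IsLocalization.liftAlgHom (M := Submonoid.powers g) (f := ψ₀)
    fun y => by obtain ⟨k, hk⟩ := y.2; rw [← hk, map_pow]; exact hψg.pow k
  have hψ : ∀ z, ψ (algebraMap (Tens I T) L z) = algebraMap (Tens I Set.univ) (Hull I) (stage T z) :=
    fun z => IsLocalization.lift_eq (M := Submonoid.powers g) _ z
  obtain ⟨i, ⟨e⟩⟩ := exists_idx L hL
  refine ⟨i, ψ.comp e.toAlgHom, fun k => ?_⟩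
  have hu : IsUnit (algebraMap (Tens I T) L (Ideal.Quotient.mk _ (q' k))) :=
    isUnit_of_dvd_unit (map_dvd _ (Finset.dvd_prod_of_mem (fun k => (Ideal.Quotient.mk _ (q' k) : Tens I T)) (Finset.mem_univ k)))
      (IsLocalization.Away.algebraMap_isUnit g)
  refine ⟨e.symm (algebraMap (Tens I T) L (Ideal.Quotient.mk _ (p' k)) * ↑hu.unit⁻¹), ?_⟩
  show ψ (e (e.symm _)) = x k
  rw [e.apply_symm_apply]
  refine (IsUnit.mul_left_inj (IsLocalization.map_units (Hull I) (t k).2)).mp ?_
  rw [ht k, ← hstage k, ← hψ, ← map_mul, mul_assoc, IsUnit.val_inv_mul, mul_one, hψ, stage_mk,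
    hp', hp]

/-- an element vanishing in the henselization vanishes in a finer neighbourhood -/
theorem exists_kill (A' : Type u) [CommRing A'] [Algebra A A'] (h : Nbhd.IsNbhd I A')
    (φ : A' →ₐ[A] Hull I) {ι : Type*} [Finite ι] (s : ι → A') (hs : ∀ k, φ (s k) = 0) :
    ∃ (A'' : Type u) (_ : CommRing A'') (_ : Algebra A A'') (_ : Nbhd.IsNbhd I A'')
      (ψ : A' →ₐ[A] A''), ∀ k, ψ (s k) = 0 := by
  classical
  obtain ⟨i, ⟨e⟩⟩ := exists_idx A' h
  have hφ : φ = ((IsScalarTower.toAlgHom A (Tens I Set.univ) (Hull I)).comp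
      (tensInj Set.univ ⟨i, trivial⟩)).comp e.symm.toAlgHom := hom_eq A' h _ _
  choose y hy using fun k => Ideal.Quotient.mk_surjective (e.symm (s k))
  have h0 : ∀ k, ∃ m : unitsMod I, (m : Tens I Set.univ) *
      Ideal.Quotient.mk _ (inc I Set.univ ⟨i, trivial⟩ (y k)) = 0 := fun k => by
    have := hs k
    rw [hφ] at this
    exact (IsLocalization.map_eq_zero_iff (unitsMod I) (Hull I) _).mp (by
      rw [← tensInj_mk, hy]; exact this)
  choose m hm using h0
  choose q hq using fun k => Ideal.Quotient.mk_surjective (m k : Tens I Set.univ)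
  have hmem : ∀ k, q k * inc I Set.univ ⟨i, trivial⟩ (y k) ∈ Ideal.span (rel I Set.univ) := fun k => by
    rw [← Ideal.Quotient.eq_zero_iff_mem, map_mul, hq]; exact hm k
  choose Sr hSrf hSr using fun k => exists_finite_stage (hmem k)
  choose Sq hSqf hSq using fun k => exists_rename_finite (q k)
  let T : Set (Idx I) := insert i (⋃ k, (Sr k ∪ Sq k))
  have hT : T.Finite := (Set.finite_iUnion fun k => (hSrf k).union (hSqf k)).insert i
  have hsub : ∀ k, Sr k ∪ Sq k ⊆ T := fun k =>
    (Set.subset_iUnion (fun k => Sr k ∪ Sq k) k).trans (Set.subset_insert _ _)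
  choose q' hq' using fun k => hSq k T ((Set.subset_union_right).trans (hsub k))
  let iT : T := ⟨i, Set.mem_insert _ _⟩
  have hzero : ∀ k, (Ideal.Quotient.mk _ (q' k) : Tens I T) * Ideal.Quotient.mk _ (inc I T iT (y k)) = 0 :=
    fun k => by
      rw [← map_mul, Ideal.Quotient.eq_zero_iff_mem]
      refine hSr k T ((Set.subset_union_left).trans (hsub k)) _ ?_
      rw [map_mul, hq', inc, rename_rename]
      rfl
  have : Fintype ι := Fintype.ofFinite ι
  let g : Tens I T := ∏ k, Ideal.Quotient.mk _ (q' k)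
  have hg : stage T g ∈ unitsMod I := by
    rw [map_prod]
    refine Submonoid.prod_mem _ fun k _ => ?_
    rw [stage_mk, hq', hq]; exact (m k).2
  have hL : Nbhd.IsNbhd I (Localization.Away g) :=
    (tens_isNbhd T hT).away (sub_one_mem_of_mem_unitsMod hT hg)
  refine ⟨Localization.Away g, inferInstance, inferInstance, hL,
    ((IsScalarTower.toAlgHom A (Tens I T) _).comp (tensInj T iT)).comp e.symm.toAlgHom, fun k => ?_⟩
  show algebraMap (Tens I T) _ (tensInj T iT (e.symm (s k))) = 0
  rw [← hy, tensInj_mk]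
  have hu : IsUnit (algebraMap (Tens I T) (Localization.Away g) (Ideal.Quotient.mk _ (q' k))) :=
    isUnit_of_dvd_unit (map_dvd _ (Finset.dvd_prod_of_mem (fun k => (Ideal.Quotient.mk _ (q' k) : Tens I T)) (Finset.mem_univ k)))
      (IsLocalization.Away.algebraMap_isUnit g)
  refine hu.mul_right_eq_zero.mp ?_
  rw [← map_mul, hzero, map_zero]

end Groth.Agent.HensPair.Construction
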