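import Groth.Agent.HensPair.Unique
import Groth.Agent.Hensel.Idem
import Mathlib.RingTheory.Henselian
import Mathlib.RingTheory.Polynomial.UniversalFactorizationRing
import Mathlib.RingTheory.Etale.StandardEtale
import Mathlib.RingTheory.Etale.QuasiFinite
import Mathlib.LinearAlgebra.Matrix.Charpoly.LinearMap
import Mathlib.RingTheory.ZariskisMainTheorem
import Mathlib.RingTheory.Unramified.LocalStructure

/-!
Equivalent forms of the henselian property of a pair.
-/

set_option autoImplicit false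

open Polynomial

namespace Groth.Agent.HensPair.Criteria

universe u

variable {A : Type u} [CommRing A] {I : Ideal A}

/-- etale algebras lift their `A/I` points -/
def EtaleLift (A : Type u) [CommRing A] (I : Ideal A) : Prop :=
  ∀ (A' : Type u) [CommRing A'] [Algebra A A'] [Algebra.Etale A A'] (σ : A' →ₐ[A] A ⧸ I),
    ∃ τ : A' →ₐ[A] A, (Ideal.Quotient.mkₐ A I).comp τ = σ

/-- idempotents lift along finite algebras -/
def IdemFinite (A : Type u) [CommRing A] (I : Ideal A) : Prop :=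
  ∀ (B : Type u) [CommRing B] [Algebra A B], Module.Finite A B →
    ∀ b : B, b ^ 2 - b ∈ I.map (algebraMap A B) →
      ∃ e : B, IsIdempotentElem e ∧ e - b ∈ I.map (algebraMap A B)

/-- idempotents cutting out a monogenic piece lift along finite algebras -/
def CyclicIdem (A : Type u) [CommRing A] (I : Ideal A) : Prop :=
  ∀ (B : Type u) [CommRing B] [Algebra A B], Module.Finite A B →
    ∀ b : B, b ^ 2 - b ∈ I.map (algebraMap A B) →
      (∀ y, ∃ a : A, b * y - a • b ∈ I.map (algebraMap A B)) →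
      ∃ e : B, IsIdempotentElem e ∧ e - b ∈ I.map (algebraMap A B)

/-- coprime monic factorizations lift -/
def Factor (A : Type u) [CommRing A] (I : Ideal A) : Prop :=
  ∀ f : A[X], f.Monic → ∀ g₀ h₀ : (A ⧸ I)[X], g₀.Monic → h₀.Monic → IsCoprime g₀ h₀ →
    f.map (Ideal.Quotient.mk I) = g₀ * h₀ →
    ∃ g h : A[X], g.Monic ∧ h.Monic ∧ f = g * h ∧
      g.map (Ideal.Quotient.mk I) = g₀ ∧ h.map (Ideal.Quotient.mk I) = h₀

/-- Gabber's criterion -/
def Gabber (A : Type u) [CommRing A] (I : Ideal A) : Prop :=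
  ∀ (n : ℕ), 0 < n → ∀ p : A[X], p.natDegree ≤ n → (∀ i, p.coeff i ∈ I) →
    ∃ α : A, α - 1 ∈ I ∧ (X ^ n * (X - 1) + p).IsRoot α

theorem isUnit_of_mk_isUnit (hjac : I ≤ Ideal.jacobson ⊥) {x : A}
    (h : IsUnit (Ideal.Quotient.mk I x)) : IsUnit x :=
  haveI := isLocalHom_of_le_jacobson_bot I hjac
  isUnit_of_map_unit (Ideal.Quotient.mk I) x h

theorem map_mk_eq_zero_of_coeff_mem {p : A[X]} (hp : ∀ i, p.coeff i ∈ I) :
    p.map (Ideal.Quotient.mk I) = 0 := by
  ext i
  rw [coeff_map, coeff_zero, Ideal.Quotient.eq_zero_iff_mem]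
  exact hp i

theorem gabber_of_henselian [HenselianRing A I] : Gabber A I := by
  intro n hn p hp hpI
  nontriviality A
  have hdeg : (X ^ n * (X - 1 : A[X])).natDegree = n + 1 := by
    rw [(monic_X_pow n).natDegree_mul (by simpa using monic_X_sub_C (1 : A)), natDegree_X_pow,
      show (X - 1 : A[X]) = X - C 1 by simp, natDegree_X_sub_C]
  have hmonic : (X ^ n * (X - 1 : A[X]) + p).Monic := by
    refine ((monic_X_pow n).mul (by simpa using monic_X_sub_C (1 : A))).add_of_left ?_
    refine degree_lt_degree ?_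
    rw [hdeg]
    omega
  have hp1 : ∀ q : A[X], (∀ i, q.coeff i ∈ I) → Ideal.Quotient.mk I (q.eval 1) = 0 := fun q hq => by
    rw [← eval_map_apply, map_mk_eq_zero_of_coeff_mem hq, eval_zero]
  obtain ⟨α, hroot, hα⟩ := HenselianRing.is_henselian (I := I) _ hmonic 1 (by
    rw [← Ideal.Quotient.eq_zero_iff_mem, eval_add, map_add, hp1 p hpI]
    simp) (by
    rw [derivative_add, eval_add, map_add, hp1 (derivative p) fun i => by
      rw [coeff_derivative]; exact Ideal.mul_mem_right _ _ (hpI _)]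
    simp)
  exact ⟨α, hα, hroot⟩

theorem cyclicIdem_of_gabber (hjac : I ≤ Ideal.jacobson ⊥) (h : Gabber A I) : CyclicIdem A I := by
  intro B _ _ hfin b hb hcyc
  classical
  let J := I.map (algebraMap A B)
  obtain ⟨N, z, hz⟩ := Module.Finite.exists_fin (R := A) (M := B)
  let y : Option (Fin (N + 1)) → B := fun i => i.elim b fun j =>
    (1 - b) * (Fin.cases 1 z j : B)
  have hJ : ∀ w : B, w ∈ J ↔ w ∈ I • (⊤ : Submodule A B) := fun w => by
    rw [Ideal.smul_top_eq_map, Submodule.restrictScalars_mem]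
  have hgen : Submodule.span A (Set.range y) = ⊤ := by
    refine top_le_iff.mp (Submodule.le_of_le_smul_of_le_jacobson_bot hfin.fg_top hjac ?_)
    rw [← hz, Submodule.span_le]
    rintro _ ⟨j, rfl⟩
    obtain ⟨a, ha⟩ := hcyc (z j)
    rw [SetLike.mem_coe, show z j = (a • b + (1 - b) * z j) + (b * z j - a • b) by ring]
    refine Submodule.add_mem_sup ?_ ?_
    · exact add_mem (Submodule.smul_mem _ a (Submodule.subset_span ⟨none, rfl⟩))
        (Submodule.subset_span ⟨some j.succ, by simp [y]⟩)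
    · rw [hz]; exact (hJ _).mp ha
  let δ : Option (Fin (N + 1)) → A := fun i => if i = none then 1 else 0
  have hrel : ∀ i, b * y i - δ i • y i ∈ J := by
    rintro (_ | j)
    · simpa [y, δ, sq] using hb
    · rw [show b * y (some j) - δ (some j) • y (some j) = -((b ^ 2 - b) * Fin.cases 1 z j) by
        simp [y, δ]; ring]
      exact neg_mem (Ideal.mul_mem_right _ _ hb)
  choose P hPI hP using fun i => (Submodule.mem_ideal_smul_span_iff_exists_sum I y _).mp
    (hgen.symm ▸ (hJ _).mp (hrel i))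
  let M : Matrix (Option (Fin (N + 1))) (Option (Fin (N + 1))) A :=
    Matrix.diagonal δ + Matrix.of fun i j => P i j
  -- the characteristic polynomial
  have hker : aeval b M.charpoly = 0 := by
    let MB := M.map (algebraMap A B)
    let T := Matrix.scalar _ b - MB
    have hTy : T.mulVec y = 0 := by
      funext i
      have h1 := hP i
      rw [Finsupp.sum_fintype _ _ (by simp)] at h1
      simp only [T, MB, Matrix.sub_mulVec, Pi.sub_apply, Matrix.scalar_apply, Matrix.mulVec_diagonal,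
        Pi.zero_apply]
      rw [Matrix.map_add _ (map_add _), Matrix.add_mulVec, Pi.add_apply,
        Matrix.diagonal_map (map_zero _), Matrix.mulVec_diagonal]
      simp only [Matrix.mulVec, dotProduct, Matrix.map_apply, Matrix.of_apply, ← Algebra.smul_def]
      rw [← sub_sub, show b * y i - δ i • y i = ∑ j, P i j • y j from h1.symm]
      exact sub_self _
    have hdet : ∀ i, T.det * y i = 0 := fun i => by
      have h1 := congrArg (fun v => T.adjugate.mulVec v i) hTy
      simpa [Matrix.mulVec_mulVec, Matrix.adjugate_mul, Matrix.smul_mulVec] using h1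
    have hev : aeval b M.charpoly = T.det := by
      rw [Matrix.charpoly, AlgHom.map_det]
      congr 1
      ext i j
      rcases eq_or_ne i j with rfl | hij
      · simp [T, MB, Matrix.charmatrix_apply_eq]
      · simp [T, MB, Matrix.charmatrix_apply_ne _ _ _ hij, Matrix.diagonal_apply_ne _ hij]
    have h1 : (1 : B) ∈ Submodule.span A (Set.range y) := hgen ▸ Submodule.mem_top
    rw [Submodule.mem_span_range_iff_exists_fun] at h1
    obtain ⟨c, hc⟩ := h1
    rw [hev, ← mul_one T.det, ← hc, Finset.mul_sum]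
    exact Finset.sum_eq_zero fun i _ => by rw [mul_smul_comm, hdet, smul_zero]
  let χ := M.charpoly
  have hχmap : χ.map (Ideal.Quotient.mk I) = X ^ (N + 1) * (X - 1) := by
    rw [← Matrix.charpoly_map, show M.map (Ideal.Quotient.mk I) =
        Matrix.diagonal (fun i => Ideal.Quotient.mk I (δ i)) from by
      ext i j
      simp only [M, Matrix.map_apply, Matrix.add_apply, Matrix.of_apply, map_add]
      rw [Ideal.Quotient.eq_zero_iff_mem.mpr (hPI i j), add_zero]
      rcases eq_or_ne i j with rfl | hij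
      · simp
      · simp [Matrix.diagonal_apply_ne _ hij],
      Matrix.charpoly_diagonal, Fintype.prod_option]
    simp [δ, mul_comm]
  let g₁ : A[X] := X ^ (N + 1) * (X - 1)
  have hdiff : (χ - g₁).natDegree ≤ N + 1 := by
    rcases subsingleton_or_nontrivial A with hA | hA
    · rw [Subsingleton.elim (χ - g₁) 0, natDegree_zero]; omega
    have h1 : g₁.natDegree = N + 2 := by
      rw [(monic_X_pow _).natDegree_mul (by simpa using monic_X_sub_C (1 : A)), natDegree_X_pow,
        show (X - 1 : A[X]) = X - C 1 by simp, natDegree_X_sub_C]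
    have h2 : χ.natDegree = N + 2 := by
      rw [Matrix.charpoly_natDegree_eq_dim]; simp
    rw [natDegree_le_iff_coeff_eq_zero]
    intro i hi
    rw [coeff_sub]
    rcases Nat.lt_or_ge (N + 2) i with hi' | hi'
    · rw [coeff_eq_zero_of_natDegree_lt (by omega), coeff_eq_zero_of_natDegree_lt (by omega), sub_self]
    · have hi2 : i = N + 2 := by omega
      have m1 : g₁.Monic := (monic_X_pow _).mul (by simpa using monic_X_sub_C (1 : A))
      rw [hi2]
      conv_lhs => arg 1; rw [← h2]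
      conv_lhs => arg 2; rw [← h1]
      rw [M.charpoly_monic.coeff_natDegree, m1.coeff_natDegree, sub_self]
  obtain ⟨α, hα, hroot⟩ := h (N + 1) N.succ_pos (χ - g₁) hdiff fun i => by
    rw [← Ideal.Quotient.eq_zero_iff_mem, ← coeff_map, Polynomial.map_sub, hχmap]
    simp [g₁]
  rw [add_sub_cancel] at hroot
  let q := χ /ₘ (X - C α)
  have hχ : (X - C α) * q = χ := mul_divByMonic_eq_iff_isRoot.mpr hroot
  have hα1 : Ideal.Quotient.mk I α = 1 := by
    rwa [← map_one (Ideal.Quotient.mk I), Ideal.Quotient.eq]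
  have hqmap : q.map (Ideal.Quotient.mk I) = X ^ (N + 1) := by
    have h1 := congrArg (Polynomial.map (Ideal.Quotient.mk I)) hχ
    rw [hχmap, Polynomial.map_mul, Polynomial.map_sub, map_X, map_C, hα1, map_one, mul_comm] at h1
    exact (by simpa using monic_X_sub_C (1 : A ⧸ I) : (X - 1 : (A ⧸ I)[X]).Monic).isRegular.right h1
  have hu : IsUnit (q.eval α) := isUnit_of_mk_isUnit hjac (by
    rw [← eval_map_apply, hqmap, eval_pow, eval_X, hα1, one_pow]; exact isUnit_one)
  obtain ⟨u, hu⟩ := hu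
  obtain ⟨k, hk⟩ := X_sub_C_dvd_sub_C_eval (a := α) (p := q)
  have hbq : aeval b q * aeval b q = algebraMap A B (q.eval α) * aeval b q := by
    have h1 : aeval b q = (b - algebraMap A B α) * aeval b k + algebraMap A B (q.eval α) := by
      have := congrArg (aeval b) hk
      simp only [map_sub, map_mul, aeval_X, aeval_C] at this
      linear_combination this
    have h2 : (b - algebraMap A B α) * aeval b q = 0 := by
      have := hker
      rw [show M.charpoly = (X - C α) * q from hχ.symm, map_mul, map_sub, aeval_X, aeval_C] at this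
      exact this
    linear_combination aeval b q * h1 + aeval b k * h2
  refine ⟨algebraMap A B ↑u⁻¹ * aeval b q, ?_, ?_⟩
  · show _ * _ = _
    calc _ = algebraMap A B (↑u⁻¹ * ↑u⁻¹) * (aeval b q * aeval b q) := by rw [map_mul]; ring
      _ = algebraMap A B (↑u⁻¹ * ↑u⁻¹ * q.eval α) * aeval b q := by rw [hbq]; simp only [map_mul]; ring
      _ = _ := by rw [← hu, mul_assoc, Units.inv_mul, mul_one]
  · rw [← Ideal.Quotient.eq, map_mul]
    let π := Ideal.Quotient.mk J
    have hbar : π b * π b = π b := by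
      rw [← map_mul, Ideal.Quotient.eq, ← sq]; exact hb
    have hpow : ∀ n : ℕ, π b ^ (n + 1) = π b := fun n => by
      induction n with
      | zero => simp
      | succ n ih => rw [pow_succ, ih, hbar]
    let ι : A ⧸ I →+* B ⧸ J := Ideal.quotientMap J (algebraMap A B) Ideal.le_comap_map
    have hev : ∀ f : A[X], π (aeval b f) = (f.map (Ideal.Quotient.mk I)).eval₂ ι (π b) := fun f => by
      rw [eval₂_map, aeval_def, hom_eval₂]; rfl
    have huinv : π (algebraMap A B (↑u⁻¹ : A)) = 1 := by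
      have hu1 : Ideal.Quotient.mk I (↑u : A) = 1 := by
        rw [hu, ← eval_map_apply, hqmap, eval_pow, eval_X, hα1, one_pow]
      have : Ideal.Quotient.mk I (↑u⁻¹ : A) = 1 := by
        have h3 := congrArg (Ideal.Quotient.mk I) u.inv_mul
        rw [map_mul, hu1, mul_one, map_one] at h3
        exact h3
      show ι (Ideal.Quotient.mk I (↑u⁻¹ : A)) = 1
      rw [this, map_one]
    show π _ * π _ = π b
    rw [huinv, one_mul, hev, hqmap, eval₂_pow, eval₂_X, hpow]

theorem jac_of_idemFinite (h : ∀ (B : Type u) [CommRing B] [Algebra A B], Module.Finite A B →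
    Set.InjOn (Ideal.Quotient.mk (I.map (algebraMap A B))) {e : B | IsIdempotentElem e}) :
    I ≤ Ideal.jacobson ⊥ := by
  refine fun x hx => Hensel.Idem.mem_jacobson_of_forall fun M hM => ?_
  by_contra hxM
  have htop : I.map (algebraMap A (A ⧸ M)) = ⊤ := by
    have hne : (I.map (algebraMap A (A ⧸ M))) ≠ ⊥ := fun hbot =>
      hxM (Ideal.Quotient.eq_zero_iff_mem.mp
        (by rw [← Ideal.mem_bot, ← hbot]; exact Ideal.mem_map_of_mem _ hx))
    let := Ideal.Quotient.field M
    exact (Ideal.eq_bot_or_top _).resolve_left hne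
  have : Nontrivial (A ⧸ M) := Ideal.Quotient.nontrivial_iff.mpr hM.ne_top
  refine one_ne_zero ((h (A ⧸ M) inferInstance) (x₁ := (1 : A ⧸ M)) .one (x₂ := 0) .zero ?_)
  rw [Ideal.Quotient.eq, htop]
  exact Submodule.mem_top

theorem jac_of_etaleLift (h : EtaleLift A I) : I ≤ Ideal.jacobson ⊥ := by
  intro x hx
  rw [Ideal.mem_jacobson_bot]
  intro y
  let L := Localization.Away (x * y + 1)
  have : Algebra.Etale A L := Algebra.Etale.of_isLocalizationAway (x * y + 1)
  have hu : IsUnit (Algebra.ofId A (A ⧸ I) (x * y + 1)) := by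
    rw [map_add, map_one, show Algebra.ofId A (A ⧸ I) (x * y) = 0 from
      Ideal.Quotient.eq_zero_iff_mem.mpr (I.mul_mem_right _ hx), zero_add]
    exact isUnit_one
  obtain ⟨τ, -⟩ := h L (IsLocalization.Away.liftAlgHom (x * y + 1) (f := Algebra.ofId A (A ⧸ I)) hu)
  have := (IsLocalization.Away.algebraMap_isUnit (S := L) (x * y + 1)).map τ
  rwa [τ.commutes] at this

theorem henselian_of_etaleLift (h : EtaleLift A I) : HenselianRing A I := by
  refine ⟨jac_of_etaleLift h, fun f hf a₀ h₀ h₁ => ?_⟩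
  let P : StandardEtalePair A :=
    ⟨f, hf, f.derivative, 1, 0, 1, by simp⟩
  let x₀ : A ⧸ I := Ideal.Quotient.mk I a₀
  have hx : P.HasMap x₀ := by
    refine ⟨?_, ?_⟩
    · show aeval (algebraMap A (A ⧸ I) a₀) f = 0
      rw [aeval_algebraMap_apply_eq_algebraMap_eval]
      exact Ideal.Quotient.eq_zero_iff_mem.mpr h₀
    · show IsUnit (aeval (algebraMap A (A ⧸ I) a₀) f.derivative)
      rw [aeval_algebraMap_apply_eq_algebraMap_eval]
      exact h₁
  obtain ⟨τ, hτ⟩ := h P.Ring (P.lift x₀ hx)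
  refine ⟨τ P.X, ?_, ?_⟩
  · have := (P.hasMap_X.map τ).1
    rwa [coe_aeval_eq_eval] at this
  · rw [← Ideal.Quotient.eq]
    exact (DFunLike.congr_fun hτ P.X).trans (P.lift_X x₀ hx)

theorem factor_of_etaleLift (h : EtaleLift A I) : Factor A I := by
  intro f hf g₀ h₀ hg hh hcop hfgh
  rcases subsingleton_or_nontrivial (A ⧸ I) with hs | hs
  · have : Subsingleton A := by
      rw [← not_nontrivial_iff_subsingleton]
      intro hnt
      have hI : I = ⊤ := Ideal.Quotient.subsingleton_iff.mp hs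
      have h1 := jac_of_etaleLift h (hI ▸ Submodule.mem_top : (1 : A) ∈ I)
      obtain ⟨M, hM⟩ := Ideal.exists_maximal A
      exact hM.ne_top ((Ideal.eq_top_iff_one M).mpr (Hensel.Idem.mem_of_mem_jacobson h1 M))
    exact ⟨1, f, monic_one, hf, (one_mul f).symm, Subsingleton.elim _ _, Subsingleton.elim _ _⟩
  have hn : f.natDegree = g₀.natDegree + h₀.natDegree := by
    rw [← hg.natDegree_mul hh, ← hfgh, hf.natDegree_map]
  let p : MonicDegreeEq A f.natDegree := .mk f hf rfl
  let eq := UniversalCoprimeFactorizationRing.homEquiv (A ⧸ I) g₀.natDegree h₀.natDegree hn p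
  obtain ⟨τ, hτ⟩ := h _ (eq.symm ⟨(.mk g₀ hg rfl, .mk h₀ hh rfl), hfgh.symm, hcop⟩)
  let q := UniversalCoprimeFactorizationRing.homEquiv A g₀.natDegree h₀.natDegree hn p τ
  refine ⟨q.1.1.1, q.1.2.1, q.1.1.monic, q.1.2.monic, ?_, ?_, ?_⟩
  · have := q.2.1
    simp only [Algebra.algebraMap_self, Polynomial.map_id] at this
    exact this.symm
  · have := UniversalCoprimeFactorizationRing.homEquiv_comp_fst (S := A) g₀.natDegree h₀.natDegree
      hn p τ (Ideal.Quotient.mkₐ A I)
    rw [hτ, Equiv.apply_symm_apply] at this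
    exact (congrArg Subtype.val this).symm
  · have := UniversalCoprimeFactorizationRing.homEquiv_comp_snd (S := A) g₀.natDegree h₀.natDegree
      hn p τ (Ideal.Quotient.mkₐ A I)
    rw [hτ, Equiv.apply_symm_apply] at this
    exact (congrArg Subtype.val this).symm

/-- coprimality of lifted factorizations -/
theorem isCoprime_of_map (hjac : I ≤ Ideal.jacobson ⊥) {g h : A[X]} (hg : g.Monic)
    (hcop : IsCoprime (g.map (Ideal.Quotient.mk I)) (h.map (Ideal.Quotient.mk I))) :
    IsCoprime g h := by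
  let B := AdjoinRoot g
  have : Module.Finite A B := hg.finite_adjoinRoot
  let J := I.map (algebraMap A B)
  obtain ⟨u, v, huv⟩ := hcop
  obtain ⟨u, rfl⟩ := Polynomial.map_surjective _ Ideal.Quotient.mk_surjective u
  obtain ⟨v, rfl⟩ := Polynomial.map_surjective _ Ideal.Quotient.mk_surjective v
  have hd : ∀ i, (u * g + v * h - 1).coeff i ∈ I := fun i => by
    rw [← Ideal.Quotient.eq_zero_iff_mem, ← coeff_map]
    simp [huv]
  have hmem : AdjoinRoot.mk g (v * h) - 1 ∈ J := by
    have h1 : AdjoinRoot.mk g (v * h) - 1 = AdjoinRoot.mk g (u * g + v * h - 1) := by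
      simp [map_sub, map_add, map_mul, AdjoinRoot.mk_self]
    rw [h1, as_sum_range (u * g + v * h - 1), map_sum]
    refine sum_mem fun i _ => ?_
    rw [← C_mul_X_pow_eq_monomial, map_mul, AdjoinRoot.mk_C]
    exact Ideal.mul_mem_right _ _ (Ideal.mem_map_of_mem _ (hd i))
  have hu : IsUnit (AdjoinRoot.mk g (v * h)) :=
    isUnit_of_mk_isUnit (Hensel.Idem.map_le_jacobson hjac)
      (by rw [Ideal.Quotient.eq.mpr hmem, map_one]; exact isUnit_one)
  rw [map_mul, IsUnit.mul_iff] at hu
  obtain ⟨w, hw⟩ := hu.2.exists_right_inv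
  obtain ⟨w, rfl⟩ := AdjoinRoot.mk_surjective w
  rw [← map_mul, ← map_one (AdjoinRoot.mk g), AdjoinRoot.mk_eq_mk] at hw
  obtain ⟨c, hc⟩ := hw
  exact ⟨-c, w, by linear_combination hc⟩

theorem exists_idempotent_of_factor (hjac : I ≤ Ideal.jacobson ⊥) (h : Factor A I) :
    ∀ (m : ℕ) (p : A[X]), p.Monic → 0 < m →
      p.map (Ideal.Quotient.mk I) = (X ^ 2 - X) ^ m →
      ∃ E : A[X], p ∣ E * E - E ∧
        (X ^ 2 - X : (A ⧸ I)[X]) ∣ E.map (Ideal.Quotient.mk I) - X := by
  intro m p hp hm hpm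
  obtain ⟨g, k, hg, hk, hgk, hgm, hkm⟩ := h p hp (X ^ m) ((X - 1) ^ m) (monic_X_pow m)
    ((by simpa using monic_X_sub_C (1 : A ⧸ I) : (X - 1 : (A ⧸ I)[X]).Monic).pow m)
    ((show IsCoprime (X : (A ⧸ I)[X]) (X - 1) from ⟨1, -1, by ring⟩).pow)
    (by rw [hpm, ← mul_pow]; ring)
  obtain ⟨u, v, huv⟩ := isCoprime_of_map hjac hg (h := k) (by
    rw [hgm, hkm]; exact (show IsCoprime (X : (A ⧸ I)[X]) (X - 1) from ⟨1, -1, by ring⟩).pow)
  refine ⟨u * g, ⟨-(u * v), by linear_combination (u * g) * huv + u * v * hgk⟩, ?_⟩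
  have h1 := congrArg (Polynomial.map (Ideal.Quotient.mk I)) huv
  simp only [Polynomial.map_add, Polynomial.map_mul, Polynomial.map_one, hgm, hkm] at h1
  obtain ⟨m, rfl⟩ := Nat.exists_eq_add_of_lt hm
  rw [Polynomial.map_mul, hgm]
  rw [zero_add] at h1 ⊢
  -- `E ≡ X` modulo `X² - X`
  set U := u.map (Ideal.Quotient.mk I)
  set V := v.map (Ideal.Quotient.mk I)
  exact ⟨-(U * X ^ m + V * (X - 1) ^ m), by linear_combination (X : (A ⧸ I)[X]) * h1⟩

theorem idemFinite_of_factor (hjac : I ≤ Ideal.jacobson ⊥) (h : Factor A I) : IdemFinite A I := by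
  intro B _ _ hfin b hb
  let J := I.map (algebraMap A B)
  obtain ⟨f, hf, -, hfI, hfz⟩ := LinearMap.exists_monic_and_natDegree_eq_and_coeff_mem_pow_and_aeval_eq_zero
    A (Algebra.lmul A B (b ^ 2 - b)) I (by
      rintro _ ⟨z, rfl⟩
      rw [Ideal.smul_top_eq_map, Submodule.restrictScalars_mem]
      exact Ideal.mul_mem_right _ _ hb)
  let F := f * X
  have hFb : aeval (b ^ 2 - b) F = 0 := by
    have h1 := DFunLike.congr_fun hfz 1
    rw [aeval_algHom_apply, LinearMap.zero_apply] at h1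
    simp only [Algebra.coe_lmul_eq_mul, LinearMap.mul_apply', mul_one] at h1
    rw [map_mul, h1, zero_mul]
  let m := f.natDegree + 1
  have hFmap : F.map (Ideal.Quotient.mk I) = X ^ m := by
    have h1 : f.map (Ideal.Quotient.mk I) = X ^ f.natDegree := by
      ext i
      rw [coeff_map, coeff_X_pow]
      split_ifs with hi
      · subst hi; rw [hf.coeff_natDegree, map_one]
      · rcases Nat.lt_or_ge i f.natDegree with hlt | hge
        · rw [Ideal.Quotient.eq_zero_iff_mem]
          exact Ideal.pow_le_self (by omega) (hfI i)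
        · rw [coeff_eq_zero_of_natDegree_lt (by omega), map_zero]
    rw [Polynomial.map_mul, h1, map_X, ← pow_succ]
  rcases subsingleton_or_nontrivial A with hA | hA
  · have := Algebra.algebraMap_self (R := A)
    exact ⟨0, IsIdempotentElem.zero, by
      have : Subsingleton B := Module.subsingleton A B
      rw [Subsingleton.elim (0 - b) 0]; exact zero_mem _⟩
  have hq : (X ^ 2 - X : A[X]).natDegree = 2 := by
    rw [natDegree_sub_eq_left_of_natDegree_lt] <;> simp
  have hqm : (X ^ 2 - X : A[X]).Monic := (monic_X_pow 2).sub_of_left (by simp)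
  let p := F.comp (X ^ 2 - X)
  have hp : p.Monic := (hf.mul monic_X).comp hqm (by omega)
  have hpm : p.map (Ideal.Quotient.mk I) = (X ^ 2 - X) ^ m := by
    rw [Polynomial.map_comp, hFmap]; simp
  obtain ⟨E, ⟨c, hc⟩, hE⟩ := exists_idempotent_of_factor hjac h m p hp (by omega) hpm
  obtain ⟨d, hd⟩ := hE
  refine ⟨aeval b E, ?_, ?_⟩
  · have h1 := congrArg (aeval b) hc
    rw [map_sub, map_mul, map_mul, show aeval b p = 0 by
      rw [aeval_comp, map_sub, map_pow, aeval_X, hFb], zero_mul, sub_eq_zero] at h1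
    exact h1
  · rw [← Ideal.Quotient.eq_zero_iff_mem, map_sub]
    let ι : A ⧸ I →+* B ⧸ J := Ideal.quotientMap J (algebraMap A B) Ideal.le_comap_map
    have hev : ∀ f : A[X], Ideal.Quotient.mk J (aeval b f) =
        (f.map (Ideal.Quotient.mk I)).eval₂ ι (Ideal.Quotient.mk J b) := fun f => by
      rw [eval₂_map, aeval_def, hom_eval₂]; rfl
    have h2 := congrArg (Polynomial.eval₂ ι (Ideal.Quotient.mk J b)) hd
    rw [eval₂_sub, eval₂_X, eval₂_mul, eval₂_sub, eval₂_pow, eval₂_X, ← map_pow, ← map_sub,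
      Ideal.Quotient.eq_zero_iff_mem.mpr hb, zero_mul, ← hev] at h2
    exact h2

/-- near a point where a subalgebra agrees with an unramified algebra, maps out of the subalgebra
which agree modulo a square zero ideal agree after inverting -/
theorem exists_pow_mul_eq_zero {A' Q D : Type u} [CommRing A'] [Algebra A A']
    [Algebra.FormallyUnramified A A'] [CommRing Q] [Algebra A Q] [CommRing D] [Algebra A D]
    (S' : Subalgebra A A') (r : S') (hr : ∀ x : A', ∃ n : ℕ, (r : A') ^ n * x ∈ S')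
    (σ : A' →ₐ[A] Q) (ρ : Q →ₐ[A] D) (j : S' →ₐ[A] D) (K : Ideal D) (hK : K ^ 2 = ⊥)
    (hj : ∀ x : S', j x - ρ (σ x) ∈ K) (w : S') :
    ∃ n : ℕ, j r ^ n * (j w - ρ (σ w)) = 0 := by
  let L := Localization.Away (j r)
  let d : D →ₐ[A] L := IsScalarTower.toAlgHom A D L
  let U := Localization.Away r
  have hu : IsUnit (d (j r)) := IsLocalization.Away.algebraMap_isUnit (S := L) (j r)
  let jU : U →ₐ[A] L := IsLocalization.liftAlgHom (M := Submonoid.powers r) (f := d.comp j)
    (fun y => by obtain ⟨k, hk⟩ := y.2; rw [← hk, map_pow]; exact hu.pow k)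
  let V := Localization.Away (S'.val r)
  have hbij : Function.Bijective (Localization.awayMapₐ S'.val r) := by
    refine ⟨IsLocalization.map_injective_of_injective _ _ _ Subtype.val_injective, fun v => ?_⟩
    obtain ⟨⟨a, ⟨_, k, rfl⟩⟩, ha⟩ := IsLocalization.surj (Submonoid.powers (S'.val r)) v
    obtain ⟨n, hn⟩ := hr a
    refine ⟨IsLocalization.mk' U (⟨_, hn⟩ : S') (⟨r ^ (n + k), n + k, rfl⟩ :
      Submonoid.powers r), ?_⟩
    simp only [Localization.awayMapₐ, IsLocalization.Away.mapₐ, IsLocalization.Away.map,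
      AlgHom.coe_mk]
    rw [IsLocalization.map_mk', IsLocalization.mk'_eq_iff_eq_mul]
    show algebraMap A' V ((S'.val r) ^ n * a) = v * algebraMap A' V (S'.val (r ^ (n + k)))
    rw [map_mul, ← ha, map_pow S'.val r, pow_add, map_mul]
    ring
  let e := AlgEquiv.ofBijective (Localization.awayMapₐ S'.val r) hbij
  let ψ₁ : A' →ₐ[A] L := jU.comp (e.symm.toAlgHom.comp (IsScalarTower.toAlgHom A A' V))
  have hψ₁ : ∀ x : S', ψ₁ x = d (j x) := fun x => by
    have h2 : e (algebraMap S' U x) = algebraMap A' V x := by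
      show IsLocalization.Away.map U V S'.val.toRingHom r (algebraMap S' U x) = _
      unfold IsLocalization.Away.map
      erw [IsLocalization.map_eq]
      rfl
    show jU (e.symm (algebraMap A' V x)) = _
    rw [← h2, e.symm_apply_apply]
    exact IsLocalization.lift_eq (M := Submonoid.powers r) _ x
  let ψ₂ : A' →ₐ[A] L := d.comp (ρ.comp σ)
  let KL : Ideal L := K.map d
  have hKL : IsNilpotent KL := ⟨2, by rw [← Ideal.map_pow, hK, Ideal.map_bot]; rfl⟩
  have hagree : ∀ x : S', ψ₁ x - ψ₂ x ∈ KL := fun x => by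
    rw [hψ₁, show ψ₂ x = d (ρ (σ x)) from rfl, ← map_sub]
    exact Ideal.mem_map_of_mem _ (hj x)
  have heq : ψ₁ = ψ₂ := by
    refine Algebra.FormallyUnramified.lift_unique KL hKL _ _ (AlgHom.ext fun x => ?_)
    obtain ⟨n, hn⟩ := hr x
    have h3 := Ideal.Quotient.eq.mpr (hagree ⟨_, hn⟩)
    have h4 := Ideal.Quotient.eq.mpr (hagree r)
    rw [map_mul, map_mul, map_mul, map_mul, map_pow, map_pow, map_pow, map_pow, ← h4] at h3
    refine IsUnit.mul_left_cancel ?_ h3
    rw [hψ₁]
    exact (hu.map _).pow n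
  have h5 : d (j w - ρ (σ w)) = 0 := by
    rw [map_sub, ← hψ₁, heq, show ψ₂ (w : A') = d (ρ (σ w)) from rfl, sub_self]
  obtain ⟨⟨_, n, rfl⟩, hn⟩ := (IsLocalization.map_eq_zero_iff (Submonoid.powers (j r)) L _).mp h5
  exact ⟨n, hn⟩

theorem exists_pow_mul_mem_sq {A' Q D : Type u} [CommRing A'] [Algebra A A']
    [Algebra.FormallyUnramified A A'] [CommRing Q] [Algebra A Q] [CommRing D] [Algebra A D]
    (S' : Subalgebra A A') (r : S') (hr : ∀ x : A', ∃ n : ℕ, (r : A') ^ n * x ∈ S')
    (σ : A' →ₐ[A] Q) (ρ : Q →ₐ[A] D) (j : S' →ₐ[A] D) (K : Ideal D)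
    (hj : ∀ x : S', j x - ρ (σ x) ∈ K) (w : S') :
    ∃ n : ℕ, j r ^ n * (j w - ρ (σ w)) ∈ K ^ 2 := by
  let π : D →ₐ[A] D ⧸ K ^ 2 := Ideal.Quotient.mkₐ A (K ^ 2)
  obtain ⟨n, hn⟩ := exists_pow_mul_eq_zero S' r hr σ (π.comp ρ) (π.comp j)
    (K.map (Ideal.Quotient.mk (K ^ 2))) (by rw [← Ideal.map_pow]; exact Ideal.map_quotient_self _)
    (fun x => by
      show Ideal.Quotient.mk (K ^ 2) (j x) - Ideal.Quotient.mk (K ^ 2) (ρ (σ x)) ∈ _
      rw [← map_sub]
      exact Ideal.mem_map_of_mem _ (hj x)) w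
  refine ⟨n, Ideal.Quotient.eq_zero_iff_mem.mp ?_⟩
  rw [map_mul, map_pow, map_sub]
  exact hn

theorem etaleLift_of_cyclicIdem (hjac : I ≤ Ideal.jacobson ⊥) (h : CyclicIdem A I) :
    EtaleLift A I := by
  intro A' _ _ _ σ
  classical
  have : Algebra.QuasiFinite A A' := inferInstance
  -- Zariski's main theorem near the section
  have hloc : ∀ Q : PrimeSpectrum A', ∃ (s : Finset A') (r : A'), (∀ z ∈ s, IsIntegral A z) ∧
      r ∈ Algebra.adjoin A (s : Set A') ∧ r ∉ Q.asIdeal ∧
      ∀ x, ∃ n : ℕ, r ^ n * x ∈ Algebra.adjoin A (s : Set A') := by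
    intro Q
    obtain ⟨S', hS', r, hr, hbij⟩ :=
      Algebra.QuasiFiniteAt.exists_fg_and_exists_notMem_and_awayMap_bijective (R := A) Q.asIdeal
    have hfin : Module.Finite A S' := ⟨(Submodule.fg_top _).mpr hS'⟩
    obtain ⟨s, hs⟩ := S'.fg_of_fg_toSubmodule hS'
    refine ⟨s, r.1, fun z hz => ?_, hs.symm ▸ r.2, hr, fun x => ?_⟩
    · exact (Algebra.IsIntegral.isIntegral (R := A)
        (⟨z, hs ▸ Algebra.subset_adjoin hz⟩ : S')).map S'.val
    · obtain ⟨w, hw⟩ := hbij.2 (algebraMap A' (Localization.Away r.1) x)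
      obtain ⟨⟨a, ⟨_, k, rfl⟩⟩, ha⟩ := IsLocalization.surj (Submonoid.powers r) w
      have h1 := congrArg (Localization.awayMap S'.val.toRingHom r) ha
      rw [map_mul, hw, Localization.awayMap, IsLocalization.Away.map, IsLocalization.map_eq,
        IsLocalization.map_eq] at h1
      simp only [AlgHom.toRingHom_eq_coe, RingHom.coe_coe, Subalgebra.coe_val,
        SubmonoidClass.coe_pow, ← map_mul] at h1
      replace h1 : algebraMap A' (Localization.Away r.1) (x * r.1 ^ k) =
          algebraMap A' (Localization.Away r.1) a.1 := (map_mul _ _ _).trans h1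
      obtain ⟨⟨_, j, rfl⟩, hj⟩ := (IsLocalization.eq_iff_exists (Submonoid.powers r.1) _).mp h1
      refine ⟨j + k, ?_⟩
      rw [hs, show r.1 ^ (j + k) * x = r.1 ^ j * (x * r.1 ^ k) by ring, hj]
      exact S'.mul_mem (S'.pow_mem r.2 j) a.2
  choose s r hsint hrs hrQ hx using hloc
  -- finitely many suffice
  let Z : Set (PrimeSpectrum A') := PrimeSpectrum.comap σ.toRingHom '' Set.univ
  obtain ⟨t, ht⟩ := (isCompact_univ.image (PrimeSpectrum.continuous_comap σ.toRingHom)).elim_finite_subcover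
    (fun Q => (PrimeSpectrum.basicOpen (r Q) : Set (PrimeSpectrum A')))
    (fun Q => (PrimeSpectrum.basicOpen (r Q)).isOpen)
    (fun Q _ => Set.mem_iUnion.mpr ⟨Q, hrQ Q⟩)
  let S' := Algebra.adjoin A ((t.biUnion s : Finset A') : Set A')
  have hfin : Module.Finite A S' := ⟨(Submodule.fg_top _).mpr
    (fg_adjoin_of_finite (Finset.finite_toSet _) fun z hz => by
      obtain ⟨Q, -, hQ⟩ := Finset.mem_biUnion.mp hz
      exact hsint Q z hQ)⟩
  have hle : ∀ Q ∈ t, Algebra.adjoin A (s Q : Set A') ≤ S' := fun Q hQ =>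
    Algebra.adjoin_mono fun z hz => Finset.mem_biUnion.mpr ⟨Q, hQ, hz⟩
  let σ' : S' →ₐ[A] A ⧸ I := σ.comp S'.val
  let J := I.map (algebraMap A S')
  let σb : (S' ⧸ J) →ₐ[A] A ⧸ I := Ideal.Quotient.liftₐ J σ' fun a ha => by
    have : J ≤ RingHom.ker σ' := Ideal.map_le_iff_le_comap.mpr fun i hi => by
      show σ' (algebraMap A S' i) = 0
      rw [σ'.commutes]; exact Ideal.Quotient.eq_zero_iff_mem.mpr hi
    exact this ha
  let ρ : (A ⧸ I) →ₐ[A] S' ⧸ J := Ideal.Quotient.liftₐ I (Algebra.ofId A _) fun i hi =>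
    Ideal.Quotient.eq_zero_iff_mem.mpr (Ideal.mem_map_of_mem _ hi)
  have hσρ : ∀ z, σb (ρ z) = z := fun z => by
    obtain ⟨a, rfl⟩ := Ideal.Quotient.mk_surjective z; exact σb.commutes a
  let K := RingHom.ker σb
  have hKfg : K.FG := by
    let f : (S' ⧸ J) →ₗ[A] S' ⧸ J := LinearMap.id - ρ.toLinearMap.comp σb.toLinearMap
    refine Submodule.FG.of_restrictScalars A ?_
    rw [show K.restrictScalars A = LinearMap.range f from ?_]
    · exact Module.Finite.fg_top.map f |> fun h => by rwa [Submodule.map_top] at h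
    ext z
    refine ⟨fun hz => ⟨z, ?_⟩, ?_⟩
    · simp [f, show σb z = 0 from hz]
    · rintro ⟨w, rfl⟩
      show σb _ = 0
      simp [f, hσρ]
  -- `K` is idempotent
  have hKsq : K ≤ K * K := by
    intro z hz
    let 𝔞 : Ideal (S' ⧸ J) := Submodule.comap (LinearMap.mulRight (S' ⧸ J) z) (K * K)
    have h1 : 𝔞 = ⊤ := by
      by_contra hne
      obtain ⟨M, hM, hle'⟩ := Ideal.exists_le_maximal _ hne
      have hKM : K ≤ M := le_trans (fun w hw => (show w * z ∈ K * K from Ideal.mul_mem_mul hw hz : w ∈ 𝔞)) hle'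
      let P : PrimeSpectrum (A ⧸ I) := ⟨M.comap ρ, Ideal.IsPrime.comap ρ⟩
      have hMP : ∀ w, w ∈ M ↔ σb w ∈ P.asIdeal := fun w => by
        have hw : w - ρ (σb w) ∈ M := hKM (show σb _ = 0 by rw [map_sub, hσρ, sub_self])
        have h0 := M.add_mem_iff_right (b := ρ (σb w)) hw
        rw [sub_add_cancel] at h0
        exact h0
      obtain ⟨Q, hQt, hQr⟩ : ∃ Q ∈ t, σ (r Q) ∉ P.asIdeal := by
        simpa using ht ⟨P, trivial, rfl⟩
      let r' : S' := ⟨r Q, hle Q hQt (hrs Q)⟩
      let rb : S' ⧸ J := Ideal.Quotient.mk J r'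
      have hrM : rb ∉ M := fun hmem => hQr ((hMP rb).mp hmem)
      obtain ⟨w, hw⟩ := Ideal.Quotient.mk_surjective z
      have hr : ∀ x : A', ∃ n : ℕ, (r' : A') ^ n * x ∈ S' := fun x => by
        obtain ⟨n, hn⟩ := hx Q x; exact ⟨n, hle Q hQt hn⟩
      have hj : ∀ x : S', Ideal.Quotient.mkₐ A J x - ρ (σ x) ∈ K := fun x =>
        (show σb (Ideal.Quotient.mk J x - ρ (σb (Ideal.Quotient.mk J x))) = 0 by
          rw [map_sub, hσρ, sub_self])
      obtain ⟨n, hn⟩ := exists_pow_mul_mem_sq S' r' hr σ ρ (Ideal.Quotient.mkₐ A J) K hj w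
      have h6 : σ (w : A') = 0 := (show σb (Ideal.Quotient.mk J w) = 0 by rw [hw]; exact hz)
      rw [h6, map_zero, sub_zero, sq, Ideal.Quotient.mkₐ_eq_mk, hw] at hn
      exact hrM (hM.isPrime.mem_of_pow_mem n (hle' (show rb ^ n ∈ 𝔞 from hn)))
    have h2 : (1 : S' ⧸ J) ∈ 𝔞 := h1 ▸ Submodule.mem_top
    simpa [𝔞] using h2
  obtain ⟨ε, hε, hKε⟩ := (Ideal.isIdempotentElem_iff_of_fg K hKfg).mp
    (le_antisymm Ideal.mul_le_left hKsq)
  obtain ⟨b, hb⟩ := Ideal.Quotient.mk_surjective (1 - ε)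
  have hεK : ∀ w, σb w = 0 → (1 - ε) * w = 0 := fun w hw => by
    have : w ∈ Ideal.span {ε} := hKε.le (show w ∈ K from hw)
    obtain ⟨c, rfl⟩ := Ideal.mem_span_singleton'.mp this
    linear_combination (-c) * hε.eq
  obtain ⟨e, he, heb⟩ := h S' hfin b (by
      rw [← Ideal.Quotient.eq_zero_iff_mem, map_sub, map_pow, hb]
      linear_combination hε.eq) (fun y => by
      obtain ⟨a, ha⟩ := Ideal.Quotient.mk_surjective (σb (Ideal.Quotient.mk J y))
      refine ⟨a, ?_⟩
      have h2 := hεK (Ideal.Quotient.mk J y - ρ (σb (Ideal.Quotient.mk J y)))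
        (by rw [map_sub, hσρ, sub_self])
      rw [← Ideal.Quotient.eq_zero_iff_mem, map_sub, map_mul, hb, Algebra.smul_def, map_mul, hb]
      rw [← ha, show ρ (Ideal.Quotient.mk I a) = algebraMap A (S' ⧸ J) a from rfl] at h2
      show _ - algebraMap A (S' ⧸ J) a * _ = 0
      linear_combination h2)
  have hσe : σ (e : A') = 1 := by
    have h2 : Ideal.Quotient.mk J e = 1 - ε := by rw [← hb]; exact Ideal.Quotient.eq.mpr heb
    show σb (Ideal.Quotient.mk J e) = 1
    rw [h2, map_sub, map_one, show σb ε = 0 from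
      (show ε ∈ K from hKε.ge (Ideal.subset_span rfl)), sub_zero]
  -- the piece cut out by `e`
  let N : Ideal S' := Ideal.span {1 - e}
  let C := S' ⧸ N
  have hgen : ∀ M : Ideal C, M.IsMaximal → ∃ Q ∈ t, ∀ (hQ : r Q ∈ S'),
      Ideal.Quotient.mk N ⟨r Q, hQ⟩ ∉ M := by
    intro M hM
    have hJM : I.map (algebraMap A C) ≤ M := fun w hw =>
      Hensel.Idem.mem_of_mem_jacobson (Hensel.Idem.map_le_jacobson hjac hw) M
    let M' := M.comap (Ideal.Quotient.mk N)
    have hJM' : J ≤ M' := Ideal.map_le_iff_le_comap.mpr fun i hi => hJM (Ideal.mem_map_of_mem _ hi)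
    let Mb := M'.map (Ideal.Quotient.mk J)
    have hMb : Mb.comap (Ideal.Quotient.mk J) = M' := by
      rw [Ideal.comap_map_of_surjective _ Ideal.Quotient.mk_surjective, ← RingHom.ker_eq_comap_bot,
        Ideal.mk_ker, sup_eq_left.mpr hJM']
    have : Mb.IsPrime := Ideal.map_isPrime_of_surjective Ideal.Quotient.mk_surjective
      (by rw [Ideal.mk_ker]; exact hJM')
    have hKM : K ≤ Mb := by
      rw [hKε, Submodule.span_singleton_le_iff_mem]
      have h2 : Ideal.Quotient.mk J (1 - e) = ε := by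
        rw [map_sub, map_one, Ideal.Quotient.eq.mpr heb, hb, sub_sub_cancel]
      rw [← h2]
      refine Ideal.mem_map_of_mem _ ?_
      show Ideal.Quotient.mk N (1 - e) ∈ M
      rw [Ideal.Quotient.eq_zero_iff_mem.mpr (Ideal.mem_span_singleton_self _)]
      exact zero_mem _
    obtain ⟨Q, hQt, hQr⟩ : ∃ Q ∈ t, σ (r Q) ∉ Mb.comap ρ := by
      simpa using ht ⟨⟨Mb.comap ρ, Ideal.IsPrime.comap ρ⟩, trivial, rfl⟩
    refine ⟨Q, hQt, fun hQ hmem => hQr ?_⟩
    have h3 : Ideal.Quotient.mk J ⟨r Q, hQ⟩ ∈ Mb := by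
      rw [← Ideal.mem_comap, hMb]; exact hmem
    show ρ (σb (Ideal.Quotient.mk J ⟨r Q, hQ⟩)) ∈ Mb
    have h4 : Ideal.Quotient.mk J ⟨r Q, hQ⟩ - ρ (σb (Ideal.Quotient.mk J ⟨r Q, hQ⟩)) ∈ Mb :=
      hKM (show σb _ = 0 by rw [map_sub, hσρ, sub_self])
    simpa using sub_mem h3 h4
  have hcomb : ∀ n : PrimeSpectrum A' → ℕ, ∃ c : PrimeSpectrum A' → S', ∀ (hQ : ∀ Q ∈ t, r Q ∈ S'),
      1 - ∑ Q : t, c Q * ⟨r Q, hQ Q Q.2⟩ ^ n Q ∈ N := by
    intro n
    let rr : t → C := fun Q => Ideal.Quotient.mk N ⟨r Q, hle Q Q.2 (hrs Q)⟩ ^ n Q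
    have htop : Ideal.span (Set.range rr) = ⊤ := by
      by_contra hne
      obtain ⟨M, hM, hle'⟩ := Ideal.exists_le_maximal _ hne
      obtain ⟨Q, hQt, hQr⟩ := hgen M hM
      exact hQr (hle Q hQt (hrs Q)) (hM.isPrime.mem_of_pow_mem _ (hle' (Ideal.subset_span ⟨⟨Q, hQt⟩, rfl⟩)))
    have h1 : (1 : C) ∈ Submodule.span C (Set.range rr) := by
      show (1 : C) ∈ Ideal.span (Set.range rr)
      rw [htop]; exact Submodule.mem_top
    rw [Submodule.mem_span_range_iff_exists_fun] at h1
    obtain ⟨c, hc⟩ := h1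
    choose c' hc' using fun Q => Ideal.Quotient.mk_surjective (c Q)
    refine ⟨fun Q => if hQ : Q ∈ t then c' ⟨Q, hQ⟩ else 0, fun hQ => ?_⟩
    rw [← Ideal.Quotient.eq_zero_iff_mem, map_sub, map_one, map_sum, sub_eq_zero, ← hc]
    refine Finset.sum_congr rfl fun Q _ => ?_
    simp only [Q.2, ↓reduceDIte, map_mul, hc', rr, smul_eq_mul, ← map_pow]
  let N' : Ideal A' := Ideal.span {1 - (e : A')}
  let C' := A' ⧸ N'
  let ι : C →ₐ[A] C' := Ideal.Quotient.liftₐ N ((Ideal.Quotient.mkₐ A N').comp S'.val) fun w hw => by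
    obtain ⟨c, rfl⟩ := Ideal.mem_span_singleton'.mp hw
    exact Ideal.Quotient.eq_zero_iff_mem.mpr (Ideal.mem_span_singleton'.mpr ⟨(c : A'), rfl⟩)
  have hι : Function.Surjective ι := by
    intro w
    obtain ⟨w, rfl⟩ := Ideal.Quotient.mk_surjective w
    choose n hn using fun Q => hx Q w
    obtain ⟨c, hc⟩ := hcomb n
    have hQ : ∀ Q ∈ t, r Q ∈ S' := fun Q hQ => hle Q hQ (hrs Q)
    obtain ⟨d, hd⟩ := Ideal.mem_span_singleton'.mp (hc hQ)
    refine ⟨Ideal.Quotient.mk N (∑ Q : t, c Q * ⟨_, hle Q Q.2 (hn Q)⟩), ?_⟩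
    show Ideal.Quotient.mk N' ((∑ Q : t, c Q * ⟨_, hle Q Q.2 (hn Q)⟩ : S') : A') = _
    rw [Ideal.Quotient.eq]
    refine Ideal.mem_span_singleton'.mpr ⟨-((d : A') * w), ?_⟩
    have h2 := congrArg (fun z : S' => (z : A')) hd
    simp only [MulMemClass.coe_mul, AddSubgroupClass.coe_sub, OneMemClass.coe_one,
      AddSubmonoidClass.coe_finsetSum, SubmonoidClass.coe_pow] at h2 ⊢
    rw [show (∑ Q : t, (c Q : A') * (r Q ^ n Q * w)) = (∑ Q : t, (c Q : A') * r Q ^ n Q) * w by
      rw [Finset.sum_mul]; exact Finset.sum_congr rfl fun Q _ => by ring]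
    linear_combination (-w) * h2
  have : IsLocalization.Away (e : A') C' := by
    refine IsLocalization.away_of_isIdempotentElem ?_ (Ideal.mk_ker) Ideal.Quotient.mk_surjective
    show (e : A') * e = e
    exact congrArg Subtype.val he.eq
  have : Algebra.Etale A' C' := Algebra.Etale.of_isLocalizationAway (e : A')
  have : Algebra.Etale A C' := Algebra.Etale.comp A A' C'
  -- `A → C'` is surjective
  have hAC : Function.Surjective (algebraMap A C) := by
    have hle2 : (⊤ : Submodule A C) ≤ LinearMap.range (Algebra.linearMap A C) := by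
      refine Submodule.le_of_le_smul_of_le_jacobson_bot Module.Finite.fg_top hjac fun w _ => ?_
      obtain ⟨w, rfl⟩ := Ideal.Quotient.mk_surjective w
      obtain ⟨a, ha⟩ := Ideal.Quotient.mk_surjective (σb (Ideal.Quotient.mk J w))
      have h2 := hεK (Ideal.Quotient.mk J w - ρ (σb (Ideal.Quotient.mk J w)))
        (by rw [map_sub, hσρ, sub_self])
      rw [← hb, ← Ideal.Quotient.eq.mpr heb, ← ha,
        show ρ (Ideal.Quotient.mk I a) = Ideal.Quotient.mk J (algebraMap A S' a) from rfl,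
        ← map_sub, ← map_mul, Ideal.Quotient.eq_zero_iff_mem] at h2
      have he1 : Ideal.Quotient.mk N e = 1 := by
        rw [← map_one (Ideal.Quotient.mk N), eq_comm, Ideal.Quotient.eq]
        exact Ideal.mem_span_singleton_self _
      rw [show Ideal.Quotient.mk N w = algebraMap A C a +
          Ideal.Quotient.mk N (e * (w - algebraMap A S' a)) by
        rw [map_mul, he1, one_mul, map_sub]; exact (add_sub_cancel _ _).symm]
      refine Submodule.add_mem_sup ⟨a, rfl⟩ ?_
      rw [Ideal.smul_top_eq_map, Submodule.restrictScalars_mem]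
      have h3 := Ideal.mem_map_of_mem (Ideal.Quotient.mk N) h2
      rwa [Ideal.map_map, ← Ideal.Quotient.algebraMap_eq, ← IsScalarTower.algebraMap_eq] at h3
    exact fun w => hle2 Submodule.mem_top
  have hAC' : Function.Surjective (algebraMap A C') := fun w => by
    obtain ⟨v, rfl⟩ := hι w
    obtain ⟨a, rfl⟩ := hAC v
    exact ⟨a, (ι.commutes a).symm⟩
  let σC : C' →ₐ[A] A ⧸ I := Ideal.Quotient.liftₐ N' σ fun w hw => by
    obtain ⟨c, rfl⟩ := Ideal.mem_span_singleton'.mp hw
    rw [map_mul, map_sub, map_one, hσe, sub_self, mul_zero]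
  have hker : RingHom.ker (algebraMap A C') ≤ Ideal.jacobson ⊥ := fun a ha => hjac (by
    rw [← Ideal.Quotient.eq_zero_iff_mem]
    have := σC.commutes a
    rw [RingHom.mem_ker.mp ha, map_zero] at this
    exact this.symm)
  let eC := AlgEquiv.ofBijective (Algebra.ofId A C') (Unique.bijective_of_surjective hAC' hker)
  refine ⟨eC.symm.toAlgHom.comp (Ideal.Quotient.mkₐ A N'), AlgHom.ext fun w => ?_⟩
  show Ideal.Quotient.mk I (eC.symm (Ideal.Quotient.mk N' w)) = σC (Ideal.Quotient.mk N' w)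
  obtain ⟨a, ha⟩ := eC.surjective (Ideal.Quotient.mk N' w)
  rw [← ha, eC.symm_apply_apply]
  exact (σC.commutes a).symm

end Groth.Agent.HensPair.Criteria
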