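import Groth.Agent.HensPair.Henselization
import Groth.Agent.HensPair.Basic
import Mathlib.Algebra.Polynomial.Lifts
import Mathlib.RingTheory.Idempotents

/-! Descending finitely many equations from the henselization of a pair to an etale neighbourhood. -/

set_option autoImplicit false

universe u

namespace Groth.Agent.HensPair.Descend

open Groth.Agent.HensPair.Construction Polynomial

variable {A : Type u} [CommRing A] {I : Ideal A}

theorem nbhd_self : Nbhd.IsNbhd I A := by
  refine ⟨inferInstance, ⟨Ideal.Quotient.mkₐ A I⟩, fun x => ⟨x, ?_⟩⟩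
  simp

theorem hom_eq_quot {A' : Type u} [CommRing A'] [Algebra A A'] (h : Nbhd.IsNbhd I A')
    (τ₁ τ₂ : A' →ₐ[A] A ⧸ I) (x : A') : τ₁ x = τ₂ x := by
  have := h.sub_mem τ₁ τ₂ x
  rwa [Ideal.Quotient.algebraMap_eq, Ideal.map_quotient_self, Ideal.mem_bot, sub_eq_zero] at this

theorem bijective_algebraMap {A' : Type u} [CommRing A'] [Algebra A A'] (h : Nbhd.IsNbhd I A') :
    Function.Bijective (algebraMap (A ⧸ I) (A' ⧸ I.map (algebraMap A A'))) := by
  have hf : ⇑(algebraMap (A ⧸ I) (A' ⧸ I.map (algebraMap A A'))) =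
      ⇑(Ideal.quotientMap (I.map (algebraMap A A')) (algebraMap A A') Ideal.le_comap_map) :=
    funext fun z => by
      obtain ⟨a, rfl⟩ := Ideal.Quotient.mk_surjective z
      rfl
  rw [hf]; exact h.bijective

theorem mk_eq_of_value {A' : Type u} [CommRing A'] [Algebra A A'] (h : Nbhd.IsNbhd I A')
    (σ : A' →ₐ[A] A ⧸ I) {x : A'} {a : A} (hx : σ x = Ideal.Quotient.mk I a) :
    x - algebraMap A A' a ∈ I.map (algebraMap A A') := by
  obtain ⟨a', ha'⟩ := h.approx x
  have h1 := Henselization.section_eq_zero σ ha'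
  rw [map_sub, hx, AlgHom.commutes, Ideal.Quotient.algebraMap_eq, ← map_sub,
    Ideal.Quotient.eq_zero_iff_mem] at h1
  have := sub_mem ha' (Ideal.mem_map_of_mem (algebraMap A A') h1)
  convert this using 1
  rw [map_sub]; ring

theorem mk_eq_algebraMap {A' : Type u} [CommRing A'] [Algebra A A'] (h : Nbhd.IsNbhd I A')
    (σ : A' →ₐ[A] A ⧸ I) (x : A') :
    Ideal.Quotient.mk (I.map (algebraMap A A')) x =
      algebraMap (A ⧸ I) (A' ⧸ I.map (algebraMap A A')) (σ x) := by
  obtain ⟨a, ha⟩ := Ideal.Quotient.mk_surjective (σ x)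
  rw [← ha]
  exact Ideal.Quotient.eq.mpr (mk_eq_of_value h σ ha.symm)

/-- finitely many equations among elements of the henselization hold in a neighbourhood -/
theorem exists_descend {ι κ : Type*} [Finite ι] [Finite κ] (x : ι → Hull I)
    (P : κ → MvPolynomial ι A) (hP : ∀ k, MvPolynomial.aeval x (P k) = 0)
    (π : Hull I →ₐ[A] A ⧸ I) :
    ∃ (A' : Type u) (_ : CommRing A') (_ : Algebra A A') (_ : Nbhd.IsNbhd I A') (r : ι → A')
      (σ : A' →ₐ[A] A ⧸ I), (∀ k, MvPolynomial.aeval r (P k) = 0) ∧ ∀ i, σ (r i) = π (x i) := by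
  obtain ⟨i, φ, h⟩ := exists_rep x
  choose r hr using h
  have hs : ∀ k, φ (MvPolynomial.aeval r (P k)) = 0 := fun k => by
    rw [← AlgHom.comp_apply, MvPolynomial.comp_aeval]
    simpa [hr] using hP k
  obtain ⟨A', _, _, hA', ψ, hψ⟩ := exists_kill _ i.2 φ _ hs
  obtain ⟨σ⟩ := hA'.section_exists
  refine ⟨A', inferInstance, inferInstance, hA', fun j => ψ (r j), σ, fun k => ?_, fun j => ?_⟩
  · rw [← MvPolynomial.comp_aeval]; exact hψ k
  · rw [← hr j]
    exact hom_eq_quot i.2 (σ.comp ψ) (π.comp φ) (r j)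

theorem proj_eq {π : Hull I →ₐ[A] A ⧸ I} {x : Hull I} {a : A}
    (h : x - algebraMap A (Hull I) a ∈ I.map (algebraMap A (Hull I))) :
    π x = Ideal.Quotient.mk I a := by
  have := Henselization.section_eq_zero π h
  rwa [map_sub, AlgHom.commutes, sub_eq_zero] at this

theorem eq_zero_of_idem {R : Type*} [CommRing R] {x : R} (hx : IsIdempotentElem x)
    (hj : x ∈ Ideal.jacobson (⊥ : Ideal R)) : x = 0 := by
  have hu : IsUnit (1 - x) := by
    simpa [sub_eq_add_neg, add_comm] using Ideal.mem_jacobson_bot.mp hj (-1)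
  refine hu.mul_left_eq_zero.mp ?_
  rw [mul_sub, mul_one, hx.eq, sub_self]

/-- the polynomial `X^d + Σ cᵢ Xⁱ` -/
noncomputable def monicPoly {R : Type*} [CommRing R] (d : ℕ) (c : Fin d → R) : R[X] :=
  X ^ d + ∑ i : Fin d, C (c i) * X ^ (i : ℕ)

theorem monic_monicPoly {R : Type*} [CommRing R] (d : ℕ) (c : Fin d → R) : (monicPoly d c).Monic :=
  monic_X_pow_add (degree_sum_fin_lt c)

theorem map_monicPoly {R S : Type*} [CommRing R] [CommRing S] (f : R →+* S) (d : ℕ) (c : Fin d → R) :
    (monicPoly d c).map f = monicPoly d fun i => f (c i) := by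
  simp [monicPoly, Polynomial.map_sum]

theorem eq_monicPoly {R : Type*} [CommRing R] {p : R[X]} (hp : p.Monic) {d : ℕ} (hd : p.natDegree = d) :
    p = monicPoly d fun i => p.coeff i := by
  subst hd
  conv_lhs => rw [hp.as_sum]
  rw [monicPoly, Fin.sum_univ_eq_sum_range (fun i => C (p.coeff i) * X ^ i) p.natDegree]

/-- coprime monic factorisations modulo `I` lift to a neighbourhood -/
theorem exists_factor (f : A[X]) (hf : f.Monic) (g h : (A ⧸ I)[X]) (hg : g.Monic) (hh : h.Monic)
    (hcop : IsCoprime g h) (hfgh : f.map (Ideal.Quotient.mk I) = g * h) :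
    ∃ (A' : Type u) (_ : CommRing A') (_ : Algebra A A') (_ : Nbhd.IsNbhd I A') (g' h' : A'[X]),
      g'.Monic ∧ h'.Monic ∧ f.map (algebraMap A A') = g' * h' ∧
        g'.map (Ideal.Quotient.mk (I.map (algebraMap A A'))) =
          g.map (algebraMap (A ⧸ I) (A' ⧸ I.map (algebraMap A A'))) ∧
        h'.map (Ideal.Quotient.mk (I.map (algebraMap A A'))) =
          h.map (algebraMap (A ⧸ I) (A' ⧸ I.map (algebraMap A A'))) := by
  classical
  obtain ⟨π⟩ := Henselization.exists_proj (I := I)
  let J := I.map (algebraMap A (Hull I))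
  let q : A ⧸ I →+* Hull I ⧸ J := Ideal.quotientMap J (algebraMap A (Hull I)) Ideal.le_comap_map
  let πb : Hull I ⧸ J →+* A ⧸ I :=
    Ideal.Quotient.lift J π.toRingHom fun x hx => Henselization.section_eq_zero π hx
  have hπq : πb.comp q = RingHom.id _ := Ideal.Quotient.ringHom_ext (RingHom.ext fun a => π.commutes a)
  have hq : (Ideal.Quotient.mk J).comp (algebraMap A (Hull I)) = q.comp (Ideal.Quotient.mk I) :=
    RingHom.ext fun a => rfl
  obtain ⟨G, H, hG, hH, hGH, hG0, hH0⟩ := (Basic.factor (A := Hull I) (I := J))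
    (f.map (algebraMap A (Hull I))) (hf.map _) (g.map q) (h.map q) (hg.map _) (hh.map _)
    (hcop.map (Polynomial.mapRingHom q))
    (by rw [Polynomial.map_map, hq, ← Polynomial.map_map, hfgh, Polynomial.map_mul])
  have hπG : ∀ (G : (Hull I)[X]) (g : (A ⧸ I)[X]), G.map (Ideal.Quotient.mk J) = g.map q →
      G.map π.toRingHom = g := fun G g e => by
    have := congrArg (Polynomial.map πb) e
    rwa [Polynomial.map_map, Polynomial.map_map, hπq, Polynomial.map_id] at this
  let ι := Fin G.natDegree ⊕ Fin H.natDegree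
  let x : ι → Hull I := Sum.elim (fun i => G.coeff i) fun i => H.coeff i
  let U : (MvPolynomial ι A)[X] := monicPoly G.natDegree (fun i => MvPolynomial.X (.inl i)) *
    monicPoly H.natDegree (fun i => MvPolynomial.X (.inr i)) - f.map MvPolynomial.C
  have hU : ∀ (S : Type u) [CommRing S] [Algebra A S] (r : ι → S),
      U.map (MvPolynomial.aeval r).toRingHom = monicPoly G.natDegree (fun i => r (.inl i)) *
        monicPoly H.natDegree (fun i => r (.inr i)) - f.map (algebraMap A S) := fun S _ _ r => by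
    simp only [U, Polynomial.map_sub, Polynomial.map_mul, map_monicPoly, Polynomial.map_map]
    congr 1
    · simp
    · congr 1; ext a; simp
  have hxP : ∀ k : Fin (U.natDegree + 1), MvPolynomial.aeval x (U.coeff k) = 0 := fun k => by
    have := congrArg (fun p => p.coeff (k : ℕ)) (hU (Hull I) x)
    simp only [Polynomial.coeff_map, AlgHom.toRingHom_eq_coe, AlgHom.coe_toRingHom] at this
    rw [this]
    simp only [x, Sum.elim_inl, Sum.elim_inr, ← eq_monicPoly hG rfl, ← eq_monicPoly hH rfl, ← hGH,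
      sub_self, coeff_zero]
  obtain ⟨A', _, _, hA', r, σ, hr, hσ⟩ := exists_descend x (fun k : Fin (U.natDegree + 1) => U.coeff k) hxP π
  refine ⟨A', inferInstance, inferInstance, hA', monicPoly G.natDegree (fun i => r (.inl i)),
    monicPoly H.natDegree (fun i => r (.inr i)), monic_monicPoly _ _, monic_monicPoly _ _, ?_, ?_, ?_⟩
  · rw [eq_comm, ← sub_eq_zero, ← hU]
    ext k
    rw [Polynomial.coeff_map, coeff_zero]
    rcases Nat.lt_or_ge k (U.natDegree + 1) with hk | hk
    · exact hr ⟨k, hk⟩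
    · rw [coeff_eq_zero_of_natDegree_lt (Nat.lt_of_succ_le hk), map_zero]
  · rw [← hπG G g hG0]
    conv_rhs => rw [eq_monicPoly hG rfl]
    simp only [map_monicPoly, mk_eq_algebraMap hA' σ, hσ, x, Sum.elim_inl]
    rfl
  · rw [← hπG H h hH0]
    conv_rhs => rw [eq_monicPoly hH rfl]
    simp only [map_monicPoly, mk_eq_algebraMap hA' σ, hσ, x, Sum.elim_inr]
    rfl

/-- complete orthogonal idempotents lift to a neighbourhood -/
theorem exists_idempotents {n : ℕ} (e : Fin n → A ⧸ I) (he : CompleteOrthogonalIdempotents e) :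
    ∃ (A' : Type u) (_ : CommRing A') (_ : Algebra A A') (_ : Nbhd.IsNbhd I A') (e' : Fin n → A'),
      CompleteOrthogonalIdempotents e' ∧ ∀ j, Ideal.Quotient.mk (I.map (algebraMap A A')) (e' j) =
        algebraMap (A ⧸ I) (A' ⧸ I.map (algebraMap A A')) (e j) := by
  classical
  obtain ⟨π⟩ := Henselization.exists_proj (I := I)
  let J := I.map (algebraMap A (Hull I))
  choose a ha using fun j => Ideal.Quotient.mk_surjective (e j)
  have hmem : ∀ z : A, Ideal.Quotient.mk I z = 0 → algebraMap A (Hull I) z ∈ J := fun z hz =>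
    Ideal.mem_map_of_mem _ (Ideal.Quotient.eq_zero_iff_mem.mp hz)
  have hb : ∀ j, (algebraMap A (Hull I) (a j)) ^ 2 - algebraMap A (Hull I) (a j) ∈
      J.map (algebraMap (Hull I) (Hull I)) := fun j => by
    rw [Algebra.algebraMap_self, Ideal.map_id, ← map_pow, ← map_sub]
    refine hmem _ ?_
    rw [map_sub, map_pow, ha, pow_two, (he.idem j).eq, sub_self]
  choose E hE hEJ using fun j => Basic.idemFinite (A := Hull I) (I := J) (Hull I) inferInstance _ (hb j)
  simp only [Algebra.algebraMap_self, Ideal.map_id] at hEJ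
  have hπE : ∀ j, π (E j) = e j := fun j => (proj_eq (hEJ j)).trans (ha j)
  have hzero : ∀ z : Hull I, IsIdempotentElem z → π z = 0 → z = 0 := fun z hz hπz =>
    eq_zero_of_idem hz (map_le_jacobson ((Henselization.mem_map_iff π z).mpr hπz))
  have horth : ∀ i j, i ≠ j → E i * E j = 0 := fun i j hij =>
    hzero _ ((hE i).mul (hE j)) (by rw [map_mul, hπE, hπE, he.ortho hij])
  have hO : OrthogonalIdempotents E := ⟨hE, fun i j hij => horth i j hij⟩
  have hsum : ∑ j, E j = 1 := by
    refine (sub_eq_zero.mp (hzero _ hO.isIdempotentElem_sum.one_sub ?_)).symm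
    rw [map_sub, map_one, map_sum, Finset.sum_congr rfl fun j _ => hπE j, he.complete, sub_self]
  let P : (Fin n × Fin n) ⊕ Unit → MvPolynomial (Fin n) A := Sum.elim
    (fun p => MvPolynomial.X p.1 * MvPolynomial.X p.2 - if p.1 = p.2 then MvPolynomial.X p.1 else 0)
    (fun _ => ∑ j, MvPolynomial.X j - 1)
  have hP : ∀ k, MvPolynomial.aeval E (P k) = 0 := by
    rintro (⟨i, j⟩ | _)
    · by_cases h : i = j
      · subst h; simp [P, (hE i).eq]
      · simp [P, h, horth i j h]
    · simp [P, hsum]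
  obtain ⟨A', _, _, hA', r, σ, hr, hσ⟩ := exists_descend E P hP π
  refine ⟨A', inferInstance, inferInstance, hA', r, ⟨⟨fun i => ?_, fun i j hij => ?_⟩, ?_⟩, fun j => ?_⟩
  · have := hr (.inl (i, i)); simp [P, sub_eq_zero] at this; exact this
  · have := hr (.inl (i, j)); simp [P, hij] at this; exact this
  · have := hr (.inr ()); simp [P, sub_eq_zero] at this; exact this
  · rw [mk_eq_algebraMap hA' σ, hσ, hπE]

end Groth.Agent.HensPair.Descend
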