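import Groth.Agent.HensPair.RelDim
import Groth.Agent.Equidim.FlatBaseChange

/-!
Invariance of the local dimension of fibres under base change.
-/

set_option autoImplicit false
set_option synthInstance.maxHeartbeats 200000

noncomputable section

open CategoryTheory AlgebraicGeometry TopologicalSpace Topology Limits

namespace Groth.Agent.HensPair.DimBC

universe u

set_option backward.isDefEq.respectTransparency false

open Equidim AffineParam

theorem dim_closure_le {U Y : Scheme.{u}} {d : ℕ} (q : U ⟶ Y) (g : U ⟶ 𝔸(ULift.{u} (Fin d); Y))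
    (hgq : g ≫ (𝔸(ULift.{u} (Fin d); Y) ↘ Y) = q) [LocallyQuasiFinite g] (t : Y) (c : q.fiber t) :
    topologicalKrullDim ↥(closure ({c} : Set (q.fiber t))) ≤ (d : ℕ) :=
  TopDim.Basic.dim_le fun σ => Nat.cast_le.mpr (length_le q g hgq t _ isClosed_closure c
    (fun z hz => specializes_iff_mem_closure.mpr hz) σ).1

theorem fibPrime_eq_gen_of_dim {U Y : Scheme.{u}} {d : ℕ} (q : U ⟶ Y) (g : U ⟶ 𝔸(ULift.{u} (Fin d); Y))
    (hgq : g ≫ (𝔸(ULift.{u} (Fin d); Y) ↘ Y) = q) [LocallyQuasiFinite g] (t : Y) (c : q.fiber t)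
    (hc : (d : WithBot ℕ∞) ≤ topologicalKrullDim ↥(closure ({c} : Set (q.fiber t)))) :
    fibPrime q g t c = gen t := by
  by_contra hne
  have h1 : ∀ σ : LTSeries (IrreducibleCloseds ↥(closure ({c} : Set (q.fiber t)))), σ.length + 1 ≤ d := fun σ =>
    (length_le q g hgq t _ isClosed_closure c (fun z hz => specializes_iff_mem_closure.mpr hz) σ).2 hne
  have h2 : topologicalKrullDim ↥(closure ({c} : Set (q.fiber t))) ≤ ((d - 1 : ℕ) : WithBot ℕ∞) :=
    TopDim.Basic.dim_le fun σ => Nat.cast_le.mpr (by have := h1 σ; omega)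
  have h3 : d ≤ d - 1 := by exact_mod_cast hc.trans h2
  haveI : Nonempty ↥(closure ({c} : Set (q.fiber t))) := ⟨⟨c, subset_closure rfl⟩⟩
  let T : IrreducibleCloseds ↥(closure ({c} : Set (q.fiber t))) :=
    ⟨closure {⟨c, subset_closure rfl⟩}, isIrreducible_singleton.closure, isClosed_closure⟩
  have := h1 (RelSeries.singleton _ T)
  simp at this
  omega

theorem fibreDimAt_baseChange {X S X' S' : Scheme.{u}} (f : X ⟶ S) [LocallyOfFiniteType f] (g : S' ⟶ S)
    (g' : X' ⟶ X) (f' : X' ⟶ S') (hsq : IsPullback g' f' f g) (x' : X') :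
    FlatMor.fibreDimAt f' x' = FlatMor.fibreDimAt f (g' x') := by
  obtain ⟨d, U, g₀, hxU, hgq, hqf, hd, hd'⟩ := CMFlat.Main.exists_param f (g' x')
  haveI := hqf
  haveI : LocallyOfFiniteType f' := MorphismProperty.of_isPullback hsq inferInstance
  rw [le_antisymm hd' hd]
  let U₁ := g' ⁻¹ᵁ U
  let u' : (U₁ : Scheme.{u}) := (⟨x', hxU⟩ : U₁)
  let q := U.ι ≫ f
  let q' := U₁.ι ≫ f'
  rw [show x' = U₁.ι u' from rfl, ← (CMFlat.Main.fibre_open U₁.ι f' u').2]
  let g₁ : (U₁ : Scheme.{u}) ⟶ 𝔸(ULift.{u} (Fin d); S') :=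
    AffineSpace.homOfVector q' fun i => (g' ∣_ U ≫ g₀).appTop (AffineSpace.coord S i)
  let π' := 𝔸(ULift.{u} (Fin d); S') ↘ S'
  have hg₁ : g₁ ≫ π' = q' := AffineSpace.homOfVector_over _ _
  have outer : IsPullback (g' ∣_ U) q' q g :=
    (isPullback_morphismRestrict g' U).paste_vert hsq
  have hcomm : (g' ∣_ U) ≫ g₀ = g₁ ≫ AffineSpace.map _ g := by
    refine AffineSpace.hom_ext ?_ fun i => ?_
    · rw [Category.assoc, hgq, Category.assoc, AffineSpace.map_over, ← Category.assoc g₁, hg₁]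
      exact outer.w
    · rw [Scheme.Hom.comp_appTop g₁, CommRingCat.comp_apply, AffineSpace.map_appTop_coord]
      exact (AffineSpace.homOfVector_appTop_coord q'
        (fun i => (g' ∣_ U ≫ g₀).appTop (AffineSpace.coord S i)) i).symm
  have sq : IsPullback (g' ∣_ U) g₁ g₀ (AffineSpace.map _ g) :=
    IsPullback.of_bot (v₂₁ := π') (v₂₂ := 𝔸(ULift.{u} (Fin d); S) ↘ S)
      (by rw [hg₁, hgq]; exact outer) hcomm (AffineSpace.isPullback_map g)
  haveI : LocallyQuasiFinite g₁ := MorphismProperty.of_isPullback sq hqf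
  let t' := q' u'
  let u : (U : Scheme.{u}) := (g' ∣_ U) u'
  let t := q u
  have ht : g t' = t := (congrArg (fun h : (U₁ : Scheme.{u}) ⟶ S => h u') outer.w).symm
  haveI : LocallyOfFiniteType (q'.fiberToSpecResidueField t') :=
    MorphismProperty.pullback_snd (P := @LocallyOfFiniteType) _ _ inferInstance
  refine le_antisymm ?_ ?_
  · obtain ⟨c, -, hmax, hdim⟩ := FibreTrdeg.exists_maximal_dim q' u'
    rw [← localDim_fiber_eq q' t' c _ rfl] at hdim
    exact hdim.trans ((AffineCrit.localDim_le_component q' t' c hmax).trans (dim_closure_le q' g₁ hg₁ t' c))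
  -- a component of full dimension downstairs
  have hux : U.ι u = g' x' := congrArg (fun h : (U₁ : Scheme.{u}) ⟶ X => h u') (morphismRestrict_ι g' U)
  obtain ⟨c, hcu, hmax, hdim⟩ := FibreTrdeg.exists_maximal_dim q u
  rw [(CMFlat.Main.fibre_open U.ι f u).2, hux, le_antisymm hd' hd, ← localDim_fiber_eq q t c _ rfl] at hdim
  have hc : fibPrime q g₀ t c = gen t :=
    fibPrime_eq_gen_of_dim q g₀ hgq t c (hdim.trans (AffineCrit.localDim_le_component q t c hmax))
  -- lift it
  have hqc : q (q.fiberι t c) = t := (q.range_fiberι t).subset ⟨c, rfl⟩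
  have sq2 : IsPullback (q'.fiberι t' ≫ (g' ∣_ U)) (q'.fiberToSpecResidueField t') q (S'.fromSpecResidueField t' ≫ g) :=
    (IsPullback.of_hasPullback q' (S'.fromSpecResidueField t')).paste_horiz outer
  have hu : (q'.fiberι t' ≫ (g' ∣_ U)) (q'.asFiber u') = u := congrArg (g' ∣_ U) (q'.fiberι_asFiber u')
  obtain ⟨v₀, hv₀, hvc⟩ := FlatBaseChange.exists_lift sq2.flip (q'.asFiber u') (q.fiberι t c)
    ((hcu.map (q.fiberι t).continuous).trans (specializes_of_eq ((q.fiberι_asFiber u).trans hu.symm)))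
    (by rw [hqc, hu])
  let v := q'.fiberι t' v₀
  have hv : v ⤳ u' := (hv₀.map (q'.fiberι t').continuous).trans (specializes_of_eq (q'.fiberι_asFiber u'))
  replace hvc : (g' ∣_ U) v = q.fiberι t c := hvc
  have hqvt : q' v = t' := (q'.range_fiberι t').subset ⟨v₀, rfl⟩
  -- generize to the generic point of affine space
  have hg₁v : π' (g₁ v) = q' v := congrArg (fun h : (U₁ : Scheme.{u}) ⟶ S' => h v) hg₁
  let z := pt (e := d) (q' v) (gen (q' v))
  have hzπ : π' z = q' v := by
    show (AffineSpace.map (ULift.{u} (Fin d)) (S'.fromSpecResidueField (q' v)) ≫ π') _ = _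
    rw [AffineSpace.map_over]
    exact (S'.range_fromSpecResidueField _).le ⟨_, rfl⟩
  have hz : z ⤳ g₁ v := by
    obtain ⟨M, hM⟩ := mem_range_pt (e := d) (q' v) (g₁ v) hg₁v
    rw [← hM]
    exact (gen_specializes _ M).map (pt_isEmbedding _).continuous
  have hqv : g (q' v) = t := by
    rw [← hqc, ← hvc]
    exact (congrArg (fun h : (U₁ : Scheme.{u}) ⟶ S => h v) outer.w).symm
  have hmapπ : ∀ a, (𝔸(ULift.{u} (Fin d); S) ↘ S) (AffineSpace.map (ULift.{u} (Fin d)) g a) = g (π' a) := fun a => by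
    show (AffineSpace.map (ULift.{u} (Fin d)) g ≫ (𝔸(ULift.{u} (Fin d); S) ↘ S)) a = (π' ≫ g) a
    rw [AffineSpace.map_over]
  have himg : AffineSpace.map (ULift.{u} (Fin d)) g (g₁ v) = pt t (gen t) := by
    rw [← hc, pt_fibPrime q g₀ hgq, ← hvc]
    exact (congrArg (fun h : (U₁ : Scheme.{u}) ⟶ 𝔸(ULift.{u} (Fin d); S) => h v) sq.w).symm
  have hψ : AffineSpace.map (ULift.{u} (Fin d)) g z = AffineSpace.map (ULift.{u} (Fin d)) g (g₁ v) := by
    obtain ⟨M, hM⟩ := mem_range_pt (e := d) t (AffineSpace.map _ g z) (by rw [hmapπ, hzπ, hqv])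
    have h1 := hz.map (AffineSpace.map (ULift.{u} (Fin d)) g).continuous
    rw [himg, ← hM] at h1 ⊢
    exact congrArg _ (((pt_isEmbedding t).isInducing.specializes_iff.mp h1).antisymm (gen_specializes t M)).eq
  obtain ⟨w, hw, hwz⟩ := FlatBaseChange.exists_lift sq v z hz hψ
  have hwu : w ⤳ u' := hw.trans hv
  have hqw : q' w = q' v := by
    rw [← hzπ, ← hwz]
    exact (congrArg (fun h : (U₁ : Scheme.{u}) ⟶ S' => h w) hg₁).symm
  obtain ⟨a, ha⟩ : w ∈ Set.range (q'.fiberι t') := by rw [q'.range_fiberι]; exact hqw.trans hqvt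
  have hgen : fibPrime q' g₁ t' a = gen t' := by
    apply (pt_isEmbedding t').injective
    rw [pt_fibPrime q' g₁ hg₁, ha, hwz, ← hqvt]
  refine (le_dim q' g₁ hg₁ t' a hgen).trans (AffineCrit.le_localDim q' t' _ isIrreducible_singleton.closure
    isClosed_closure (q'.asFiber u') ?_)
  refine specializes_iff_mem_closure.mp ((q'.fiberι t').isEmbedding.isInducing.specializes_iff.mp ?_)
  rw [ha, Scheme.Hom.fiberι_asFiber]
  exact hwu

theorem dim_component_eq {X Y : Scheme.{u}} (f : X ⟶ Y) [LocallyOfFiniteType f] (t : Y) (c : f.fiber t)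
    (hc : ∀ p, p ⤳ c → p = c) :
    topologicalKrullDim ↥(closure ({c} : Set (f.fiber t))) = FlatMor.fibreDimAt f (f.fiberι t c) := by
  rw [← localDim_fiber_eq f t c _ rfl]
  exact le_antisymm (AffineCrit.le_localDim f t _ isIrreducible_singleton.closure isClosed_closure c (subset_closure rfl))
    (AffineCrit.localDim_le_component f t c hc)

theorem fibreDimAt_of_components {X Y : Scheme.{u}} (f : X ⟶ Y) [LocallyOfFiniteType f] {d : WithBot ℕ∞} (x : X)
    (hd : ∀ T ∈ irreducibleComponents ↥(f.fiber (f x)), topologicalKrullDim T = d) : FlatMor.fibreDimAt f x = d := by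
  haveI : LocallyOfFiniteType (f.fiberToSpecResidueField (f x)) :=
    MorphismProperty.pullback_snd (P := @LocallyOfFiniteType) _ _ inferInstance
  refine le_antisymm ?_ ?_
  · obtain ⟨c, -, hmax, hdim⟩ := FibreTrdeg.exists_maximal_dim f x
    rw [← dim_component_eq f (f x) c hmax, hd _ (closure_mem_irreducibleComponents c hmax)] at hdim
    exact hdim
  · obtain ⟨c, hc, hmax⟩ := AffineCrit.exists_maximal_above (f.asFiber x)
    rw [← hd _ (closure_mem_irreducibleComponents c hmax)]
    exact AffineCrit.le_localDim f (f x) _ isIrreducible_singleton.closure isClosed_closure _ hc.mem_closure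

end Groth.Agent.HensPair.DimBC
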