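import Groth.Agent.HensPair.FibreTrdeg
import Groth.Agent.AlgSpTopo.ThickScheme
import Groth.Prelude.Def_CurvBase

/-!
Schemes locally of finite type over a field: local dimension and transcendence degree.
-/

set_option autoImplicit false

noncomputable section

open CategoryTheory AlgebraicGeometry TopologicalSpace Topology

namespace Groth.Agent.HensPair.FieldTrdeg

universe u

variable {X Y : Scheme.{u}} (f : X ⟶ Y) [Subsingleton Y]

def fibreHomeo (x : X) : ↥(f.fiber (f x)) ≃ₜ X :=
  (f.fiberι (f x)).isEmbedding.toHomeomorphOfSurjective fun z =>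
    (f.range_fiberι (f x)).ge (show f z = f x from Subsingleton.elim _ _)

theorem fibreHomeo_asFiber (x : X) : fibreHomeo f x (f.asFiber x) = x := f.fiberι_asFiber x

theorem coheight_asFiber (x : X) : Order.coheight (f.asFiber x) = Order.coheight x := by
  let e := fibreHomeo f x
  let o : ↥(f.fiber (f x)) ≃o X :=
    { e.toEquiv with map_rel_iff' := fun {a b} => e.isEmbedding.isInducing.specializes_iff }
  rw [← Order.coheight_orderIso o]
  exact congrArg _ (fibreHomeo_asFiber f x)

theorem fibreDimAt_eq_localDim (x : X) : FlatMor.fibreDimAt f x = FlatMor.localDim X x :=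
  (AlgSpTopo.ThickScheme.localDim_homeo (fibreHomeo f x) (f.asFiber x)).trans
    (congrArg _ (fibreHomeo_asFiber f x))

theorem main [LocallyOfFiniteType f] (x : X) : ∃ k : ℕ, Order.coheight x = (k : ℕ∞) ∧
    ringKrullDim (X.presheaf.stalk x) = (k : WithBot ℕ∞) ∧
    FlatMor.localDim X x = ((k + FibreTrdeg.T f x : ℕ) : WithBot ℕ∞) := by
  obtain ⟨k, hk, hd⟩ := FibreTrdeg.main f x
  rw [coheight_asFiber] at hk
  rw [fibreDimAt_eq_localDim] at hd
  exact ⟨k, hk, by rw [ringKrullDim_stalk_eq_coheight, hk]; rfl, hd⟩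

/-- the residue field of the spectrum of a field -/
theorem trdeg_eq (k : Type u) [Field k] {X : Scheme.{u}} (f : X ⟶ Spec (CommRingCat.of k))
    [LocallyOfFiniteType f] (x : X) (r : k →+* X.residueField x)
    (hr : r = (X.residue x).hom.comp ((X.presheaf.germ ⊤ x trivial).hom.comp (Coh.toGlobal f))) :
    letI := r.toAlgebra
    Algebra.trdeg k (X.residueField x) = (FibreTrdeg.T f x : Cardinal.{u}) := by
  letI := r.toAlgebra
  letI := (f.residueFieldMap x).hom.toAlgebra
  rw [← FibreTrdeg.T_spec f x]
  let S := Spec (CommRingCat.of k)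
  let e : k →+* S.residueField (f x) :=
    (S.evaluation ⊤ (f x) trivial).hom.comp (Scheme.ΓSpecIso (CommRingCat.of k)).inv.hom
  have htop := isAffineOpen_top S
  have hbij : Function.Bijective (Scheme.ΓSpecIso (CommRingCat.of k)).inv.hom :=
    (Scheme.ΓSpecIso (CommRingCat.of k)).symm.commRingCatIsoToRingEquiv.bijective
  refine AltitudeScheme.trdeg_congr e ⟨e.injective, fun z => ?_⟩ (RingHom.id _) Function.bijective_id
    (RingHom.injective _) fun a => ?_
  · obtain ⟨n, d, hd, h⟩ := TrdegScheme.evaluation_fraction htop (f x) trivial z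
    obtain ⟨n, rfl⟩ := hbij.2 n
    obtain ⟨d, rfl⟩ := hbij.2 d
    refine ⟨n / d, ?_⟩
    rw [map_div₀]
    exact (div_eq_iff hd).mpr h.symm
  · show r a = (f.residueFieldMap x).hom (e a)
    rw [hr]
    refine Eq.symm ((congr($(Scheme.residue_residueFieldMap f x).hom
      (S.presheaf.germ ⊤ (f x) trivial ((Scheme.ΓSpecIso (CommRingCat.of k)).inv.hom a)))).trans ?_)
    show (X.residue x).hom ((f.stalkMap x).hom _) = (X.residue x).hom _
    refine congrArg _ ?_
    rw [Scheme.Hom.germ_stalkMap_apply]
    rfl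

end Groth.Agent.HensPair.FieldTrdeg
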