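import Groth.Agent.HensPair.EquidimCat
import Groth.Agent.HensPair.FieldTrdeg

/-!
Global dimension consequences.
-/

set_option autoImplicit false
set_option synthInstance.maxHeartbeats 200000

noncomputable section

open CategoryTheory AlgebraicGeometry TopologicalSpace Topology

namespace Groth.Agent.HensPair.DimMore

universe u

set_option backward.isDefEq.respectTransparency false

/-- points closed in their fibre have algebraic residue extensions -/
theorem T_eq_zero {X Y : Scheme.{u}} (f : X ⟶ Y) [LocallyOfFiniteType f] (z : X)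
    (hz : ∀ z' : X, f z' = f z → z ⤳ z' → z' = z) : FibreTrdeg.T f z = 0 := by
  obtain ⟨U₀, hU₀, hyU₀, -⟩ := exists_isAffineOpen_mem_and_subset (X := Y) (U := ⊤) (x := f z) trivial
  obtain ⟨V, hV, hzV, hVU⟩ := exists_isAffineOpen_mem_and_subset (X := X) (U := f ⁻¹ᵁ U₀) (x := z) hyU₀
  let : Algebra Γ(Y, U₀) Γ(X, V) := (f.appLE U₀ V hVU).hom.toAlgebra
  obtain ⟨Q, hQ⟩ := hV.range_fromSpec.superset hzV
  let p := hU₀.primeIdealOf ⟨f z, hyU₀⟩
  obtain ⟨M, hM⟩ := Equidim.exists_ch f hU₀ hV hVU rfl (AlgHom.id _ _) Function.surjective_id p Q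
    (fun a ha => by rw [(show a = 0 from ha)]; exact Ideal.zero_mem _)
    (by rw [hQ, hU₀.fromSpec_primeIdealOf])
  rw [hQ] at hM
  have hmax : M.asIdeal.IsMaximal := by
    obtain ⟨N, hN, hMN⟩ := Ideal.exists_le_maximal M.asIdeal M.2.ne_top
    let Np : PrimeSpectrum _ := ⟨N, hN.isPrime⟩
    have h1 : z ⤳ Equidim.ch hV (AlgHom.id Γ(Y, U₀) Γ(X, V)) p Np :=
      (specializes_of_eq hM.symm).trans ((Equidim.ch_specializes hV _ Function.surjective_id _ M Np).mpr hMN)
    have h2 := hz _ ((Equidim.f_ch f hU₀ hV hVU rfl _ p Np).trans (hU₀.fromSpec_primeIdealOf _)) h1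
    have h3 : M = Np := (Equidim.ch_isEmbedding hV _ Function.surjective_id _).injective (hM.trans h2.symm)
    exact (congrArg PrimeSpectrum.asIdeal h3).symm ▸ hN
  haveI := hmax
  letI := Ideal.Quotient.field M.asIdeal
  have h1 := FibreTrdeg.quot_dim_eq_T f hU₀ hV hVU rfl _ M z hM
  rw [ringKrullDim_eq_zero_of_field] at h1
  exact_mod_cast h1.symm

/-- a closed point of a fibre below a given one -/
theorem exists_closed_in_fibre {X Y : Scheme.{u}} (f : X ⟶ Y) [LocallyOfFiniteType f] (x : X) :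
    ∃ z : X, x ⤳ z ∧ f z = f x ∧ FibreTrdeg.T f z = 0 := by
  haveI : LocallyOfFiniteType (f.fiberToSpecResidueField (f x)) :=
    MorphismProperty.pullback_snd (P := @LocallyOfFiniteType) _ _ inferInstance
  haveI : JacobsonSpace ↥(f.fiber (f x)) := LocallyOfFiniteType.jacobsonSpace (f.fiberToSpecResidueField (f x))
  obtain ⟨c, hc, hcc⟩ := nonempty_inter_closedPoints (Z := closure ({f.asFiber x} : Set ↥(f.fiber (f x))))
    ⟨_, subset_closure rfl⟩ isClosed_closure.isLocallyClosed
  let ι := f.fiberι (f x)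
  have hfz : f (ι c) = f x := (f.range_fiberι (f x)).subset ⟨c, rfl⟩
  refine ⟨ι c, (specializes_of_eq (f.fiberι_asFiber x).symm).trans ((specializes_iff_mem_closure.mpr hc).map ι.continuous),
    hfz, T_eq_zero f _ fun z' hz' hsp => ?_⟩
  obtain ⟨c', rfl⟩ := (f.range_fiberι (f x)).ge (hz'.trans hfz)
  have h1 := (ι.isEmbedding.isInducing.specializes_iff.mp hsp).mem_closure
  rw [hcc.closure_eq] at h1
  exact congrArg ι h1

section field

variable {X S : Scheme.{u}} (p : X ⟶ S) [Subsingleton S] [LocallyOfFiniteType p]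

theorem T_le_dim (x : X) : ((FibreTrdeg.T p x : ℕ) : WithBot ℕ∞) ≤ topologicalKrullDim ↥X := by
  obtain ⟨k, -, -, hd⟩ := FieldTrdeg.main p x
  refine le_trans ?_ (hd.symm.le.trans (TopDim.Basic.localDim_le_dim x))
  exact_mod_cast Nat.le_add_left _ _

theorem length_le_T [IsLocallyNoetherian S] (l : LTSeries X) :
    ∃ ξ : X, (∀ z, z ⤳ ξ → z = ξ) ∧ l.length ≤ FibreTrdeg.T p ξ := by
  haveI : IsLocallyNoetherian X := LocallyOfFiniteType.isLocallyNoetherian p
  obtain ⟨k, hk, hk', -⟩ := FieldTrdeg.main p l.head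
  obtain ⟨ξ, hξ, hmax, hcd⟩ := CatScheme.exists_component_dim l.head k hk'
  obtain ⟨j, i, hi, hj, hle, -⟩ := CatScheme.alt p l.head ξ hξ
  have hik : i = k := by rw [hcd] at hi; exact_mod_cast hi.symm
  have hl : l.length ≤ k := by
    have h : (l.length : ℕ∞) ≤ Order.coheight l.head := Order.length_le_coheight_head
    rw [hk] at h
    exact_mod_cast h
  have hj0 : j = 0 := by
    haveI : Subsingleton ↥({t : S | p ξ ⤳ t ∧ t ⤳ p l.head}) := ⟨fun a b => Subtype.ext (Subsingleton.elim _ _)⟩
    have h : ((j : ℕ) : WithBot ℕ∞) ≤ 0 := by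
      rw [← hj]
      exact Order.krullDim_nonpos_of_subsingleton
    exact Nat.le_zero.mp (by exact_mod_cast h)
  exact ⟨ξ, hmax, by omega⟩

end field

section dominant

variable {X Y : Scheme.{u}} (f : X ⟶ Y) [LocallyOfFiniteType f] [IrreducibleSpace X] [IrreducibleSpace Y]

omit [LocallyOfFiniteType f] in
theorem map_generic (hd : DenseRange f.base) : f (genericPoint X) = genericPoint Y := by
  refine IsGenericPoint.eq (S := Set.univ) ?_ (genericPoint_spec Y)
  refine Set.eq_univ_of_univ_subset ?_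
  rw [← hd.closure_range]
  refine closure_minimal ?_ isClosed_closure
  rintro _ ⟨z, rfl⟩
  exact (((genericPoint_spec X).specializes trivial).map f.continuous).mem_closure

theorem generic_fibre_dim (hd : DenseRange f.base) :
    topologicalKrullDim ↥(f.fiber (genericPoint Y)) = (FibreTrdeg.T f (genericPoint X) : ℕ) := by
  haveI : IsDominant f := ⟨hd⟩
  rw [← FibreTrdeg.fibreDimAt_eq_T_of_maximal f (genericPoint X) fun z _ hz =>
    ((specializes_iff_mem_closure.mpr hz).antisymm ((genericPoint_spec X).specializes trivial)).eq]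
  refine le_antisymm (Equidim.generic_fibre_dim_le f _) ?_
  rw [← map_generic f hd]
  exact Equidim.fibreDimAt_le_dim f _

variable [IsLocallyNoetherian Y]

theorem dim_le_add (hd : DenseRange f.base) :
    topologicalKrullDim ↥X ≤ topologicalKrullDim ↥Y + (FibreTrdeg.T f (genericPoint X) : ℕ) := by
  refine AltitudeScheme.dim_le f _ fun ξ hξ => ?_
  rw [irreducibleComponents_eq_singleton, Set.mem_singleton_iff] at hξ
  obtain rfl : ξ = genericPoint X := IsGenericPoint.eq (S := Set.univ) hξ (genericPoint_spec X)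
  exact le_of_eq (FibreTrdeg.T_spec f _)

theorem dim_eq_iSup (hd : DenseRange f.base) (hY : ∀ y : Y, CAlg.IsUniversallyCatenary (Y.presheaf.stalk y)) :
    topologicalKrullDim ↥X = (⨆ y ∈ Set.range f.base, ringKrullDim (Y.presheaf.stalk y)) +
      (FibreTrdeg.T f (genericPoint X) : ℕ) := by
  haveI : IsLocallyNoetherian X := LocallyOfFiniteType.isLocallyNoetherian f
  let ξ := genericPoint X
  have hξ : ∀ z : X, ξ ⤳ z := fun z => (genericPoint_spec X).specializes trivial
  have hη : f ξ = genericPoint Y := map_generic f hd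
  have key : ∀ x : X, ∃ m d : ℕ, ringKrullDim (X.presheaf.stalk x) = (m : ℕ) ∧
      ringKrullDim (Y.presheaf.stalk (f x)) = (d : ℕ) ∧ m + FibreTrdeg.T f x = d + FibreTrdeg.T f ξ := fun x => by
    obtain ⟨j, i, hi, hj, -, heq⟩ := CatScheme.alt f x ξ (hξ x)
    rw [CatScheme.cd_eq_stalk_of_generic ξ x hξ] at hi
    rw [CatScheme.cd_eq_stalk_of_generic (f ξ) (f x) fun y => hη ▸ (genericPoint_spec Y).specializes trivial] at hj
    exact ⟨i, j, hi, hj, heq (hY _)⟩
  rw [show topologicalKrullDim ↥X = Order.krullDim ↥X from Order.krullDim_eq_of_orderIso irreducibleSetEquivPoints]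
  refine le_antisymm (iSup_le fun l => ?_) ?_
  · obtain ⟨m, d, hm, hd', h⟩ := key l.head
    have h1 : ((l.length : ℕ∞) : WithBot ℕ∞) ≤ ((m : ℕ) : WithBot ℕ∞) := by
      rw [← hm, ringKrullDim_stalk_eq_coheight]
      exact WithBot.coe_le_coe.mpr Order.length_le_coheight_head
    have h2 : l.length ≤ m := by exact_mod_cast h1
    refine le_trans (?_ : _ ≤ ((d : ℕ) : WithBot ℕ∞) + (FibreTrdeg.T f ξ : ℕ)) (add_le_add (le_iSup₂_of_le (f l.head) ⟨_, rfl⟩ hd'.ge) le_rfl)
    exact_mod_cast (by omega : l.length ≤ d + FibreTrdeg.T f ξ)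
  · rcases eq_or_ne (⨆ y ∈ Set.range f.base, ringKrullDim (Y.presheaf.stalk y)) ⊥ with h | h
    · rw [h, WithBot.bot_add]; exact bot_le
    have hle : ∀ y ∈ Set.range f.base, ringKrullDim (Y.presheaf.stalk y) + (FibreTrdeg.T f ξ : ℕ) ≤ Order.krullDim ↥X := by
      rintro _ ⟨x, rfl⟩
      obtain ⟨z, -, hfz, hTz⟩ := exists_closed_in_fibre f x
      obtain ⟨m, d, hm, hd', hkey⟩ := key z
      show ringKrullDim (Y.presheaf.stalk (f x)) + _ ≤ _
      rw [← hfz, hd']
      refine le_trans ?_ (Order.coheight_le_krullDim z)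
      rw [← ringKrullDim_stalk_eq_coheight, hm]
      exact_mod_cast (by omega : d + FibreTrdeg.T f ξ ≤ m)
    have hgt : ∀ n : ℕ, ((n : ℕ) : WithBot ℕ∞) < (⨆ y ∈ Set.range f.base, ringKrullDim (Y.presheaf.stalk y)) →
        ((n + 1 + FibreTrdeg.T f ξ : ℕ) : WithBot ℕ∞) ≤ Order.krullDim ↥X := by
      intro n hn
      obtain ⟨y, hy⟩ := lt_iSup_iff.mp hn
      obtain ⟨hmem, hy⟩ := lt_iSup_iff.mp hy
      obtain ⟨x, rfl⟩ := hmem
      obtain ⟨m, d, -, hd', -⟩ := key x
      refine le_trans ?_ (hle _ ⟨x, rfl⟩)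
      show _ ≤ ringKrullDim (Y.presheaf.stalk (f x)) + _
      rw [show ringKrullDim (Y.presheaf.stalk (f.base x)) = (d : ℕ) from hd'] at hy
      have h2 : n < d := by exact_mod_cast hy
      rw [hd']
      exact_mod_cast (by omega : n + 1 + FibreTrdeg.T f ξ ≤ d + FibreTrdeg.T f ξ)
    show (⨆ y ∈ Set.range f.base, ringKrullDim (Y.presheaf.stalk y)) + ((FibreTrdeg.T f ξ : ℕ) : WithBot ℕ∞) ≤ _
    cases hD : (⨆ y ∈ Set.range f.base, ringKrullDim (Y.presheaf.stalk y)) with
    | bot => exact absurd hD h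
    | coe c =>
      cases c with
      | top =>
        have htop : Order.krullDim ↥X = ⊤ := Order.krullDim_eq_top_iff.mpr ⟨fun n => by
          obtain ⟨l, hl⟩ := Order.le_krullDim_iff.mp ((show ((n : ℕ) : WithBot ℕ∞) ≤ _ by exact_mod_cast (by omega : n ≤ n + 1 + FibreTrdeg.T f ξ)).trans
            (hgt n (by rw [hD]; exact WithBot.coe_lt_coe.mpr (ENat.coe_lt_top n))))
          exact ⟨l, hl⟩⟩
        rw [htop]; exact le_top
      | coe c =>
        cases c with
        | zero =>
          refine le_trans (le_of_eq ?_) (le_trans (add_le_add (ringKrullDim_nonneg_of_nontrivial (R := Y.presheaf.stalk (f ξ))) le_rfl) (hle _ ⟨ξ, rfl⟩))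
          rfl
        | succ c =>
          refine le_trans (le_of_eq ?_) (hgt c (by rw [hD]; exact WithBot.coe_lt_coe.mpr (by exact_mod_cast Nat.lt_succ_self c)))
          push_cast
          rfl

theorem dim_eq_of_closed (hd : DenseRange f.base) (hc : IsClosedMap f.base) :
    topologicalKrullDim ↥X = topologicalKrullDim ↥Y + (FibreTrdeg.T f (genericPoint X) : ℕ) := by
  classical
  refine le_antisymm (dim_le_add f hd) ?_
  let ξ := genericPoint X
  have hη : f ξ = genericPoint Y := map_generic f hd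
  obtain ⟨z, hξz, hfz, hTz⟩ := exists_closed_in_fibre f ξ
  obtain ⟨k, hk, hfd⟩ := FibreTrdeg.main f z
  have hek : FibreTrdeg.T f ξ ≤ k := by
    have h1 := (FibreTrdeg.T_le_fibreDimAt f ξ).trans (FibreTrdeg.fibreDimAt_mono f hξz)
    rw [hfd, hTz, Nat.add_zero] at h1
    exact_mod_cast h1
  obtain ⟨lc, hlc, hlclen⟩ := Order.exists_series_of_le_coheight (f.asFiber z) hk.ge
  let ι := f.fiberι (f z)
  have hι : StrictMono (ι : ↥(f.fiber (f z)) → X) := fun a b hab =>
    ⟨hab.le.map ι.continuous, fun h => hab.not_ge (ι.isEmbedding.isInducing.specializes_iff.mp h)⟩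
  have lift : ∀ s : LTSeries Y, s.last = genericPoint Y →
      ∃ l : LTSeries X, l.length = s.length + k ∧ f l.head = s.head := by
    intro s
    induction s using RelSeries.inductionOn with
    | singleton y =>
      intro hy
      have hy' : y = genericPoint Y := hy
      subst hy'
      exact ⟨lc.map ι hι, by rw [RelSeries.singleton_length, Nat.zero_add]; exact hlclen, by
        rw [LTSeries.head_map, hlc, f.fiberι_asFiber, hfz, hη]; rfl⟩
    | cons s y hys ih =>
      intro hlast
      rw [RelSeries.last_cons] at hlast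
      obtain ⟨l, hl, hlhead⟩ := ih hlast
      have hys' : y < s.head := hys
      have h1 : y ∈ f.base '' closure ({l.head} : Set X) := by
        have hclosed : IsClosed (f.base '' closure ({l.head} : Set X)) := hc _ isClosed_closure
        have hmem : s.head ∈ f.base '' closure ({l.head} : Set X) := ⟨l.head, subset_closure (Set.mem_singleton _), hlhead⟩
        exact closure_minimal (Set.singleton_subset_iff.mpr hmem) hclosed (show s.head ⤳ y from hys'.le).mem_closure
      obtain ⟨x', hx', hfx'⟩ := h1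
      have hlt : x' < l.head := by
        refine ⟨specializes_iff_mem_closure.mpr hx', fun h => hys'.not_ge ?_⟩
        show y ⤳ s.head
        rw [← hlhead, ← hfx']
        exact (show x' ⤳ l.head from h).map f.continuous
      exact ⟨l.cons x' hlt, by simp only [RelSeries.cons_length]; omega,
        by rw [RelSeries.head_cons, RelSeries.head_cons]; exact hfx'⟩
  rw [show topologicalKrullDim ↥Y = Order.krullDim ↥Y from Order.krullDim_eq_of_orderIso irreducibleSetEquivPoints,
    show topologicalKrullDim ↥X = Order.krullDim ↥X from Order.krullDim_eq_of_orderIso irreducibleSetEquivPoints]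
  have hgen : ∀ y : Y, y ≤ genericPoint Y := fun y => (genericPoint_spec Y).specializes trivial
  have hchain : ∀ s : LTSeries Y, ((s.length + FibreTrdeg.T f ξ : ℕ) : WithBot ℕ∞) ≤ Order.krullDim ↥X := fun s => by
    obtain ⟨s', hs', hlen⟩ : ∃ s' : LTSeries Y, s'.last = genericPoint Y ∧ s.length ≤ s'.length := by
      rcases eq_or_ne s.last (genericPoint Y) with h | h
      · exact ⟨s, h, le_rfl⟩
      · refine ⟨s.snoc (genericPoint Y) (show s.last < genericPoint Y from ⟨hgen _, fun h' => h ?_⟩), RelSeries.last_snoc _ _ _,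
          by rw [RelSeries.snoc_length]; omega⟩
        exact ((show s.last ⤳ genericPoint Y from h').antisymm (hgen s.last)).eq
    obtain ⟨l, hl, -⟩ := lift s' hs'
    refine le_trans ?_ (Order.LTSeries.length_le_krullDim l)
    exact_mod_cast (by omega : s.length + FibreTrdeg.T f ξ ≤ l.length)
  show Order.krullDim ↥Y + ((FibreTrdeg.T f ξ : ℕ) : WithBot ℕ∞) ≤ _
  cases hc' : Order.krullDim ↥Y with
  | bot => rw [WithBot.bot_add]; exact bot_le
  | coe c =>
    cases c with
    | top =>
      have htop : Order.krullDim ↥X = ⊤ := Order.krullDim_eq_top_iff.mpr ⟨fun n => by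
        obtain ⟨s, hs⟩ := Order.le_krullDim_iff.mp (show ((n : ℕ) : WithBot ℕ∞) ≤ Order.krullDim ↥Y by rw [hc']; exact WithBot.coe_le_coe.mpr le_top)
        obtain ⟨l, hl⟩ := Order.le_krullDim_iff.mp ((show ((n : ℕ) : WithBot ℕ∞) ≤ _ by exact_mod_cast (by omega : n ≤ s.length + FibreTrdeg.T f ξ)).trans (hchain s))
        exact ⟨l, hl⟩⟩
      rw [htop]; exact le_top
    | coe c =>
      obtain ⟨s, hs⟩ := Order.le_krullDim_iff.mp (show ((c : ℕ) : WithBot ℕ∞) ≤ Order.krullDim ↥Y by rw [hc']; exact le_rfl)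
      refine le_trans ?_ (hchain s)
      rw [hs]; push_cast; exact le_rfl

end dominant

end Groth.Agent.HensPair.DimMore
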