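import Groth.Agent.HensPair.SubDim

/-!
Components through a point and their dimensions over universally catenary local rings.
-/

set_option autoImplicit false
set_option synthInstance.maxHeartbeats 200000

noncomputable section

open CategoryTheory AlgebraicGeometry TopologicalSpace Topology

namespace Groth.Agent.HensPair.EquidimCat

universe u

set_option backward.isDefEq.respectTransparency false

theorem quot_eq_cd {S : Scheme.{u}} (s : S) (P : PrimeSpectrum (S.presheaf.stalk s)) :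
    ringKrullDim (S.presheaf.stalk s ⧸ P.asIdeal) = CatScheme.cd (S.fromSpecStalk s P) s := by
  let R := S.presheaf.stalk s
  have hrange : ∀ Q : PrimeSpectrum R, S.fromSpecStalk s Q ⤳ s := fun Q => by
    have : S.fromSpecStalk s Q ∈ Set.range (S.fromSpecStalk s) := ⟨Q, rfl⟩
    rwa [Scheme.range_fromSpecStalk] at this
  have hsp : ∀ Q Q' : PrimeSpectrum R, S.fromSpecStalk s Q ⤳ S.fromSpecStalk s Q' ↔ Q ≤ Q' := fun Q Q' =>
    (S.fromSpecStalk s).isEmbedding.isInducing.specializes_iff.trans (PrimeSpectrum.le_iff_specializes _ _).symm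
  rw [← CatAdd.topDim_gen _ s (hrange P), ← PrimeSpectrum.topologicalKrullDim_eq_ringKrullDim]
  let φ : PrimeSpectrum (R ⧸ P.asIdeal) → S := fun Q => S.fromSpecStalk s (PrimeSpectrum.comap (Ideal.Quotient.mk _) Q)
  have hφ : IsEmbedding φ := (S.fromSpecStalk s).isEmbedding.comp
    (PrimeSpectrum.isClosedEmbedding_comap_of_surjective _ _ (Ideal.Quotient.mk_surjective (I := P.asIdeal))).isEmbedding
  have hmem : ∀ Q, φ Q ∈ {t : S | t ∈ closure ({(S.fromSpecStalk s) P} : Set S) ∧ t ⤳ s} := fun Q => by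
    refine ⟨((hsp P _).mpr fun z hz => ?_).mem_closure, hrange _⟩
    show Ideal.Quotient.mk _ z ∈ Q.asIdeal
    rw [Ideal.Quotient.eq_zero_iff_mem.mpr hz]; exact zero_mem _
  refine le_antisymm (Equidim.dim_le_of_range (φ := φ) hφ.isInducing IsEmbedding.subtypeVal fun Q => ⟨⟨_, hmem Q⟩, rfl⟩) ?_
  refine Equidim.dim_le_of_range (φ := fun t : ↥{t : S | t ∈ closure ({(S.fromSpecStalk s) P} : Set S) ∧ t ⤳ s} => t.1)
    IsInducing.subtypeVal hφ fun t => ?_
  obtain ⟨Q₀, hQ₀⟩ : t.1 ∈ Set.range (S.fromSpecStalk s) := by rw [Scheme.range_fromSpecStalk]; exact t.2.2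
  let Q : PrimeSpectrum R := Q₀
  have hQ : S.fromSpecStalk s Q = t.1 := hQ₀
  have hPQ : P ≤ Q := (hsp P Q).mp (by rw [hQ]; exact specializes_iff_mem_closure.mpr t.2.1)
  obtain ⟨Q₁, hQ₁⟩ : Q ∈ Set.range (PrimeSpectrum.comap (Ideal.Quotient.mk P.asIdeal)) := by
    rw [range_comap_of_surjective _ _ Ideal.Quotient.mk_surjective, Ideal.mk_ker]; exact hPQ
  exact ⟨Q₁, by show S.fromSpecStalk s _ = _; rw [hQ₁, hQ]⟩

theorem cd_succ_le {S : Scheme.{u}} (η a b : S) (hη : η ⤳ a) (hne : η ≠ a) (j : ℕ)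
    (hj : CatScheme.cd a b = (j : ℕ)) : ((j + 1 : ℕ) : WithBot ℕ∞) ≤ CatScheme.cd η b := by
  obtain ⟨l, hl⟩ := Order.le_krullDim_iff.mp (show ((j : ℕ) : WithBot ℕ∞) ≤ Order.krullDim ↥({t : S | a ⤳ t ∧ t ⤳ b}) from hj.ge)
  let l' : LTSeries ↥({t : S | η ⤳ t ∧ t ⤳ b}) := l.map (fun t => ⟨t.1, hη.trans t.2.1, t.2.2⟩) fun x y h => h
  have hlt : l'.last < (⟨η, specializes_rfl, hη.trans (l.last.2.1.trans l.last.2.2)⟩ : ↥({t : S | η ⤳ t ∧ t ⤳ b})) := by
    refine ⟨hη.trans l.last.2.1, fun h => hne ?_⟩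
    exact (hη.antisymm (l.last.2.1.trans h)).eq
  refine le_of_eq_of_le ?_ (Order.LTSeries.length_le_krullDim (l'.snoc _ hlt))
  rw [RelSeries.snoc_length]
  exact congrArg _ (by show j + 1 = l.length + 1; rw [hl])

variable {X Y : Scheme.{u}} (f : X ⟶ Y) [LocallyOfFiniteType f]

/-- the generic fibre of the closure of a point -/
theorem gen_fibre_dim (ξ : X) :
    topologicalKrullDim ↥(closure ({ξ} : Set X) ∩ f ⁻¹' {f ξ}) = (FibreTrdeg.T f ξ : ℕ) := by
  let C : Closeds X := ⟨closure {ξ}, isClosed_closure⟩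
  let i := (Scheme.IdealSheafData.vanishingIdeal C).subschemeι
  have hr : Set.range i = closure {ξ} := by exact Scheme.IdealSheafData.range_subschemeι _
  obtain ⟨t₀, ht₀⟩ : ξ ∈ Set.range i := by rw [hr]; exact subset_closure rfl
  have hgen : ∀ s, t₀ ⤳ s := fun s => i.isEmbedding.isInducing.specializes_iff.mp
    (by rw [ht₀]; exact specializes_iff_mem_closure.mpr (hr.le ⟨s, rfl⟩))
  let q := i ≫ f
  rw [← ht₀, ← EquidimStalk.T_comp i f t₀, ← FibreTrdeg.fibreDimAt_eq_T_of_maximal q t₀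
    fun s _ hs => ((specializes_iff_mem_closure.mpr hs).antisymm (hgen s)).eq, ht₀]
  obtain ⟨c, hc⟩ : t₀ ∈ Set.range (q.fiberι (q t₀)) := by rw [q.range_fiberι]; rfl
  have hcgen : ∀ p, c ⤳ p := fun p => (q.fiberι (q t₀)).isEmbedding.isInducing.specializes_iff.mp (by rw [hc]; exact hgen _)
  refine le_antisymm ?_ ((Equidim.fibreDimAt_le_dim q t₀).trans ?_)
  · rw [← hc, ← FibreComp.dim_closure_eq q (q t₀) c fun p hp => (hp.antisymm (hcgen p)).eq]
    refine Equidim.dim_le_of_range (φ := fun s : ↥(closure ({ξ} : Set X) ∩ f ⁻¹' {f ξ}) => s.1) IsInducing.subtypeVal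
      ((i.isEmbedding.comp (q.fiberι (q t₀)).isEmbedding).comp IsEmbedding.subtypeVal) fun s => ?_
    obtain ⟨s', hs'⟩ := hr.ge s.2.1
    obtain ⟨p, hp⟩ : s' ∈ Set.range (q.fiberι (q t₀)) := by
      rw [q.range_fiberι]
      show f (i s') = f (i t₀)
      rw [hs', ht₀]
      exact s.2.2
    exact ⟨⟨p, (hcgen p).mem_closure⟩, by show i (q.fiberι (q t₀) p) = _; rw [hp, hs']⟩
  · refine Equidim.dim_le_of_range (φ := fun p => i (q.fiberι (q t₀) p))
      (i.isEmbedding.isInducing.comp (q.fiberι (q t₀)).isEmbedding.isInducing) IsEmbedding.subtypeVal fun p => ⟨⟨_, ?_, ?_⟩, rfl⟩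
    · exact hr.le ⟨_, rfl⟩
    · show f (i (q.fiberι (q t₀) p)) = f ξ
      rw [← ht₀]
      exact (q.range_fiberι (q t₀)).subset ⟨p, rfl⟩

variable [IsLocallyNoetherian Y]

/-- data of a component through a point of equidimensionality -/
theorem component_data (x : X) (hf : EGA43.IsEquidimAt f x) :
    ∃ e : ℕ, FlatMor.fibreDimAt f x = (e : ℕ) ∧ ∀ ξ : X, ξ ⤳ x → (∀ z, z ⤳ ξ → z = ξ) →
      FibreTrdeg.T f ξ = e ∧ ∀ η : Y, η ⤳ f ξ → η = f ξ := by
  obtain ⟨e, U, hxU, hcomp, hfib⟩ := hf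
  let q := U.ι ≫ f
  have hfd : ∀ a : X, a ∈ U → FlatMor.fibreDimAt f a = (e : ℕ) := fun a ha => by
    rw [← EquidimStalk.fibreDimAt_eq q e hfib ⟨a, ha⟩]
    exact (AlgSpTopo.ThickScheme.fibreDimAt_etale (k := f) (k' := q) U.ι (𝟙 Y) (by simp [q]) ⟨a, ha⟩).symm
  refine ⟨e, hfd x hxU, fun ξ hξx hξmax => ?_⟩
  have hξU : ξ ∈ U := hξx.mem_open U.2 hxU
  let u : (U : Scheme.{u}) := ⟨ξ, hξU⟩
  haveI : QuasiSober (↥U : Type u) := U.2.isOpenEmbedding_subtypeVal.quasiSober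
  have hu : ∀ p : (U : Scheme.{u}), p ⤳ u → p = u := fun p hp => Subtype.ext (hξmax p.1 (hp.map continuous_subtype_val))
  obtain ⟨W, hW, hxW, hWc⟩ := hcomp _ (Equidim.closure_mem_irreducibleComponents u hu)
  have hWξ : closure ({f ξ} : Set Y) = W := by
    rw [← hWc]
    refine le_antisymm (closure_mono (Set.singleton_subset_iff.mpr ⟨u, subset_closure rfl, rfl⟩))
      (closure_minimal ?_ isClosed_closure)
    exact (image_closure_subset_closure_image q.continuous).trans (by rw [Set.image_singleton]; rfl)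
  refine ⟨?_, fun η hη => ChevalleyTfae.maximal_of_component hW hWξ η hη⟩
  have hTξ := FibreTrdeg.fibreDimAt_eq_T_of_maximal f ξ fun z _ hz => hξmax z (specializes_iff_mem_closure.mpr hz)
  rw [hfd ξ hξU] at hTξ
  exact_mod_cast hTξ.symm

theorem map_fromSpecStalk (x : X) (Q : PrimeSpectrum (X.presheaf.stalk x)) :
    Y.fromSpecStalk (f x) (PrimeSpectrum.comap (f.stalkMap x).hom Q) = f (X.fromSpecStalk x Q) :=
  congr($(Scheme.SpecMap_stalkMap_fromSpecStalk f (x := x)) Q)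

theorem maximal_of_minimalPrime (x : X) (P : PrimeSpectrum (X.presheaf.stalk x))
    (hP : P.asIdeal ∈ minimalPrimes (X.presheaf.stalk x)) :
    X.fromSpecStalk x P ⤳ x ∧ ∀ z : X, z ⤳ X.fromSpecStalk x P → z = X.fromSpecStalk x P := by
  have hrange : X.fromSpecStalk x P ⤳ x := by
    have : X.fromSpecStalk x P ∈ Set.range (X.fromSpecStalk x) := ⟨P, rfl⟩
    rwa [Scheme.range_fromSpecStalk] at this
  refine ⟨hrange, fun z hz => ?_⟩
  obtain ⟨Q₀, rfl⟩ : z ∈ Set.range (X.fromSpecStalk x) := by rw [Scheme.range_fromSpecStalk]; exact hz.trans hrange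
  let Q : PrimeSpectrum (X.presheaf.stalk x) := Q₀
  have hle : Q ≤ P := (PrimeSpectrum.le_iff_specializes Q P).mpr ((X.fromSpecStalk x).isEmbedding.isInducing.specializes_iff.mp hz)
  exact congrArg _ (PrimeSpectrum.ext (le_antisymm hle (hP.2 ⟨Q.2, bot_le⟩ hle)))

theorem quot_formula (x : X) (hf : EGA43.IsEquidimAt f x) (hcat : CAlg.IsUniversallyCatenary (Y.presheaf.stalk (f x)))
    (P : PrimeSpectrum (X.presheaf.stalk x)) (hP : P.asIdeal ∈ minimalPrimes (X.presheaf.stalk x)) :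
    ∃ i j e : ℕ, ringKrullDim (X.presheaf.stalk x ⧸ P.asIdeal) = (i : ℕ) ∧
      ringKrullDim (Y.presheaf.stalk (f x) ⧸ P.asIdeal.comap (f.stalkMap x).hom) = (j : ℕ) ∧
      FlatMor.fibreDimAt f x = (e : ℕ) ∧ i + FibreTrdeg.T f x = j + e ∧
      (EGA4.IsEquidim (Y.presheaf.stalk (f x)) → ringKrullDim (Y.presheaf.stalk (f x)) = (j : ℕ)) := by
  obtain ⟨e, he, hcomp⟩ := component_data f x hf
  obtain ⟨hsp, hmax⟩ := maximal_of_minimalPrime x P hP
  obtain ⟨hT, hfmax⟩ := hcomp _ hsp hmax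
  obtain ⟨j, i, hi, hj, -, heq⟩ := CatScheme.alt f x _ hsp
  refine ⟨i, j, e, (quot_eq_cd x P).trans hi, ?_, he, by rw [heq hcat, hT], fun hY => ?_⟩
  · exact (quot_eq_cd (f x) (PrimeSpectrum.comap (f.stalkMap x).hom P)).trans
      ((congrArg (fun z => CatScheme.cd z (f x)) (map_fromSpecStalk f x P)).trans hj)
  · exact (CatScheme.cd_eq_of_equidim _ _ (hsp.map f.continuous) hfmax hY).symm.trans hj

/-- a full-dimensional component through a maximal point of a fibre -/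
theorem exists_component_of_dim [IrreducibleSpace Y] (z : X) (t : ℕ) (ht : FlatMor.fibreDimAt f z = (t : ℕ))
    (hT : FibreTrdeg.T f z = t) (hz : ringKrullDim (X.presheaf.stalk z) = ringKrullDim (Y.presheaf.stalk (f z))) :
    ∃ ξ : X, ξ ⤳ z ∧ (∀ p, p ⤳ ξ → p = ξ) ∧ f ξ = genericPoint Y ∧ FibreTrdeg.T f ξ = t := by
  obtain ⟨d, hd⟩ := EquidimCore.natCast_of_bounds (ringKrullDim (Y.presheaf.stalk (f z))) ringKrullDim_ne_bot ringKrullDim_ne_top
  obtain ⟨ξ, hξz, hξmax, hξ⟩ := CatScheme.exists_component_dim z d (hz.trans hd)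
  obtain ⟨j, i, hi, hj, hineq, -⟩ := CatScheme.alt f z ξ hξz
  have hid : i = d := by rw [hξ] at hi; exact_mod_cast hi.symm
  have h1 : FibreTrdeg.T f ξ ≤ t := by
    have h := (FibreTrdeg.T_le_fibreDimAt f ξ).trans (FibreTrdeg.fibreDimAt_mono f hξz)
    rw [ht] at h
    exact_mod_cast h
  have h2 : j ≤ d := by
    have h := CatScheme.cd_le_stalk (f ξ) (f z)
    rw [hj, hd] at h
    exact_mod_cast h
  refine ⟨ξ, hξz, hξmax, by_contra fun hne => ?_, by omega⟩
  have h3 := (cd_succ_le (genericPoint Y) (f ξ) (f z) ((genericPoint_spec Y).specializes trivial) (Ne.symm hne) j hj).trans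
    ((CatScheme.cd_le_stalk _ _).trans hd.le)
  have h4 : j + 1 ≤ d := by exact_mod_cast h3
  omega

end Groth.Agent.HensPair.EquidimCat
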