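import Groth.Agent.HensPair.Basic
import Groth.Agent.HensPair.EtaleSurjLift
import Mathlib.RingTheory.Localization.Away.Lemmas
import Mathlib.RingTheory.Finiteness.Nakayama

/-!
Finite etale algebras lift along henselian pairs.
-/

set_option autoImplicit false

noncomputable section

open scoped TensorProduct

namespace Groth.Agent.HensPair.FiniteEtaleLift

universe u

variable {A : Type u} [CommRing A] {I : Ideal A} {A' : Type u} [CommRing A'] [Algebra A A']

theorem zmt_cover [Algebra.FiniteType A A'] [Algebra.QuasiFinite A A'] :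
    ∀ Q : PrimeSpectrum A', ∃ (s : Finset A') (r : A'), (∀ z ∈ s, IsIntegral A z) ∧
      r ∈ Algebra.adjoin A (s : Set A') ∧ r ∉ Q.asIdeal ∧
      ∀ x, ∃ n : ℕ, r ^ n * x ∈ Algebra.adjoin A (s : Set A') := by
  classical
  intro Q
  obtain ⟨S', hS', r, hr, hbij⟩ :=
    Algebra.QuasiFiniteAt.exists_fg_and_exists_notMem_and_awayMap_bijective (R := A) Q.asIdeal
  have hfin : Module.Finite A S' := ⟨(Submodule.fg_top _).mpr hS'⟩
  obtain ⟨s, hs⟩ := S'.fg_of_fg_toSubmodule hS'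
  refine ⟨s, r.1, fun z hz => ?_, hs.symm ▸ r.2, hr, fun x => ?_⟩
  · exact (Algebra.IsIntegral.isIntegral (R := A)
      (⟨z, hs ▸ Algebra.subset_adjoin hz⟩ : S')).map S'.val
  · obtain ⟨w, hw⟩ := hbij.2 (algebraMap A' (Localization.Away r.1) x)
    obtain ⟨⟨a, ⟨_, k, rfl⟩⟩, ha⟩ := IsLocalization.surj (Submonoid.powers r) w
    have h1 := congrArg (Localization.awayMap S'.val.toRingHom r) ha
    rw [map_mul, hw, Localization.awayMap, IsLocalization.Away.map, IsLocalization.map_eq,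
      IsLocalization.map_eq] at h1
    simp only [AlgHom.toRingHom_eq_coe, RingHom.coe_coe, Subalgebra.coe_val,
      SubmonoidClass.coe_pow, ← map_mul] at h1
    replace h1 : algebraMap A' (Localization.Away r.1) (x * r.1 ^ k) =
        algebraMap A' (Localization.Away r.1) a.1 := (map_mul _ _ _).trans h1
    obtain ⟨⟨_, j, rfl⟩, hj⟩ := (IsLocalization.eq_iff_exists (Submonoid.powers r.1) _).mp h1
    refine ⟨j + k, ?_⟩
    rw [hs, show r.1 ^ (j + k) * x = r.1 ^ j * (x * r.1 ^ k) by ring, hj]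
    exact S'.mul_mem (S'.pow_mem r.2 j) a.2

theorem exists_finite_quotient [HenselianRing A I] [Algebra.Etale A A']
    [Module.Finite A (A' ⧸ I.map (algebraMap A A'))] :
    ∃ f : A', f ∈ I.map (algebraMap A A') ∧ IsIdempotentElem f ∧
      Module.Finite A (A' ⧸ Ideal.span {f}) := by
  classical
  have : Algebra.QuasiFinite A A' := inferInstance
  choose s r hsint hrs hrQ hx using zmt_cover (A := A) (A' := A')
  let IC := I.map (algebraMap A A')
  obtain ⟨t, ht⟩ := (isCompact_range (PrimeSpectrum.continuous_comap (Ideal.Quotient.mk IC))).elim_finite_subcover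
    (fun Q => (PrimeSpectrum.basicOpen (r Q) : Set (PrimeSpectrum A')))
    (fun Q => (PrimeSpectrum.basicOpen (r Q)).isOpen)
    (fun Q _ => Set.mem_iUnion.mpr ⟨Q, hrQ Q⟩)
  let S' := Algebra.adjoin A ((t.biUnion s : Finset A') : Set A')
  have hfin : Module.Finite A S' := ⟨(Submodule.fg_top _).mpr
    (fg_adjoin_of_finite (Finset.finite_toSet _) fun z hz => by
      obtain ⟨Q, -, hQ⟩ := Finset.mem_biUnion.mp hz
      exact hsint Q z hQ)⟩
  have hle : ∀ Q ∈ t, Algebra.adjoin A (s Q : Set A') ≤ S' := fun Q hQ =>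
    Algebra.adjoin_mono fun z hz => Finset.mem_biUnion.mpr ⟨Q, hQ, hz⟩
  let r' : t → S' := fun Q => ⟨r Q, hle Q.1 Q.2 (hrs Q)⟩
  let L : Ideal S' := Ideal.span (Set.range r')
  let J : Ideal S' := I.map (algebraMap A S')
  have hJC : ∀ y ∈ J, (y : A') ∈ IC := fun y hy => by
    have := Ideal.mem_map_of_mem S'.val.toRingHom hy
    rwa [Ideal.map_map, AlgHom.toRingHom_eq_coe, AlgHom.comp_algebraMap] at this
  have hjac : J ≤ Ideal.jacobson ⊥ := Hensel.Idem.map_le_jacobson HenselianRing.jac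
  -- the piece over the closed subset is killed by an element outside `L`
  have : Module.Finite S' (A' ⧸ IC) := Module.Finite.of_restrictScalars_finite A S' (A' ⧸ IC)
  have hLtop : (⊤ : Submodule S' (A' ⧸ IC)) ≤ L • ⊤ := by
    rw [Ideal.smul_top_eq_map]
    suffices L.map (algebraMap S' (A' ⧸ IC)) = ⊤ by rw [this, Submodule.restrictScalars_top]
    by_contra hne
    obtain ⟨M, hM, hle'⟩ := Ideal.exists_le_maximal _ hne
    obtain ⟨Q, hQt, hQ⟩ : ∃ Q ∈ t, Ideal.Quotient.mk IC (r Q) ∉ M := by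
      simpa using ht ⟨⟨M, hM.isPrime⟩, rfl⟩
    exact hQ (hle' (Ideal.mem_map_of_mem _ (Ideal.subset_span (Set.mem_range_self (f := r') ⟨Q, hQt⟩))))
  obtain ⟨u, hu1, hu0⟩ := Submodule.exists_sub_one_mem_and_smul_eq_zero_of_fg_of_le_smul L ⊤
    Module.Finite.fg_top hLtop
  have huC : (u : A') ∈ IC := by
    have := hu0 1 trivial
    rw [Algebra.smul_def, mul_one] at this
    exact Ideal.Quotient.eq_zero_iff_mem.mp this
  have hdescend : ∀ (Q : t) (z : A'), z ∈ IC → ∃ n : ℕ, ∃ y ∈ J, (y : A') = r Q ^ n * z := by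
    intro Q z hz
    induction hz using Submodule.span_induction with
    | mem z hz =>
      obtain ⟨i, hi, rfl⟩ := hz
      exact ⟨0, algebraMap A S' i, Ideal.mem_map_of_mem _ hi, by rw [pow_zero, one_mul]; rfl⟩
    | zero => exact ⟨0, 0, zero_mem _, by simp⟩
    | add z w _ _ h1 h2 =>
      obtain ⟨n, y, hy, hyz⟩ := h1
      obtain ⟨m, v, hv, hvw⟩ := h2
      refine ⟨n + m, r' Q ^ m * y + r' Q ^ n * v,
        add_mem (Ideal.mul_mem_left _ _ hy) (Ideal.mul_mem_left _ _ hv), ?_⟩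
      push_cast
      rw [hyz, hvw]
      ring
    | smul a z _ h1 =>
      obtain ⟨n, y, hy, hyz⟩ := h1
      obtain ⟨m, hm⟩ := hx Q.1 a
      refine ⟨m + n, ⟨_, hle Q.1 Q.2 hm⟩ * y, Ideal.mul_mem_left _ _ hy, ?_⟩
      push_cast
      rw [hyz, smul_eq_mul]
      ring
  have hru : ∀ Q : t, ∃ n : ℕ, r' Q ^ n * u ∈ J := fun Q => by
    obtain ⟨n, y, hy, hyz⟩ := hdescend Q u huC
    exact ⟨n, by convert hy using 1; exact Subtype.ext hyz.symm⟩
  choose nu hnu using hru
  obtain ⟨M, hM⟩ : (1 - u) ∈ (Ideal.span (Set.range fun Q : t => r' Q ^ nu Q)).radical := by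
    have h1 : L ≤ (Ideal.span (Set.range fun Q : t => r' Q ^ nu Q)).radical := Ideal.span_le.mpr (by
      rintro _ ⟨Q, rfl⟩
      exact ⟨nu Q, Ideal.subset_span ⟨Q, rfl⟩⟩)
    exact h1 (by simpa using neg_mem hu1)
  have hMu : (1 - u) ^ (M + 1) * u ∈ J := by
    have h1 : Ideal.span (Set.range fun Q : t => r' Q ^ nu Q) ≤
        Submodule.comap (LinearMap.mulRight S' u) J := Ideal.span_le.mpr (by
      rintro _ ⟨Q, rfl⟩
      exact hnu Q)
    exact h1 (pow_succ (1 - u) M ▸ Ideal.mul_mem_right _ _ hM)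
  obtain ⟨a, b, hab⟩ := (show IsCoprime (1 - u) u from ⟨1, 1, by ring⟩).pow_left (m := M + 1)
  let e₀ := a * (1 - u) ^ (M + 1)
  have he₀ : e₀ ^ 2 - e₀ ∈ J := by
    have : e₀ ^ 2 - e₀ = -(a * b) * ((1 - u) ^ (M + 1) * u) := by
      linear_combination (a * (1 - u) ^ (M + 1)) * hab
    rw [this]
    exact Ideal.mul_mem_left _ _ hMu
  have he₀L : e₀ ∈ L := Ideal.mul_mem_left _ _
    (Ideal.pow_mem_of_mem _ (by simpa using neg_mem hu1) _ M.succ_pos)
  obtain ⟨e, he, hee⟩ := Basic.idemFinite (I := I) S' hfin e₀ he₀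
  let f : A' := 1 - e
  refine ⟨f, ?_, (he.map S'.val).one_sub, ?_⟩
  · have h1 : (1 : S') - e = b * u - (e - e₀) := by
      linear_combination -hab
    have h2 : f = ((b * u - (e - e₀) : S') : A') := by rw [← h1]; push_cast; rfl
    rw [h2]
    push_cast
    exact sub_mem (Ideal.mul_mem_left _ _ huC) (hJC _ hee)
  · refine Module.Finite.of_surjective ((Ideal.Quotient.mkₐ A (Ideal.span {f})).comp S'.val).toLinearMap ?_
    intro c
    obtain ⟨c, rfl⟩ := Ideal.Quotient.mk_surjective c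
    choose m hm using fun Q : t => hx Q.1 c
    have htop : Ideal.span (Set.range fun Q : t => r' Q ^ m Q) ⊔ Ideal.span {1 - e} = ⊤ := by
      by_contra hne
      obtain ⟨P, hP, hle'⟩ := Ideal.exists_le_maximal _ hne
      have hL : L ≤ P := Ideal.span_le.mpr (by
        rintro _ ⟨Q, rfl⟩
        exact hP.isPrime.mem_of_pow_mem _ (hle' (Ideal.mem_sup_left (Ideal.subset_span ⟨Q, rfl⟩))))
      have hJP : J ≤ P := hjac.trans (sInf_le ⟨bot_le, hP⟩)
      refine hP.ne_top ((Ideal.eq_top_iff_one _).mpr ?_)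
      rw [show (1 : S') = (1 - e) + ((e - e₀) + e₀) by ring]
      exact add_mem (hle' (Ideal.mem_sup_right (Ideal.mem_span_singleton_self _)))
        (add_mem (hJP hee) (hL he₀L))
    obtain ⟨p, hp, q, hq, hpq⟩ := Submodule.mem_sup.mp (htop ▸ Submodule.mem_top : (1 : S') ∈ _)
    obtain ⟨w, hw⟩ := Ideal.mem_span_singleton'.mp hq
    obtain ⟨k, hk⟩ := Ideal.mem_span_range_iff_exists_fun.mp hp
    refine ⟨∑ Q : t, k Q * ⟨_, hle Q.1 Q.2 (hm Q)⟩, ?_⟩
    show Ideal.Quotient.mk _ (((∑ Q : t, k Q * ⟨_, hle Q.1 Q.2 (hm Q)⟩ : S') : A')) = _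
    rw [Ideal.Quotient.eq]
    have hpC := congrArg (fun x : S' => (x : A') * c) hpq
    simp only [← hk, ← hw] at hpC
    push_cast at hpC ⊢
    rw [one_mul, add_mul, Finset.sum_mul] at hpC
    refine Ideal.mem_span_singleton'.mpr ⟨-((w : A') * c), ?_⟩
    rw [show ∑ Q : t, (k Q : A') * (r Q ^ m Q * c) = ∑ Q : t, (k Q : A') * r Q ^ m Q * c from
      Finset.sum_congr rfl fun Q _ => (mul_assoc _ _ _).symm]
    simp only [f, r'] at hpC ⊢
    linear_combination -hpC

theorem exists_lift [HenselianRing A I] (C : Type u) [CommRing C] [Algebra (A ⧸ I) C]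
    [Module.Finite (A ⧸ I) C] [Algebra.Etale (A ⧸ I) C] :
    ∃ (B : Type u) (_ : CommRing B) (_ : Algebra A B), Module.Finite A B ∧ Algebra.Etale A B ∧
      Nonempty ((A ⧸ I) ⊗[A] B ≃ₐ[A ⧸ I] C) := by
  obtain ⟨D, _, _, _, ⟨e⟩⟩ := EtaleSurjLift.exists_lift (A := A) (Ā := A ⧸ I) (B := C)
    Ideal.Quotient.mk_surjective
  have : Module.Finite (A ⧸ I) ((A ⧸ I) ⊗[A] D) := Module.Finite.equiv e.symm.toLinearEquiv
  have : Module.Finite A ((A ⧸ I) ⊗[A] D) := Module.Finite.trans (A ⧸ I) _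
  have : Module.Finite A (D ⧸ I.map (algebraMap A D)) := by
    let l : (A ⧸ I) ⊗[A] D →ₐ[A] D ⧸ I.map (algebraMap A D) :=
      Algebra.TensorProduct.lift (Ideal.Quotient.liftₐ I (Algebra.ofId A _) fun i hi =>
          Ideal.Quotient.eq_zero_iff_mem.mpr (Ideal.mem_map_of_mem _ hi))
        (Ideal.Quotient.mkₐ A _) fun _ _ => Commute.all _ _
    refine Module.Finite.of_surjective l.toLinearMap fun z => ?_
    obtain ⟨z, rfl⟩ := Ideal.Quotient.mk_surjective z
    exact ⟨1 ⊗ₜ z, by simp [l]⟩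
  obtain ⟨f, hfI, hf, hfin⟩ := exists_finite_quotient (A := A) (I := I) (A' := D)
  let B := D ⧸ Ideal.span {1 - (1 - f)}
  have hfin' : Module.Finite A B := by
    show Module.Finite A (D ⧸ Ideal.span {1 - (1 - f)})
    rw [sub_sub_cancel]
    exact hfin
  have : IsLocalization.Away (1 - f) B := IsLocalization.Away.quotient_of_isIdempotentElem hf.one_sub
  have : Algebra.Etale D B := Algebra.Etale.of_isLocalizationAway (1 - f)
  have hB : Algebra.Etale A B := Algebra.Etale.comp A D B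
  let inc : D →ₐ[A] (A ⧸ I) ⊗[A] D := Algebra.TensorProduct.includeRight
  have hinc : I.map (algebraMap A D) ≤ RingHom.ker inc := Ideal.map_le_iff_le_comap.mpr fun i hi => by
    rw [Ideal.mem_comap, RingHom.mem_ker, inc.commutes,
      IsScalarTower.algebraMap_apply A (A ⧸ I), Ideal.Quotient.algebraMap_eq,
      Ideal.Quotient.eq_zero_iff_mem.mpr hi, map_zero]
  let ρ : B →ₐ[A] (A ⧸ I) ⊗[A] D := Ideal.Quotient.liftₐ _ inc fun a ha => by
    obtain ⟨c, rfl⟩ := Ideal.mem_span_singleton'.mp ha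
    rw [map_mul, sub_sub_cancel, show inc f = 0 from hinc hfI, mul_zero]
  have hρ : ∀ x : D, ρ (Ideal.Quotient.mk _ x) = inc x := fun x => Ideal.Quotient.lift_mk _ _ _
  let back : (A ⧸ I) ⊗[A] B →ₐ[A ⧸ I] (A ⧸ I) ⊗[A] D :=
    Algebra.TensorProduct.lift (Algebra.ofId _ _) ρ fun _ _ => Commute.all _ _
  let fwd : (A ⧸ I) ⊗[A] D →ₐ[A ⧸ I] (A ⧸ I) ⊗[A] B :=
    Algebra.TensorProduct.map (AlgHom.id _ _) (Ideal.Quotient.mkₐ A _)
  refine ⟨B, inferInstance, inferInstance, hfin', hB, ⟨(AlgEquiv.ofAlgHom back fwd ?_ ?_).trans e⟩⟩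
  · apply Algebra.TensorProduct.ext
    · exact Subsingleton.elim _ _
    · ext x; simp [back, fwd, inc, ← Algebra.TensorProduct.one_def]; exact hρ x
  · apply Algebra.TensorProduct.ext
    · exact Subsingleton.elim _ _
    · refine Ideal.Quotient.algHom_ext _ ?_
      ext x; simp [back, fwd, hρ, inc, ← Algebra.TensorProduct.one_def]; rfl

end Groth.Agent.HensPair.FiniteEtaleLift
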