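import Groth.Prelude.Def_FEt
import Groth.Agent.HensPair.FiniteEtaleLift
import Mathlib.AlgebraicGeometry.Pullbacks
import Mathlib.AlgebraicGeometry.Morphisms.Finite

/-!
Finite etale covers of a henselian pair.
-/

set_option autoImplicit false

noncomputable section

open CategoryTheory CategoryTheory.Limits AlgebraicGeometry
open scoped TensorProduct

namespace Groth.Agent.HensPair.FEtRestrict

universe u

variable {A : Type u} [CommRing A] (I : Ideal A)

/-- the structure map of an affine cover -/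
abbrev str (R C : Type u) [CommRing R] [CommRing C] [Algebra R C] :
    Spec (CommRingCat.of C) ⟶ Spec (CommRingCat.of R) :=
  Spec.map (CommRingCat.ofHom (algebraMap R C))

theorem exists_spec (R : Type u) [CommRing R] (Y : FEt.Cat (Spec (CommRingCat.of R))) :
    ∃ (C : Type u) (_ : CommRing C) (_ : Algebra R C) (_ : Module.Finite R C) (_ : Algebra.Etale R C)
      (e : Y.left ≅ Spec (CommRingCat.of C)), e.hom ≫ str R C = Y.hom := by
  have hfin : AlgebraicGeometry.IsFinite Y.hom := Y.prop.1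
  have het : AlgebraicGeometry.Etale Y.hom := Y.prop.2
  let h : Y.left ⟶ Spec (CommRingCat.of R) := Y.hom
  have : AlgebraicGeometry.IsFinite h := hfin
  have : AlgebraicGeometry.Etale h := het
  have : IsAffine Y.left := isAffine_of_isAffineHom h
  let φ := Spec.preimage (Y.left.isoSpec.inv ≫ h)
  have hφ : Spec.map φ = Y.left.isoSpec.inv ≫ h := Spec.map_preimage _
  have h1 : φ.hom.Finite := IsFinite.SpecMap_iff φ |>.mp (hφ ▸ inferInstance)
  have h2 : φ.hom.Etale := (HasRingHomProperty.Spec_iff (P := @AlgebraicGeometry.Etale)).mp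
    (hφ ▸ inferInstance)
  let : Algebra R Γ(Y.left, ⊤) := φ.hom.toAlgebra
  exact ⟨Γ(Y.left, ⊤), inferInstance, inferInstance, h1, h2, Y.left.isoSpec, by
    show Y.left.isoSpec.hom ≫ Spec.map φ = _
    rw [hφ, Iso.hom_inv_id_assoc]⟩

/-- maps of finite etale algebras lift uniquely from the quotient -/
theorem existsUnique_algHom [HenselianRing A I] (C D : Type u) [CommRing C] [CommRing D] [Algebra A C]
    [Algebra A D] [Module.Finite A C] [Algebra.Etale A D] (g : D →ₐ[A] C ⊗[A] (A ⧸ I)) :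
    ∃! f : D →ₐ[A] C, Algebra.TensorProduct.includeLeft.comp f = g := by
  let J := I.map (algebraMap A C)
  have : HenselianRing C J := Basic.henselian_of_isIntegral C
  let l : C ⊗[A] (A ⧸ I) →ₐ[A] C ⧸ J :=
    Algebra.TensorProduct.lift (Ideal.Quotient.mkₐ A J)
      (Ideal.Quotient.liftₐ I (Algebra.ofId A _) fun i hi =>
        Ideal.Quotient.eq_zero_iff_mem.mpr (Ideal.mem_map_of_mem _ hi)) fun _ _ => Commute.all _ _
  let inc : C →ₐ[A] C ⊗[A] (A ⧸ I) := Algebra.TensorProduct.includeLeft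
  have hJ : J ≤ RingHom.ker inc := Ideal.map_le_iff_le_comap.mpr fun i hi => by
    rw [Ideal.mem_comap, RingHom.mem_ker, inc.commutes, Algebra.TensorProduct.algebraMap_apply,
      Algebra.TensorProduct.tmul_one_eq_one_tmul, Ideal.Quotient.algebraMap_eq,
      Ideal.Quotient.eq_zero_iff_mem.mpr hi, TensorProduct.tmul_zero]
  let m : C ⧸ J →ₐ[A] C ⊗[A] (A ⧸ I) := Ideal.Quotient.liftₐ J inc fun a ha => hJ ha
  have hml : m.comp l = AlgHom.id A _ := by
    apply Algebra.TensorProduct.ext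
    · ext c
      show m (l (c ⊗ₜ 1)) = c ⊗ₜ 1
      rw [Algebra.TensorProduct.lift_tmul, map_one, mul_one]
      exact Ideal.Quotient.lift_mk _ _ _
    · exact Ideal.Quotient.algHom_ext _ (Subsingleton.elim _ _)
  have hlinc : l.comp inc = Ideal.Quotient.mkₐ A J := AlgHom.ext fun c => by simp [l, inc]
  have hmmk : m.comp (Ideal.Quotient.mkₐ A J) = inc :=
    AlgHom.ext fun c => show m (Ideal.Quotient.mk J c) = inc c from Ideal.Quotient.lift_mk _ _ _
  obtain ⟨τ, hτ, huniq⟩ := Basic.existsUnique_lift (A := A) (B := C) (J := J) D (l.comp g)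
  refine ⟨τ, ?_, fun f hf => huniq f ?_⟩
  · show inc.comp τ = g
    rw [← hmmk, AlgHom.comp_assoc, hτ, ← AlgHom.comp_assoc, hml, AlgHom.id_comp]
  · show (Ideal.Quotient.mkₐ A J).comp f = l.comp g
    rw [← hlinc, AlgHom.comp_assoc]
    exact congrArg l.comp hf

theorem isPullback_spec (C : Type u) [CommRing C] [Algebra A C] :
    IsPullback (Spec.map (CommRingCat.ofHom (S := C ⊗[A] (A ⧸ I)) Algebra.TensorProduct.includeLeftRingHom))
      (Spec.map (CommRingCat.ofHom (S := C ⊗[A] (A ⧸ I))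
        (Algebra.TensorProduct.includeRight (R := A) (A := C)).toRingHom))
      (str A C) (str A (A ⧸ I)) :=
  isPullback_SpecMap_of_isPushout _ _ _ _ (CommRingCat.isPushout_tensorProduct A C (A ⧸ I))

/-- the key bijection on morphisms -/
theorem existsUnique_hom [HenselianRing A I] (Y Z : FEt.Cat (Spec (CommRingCat.of A)))
    (g : pullback Y.hom (str A (A ⧸ I)) ⟶ Z.left)
    (hg : g ≫ Z.hom = pullback.fst Y.hom (str A (A ⧸ I)) ≫ Y.hom) :
    ∃! f : Y.left ⟶ Z.left, f ≫ Z.hom = Y.hom ∧ pullback.fst Y.hom (str A (A ⧸ I)) ≫ f = g := by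
  obtain ⟨C, _, _, _, _, e, he⟩ := exists_spec A Y
  obtain ⟨D, _, _, _, _, e', he'⟩ := exists_spec A Z
  let j := Spec.map (CommRingCat.ofHom (S := C ⊗[A] (A ⧸ I)) Algebra.TensorProduct.includeLeftRingHom)
  let q := Spec.map (CommRingCat.ofHom (S := C ⊗[A] (A ⧸ I))
    (Algebra.TensorProduct.includeRight (R := A) (A := C)).toRingHom)
  have h1 : IsPullback (j ≫ e.inv) q Y.hom (str A (A ⧸ I)) :=
    (isPullback_spec I C).of_iso (Iso.refl _) e.symm (Iso.refl _) (Iso.refl _) (by simp [j])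
      (by simp [q]) (by rw [← he]; simp) (by simp)
  let a := h1.isoPullback
  have ha : a.hom ≫ pullback.fst Y.hom (str A (A ⧸ I)) = j ≫ e.inv := h1.isoPullback_hom_fst
  let gs := a.hom ≫ g ≫ e'.hom
  obtain ⟨φ, hφ⟩ : ∃ φ, Spec.map φ = gs := ⟨_, Spec.map_preimage gs⟩
  have hφc : CommRingCat.ofHom (algebraMap A D) ≫ φ =
      CommRingCat.ofHom (algebraMap A (C ⊗[A] (A ⧸ I))) := by
    apply Spec.map_injective
    rw [Spec.map_comp, hφ]
    show (a.hom ≫ g ≫ e'.hom) ≫ str A D = _
    rw [Category.assoc, Category.assoc, he', hg, reassoc_of% ha, ← he, Iso.inv_hom_id_assoc]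
    show j ≫ str A C = _
    rw [← Spec.map_comp]
    rfl
  let gA : D →ₐ[A] C ⊗[A] (A ⧸ I) :=
    { toRingHom := φ.hom
      commutes' := fun x => RingHom.congr_fun (congrArg CommRingCat.Hom.hom hφc) x }
  obtain ⟨τ, hτ, huniq⟩ := existsUnique_algHom I C D gA
  have hτ' : j ≫ Spec.map (CommRingCat.ofHom τ.toRingHom) = gs := by
    rw [← Spec.map_comp, ← hφ]
    congr 1
    exact CommRingCat.hom_ext (RingHom.ext fun x => DFunLike.congr_fun hτ x)
  refine ⟨e.hom ≫ Spec.map (CommRingCat.ofHom τ.toRingHom) ≫ e'.inv, ⟨?_, ?_⟩, fun f hf => ?_⟩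
  · rw [Category.assoc, Category.assoc, ← he', Iso.inv_hom_id_assoc, ← Spec.map_comp, ← he]
    congr 2
    exact CommRingCat.hom_ext (RingHom.ext fun x => τ.commutes x)
  · rw [← cancel_epi a.hom, reassoc_of% ha, Iso.inv_hom_id_assoc, reassoc_of% hτ']
    simp [gs]
  · obtain ⟨ψ, hψ⟩ : ∃ ψ, Spec.map ψ = e.inv ≫ f ≫ e'.hom := ⟨_, Spec.map_preimage _⟩
    have hψc : CommRingCat.ofHom (algebraMap A D) ≫ ψ = CommRingCat.ofHom (algebraMap A C) := by
      apply Spec.map_injective
      rw [Spec.map_comp, hψ]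
      show (e.inv ≫ f ≫ e'.hom) ≫ str A D = str A C
      rw [Category.assoc, Category.assoc, he', hf.1, ← he, Iso.inv_hom_id_assoc]
    let ψA : D →ₐ[A] C :=
      { toRingHom := ψ.hom
        commutes' := fun x => RingHom.congr_fun (congrArg CommRingCat.Hom.hom hψc) x }
    have hψτ : ψA = τ := huniq ψA (by
      have : ψ ≫ CommRingCat.ofHom (S := C ⊗[A] (A ⧸ I)) Algebra.TensorProduct.includeLeftRingHom = φ := by
        apply Spec.map_injective
        rw [Spec.map_comp, hφ, hψ]
        show j ≫ e.inv ≫ f ≫ e'.hom = a.hom ≫ g ≫ e'.hom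
        rw [← reassoc_of% ha, reassoc_of% hf.2]
      exact AlgHom.ext fun x => RingHom.congr_fun (congrArg CommRingCat.Hom.hom this) x)
    rw [← hψτ]
    show f = e.hom ≫ Spec.map ψ ≫ e'.inv
    rw [hψ]
    simp

instance faithful [HenselianRing A I] : (FEt.restrict (str A (A ⧸ I))).Faithful where
  map_injective {Y Z} f₁ f₂ h := by
    refine MorphismProperty.Over.Hom.ext ?_
    have h' : pullback.fst Y.hom (str A (A ⧸ I)) ≫ f₁.left = pullback.fst Y.hom (str A (A ⧸ I)) ≫ f₂.left := by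
      exact (pullback.lift_fst _ _ _).symm.trans ((congrArg
        (fun t : (FEt.restrict (str A (A ⧸ I))).obj Y ⟶ (FEt.restrict (str A (A ⧸ I))).obj Z =>
          t.left ≫ pullback.fst Z.hom (str A (A ⧸ I))) h).trans (pullback.lift_fst _ _ _))
    obtain ⟨f, -, hu⟩ := existsUnique_hom I Y Z (pullback.fst Y.hom (str A (A ⧸ I)) ≫ f₁.left)
      (by rw [Category.assoc]; exact congrArg (_ ≫ ·) (Over.w f₁.hom))
    exact (hu f₁.left ⟨Over.w f₁.hom, rfl⟩).trans (hu f₂.left ⟨Over.w f₂.hom, h'.symm⟩).symm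

instance full [HenselianRing A I] : (FEt.restrict (str A (A ⧸ I))).Full where
  map_surjective {Y Z} g := by
    have hg : (g.left ≫ pullback.fst Z.hom (str A (A ⧸ I))) ≫ Z.hom =
        pullback.fst Y.hom (str A (A ⧸ I)) ≫ Y.hom := by
      exact (Category.assoc _ _ _).trans ((congrArg (g.left ≫ ·) pullback.condition).trans
        ((Category.assoc _ _ _).symm.trans ((congrArg (· ≫ str A (A ⧸ I)) (Over.w g.hom)).trans
          pullback.condition.symm)))
    obtain ⟨f, ⟨hf1, hf2⟩, -⟩ := existsUnique_hom I Y Z _ hg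
    refine ⟨MorphismProperty.Over.homMk f hf1, MorphismProperty.Over.Hom.ext ?_⟩
    apply pullback.hom_ext
    · exact (pullback.lift_fst _ _ _).trans hf2
    · have hw : g.left ≫ pullback.snd Z.hom (str A (A ⧸ I)) = pullback.snd Y.hom (str A (A ⧸ I)) :=
        Over.w g.hom
      exact (pullback.lift_snd _ _ _).trans hw.symm

instance essSurj [HenselianRing A I] : (FEt.restrict (str A (A ⧸ I))).EssSurj where
  mem_essImage Z := by
    obtain ⟨C₀, _, _, _, _, e₀, he₀⟩ := exists_spec (A ⧸ I) Z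
    obtain ⟨B, _, _, _, _, ⟨w⟩⟩ := FiniteEtaleLift.exists_lift (A := A) (I := I) C₀
    have hY : FEt.prop (str A B) := ⟨(IsFinite.SpecMap_iff _).mpr (RingHom.finite_algebraMap.mpr ‹_›),
      (HasRingHomProperty.Spec_iff (P := @AlgebraicGeometry.Etale)).mpr (RingHom.etale_algebraMap.mpr ‹_›)⟩
    let Y : FEt.Cat (Spec (CommRingCat.of A)) := MorphismProperty.Over.mk _ (str A B) hY
    let v : CommRingCat.of C₀ ≅ CommRingCat.of (B ⊗[A] (A ⧸ I)) :=
      (w.symm.toRingEquiv.trans (Algebra.TensorProduct.comm A (A ⧸ I) B).toRingEquiv).toCommRingCatIso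
    let k := e₀ ≪≫ Scheme.Spec.mapIso v.symm.op
    have hk : k.hom ≫ Spec.map (CommRingCat.ofHom (S := B ⊗[A] (A ⧸ I))
        (Algebra.TensorProduct.includeRight (R := A) (A := B)).toRingHom) = Z.hom := by
      show (e₀.hom ≫ Spec.map v.inv) ≫ _ = _
      rw [Category.assoc, ← Spec.map_comp, ← he₀]
      congr 2
      refine CommRingCat.hom_ext (RingHom.ext fun x => ?_)
      show w ((Algebra.TensorProduct.comm A (A ⧸ I) B).symm ((1 : B) ⊗ₜ x)) = algebraMap (A ⧸ I) C₀ x
      rw [Algebra.TensorProduct.comm_symm_tmul]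
      exact w.commutes x
    refine ⟨Y, ⟨MorphismProperty.Over.isoMk ((isPullback_spec I B).isoPullback.symm ≪≫ k.symm) ?_⟩⟩
    show ((isPullback_spec I B).isoPullback.inv ≫ k.inv) ≫ Z.hom = pullback.snd _ _
    rw [← hk, Category.assoc, Iso.inv_hom_id_assoc]
    exact (isPullback_spec I B).isoPullback_inv_snd

theorem isEquivalence [HenselianRing A I] : (FEt.restrict (str A (A ⧸ I))).IsEquivalence where

end Groth.Agent.HensPair.FEtRestrict
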