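import Groth.Agent.HensPair.OpenDim

/-!
Fibre dimensions read off in affine charts; valuation rings.
-/

set_option autoImplicit false
set_option synthInstance.maxHeartbeats 200000

noncomputable section

open CategoryTheory CategoryTheory.Limits AlgebraicGeometry TopologicalSpace Topology TensorProduct

namespace Groth.Agent.HensPair.FibreChart

open Groth.Agent.Equidim.Core (pr mem_pr pr_under)

universe u

set_option backward.isDefEq.respectTransparency false

/-- over a valuation ring, elements independent on the special fibre are independent on the generic one -/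
theorem indep_of_valuationRing {A B : Type u} [CommRing A] [IsDomain A] [ValuationRing A] [CommRing B] [Algebra A B]
    {P Q : Ideal B} [P.IsPrime] (hle : P ≤ Q) (hP : P.comap (algebraMap A B) = ⊥) {q : Ideal A} [q.IsPrime]
    {d : ℕ} (b : Fin d → B) (h : OpenDim.Indep q Q b) : OpenDim.Indep (A := A) ⊥ P b := by
  classical
  refine le_antisymm (fun G hG => ?_) (by rw [Ideal.map_bot]; exact bot_le)
  rw [Ideal.map_bot, Submodule.mem_bot]
  by_contra hne
  have key : ∀ s : Finset (Fin d →₀ ℕ), s.Nonempty → ∃ m ∈ s, ∀ n ∈ s, G.coeff m ∣ G.coeff n := by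
    intro s hs
    induction hs using Finset.Nonempty.cons_induction with
    | singleton a => exact ⟨a, Finset.mem_singleton_self a, fun n hn => by rw [Finset.mem_singleton.mp hn]⟩
    | cons a s ha hs ih =>
      obtain ⟨m, hm, hdm⟩ := ih
      rcases ValuationRing.dvd_total (G.coeff a) (G.coeff m) with h1 | h1
      · refine ⟨a, Finset.mem_cons_self a s, fun n hn => ?_⟩
        rcases Finset.mem_cons.mp hn with rfl | hn
        · exact dvd_rfl
        · exact h1.trans (hdm n hn)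
      · refine ⟨m, Finset.mem_cons_of_mem hm, fun n hn => ?_⟩
        rcases Finset.mem_cons.mp hn with rfl | hn
        · exact h1
        · exact hdm n hn
  obtain ⟨m, hm, hdm⟩ := key G.support (by simpa [Finset.nonempty_iff_ne_empty] using hne)
  have hdvd : ∀ n, G.coeff m ∣ G.coeff n := fun n => by
    by_cases hn : n ∈ G.support
    · exact hdm n hn
    · rw [MvPolynomial.notMem_support_iff.mp hn]; exact dvd_zero _
  obtain ⟨G₀, hG₀⟩ := (MvPolynomial.C_dvd_iff_dvd_coeff _ _).mpr hdvd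
  have h0 : MvPolynomial.aeval b G₀ ∈ P := by
    have h1 : MvPolynomial.aeval b G ∈ P := hG
    rw [hG₀, map_mul, MvPolynomial.aeval_C] at h1
    refine (‹P.IsPrime›.mem_or_mem h1).resolve_left fun h2 => MvPolynomial.mem_support_iff.mp hm ?_
    have h3 : G.coeff m ∈ P.comap (algebraMap A B) := h2
    rw [hP] at h3
    exact h3
  have h4 := MvPolynomial.mem_map_C_iff.mp (h.le (show G₀ ∈ Q.comap (MvPolynomial.aeval b : MvPolynomial (Fin d) A →ₐ[A] B) from hle h0)) m
  have h5 : G₀.coeff m = 1 := by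
    have h6 := congrArg (MvPolynomial.coeff m) hG₀
    rw [MvPolynomial.coeff_C_mul] at h6
    exact (mul_right_eq_self₀.mp h6.symm).resolve_right (MvPolynomial.mem_support_iff.mp hm)
  rw [h5] at h4
  exact Ideal.IsPrime.ne_top ‹q.IsPrime› ((Ideal.eq_top_iff_one _).mpr h4)

section chart

variable {X Y : Scheme.{u}} (f : X ⟶ Y) [LocallyOfFiniteType f] {U₀ : Y.Opens} (hU₀ : IsAffineOpen U₀)
  {V : X.Opens} (hV : IsAffineOpen V) (hVU : V ≤ f ⁻¹ᵁ U₀) [Algebra Γ(Y, U₀) Γ(X, V)]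
  (halg : algebraMap Γ(Y, U₀) Γ(X, V) = (f.appLE U₀ V hVU).hom)

include halg in
/-- a fibre-maximal point: the dimension of the fibre is at most that of the chart quotient -/
theorem fibreDimAt_le_quot (x : X) (hxV : x ∈ V) (hmax : ∀ x' : X, f x' = f x → x ∈ closure {x'} → x' = x)
    (p : PrimeSpectrum Γ(Y, U₀)) (hp : hU₀.fromSpec p = f x) (Mx : PrimeSpectrum (p.asIdeal.Fiber Γ(X, V)))
    (hMx : Equidim.ch hV (AlgHom.id Γ(Y, U₀) Γ(X, V)) p Mx = x) :
    FlatMor.fibreDimAt f x ≤ ringKrullDim (p.asIdeal.Fiber Γ(X, V) ⧸ Mx.asIdeal) := by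
  classical
  let π := AlgHom.id Γ(Y, U₀) Γ(X, V)
  have hπ : Function.Surjective π := Function.surjective_id
  have hkerπ : ∀ Q : PrimeSpectrum Γ(X, V), RingHom.ker π.toRingHom ≤ Q.asIdeal := fun Q a ha => by
    rw [(show a = 0 from ha)]; exact Ideal.zero_mem _
  have : IsLocallyNoetherian (f.fiber (f x)) :=
    haveI : LocallyOfFiniteType (f.fiberToSpecResidueField (f x)) :=
      MorphismProperty.pullback_snd (P := @LocallyOfFiniteType) _ _ inferInstance
    LocallyOfFiniteType.isLocallyNoetherian (f.fiberToSpecResidueField (f x))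
  obtain ⟨O, hxO, hO⟩ := Equidim.AffineParam.exists_nhd_gen (f.asFiber x)
  let ι := f.fiberι (f x)
  let O' : TopologicalSpace.Opens ↥(f.fiber (f x)) :=
    ⟨(O : Set ↥(f.fiber (f x))) ∩ ι ⁻¹' (V : Set X), O.2.inter (V.2.preimage ι.continuous)⟩
  have hxO' : f.asFiber x ∈ O' := ⟨hxO, by show ι (f.asFiber x) ∈ V; rw [f.fiberι_asFiber]; exact hxV⟩
  refine (TopDim.Basic.localDim_le (f.asFiber x) O' hxO').trans ?_
  refine Equidim.dim_le_quot (φ := fun s : ↥(O' : Set ↥(f.fiber (f x))) => ι s.1)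
    (ι.isEmbedding.isInducing.comp IsInducing.subtypeVal) (Equidim.ch_isEmbedding hV π hπ p) Mx.asIdeal fun s => ?_
  obtain ⟨g, hgs, hgmax⟩ := Equidim.AffineCrit.exists_maximal_above (s.1 : ↥(f.fiber (f x)))
  have hgx : g ⤳ f.asFiber x := hO g (hgs.mem_open O.2 s.2.1) hgmax
  have hgx' : ι g = x := by
    refine hmax _ ((f.range_fiberι (f x)).subset ⟨g, rfl⟩) ?_
    have := hgx.map ι.continuous
    rw [f.fiberι_asFiber] at this
    exact this.mem_closure
  obtain ⟨Qs, hQs⟩ := hV.range_fromSpec.superset (show ι s.1 ∈ V from s.2.2)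
  obtain ⟨Ms, hMs⟩ := Equidim.exists_ch f hU₀ hV hVU halg π hπ p Qs (hkerπ _)
    (by rw [hQs, hp]; exact (f.range_fiberι (f x)).subset ⟨_, rfl⟩)
  rw [hQs] at hMs
  refine ⟨Ms, (Equidim.ch_specializes hV π hπ p Mx Ms).mp ?_, hMs⟩
  rw [hMx, hMs]
  exact (specializes_of_eq hgx'.symm).trans (hgs.map ι.continuous)

include hU₀ halg in
/-- the chart quotient bounds the dimension of the fibre from below -/
theorem quot_le_fibreDimAt (p : PrimeSpectrum Γ(Y, U₀)) (M : PrimeSpectrum (p.asIdeal.Fiber Γ(X, V))) :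
    ringKrullDim (p.asIdeal.Fiber Γ(X, V) ⧸ M.asIdeal) ≤ FlatMor.fibreDimAt f (hV.fromSpec (pr p M)) := by
  classical
  let π := AlgHom.id Γ(Y, U₀) Γ(X, V)
  have hπ : Function.Surjective π := Function.surjective_id
  have hf1 : f (hV.fromSpec (pr p M)) = hU₀.fromSpec p := Equidim.f_ch f hU₀ hV hVU halg π p M
  let y : Y := hU₀.fromSpec p
  obtain ⟨c, hc⟩ : hV.fromSpec (pr p M) ∈ Set.range (f.fiberι y) := by
    rw [f.range_fiberι]; exact hf1
  rw [← Equidim.localDim_fiber_eq f y c _ hc]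
  refine le_trans ?_ (Equidim.AffineCrit.le_localDim f y (closure {c}) isIrreducible_singleton.closure
    isClosed_closure c (subset_closure rfl))
  refine le_of_eq_of_le (PrimeSpectrum.topologicalKrullDim_eq_ringKrullDim
    (p.asIdeal.Fiber Γ(X, V) ⧸ M.asIdeal)).symm ?_
  refine Equidim.dim_le_of_range (g := fun s : ↥(closure ({c} : Set ↥(f.fiber y))) => f.fiberι y s.1)
    (φ := fun s : PrimeSpectrum (p.asIdeal.Fiber Γ(X, V) ⧸ M.asIdeal) =>
      Equidim.ch hV π p (PrimeSpectrum.comap (Ideal.Quotient.mk M.asIdeal) s))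
    ((Equidim.ch_isEmbedding hV π hπ p).isInducing.comp
      (PrimeSpectrum.isClosedEmbedding_comap_of_surjective _ _ Ideal.Quotient.mk_surjective).isEmbedding.isInducing)
    ((f.fiberι y).isEmbedding.comp IsEmbedding.subtypeVal) fun s => ?_
  obtain ⟨g, hg⟩ : Equidim.ch hV π p (PrimeSpectrum.comap (Ideal.Quotient.mk M.asIdeal) s) ∈ Set.range (f.fiberι y) := by
    rw [f.range_fiberι]; exact Equidim.f_ch f hU₀ hV hVU halg π p _
  refine ⟨⟨g, specializes_iff_mem_closure.mp ((f.fiberι y).isEmbedding.isInducing.specializes_iff.mp ?_)⟩, hg⟩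
  rw [hg, hc]
  refine (Equidim.ch_specializes hV π hπ p M _).mpr ?_
  intro t ht
  show Ideal.Quotient.mk M.asIdeal t ∈ s.asIdeal
  rw [Ideal.Quotient.eq_zero_iff_mem.mpr ht]
  exact zero_mem _

end chart

/-- over a valuation ring the generic fibre is at least as big as the special one -/
theorem fibreDimAt_le_of_valuationRing {X Y : Scheme.{u}} (f : X ⟶ Y) [LocallyOfFiniteType f] {U₀ : Y.Opens}
    (hU₀ : IsAffineOpen U₀) [IsDomain Γ(Y, U₀)] [ValuationRing Γ(Y, U₀)] (g ξ : X) (hg : f g ∈ U₀)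
    (hmax : ∀ x' : X, f x' = f g → g ∈ closure {x'} → x' = g) (hξ : ξ ⤳ g)
    (hfξ : f ξ = hU₀.fromSpec (⟨⊥, Ideal.isPrime_bot⟩ : PrimeSpectrum Γ(Y, U₀))) :
    FlatMor.fibreDimAt f g ≤ FlatMor.fibreDimAt f ξ := by
  classical
  obtain ⟨V, hV, hgV, hVU⟩ := exists_isAffineOpen_mem_and_subset (X := X) (U := f ⁻¹ᵁ U₀) (x := g) hg
  let : Algebra Γ(Y, U₀) Γ(X, V) := (f.appLE U₀ V hVU).hom.toAlgebra
  have : Algebra.FiniteType Γ(Y, U₀) Γ(X, V) := Equidim.finiteType_chart f hU₀ hV hVU rfl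
  let π := AlgHom.id Γ(Y, U₀) Γ(X, V)
  have hkerπ : ∀ Q : PrimeSpectrum Γ(X, V), RingHom.ker π.toRingHom ≤ Q.asIdeal := fun Q a ha => by
    rw [(show a = 0 from ha)]; exact Ideal.zero_mem _
  obtain ⟨Qg, hQg⟩ := hV.range_fromSpec.superset hgV
  obtain ⟨Qξ, hQξ⟩ := hV.range_fromSpec.superset (hξ.mem_open V.2 hgV)
  let p := hU₀.primeIdealOf ⟨f g, hg⟩
  let p₁ : PrimeSpectrum Γ(Y, U₀) := ⟨⊥, Ideal.isPrime_bot⟩
  have hp : hU₀.fromSpec p = f g := hU₀.fromSpec_primeIdealOf _
  obtain ⟨Mg, hMg⟩ := Equidim.exists_ch f hU₀ hV hVU rfl π Function.surjective_id p Qg (hkerπ _) (by rw [hQg, hp])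
  obtain ⟨M, hM⟩ := Equidim.exists_ch f hU₀ hV hVU rfl π Function.surjective_id p₁ Qξ (hkerπ _) (by rw [hQξ, hfξ])
  rw [hQg] at hMg
  rw [hQξ] at hM
  obtain ⟨d, b, hd, hind⟩ := OpenDim.exists_indep_quot p Mg
  have hle : pr p₁ M ≤ pr p Mg := (PrimeSpectrum.le_iff_specializes _ _).mpr
    (hV.fromSpec.isOpenEmbedding.isInducing.specializes_iff.mp
      ((specializes_of_eq hM).trans (hξ.trans (specializes_of_eq hMg.symm))))
  have h1 : OpenDim.Indep p₁.asIdeal (pr p₁ M).asIdeal b :=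
    indep_of_valuationRing hle (pr_under p₁ M) b hind
  refine (fibreDimAt_le_quot f hU₀ hV hVU rfl g hgV hmax p hp Mg hMg).trans (hd.le.trans
    ((OpenDim.le_dim_of_indep p₁ M b h1).trans ((quot_le_fibreDimAt f hU₀ hV hVU rfl p₁ M).trans (le_of_eq ?_))))
  exact congrArg _ hM

end Groth.Agent.HensPair.FibreChart
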