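import Groth.Agent.HensPair.ChevalleyTfae

/-!
Components of fibres and components through them.
-/

set_option autoImplicit false
set_option synthInstance.maxHeartbeats 200000

noncomputable section

open CategoryTheory CategoryTheory.Limits AlgebraicGeometry TopologicalSpace Topology

namespace Groth.Agent.HensPair.FibreComp

universe u

set_option backward.isDefEq.respectTransparency false

variable {X Y : Scheme.{u}} (f : X ⟶ Y) [LocallyOfFiniteType f]

theorem dim_closure_eq (y : Y) (c : ↥(f.fiber y)) (hc : ∀ p, p ⤳ c → p = c) :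
    topologicalKrullDim ↥(closure ({c} : Set ↥(f.fiber y))) = FlatMor.fibreDimAt f (f.fiberι y c) := by
  rw [← Equidim.localDim_fiber_eq f y c _ rfl]
  exact le_antisymm (Equidim.AffineCrit.le_localDim f y _ isIrreducible_singleton.closure isClosed_closure c
    (subset_closure rfl)) (Equidim.AffineCrit.localDim_le_component f y c hc)

theorem maximal_image (y : Y) (c : ↥(f.fiber y)) (hc : ∀ p, p ⤳ c → p = c) (x' : X) (hx' : f x' = y)
    (h : f.fiberι y c ∈ closure {x'}) : x' = f.fiberι y c := by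
  obtain ⟨p, rfl⟩ := (f.range_fiberι y).ge hx'
  exact congrArg _ (hc p ((f.fiberι y).isEmbedding.isInducing.specializes_iff.mp (specializes_iff_mem_closure.mpr h)))

/-- through an open maximal point of a fibre there is a dominating component with the same dimension -/
theorem exists_component_of_openAt [IsLocallyNoetherian Y] [IrreducibleSpace Y] (y : Y) (c : ↥(f.fiber y))
    (hc : ∀ p, p ⤳ c → p = c) (hopen : EGA43.IsOpenAt f.base (f.fiberι y c)) :
    ∃ Z ∈ irreducibleComponents (X : Type u), ∃ hx : f.fiberι y c ∈ Z ∩ f ⁻¹' {y}, closure (f '' Z) = Set.univ ∧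
      FlatMor.localDim ↥(Z ∩ f ⁻¹' {y}) ⟨_, hx⟩ = topologicalKrullDim ↥(closure ({c} : Set ↥(f.fiber y))) ∧
      topologicalKrullDim ↥(closure ({c} : Set ↥(f.fiber y))) = topologicalKrullDim ↥(Z ∩ f ⁻¹' {genericPoint Y}) := by
  rw [dim_closure_eq f y c hc]
  have hgy : f (f.fiberι y c) = y := (f.range_fiberι y).subset ⟨c, rfl⟩
  have hm := maximal_image f y c hc
  generalize f.fiberι y c = g at hopen hgy hm ⊢
  subst hgy
  obtain ⟨Z, hZ, hxZ, hcl, h⟩ := ChevalleyTfae.b_of_dims f g
    (fun U hU η hη _ => OpenDim.dim_ge_of_openAt f g hm hopen U hU η hη) Set.univ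
    (by rw [irreducibleComponents_eq_singleton]; exact Set.mem_singleton _) trivial
  obtain ⟨h1, h2⟩ := h (genericPoint Y) (genericPoint_spec Y).def
  exact ⟨Z, hZ, ⟨hxZ, rfl⟩, hcl, h1.symm, h1.trans h2⟩

theorem exists_fibre_component [IrreducibleSpace Y] (Z : Set X) (hZ : Z ∈ irreducibleComponents (X : Type u))
    (hcl : closure (f '' Z) = Set.univ) :
    ∃ c : ↥(f.fiber (genericPoint Y)), (∀ p, p ⤳ c → p = c) ∧
      topologicalKrullDim ↥(closure ({c} : Set ↥(f.fiber (genericPoint Y)))) =
        topologicalKrullDim ↥(Z ∩ f ⁻¹' {genericPoint Y}) := by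
  let ζ := hZ.1.genericPoint
  have hζ : closure ({ζ} : Set X) = Z := by
    rw [hZ.1.genericPoint_closure_eq, (isClosed_of_mem_irreducibleComponents Z hZ).closure_eq]
  have hfζ : f ζ = genericPoint Y := IsGenericPoint.eq (S := Set.univ)
    ((Equidim.AffineCrit.closure_image_component f.continuous hZ).symm.trans hcl) (genericPoint_spec Y)
  let ι := f.fiberι (genericPoint Y)
  obtain ⟨c, hc⟩ := (f.range_fiberι (genericPoint Y)).ge hfζ
  have hmem : ∀ s, c ⤳ s ↔ ι s ∈ Z := fun s => by
    rw [← ι.isEmbedding.isInducing.specializes_iff, hc, specializes_iff_mem_closure, hζ]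
  refine ⟨c, fun p hp => ι.isEmbedding.injective ((Equidim.AffineCrit.genericPoint_maximal hZ (ι p)
    ((hp.map ι.continuous).trans (specializes_of_eq hc))).trans hc.symm), le_antisymm ?_ ?_⟩
  · exact Equidim.dim_le_of_range (φ := fun s : ↥(closure ({c} : Set ↥(f.fiber (genericPoint Y)))) => ι s.1)
      (ι.isEmbedding.isInducing.comp IsInducing.subtypeVal) IsEmbedding.subtypeVal fun s =>
      ⟨⟨ι s.1, (hmem _).mp (specializes_iff_mem_closure.mpr s.2), (f.range_fiberι _).subset ⟨_, rfl⟩⟩, rfl⟩
  · refine Equidim.dim_le_of_range (φ := fun s : ↥(Z ∩ f ⁻¹' {genericPoint Y}) => (s : X))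
      IsInducing.subtypeVal (ι.isEmbedding.comp IsEmbedding.subtypeVal) fun s => ?_
    obtain ⟨t, ht⟩ := (f.range_fiberι (genericPoint Y)).ge s.2.2
    exact ⟨⟨t, specializes_iff_mem_closure.mp ((hmem t).mpr (by
      show f.fiberι _ t ∈ Z
      rw [ht]; exact s.2.1))⟩, ht⟩

end Groth.Agent.HensPair.FibreComp
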