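import Groth.Agent.HensPair.DimBC
import Groth.Agent.HensPair.FibreChart
import Groth.Agent.HensPair.FibreComp
import Groth.Agent.FibreDepth.FibreDim
import Groth.Agent.S4447
import Mathlib.RingTheory.Spectrum.Prime.ConstructibleSet

/-!
Bounds on fibre dimensions of flat morphisms from a dense set of the base.
-/

set_option autoImplicit false
set_option synthInstance.maxHeartbeats 200000

noncomputable section

open CategoryTheory AlgebraicGeometry TopologicalSpace Topology Limits

namespace Groth.Agent.HensPair.FlatDense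

universe u

set_option backward.isDefEq.respectTransparency false

theorem mem_of_maximal {R : Type u} [CommRing R] {C : Set (PrimeSpectrum R)} (hC : IsConstructible C)
    (η : PrimeSpectrum R) (hη : η ∈ closure C) (hmax : ∀ z, z ⤳ η → z = η) : η ∈ C := by
  obtain ⟨T, _, φ, hφ⟩ := PrimeSpectrum.exists_range_eq_of_isConstructible hC
  rw [← hφ, PrimeSpectrum.closure_range_comap, PrimeSpectrum.mem_zeroLocus, SetLike.coe_subset_coe] at hη
  rw [← hφ]
  have hmin : η.asIdeal ∈ ((⊥ : Ideal T).comap φ).minimalPrimes := by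
    refine ⟨⟨η.2, by rw [← RingHom.ker_eq_comap_bot]; exact hη⟩, fun J hJ hle => ?_⟩
    rw [← hmax ⟨J, hJ.1⟩ ((PrimeSpectrum.le_iff_specializes _ _).mp hle)]
  obtain ⟨p, hp, -, hp'⟩ := Ideal.exists_comap_eq_of_mem_minimalPrimes φ η.asIdeal hmin
  exact ⟨⟨p, hp⟩, PrimeSpectrum.ext hp'⟩

theorem fibreDimAt_comp_mono {X Y Z : Scheme.{u}} (h : X ⟶ Y) [LocallyOfFiniteType h] (i : Y ⟶ Z) [Mono i]
    [LocallyOfFiniteType i] (x : X) : FlatMor.fibreDimAt (h ≫ i) x = FlatMor.fibreDimAt h x := by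
  have hsq : IsPullback (𝟙 X) h (h ≫ i) i := by
    refine ⟨⟨Category.id_comp _⟩, ⟨PullbackCone.IsLimit.mk _ (fun s => s.fst) (fun s => Category.comp_id _)
      (fun s => ?_) fun s m hm _ => by rw [← hm, Category.comp_id]⟩⟩
    rw [← cancel_mono i, Category.assoc]
    exact s.condition
  exact (DimBC.fibreDimAt_baseChange (h ≫ i) i (𝟙 X) h hsq x).symm

/-- fibre dimension is bounded at points over maximal points of the base -/
theorem le_of_maximal_of_lfp {X S : Scheme.{u}} (f : X ⟶ S) [LocallyOfFinitePresentation f]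
    (U : S.Opens) (hU : Dense (U : Set S)) (e : ℕ)
    (hle : ∀ x : X, f.base x ∈ U → FlatMor.fibreDimAt f x ≤ e) (x : X) (hmax : ∀ z, z ⤳ f x → z = f x) :
    FlatMor.fibreDimAt f x ≤ e := by
  obtain ⟨S₀, hS₀, hxS, -⟩ := exists_isAffineOpen_mem_and_subset (X := S) (U := ⊤) (x := f x) trivial
  obtain ⟨V, hV, hxV, hVS⟩ := exists_isAffineOpen_mem_and_subset (X := X) (U := f ⁻¹ᵁ S₀) (x := x) hxS
  let h := Spec.map (f.appLE S₀ V hVS)
  haveI : LocallyOfFinitePresentation h :=
    (HasRingHomProperty.Spec_iff (P := @LocallyOfFinitePresentation)).mpr (f.finitePresentation_appLE hS₀ hV hVS)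
  have key : ∀ a, FlatMor.fibreDimAt h a = FlatMor.fibreDimAt f (hV.fromSpec a) := fun a => by
    rw [← fibreDimAt_comp_mono h hS₀.fromSpec a, IsAffineOpen.SpecMap_appLE_fromSpec f hS₀ hV hVS,
      (CMFlat.Main.fibre_open hV.fromSpec f a).2]
  have hcomm : ∀ a, hS₀.fromSpec (h a) = f (hV.fromSpec a) := fun a =>
    congrArg (fun k : Spec Γ(X, V) ⟶ S => k a) (IsAffineOpen.SpecMap_appLE_fromSpec f hS₀ hV hVS)
  let G : Set (PrimeSpectrum Γ(S, S₀)) := {y | ((e + 1 : ℕ) : WithBot ℕ∞) ≤ topologicalKrullDim ↥(h.fiber y)}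
  have hG : IsConstructible G := by
    have h1 : IsLocallyConstructible G := (congrArg IsLocallyConstructible (Set.ext fun s => FibreDepth.FibreDim.geq_iff h (e + 1) s)).mp
      (h.isLocallyConstructible_image (FibreDepth.Constr.lc_assDims (f := h) (FibreDepth.Unit.isFP_unit _) fun i => e + 1 ≤ i))
    exact h1.isConstructible
  obtain ⟨a, ha⟩ : x ∈ Set.range hV.fromSpec := by rw [hV.range_fromSpec]; exact hxV
  by_contra hgt
  have haG : h a ∈ G := by
    refine le_trans ?_ (Equidim.fibreDimAt_le_dim h a)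
    rw [key, ha]
    obtain ⟨m, hm⟩ := ChevalleyTfae.exists_nat_eq f x
    rw [hm] at hgt ⊢
    have : ¬ m ≤ e := fun h' => hgt (by exact_mod_cast h')
    exact_mod_cast (by omega : e + 1 ≤ m)
  refine (mem_of_maximal hG.compl (h a) ?_ fun z hz => ?_) haG
  · have hsub : hS₀.fromSpec ⁻¹' (U : Set S) ⊆ Gᶜ := fun y hy hyG => by
      have h1 : topologicalKrullDim ↥(h.fiber y) ≤ (e : ℕ) := (Equidim.dim_fiber_le_iff h y _).mpr fun b hb => by
        rw [key b]
        refine hle _ ?_
        show f (hV.fromSpec b) ∈ U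
        rw [← hcomm, hb]
        exact hy
      have h2 : e + 1 ≤ e := by exact_mod_cast le_trans hyG h1
      omega
    refine closure_mono hsub ?_
    exact ((hU.preimage hS₀.fromSpec.isOpenEmbedding.isOpenMap).closure_eq).ge trivial
  · refine hS₀.fromSpec.isEmbedding.injective ?_
    refine (hmax _ ((hz.map hS₀.fromSpec.continuous).trans (specializes_of_eq ?_))).trans ?_
    · rw [hcomm, ha]
    · rw [hcomm, ha]

theorem maximal_mem {S : Scheme.{u}} (U : S.Opens) (hU : Dense (U : Set S)) (hr : IsRetrocompact (U : Set S))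
    (η : S) (hmax : ∀ z, z ⤳ η → z = η) : η ∈ U := by
  obtain ⟨S₀, hS₀, hηS, -⟩ := exists_isAffineOpen_mem_and_subset (X := S) (U := ⊤) (x := η) trivial
  obtain ⟨a, ha⟩ : η ∈ Set.range hS₀.fromSpec := by rw [hS₀.range_fromSpec]; exact hηS
  have hc : IsConstructible (hS₀.fromSpec ⁻¹' (U : Set S)) := by
    have ho : IsOpen (hS₀.fromSpec ⁻¹' (U : Set S)) := U.isOpen.preimage hS₀.fromSpec.continuous
    refine IsCompact.isConstructible ?_ ho
    refine (hS₀.fromSpec.isEmbedding.isInducing.isCompact_iff).mpr ?_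
    rw [Set.image_preimage_eq_inter_range, hS₀.range_fromSpec]
    exact hr hS₀.isCompact S₀.isOpen
  show η ∈ (U : Set S)
  rw [← ha]
  refine mem_of_maximal hc a ?_ fun z hz => hS₀.fromSpec.isEmbedding.injective ?_
  · exact ((hU.preimage hS₀.fromSpec.isOpenEmbedding.isOpenMap).closure_eq).ge trivial
  · rw [ha]; exact hmax _ ((hz.map hS₀.fromSpec.continuous).trans (specializes_of_eq ha))

theorem main {X S : Scheme.{u}} (f : X ⟶ S) [Flat f] [LocallyOfFiniteType f] (e : ℕ)
    (hgen : ∀ x : X, (∀ z, z ⤳ f x → z = f x) → FlatMor.fibreDimAt f x ≤ e) (x : X) :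
    FlatMor.fibreDimAt f x ≤ e := by
  obtain ⟨η, hη, hηmax⟩ := Equidim.AffineCrit.exists_maximal_above (f x)
  by_cases hne : f x = η
  · exact hgen x fun z hz => by rw [hne] at hz ⊢; exact hηmax z hz
  obtain ⟨A, h, -, hcl, hw⟩ := Groth.Agent.S4447.result (𝟙 S) η (f x) hη hne
  let T := Spec (CommRingCat.of A)
  let F := pullback.snd f h
  have hb : h (⟨⊥, Ideal.isPrime_bot⟩ : PrimeSpectrum A) = η := by
    have h1 := congrArg (fun k => k (IsLocalRing.closedPoint (S.residueField η))) hw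
    simp only [Scheme.Hom.comp_apply, Category.comp_id] at h1
    refine Eq.trans ?_ (h1.trans (Scheme.fromSpecResidueField_apply _ _))
    refine congrArg h (PrimeSpectrum.ext ?_)
    show ⊥ = (IsLocalRing.maximalIdeal (S.residueField η)).comap A.subtype
    rw [show IsLocalRing.maximalIdeal (S.residueField η) = ⊥ from IsLocalRing.maximalIdeal_eq_bot]
    exact (Ideal.comap_bot_of_injective _ Subtype.val_injective).symm
  obtain ⟨x₀, hx₀, hx₀'⟩ := Scheme.Pullback.exists_preimage_pullback (f := f) (g := h) x (IsLocalRing.closedPoint A) hcl.symm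
  obtain ⟨c, -, hmax, hdim⟩ := FibreTrdeg.exists_maximal_dim F x₀
  have hFc : F (F.fiberι (F x₀) c) = IsLocalRing.closedPoint A := ((F.range_fiberι _).subset ⟨c, rfl⟩).trans hx₀'
  obtain ⟨ξ, hξ, hFξ⟩ := Flat.generalizingMap F (show (⟨⊥, Ideal.isPrime_bot⟩ : PrimeSpectrum A) ⤳ F (F.fiberι (F x₀) c) by
    rw [hFc]; exact (PrimeSpectrum.le_iff_specializes _ _).mp bot_le)
  have hU₀ := isAffineOpen_top T
  let e' := (Scheme.ΓSpecIso (CommRingCat.of A)).commRingCatIsoToRingEquiv
  haveI : IsDomain Γ(T, ⊤) := e'.toMulEquiv.isDomain A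
  haveI : ValuationRing Γ(T, ⊤) := Function.Surjective.valuationRing e'.symm.toRingHom e'.symm.surjective
  have hle := FibreChart.fibreDimAt_le_of_valuationRing F hU₀ (F.fiberι (F x₀) c) ξ trivial
    (fun x' hx' => FibreComp.maximal_image F (F x₀) c hmax x' (hx'.trans ((F.range_fiberι _).subset ⟨c, rfl⟩)))
    hξ (by
      rw [hFξ]
      refine (Chevalley.eq_genericPoint (Y := T) (η := (⟨⊥, Ideal.isPrime_bot⟩ : PrimeSpectrum A)) fun z => (PrimeSpectrum.le_iff_specializes _ z).mp bot_le).trans ?_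
      refine (Chevalley.eq_genericPoint (Y := T) fun z => ?_).symm
      obtain ⟨q, rfl⟩ := hU₀.range_fromSpec.superset (show z ∈ ((⊤ : T.Opens) : Set _) from trivial)
      exact ((PrimeSpectrum.le_iff_specializes _ _).mp bot_le).map hU₀.fromSpec.continuous)
  have hsq := IsPullback.of_hasPullback f h
  rw [← hx₀, ← DimBC.fibreDimAt_baseChange f h _ F hsq x₀]
  refine hdim.trans (hle.trans ?_)
  rw [DimBC.fibreDimAt_baseChange f h _ F hsq ξ]
  refine hgen _ ?_
  rw [show f (pullback.fst f h ξ) = h (F ξ) from congrArg (fun k : pullback f h ⟶ S => k ξ) pullback.condition, hFξ, hb]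
  exact hηmax

end Groth.Agent.HensPair.FlatDense
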