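import Groth.Agent.HensPair.CatAdd
import Mathlib.Topology.JacobsonSpace
import Mathlib.AlgebraicGeometry.Morphisms.FiniteType

/-!
Dimension theory over Jacobson bases with universally catenary local rings.
-/

set_option autoImplicit false
set_option synthInstance.maxHeartbeats 200000

noncomputable section

open CategoryTheory AlgebraicGeometry TopologicalSpace Topology

namespace Groth.Agent.HensPair.JacobsonDim

universe u

set_option backward.isDefEq.respectTransparency false

theorem cd_nat {S : Scheme.{u}} [IsLocallyNoetherian S] (a b : S) (h : a ⤳ b) : ∃ n : ℕ, CatScheme.cd a b = (n : ℕ) := by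
  refine EquidimCore.natCast_of_bounds _ ?_ fun ht => ringKrullDim_ne_top (R := S.presheaf.stalk b) ?_
  · haveI : Nonempty ↥({t : S | a ⤳ t ∧ t ⤳ b}) := ⟨⟨b, h, specializes_rfl⟩⟩
    exact ne_bot_of_le_ne_bot (by simp) (Order.krullDim_nonneg (α := ↥({t : S | a ⤳ t ∧ t ⤳ b})))
  · exact top_le_iff.mp (ht ▸ CatScheme.cd_le_stalk a b)

section base

variable {S : Scheme.{u}} [IsLocallyNoetherian S]
  (h2 : ∀ s : S, CAlg.IsUniversallyCatenary (S.presheaf.stalk s))
  (h3 : ∀ S' ∈ irreducibleComponents (S : Type u), ∀ s ∈ S', IsClosed ({s} : Set S) →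
    topologicalKrullDim (↥S' : Type u) = topologicalKrullDim ↥{t : S | t ∈ S' ∧ t ⤳ s})

include h2 h3 in
/-- codimension of a closed point in an irreducible closed subset is constant -/
theorem cd_const (a s s' : S) (hs : a ⤳ s) (hs' : a ⤳ s') (hsc : IsClosed ({s} : Set S)) (hsc' : IsClosed ({s'} : Set S)) :
    CatScheme.cd a s = CatScheme.cd a s' := by
  obtain ⟨g, hg, hgmax⟩ := Equidim.AffineCrit.exists_maximal_above a
  have hG := Equidim.closure_mem_irreducibleComponents g hgmax
  have h1 := h3 _ hG s (hg.trans hs).mem_closure hsc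
  rw [h3 _ hG s' (hg.trans hs').mem_closure hsc', CatAdd.topDim_gen g s' (hg.trans hs'),
    CatAdd.topDim_gen g s (hg.trans hs), CatAdd.cd_add g a s' hg hs' (h2 s'), CatAdd.cd_add g a s hg hs (h2 s)] at h1
  obtain ⟨c, hc⟩ := cd_nat g a hg
  obtain ⟨n, hn⟩ := cd_nat a s hs
  obtain ⟨n', hn'⟩ := cd_nat a s' hs'
  rw [hc, hn, hn'] at h1
  have h4 : c + n' = c + n := by exact_mod_cast h1
  rw [hn, hn', show n = n' by omega]

variable [JacobsonSpace S]

theorem exists_closed_below (t : S) : ∃ s : S, t ⤳ s ∧ IsClosed ({s} : Set S) := by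
  obtain ⟨s, hs, hsc⟩ := nonempty_inter_closedPoints (Z := closure ({t} : Set S)) ⟨t, subset_closure rfl⟩
    isClosed_closure.isLocallyClosed
  exact ⟨s, specializes_iff_mem_closure.mpr hs, hsc⟩

include h2 h3 in
/-- the dimension of an irreducible scheme locally of finite type over the base -/
theorem dim_irreducible {Z : Scheme.{u}} [IrreducibleSpace Z] (p : Z ⟶ S) [LocallyOfFiniteType p] (s : S)
    (hs : p (genericPoint Z) ⤳ s) (hsc : IsClosed ({s} : Set S)) :
    topologicalKrullDim ↥Z = CatScheme.cd (p (genericPoint Z)) s + (FibreTrdeg.T p (genericPoint Z) : ℕ) := by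
  let ζ := genericPoint Z
  have hζ : ∀ z : Z, ζ ⤳ z := fun z => (genericPoint_spec Z).specializes trivial
  haveI : IsLocallyNoetherian Z := LocallyOfFiniteType.isLocallyNoetherian p
  obtain ⟨D, hD⟩ := cd_nat (p ζ) s hs
  show _ = CatScheme.cd (p ζ) s + (FibreTrdeg.T p ζ : ℕ)
  rw [hD]
  refine le_antisymm ?_ ?_
  · rw [show topologicalKrullDim ↥Z = Order.krullDim ↥Z from Order.krullDim_eq_of_orderIso irreducibleSetEquivPoints]
    refine iSup_le fun l => ?_
    obtain ⟨j, i, hi, hj, hle, -⟩ := CatScheme.alt p l.head ζ (hζ _)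
    rw [CatScheme.cd_eq_stalk_of_generic ζ l.head hζ, ringKrullDim_stalk_eq_coheight] at hi
    have h1 : (l.length : ℕ∞) ≤ Order.coheight l.head := Order.length_le_coheight_head
    have h2' : l.length ≤ i := by
      have : ((l.length : ℕ∞) : WithBot ℕ∞) ≤ ((i : ℕ) : WithBot ℕ∞) := (WithBot.coe_le_coe.mpr h1).trans hi.le
      exact_mod_cast this
    obtain ⟨s', hs', hsc'⟩ := exists_closed_below (p l.head)
    have h4 := CatAdd.cd_mono (p ζ) hs'
    rw [hj, cd_const h2 h3 (p ζ) s' s (((hζ l.head).map p.continuous).trans hs') hs hsc' hsc, hD] at h4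
    have h5 : j ≤ D := by exact_mod_cast h4
    exact_mod_cast (by omega : l.length ≤ D + FibreTrdeg.T p ζ)
  · haveI : JacobsonSpace Z := LocallyOfFiniteType.jacobsonSpace p
    obtain ⟨z, -, hzc⟩ := nonempty_inter_closedPoints (Z := (Set.univ : Set Z)) ⟨ζ, trivial⟩ isClosed_univ.isLocallyClosed
    have hpz : IsClosed ({p z} : Set S) := p.closePoints_subset_preimage_closedPoints hzc
    obtain ⟨j, i, hi, hj, -, heq⟩ := CatScheme.alt p z ζ (hζ z)
    rw [CatScheme.cd_eq_stalk_of_generic ζ z hζ] at hi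
    rw [cd_const h2 h3 (p ζ) (p z) s ((hζ z).map p.continuous) hs hpz hsc, hD] at hj
    have hDj : D = j := by exact_mod_cast hj
    obtain ⟨k, hk, hfd⟩ := FibreTrdeg.main p z
    have hT : FibreTrdeg.T p z = 0 := by
      have hclosed : ∀ c : ↥(p.fiber (p z)), p.asFiber z ⤳ c → c = p.asFiber z := fun c hc => by
        have h1 := hc.map (p.fiberι (p z)).continuous
        rw [p.fiberι_asFiber] at h1
        refine (p.fiberι (p z)).isEmbedding.injective ?_
        rw [p.fiberι_asFiber]
        have := hzc.closure_eq ▸ h1.mem_closure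
        exact this
      obtain ⟨U₀, hU₀, hyU₀, -⟩ := exists_isAffineOpen_mem_and_subset (X := S) (U := ⊤) (x := p z) trivial
      obtain ⟨V, hV, hzV, hVU⟩ := exists_isAffineOpen_mem_and_subset (X := Z) (U := p ⁻¹ᵁ U₀) (x := z) hyU₀
      let : Algebra Γ(S, U₀) Γ(Z, V) := (p.appLE U₀ V hVU).hom.toAlgebra
      obtain ⟨Q, hQ⟩ := hV.range_fromSpec.superset hzV
      obtain ⟨M, hM⟩ := Equidim.exists_ch p hU₀ hV hVU rfl (AlgHom.id _ _) Function.surjective_id
        (hU₀.primeIdealOf ⟨p z, hyU₀⟩) Q (fun a ha => by rw [(show a = 0 from ha)]; exact Ideal.zero_mem _)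
        (by rw [hQ, hU₀.fromSpec_primeIdealOf])
      rw [hQ] at hM
      have hmax : M.asIdeal.IsMaximal := by
        obtain ⟨N, hN, hMN⟩ := Ideal.exists_le_maximal M.asIdeal M.2.ne_top
        let Np : PrimeSpectrum _ := ⟨N, hN.isPrime⟩
        have h1 : z ⤳ Equidim.ch hV (AlgHom.id Γ(S, U₀) Γ(Z, V)) (hU₀.primeIdealOf ⟨p z, hyU₀⟩) Np :=
          (specializes_of_eq hM.symm).trans ((Equidim.ch_specializes hV _ Function.surjective_id _ M Np).mpr hMN)
        have h2 := hzc.closure_eq ▸ h1.mem_closure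
        have h3 : M = Np := (Equidim.ch_isEmbedding hV _ Function.surjective_id _).injective (hM.trans (h2 : _ = z).symm)
        exact (congrArg PrimeSpectrum.asIdeal h3).symm ▸ hN
      haveI := hmax
      letI := Ideal.Quotient.field M.asIdeal
      have h1 := FibreTrdeg.quot_dim_eq_T p hU₀ hV hVU rfl _ M z hM
      rw [ringKrullDim_eq_zero_of_field] at h1
      exact_mod_cast h1.symm
    have h6 := heq (h2 (p z))
    have h7 : ((i : ℕ) : WithBot ℕ∞) ≤ topologicalKrullDim ↥Z := by
      rw [← hi, ringKrullDim_stalk_eq_coheight,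
        show topologicalKrullDim ↥Z = Order.krullDim ↥Z from Order.krullDim_eq_of_orderIso irreducibleSetEquivPoints]
      exact Order.coheight_le_krullDim _
    refine le_trans ?_ h7
    exact_mod_cast (by omega : D + FibreTrdeg.T p ζ ≤ i)

end base

theorem T_add {X Y Z : Scheme.{u}} (f : X ⟶ Y) (g : Y ⟶ Z) [LocallyOfFiniteType f] [LocallyOfFiniteType g] (x : X) :
    FibreTrdeg.T (f ≫ g) x = FibreTrdeg.T g (f x) + FibreTrdeg.T f x := by
  letI := (g.residueFieldMap (f x)).hom.toAlgebra
  letI := (f.residueFieldMap x).hom.toAlgebra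
  letI a₃ : Algebra (Z.residueField (g (f x))) (X.residueField x) :=
    ((f.residueFieldMap x).hom.comp (g.residueFieldMap (f x)).hom).toAlgebra
  haveI : IsScalarTower (Z.residueField (g (f x))) (Y.residueField (f x)) (X.residueField x) :=
    IsScalarTower.of_algebraMap_eq fun _ => rfl
  haveI : FaithfulSMul (Z.residueField (g (f x))) (Y.residueField (f x)) :=
    (faithfulSMul_iff_algebraMap_injective _ _).mpr (RingHom.injective _)
  haveI : FaithfulSMul (Y.residueField (f x)) (X.residueField x) :=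
    (faithfulSMul_iff_algebraMap_injective _ _).mpr (RingHom.injective _)
  have h : Algebra.trdeg (Z.residueField (g (f x))) (X.residueField x) = (FibreTrdeg.T (f ≫ g) x : Cardinal.{u}) := by
    have h := FibreTrdeg.T_spec (f ≫ g) x
    rw [show ((f ≫ g).residueFieldMap x).hom = (f.residueFieldMap x).hom.comp (g.residueFieldMap (f x)).hom from by
      rw [Scheme.residueFieldMap_comp]; rfl] at h
    exact h
  rw [← trdeg_add_eq (Z.residueField (g (f x))) (Y.residueField (f x)) (A := X.residueField x),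
    FibreTrdeg.T_spec f x, FibreTrdeg.T_spec g (f x)] at h
  exact_mod_cast h.symm

end Groth.Agent.HensPair.JacobsonDim
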