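import Groth.Agent.HensPair.FieldAdd
import Groth.Agent.HensPair.FlatDense
import Groth.Agent.HensPair.CatFormula
import Groth.Agent.HensPair.JacobsonDim
import Groth.Agent.HensPair.DimBC

/-!
Fibre dimensions of composites.
-/

set_option autoImplicit false
set_option synthInstance.maxHeartbeats 200000

noncomputable section

open CategoryTheory CategoryTheory.Limits AlgebraicGeometry TopologicalSpace Topology

namespace Groth.Agent.HensPair.FibDimComp

universe u

set_option backward.isDefEq.respectTransparency false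

/-- going down at a point -/
def GD {P Q : Scheme.{u}} (s : P ⟶ Q) (z : P) : Prop :=
  ∀ w : P, w ⤳ z → ∀ η : Q, η ⤳ s w → ∃ ξ : P, ξ ⤳ w ∧ s ξ = η

theorem gd_of_flat {X Y : Scheme.{u}} (f : X ⟶ Y) (x : X) (h : (f.stalkMap x).hom.Flat) : GD f x := by
  intro w hw η hη
  have hfw : f w ⤳ f x := hw.map f.continuous
  obtain ⟨a, rfl⟩ : w ∈ Set.range (X.fromSpecStalk x) := by rw [Scheme.range_fromSpecStalk]; exact hw
  obtain ⟨b, rfl⟩ : η ∈ Set.range (Y.fromSpecStalk (f x)) := by rw [Scheme.range_fromSpecStalk]; exact hη.trans hfw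
  have e : ∀ c, Y.fromSpecStalk (f x) (Spec.map (f.stalkMap x) c) = f (X.fromSpecStalk x c) := fun c =>
    congrArg (fun k : Spec (X.presheaf.stalk x) ⟶ Y => k c) (Scheme.SpecMap_stalkMap_fromSpecStalk f)
  rw [← e] at hη
  have h1 : b ⤳ Spec.map (f.stalkMap x) a := (Y.fromSpecStalk (f x)).isEmbedding.isInducing.specializes_iff.mp hη
  obtain ⟨c, hc, hc'⟩ := RingHom.Flat.generalizingMap_comap h h1
  exact ⟨X.fromSpecStalk x c, hc.map (X.fromSpecStalk x).continuous, (e c).symm.trans (congrArg _ hc')⟩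

theorem gd_of_isPullback {X Y P Q : Scheme.{u}} (f : X ⟶ Y) (i : Q ⟶ Y) (i' : P ⟶ X) (s : P ⟶ Q)
    (h : IsPullback i' s f i) [IsPreimmersion i] (z : P) (hx : GD f (i' z)) : GD s z := by
  haveI : IsPreimmersion i' := MorphismProperty.of_isPullback h.flip inferInstance
  intro w hw η hη
  have hc : ∀ p, f (i' p) = i (s p) := fun p => congrArg (fun k : P ⟶ Y => k p) h.w
  obtain ⟨ξ, hξ, hξ'⟩ := hx (i' w) (hw.map i'.continuous) (i η) (by rw [hc]; exact hη.map i.continuous)
  let e := h.isoPullback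
  obtain ⟨r, hr1, hr2⟩ := Scheme.Pullback.exists_preimage_pullback (f := f) (g := i) ξ η hξ'
  refine ⟨e.inv r, i'.isEmbedding.isInducing.specializes_iff.mp ?_, ?_⟩
  · rw [show i' (e.inv r) = pullback.fst f i r from congrArg (fun k : pullback f i ⟶ X => k r) h.isoPullback_inv_fst, hr1]
    exact hξ
  · rw [show s (e.inv r) = pullback.snd f i r from congrArg (fun k : pullback f i ⟶ Q => k r) h.isoPullback_inv_snd, hr2]

variable {P Q K : Scheme.{u}} (s : P ⟶ Q) (q : Q ⟶ K) [Subsingleton K] [IsLocallyNoetherian K]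
  [LocallyOfFiniteType s] [LocallyOfFiniteType q]

include q in
theorem field_case (z : P) :
    FlatMor.localDim P z ≤ FlatMor.fibreDimAt s z + FlatMor.localDim Q (s z) ∧
      (GD s z → FlatMor.localDim P z = FlatMor.fibreDimAt s z + FlatMor.localDim Q (s z)) := by
  haveI : IsLocallyNoetherian Q := LocallyOfFiniteType.isLocallyNoetherian q
  haveI : IsLocallyNoetherian P := LocallyOfFiniteType.isLocallyNoetherian (s ≫ q)
  obtain ⟨kz, hcz, hkz, hz⟩ := FieldTrdeg.main (s ≫ q) z
  obtain ⟨j, hcj, hj, hy⟩ := FieldTrdeg.main q (s z)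
  obtain ⟨m, d, k, hm, hd, hk, hle, he⟩ := CatFormula.dims s z
  rw [hkz] at hm
  rw [hj] at hd
  have h1 : kz = m := by exact_mod_cast hm
  have h2 : j = d := by exact_mod_cast hd
  have key : kz + FibreTrdeg.T (s ≫ q) z ≤ k + FibreTrdeg.T s z + (j + FibreTrdeg.T q (s z)) := by
    rw [JacobsonDim.T_add s q z]; omega
  rw [hz, hy, he]
  refine ⟨by exact_mod_cast key, fun hgd => ?_⟩
  have hge : j + k ≤ kz := by
    rw [ringKrullDim_stalk_eq_coheight] at hk
    have hk' : (k : ℕ∞) ≤ Order.coheight (s.asFiber z) := le_of_eq (WithBot.coe_injective hk.symm)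
    obtain ⟨lF, hF0, hFlen⟩ := Order.exists_series_of_le_coheight _ hk'
    obtain ⟨lY, hY0, hYlen⟩ := Order.exists_series_of_coheight_eq_coe (s z) hcj
    let ι := s.fiberι (s z)
    have hsm : StrictMono ι := fun a b hab => lt_iff_le_not_ge.mpr
      ⟨(show b ⤳ a from hab.le).map ι.continuous, fun h => hab.not_ge (ι.isEmbedding.isInducing.specializes_iff.mp h)⟩
    let l₀ : LTSeries P := lF.map ι hsm
    have h00 : l₀.head = z := by rw [LTSeries.head_map, hF0]; exact s.fiberι_asFiber z
    have h01 : s l₀.last = s z := by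
      rw [LTSeries.last_map]; exact (s.range_fiberι (s z)).subset ⟨_, rfl⟩
    have lift : ∀ n, ∀ hn : n ≤ lY.length, ∃ l : LTSeries P, l.head = z ∧ s l.last = lY ⟨n, by omega⟩ ∧ l.length = k + n := by
      intro n
      induction n with
      | zero => exact fun _ => ⟨l₀, h00, h01.trans hY0.symm, by rw [add_zero]; exact hFlen⟩
      | succ n ih =>
        intro hn
        obtain ⟨l, hl0, hl1, hlen⟩ := ih (by omega)
        have hstep : lY ⟨n, by omega⟩ < lY ⟨n + 1, by omega⟩ := lY.strictMono (Fin.mk_lt_mk.mpr (Nat.lt_succ_self n))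
        have hlz : l.last ⤳ z := hl0 ▸ (l.monotone (Fin.zero_le _) : l 0 ≤ l.last)
        obtain ⟨ξ, hξ, hξ'⟩ := hgd l.last hlz (lY ⟨n + 1, by omega⟩) (by rw [hl1]; exact hstep.le)
        have hlt : l.last < ξ := lt_iff_le_not_ge.mpr ⟨hξ, fun h => hstep.not_ge (by
          rw [← hl1, ← hξ']; exact (show l.last ⤳ ξ from h).map s.continuous)⟩
        exact ⟨l.snoc ξ hlt, (RelSeries.head_snoc _ _ _).trans hl0,
          (congrArg s (RelSeries.last_snoc _ _ _)).trans hξ', by rw [RelSeries.snoc_length, hlen]; omega⟩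
    obtain ⟨l, hl0, -, hlen⟩ := lift lY.length le_rfl
    have h5 := Order.length_le_coheight (x := z) (p := l) hl0.ge
    rw [hcz, hlen, hYlen] at h5
    have : k + j ≤ kz := by exact_mod_cast h5
    omega
  exact_mod_cast (show kz + FibreTrdeg.T (s ≫ q) z = k + FibreTrdeg.T s z + (j + FibreTrdeg.T q (s z)) by
    rw [JacobsonDim.T_add s q z]; omega)


/-- the fibre dimension of a composite -/
theorem comp {X Y S : Scheme.{u}} (f : X ⟶ Y) (g : Y ⟶ S) [LocallyOfFiniteType f] [LocallyOfFiniteType g] (x : X) :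
    FlatMor.fibreDimAt (f ≫ g) x ≤ FlatMor.fibreDimAt f x + FlatMor.fibreDimAt g (f x) ∧
      ((f.stalkMap x).hom.Flat → FlatMor.fibreDimAt (f ≫ g) x = FlatMor.fibreDimAt f x + FlatMor.fibreDimAt g (f x)) := by
  let t := g (f x)
  let i := g.fiberι t
  let q := g.fiberToSpecResidueField t
  haveI : LocallyOfFiniteType q := MorphismProperty.pullback_snd (P := @LocallyOfFiniteType) _ _ inferInstance
  let s := pullback.snd f i
  have H := IsPullback.of_hasPullback f i
  obtain ⟨z, hz1, hz2⟩ := Scheme.Pullback.exists_preimage_pullback (f := f) (g := i) x (g.asFiber (f x))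
    (g.fiberι_asFiber (f x)).symm
  haveI : LocallyOfFiniteType s := MorphismProperty.of_isPullback H inferInstance
  have e1 : FlatMor.fibreDimAt s z = FlatMor.fibreDimAt f x := by
    rw [DimBC.fibreDimAt_baseChange f i _ s H z, hz1]
  have hsy : i (s z) = f x := by rw [hz2]; exact g.fiberι_asFiber (f x)
  have Hg : IsPullback i q g (S.fromSpecResidueField t) := IsPullback.of_hasPullback _ _
  have e2 : FlatMor.localDim _ (s z) = FlatMor.fibreDimAt g (f x) := by
    rw [← FieldTrdeg.fibreDimAt_eq_localDim q, DimBC.fibreDimAt_baseChange g _ i q Hg, hsy]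
  have e3 : FlatMor.localDim _ z = FlatMor.fibreDimAt (f ≫ g) x := by
    rw [← FieldTrdeg.fibreDimAt_eq_localDim (s ≫ q), DimBC.fibreDimAt_baseChange (f ≫ g) _ _ (s ≫ q) (H.paste_vert Hg), hz1]
  have h := field_case s q z
  rw [e1, e2, e3] at h
  exact ⟨h.1, fun hf => h.2 (gd_of_isPullback f i _ s H z (hz1.symm ▸ gd_of_flat f x hf))⟩

end Groth.Agent.HensPair.FibDimComp
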