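import Groth.Agent.HensPair.ChevalleyTfae
import Groth.Agent.UnivOpenAt.Dvr
import Mathlib.AlgebraicGeometry.Morphisms.FinitePresentation

/-!
Local constancy of the dimension of fibres.
-/

set_option autoImplicit false
set_option synthInstance.maxHeartbeats 200000

noncomputable section

open CategoryTheory CategoryTheory.Limits AlgebraicGeometry TopologicalSpace Topology

namespace Groth.Agent.HensPair.FibreDimConst

universe u

set_option backward.isDefEq.respectTransparency false

theorem isLocallyConstructible_of_isOpen {X : Scheme.{u}} [IsLocallyNoetherian X] {O : Set X} (hO : IsOpen O) :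
    IsLocallyConstructible O := by
  refine IsRetrocompact.isLocallyConstructible hO fun U hUc hUo => ?_
  let U' : X.Opens := ⟨U, hUo⟩
  have : CompactSpace (U' : Scheme.{u}) := isCompact_iff_compactSpace.mp hUc
  have : AlgebraicGeometry.IsNoetherian (U' : Scheme.{u}) := {}
  have h1 : IsCompact (U'.ι ⁻¹' O) := NoetherianSpace.isCompact _
  have h2 := h1.image U'.ι.continuous
  rwa [Set.image_preimage_eq_inter_range, U'.range_ι] at h2

theorem isLocallyConstructible_compl {T : Type*} [TopologicalSpace T] {s : Set T} (h : IsLocallyConstructible s) :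
    IsLocallyConstructible sᶜ := fun x => by
  obtain ⟨U, hU, hUo, hc⟩ := h x
  exact ⟨U, hU, hUo, by rw [Set.preimage_compl]; exact hc.compl⟩

/-- a locally constructible set containing all generizations of a point is a neighbourhood of it -/
theorem mem_nhds_of_gen {Y : Scheme.{u}} (s : Set Y) (hs : IsLocallyConstructible s) (y : Y)
    (h : ∀ y', y' ⤳ y → y' ∈ s) : s ∈ nhds y := by
  obtain ⟨U, hU, hyU, -⟩ := exists_isAffineOpen_mem_and_subset (X := Y) (U := ⊤) (x := y) trivial
  let p := hU.primeIdealOf ⟨y, hyU⟩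
  have hp : hU.fromSpec p = y := hU.fromSpec_primeIdealOf _
  let t : Set (PrimeSpectrum Γ(Y, U)) := hU.fromSpec ⁻¹' s
  have hc : IsConstructible t := (hs.preimage_of_isOpenEmbedding hU.fromSpec.isOpenEmbedding).isConstructible
  obtain ⟨a, ha, has⟩ := UnivOpenAt.Dvr.mem_nhds_of_constructible t hc p fun q hq => h _ (by
    rw [← hp]; exact ((PrimeSpectrum.le_iff_specializes q p).mp hq).map hU.fromSpec.continuous)
  refine Filter.mem_of_superset ((hU.fromSpec.isOpenEmbedding.isOpenMap _ (PrimeSpectrum.basicOpen a).2).mem_nhds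
    ⟨p, ha, hp⟩) ?_
  rintro _ ⟨q, hq, rfl⟩
  exact has q hq

variable {X Y : Scheme.{u}} (f : X ⟶ Y) [LocallyOfFiniteType f]

theorem dim_inter_le (z : Y) (U : X.Opens) (c : WithBot ℕ∞)
    (h : ∀ a : X, f a = z → a ∈ U → FlatMor.fibreDimAt f a ≤ c) :
    topologicalKrullDim ↥((U : Set X) ∩ f ⁻¹' {z}) ≤ c := by
  refine TopDim.Basic.dim_le fun s => ?_
  obtain ⟨a, ha⟩ := s.head.isIrreducible.nonempty
  refine (TopDim.Basic.length_le_localDim s ha).trans (le_trans ?_ (h a.1 a.2.2 a.2.1))
  obtain ⟨a, haU, haz⟩ := a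
  have haz' : f a = z := haz
  subst haz'
  exact ChevalleyTfae.localDim_inter_le f a (U : Set X) haU

theorem dim_fiber_eq (z : Y) :
    topologicalKrullDim ↥(f.fiber z) = topologicalKrullDim ↥(((⊤ : X.Opens) : Set X) ∩ f ⁻¹' {z}) :=
  IsHomeomorph.topologicalKrullDim_eq _
    ((f.fiberHomeo z).trans (Homeomorph.setCongr (Set.univ_inter _).symm)).isHomeomorph

theorem exists_bound (y : Y) (U : X.Opens) [QuasiCompact f] :
    ∃ n : ℕ, topologicalKrullDim ↥((U : Set X) ∩ f ⁻¹' {y}) ≤ (n : ℕ) := by
  classical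
  have hc : IsCompact (f ⁻¹' {y}) := by
    rw [← f.range_fiberι]
    exact isCompact_range (f.fiberι y).continuous
  let O : ℕ → Set X := fun n => {a | FlatMor.fibreDimAt f a ≤ (n : ℕ)}
  obtain ⟨n, hn⟩ := hc.elim_directed_cover O (fun n => Equidim.isOpen_fibreDimAt_le f _)
    (fun a _ => by
      obtain ⟨n, hn⟩ := Equidim.exists_nat_fibreDimAt_le f a
      exact Set.mem_iUnion.mpr ⟨n, hn⟩)
    (directed_of_isDirected_le fun i j hij a (ha : FlatMor.fibreDimAt f a ≤ (i : ℕ)) =>
      show FlatMor.fibreDimAt f a ≤ (j : ℕ) from ha.trans (by exact_mod_cast hij))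
  exact ⟨n, dim_inter_le f y U _ fun a ha _ => hn ha⟩

/-- local constancy from the two inequalities at generizations -/
theorem const_nhds [IsLocallyNoetherian Y] [QuasiCompact f] (y : Y) (U : X.Opens)
    (hle : ∀ y', y' ⤳ y → topologicalKrullDim ↥((U : Set X) ∩ f ⁻¹' {y'}) ≤
      topologicalKrullDim ↥((U : Set X) ∩ f ⁻¹' {y}))
    (hge : ∀ y', y' ⤳ y → topologicalKrullDim ↥((U : Set X) ∩ f ⁻¹' {y}) ≤
      topologicalKrullDim ↥((U : Set X) ∩ f ⁻¹' {y'})) :
    ∃ V ∈ nhds y, ∀ z ∈ V, topologicalKrullDim ↥((U : Set X) ∩ f ⁻¹' {z}) =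
      topologicalKrullDim ↥((U : Set X) ∩ f ⁻¹' {y}) := by
  classical
  have : IsLocallyNoetherian X := LocallyOfFiniteType.isLocallyNoetherian f
  let D : Y → WithBot ℕ∞ := fun z => topologicalKrullDim ↥((U : Set X) ∩ f ⁻¹' {z})
  have hcons : ∀ c : WithBot ℕ∞, IsLocallyConstructible (f '' ((U : Set X) ∩ {a | ¬ FlatMor.fibreDimAt f a ≤ c})) :=
    fun c => f.isLocallyConstructible_image ((isLocallyConstructible_of_isOpen U.2).inter
      (isLocallyConstructible_compl (isLocallyConstructible_of_isOpen (Equidim.isOpen_fibreDimAt_le f c))))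
  have hD : ∀ (z : Y) (a : X), f a = z → a ∈ U → FlatMor.fibreDimAt f a ≤ D z := fun z a ha haU => by
    subst ha; exact ChevalleyTfae.fibreDimAt_le_inter f a U haU
  refine ⟨(f '' ((U : Set X) ∩ {a | ¬ FlatMor.fibreDimAt f a ≤ D y}))ᶜ ∩ {z | D y ≤ D z}, ?_, fun z hz => ?_⟩
  · refine Filter.inter_mem (mem_nhds_of_gen _ (isLocallyConstructible_compl (hcons _)) y fun y' hy' => ?_) ?_
    · rintro ⟨a, ⟨haU, ha⟩, hay⟩
      exact ha ((hD y' a hay haU).trans (hle y' hy'))
    · obtain ⟨n, hn⟩ := exists_bound f y U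
      cases hd : D y with
      | bot => exact Filter.univ_mem' fun z => show ⊥ ≤ D z from bot_le
      | coe d =>
        cases d with
        | top =>
          have h1 : D y ≤ ((n : ℕ) : WithBot ℕ∞) := hn
          rw [hd] at h1
          exact absurd (top_le_iff.mp (WithBot.coe_le_coe.mp h1)) (ENat.natCast_ne_top n)
        | coe k =>
          cases k with
          | zero =>
            refine Filter.mem_of_superset (mem_nhds_of_gen _ (hcons ⊥) y fun y' hy' => ?_) ?_
            · by_contra hno
              have h1 : D y' ≤ ⊥ := dim_inter_le f y' U _ fun a ha haU =>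
                by_contra fun h => hno ⟨a, ⟨haU, h⟩, ha⟩
              have h2 := (hge y' hy').trans h1
              rw [show topologicalKrullDim ↥((U : Set X) ∩ f ⁻¹' {y}) = ((0 : ℕ) : ℕ∞) from hd] at h2
              simp at h2
            · rintro _ ⟨a, ⟨haU, -⟩, rfl⟩
              refine le_trans ?_ (hD _ a rfl haU)
              obtain ⟨m, hm⟩ := ChevalleyTfae.exists_nat_eq f a
              rw [hm]
              exact_mod_cast Nat.zero_le m
          | succ k =>
            refine Filter.mem_of_superset (mem_nhds_of_gen _ (hcons ((k : ℕ) : WithBot ℕ∞)) y fun y' hy' => ?_) ?_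
            · by_contra hno
              have h1 : D y' ≤ ((k : ℕ) : WithBot ℕ∞) := dim_inter_le f y' U _ fun a ha haU =>
                by_contra fun h => hno ⟨a, ⟨haU, h⟩, ha⟩
              have h2 := (hge y' hy').trans h1
              rw [show topologicalKrullDim ↥((U : Set X) ∩ f ⁻¹' {y}) = ((k + 1 : ℕ) : ℕ∞) from hd] at h2
              have h3 : k + 1 ≤ k := by exact_mod_cast h2
              omega
            · rintro _ ⟨a, ⟨haU, ha⟩, rfl⟩
              refine le_trans ?_ (hD _ a rfl haU)
              obtain ⟨m, hm⟩ := ChevalleyTfae.exists_nat_eq f a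
              rw [hm]
              have h3 : k < m := by
                by_contra h
                exact ha (by rw [hm]; exact_mod_cast not_lt.mp h)
              exact_mod_cast Nat.succ_le_of_lt h3
  · exact le_antisymm (dim_inter_le f z U _ fun a ha haU =>
      by_contra fun h => hz.1 ⟨a, ⟨haU, h⟩, ha⟩) hz.2

end Groth.Agent.HensPair.FibreDimConst
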