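import Groth.Agent.HensPair.FibreChart
import Groth.Agent.HensPair.FibreComp
import Groth.Agent.HensPair.AltitudeScheme

/-!
Fibre dimension = dimension of the local ring of the fibre + transcendence degree of the residue extension.
-/

set_option autoImplicit false
set_option synthInstance.maxHeartbeats 200000

noncomputable section

open CategoryTheory CategoryTheory.Limits AlgebraicGeometry TopologicalSpace Topology TensorProduct

namespace Groth.Agent.HensPair.FibreTrdeg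

open Groth.Agent.Equidim.Core (pr mem_pr pr_under)

universe u

set_option backward.isDefEq.respectTransparency false

/-- the transcendence degree of the residue field extension, as a natural number -/
def T {X Y : Scheme.{u}} (f : X ⟶ Y) (x : X) : ℕ :=
  letI := (f.residueFieldMap x).hom.toAlgebra
  Cardinal.toNat (Algebra.trdeg (Y.residueField (f.base x)) (X.residueField x))

theorem T_spec {X Y : Scheme.{u}} (f : X ⟶ Y) [LocallyOfFiniteType f] (x : X) :
    letI := (f.residueFieldMap x).hom.toAlgebra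
    Algebra.trdeg (Y.residueField (f.base x)) (X.residueField x) = (T f x : Cardinal.{u}) := by
  letI := (f.residueFieldMap x).hom.toAlgebra
  obtain ⟨n, hn⟩ := AltitudeScheme.exists_trdeg_nat f x
  rw [show T f x = Cardinal.toNat (Algebra.trdeg (Y.residueField (f.base x)) (X.residueField x)) from rfl, hn,
    Cardinal.toNat_natCast]

section alg

variable {A B : Type u} [CommRing A] [CommRing B] [Algebra A B]

theorem trdeg_fibre_quot (p : PrimeSpectrum A) (M : PrimeSpectrum (p.asIdeal.Fiber B)) [(pr p M).asIdeal.LiesOver p.asIdeal] :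
    Algebra.trdeg p.asIdeal.ResidueField (p.asIdeal.Fiber B ⧸ M.asIdeal) =
      Algebra.trdeg (A ⧸ p.asIdeal) (B ⧸ (pr p M).asIdeal) := by
  let K := p.asIdeal.ResidueField
  let b : B →+* (p.asIdeal.Fiber B ⧸ M.asIdeal) := (Ideal.Quotient.mk M.asIdeal).comp
    (Algebra.TensorProduct.includeRight (R := A) (A := K) (B := B)).toRingHom
  let g : B ⧸ (pr p M).asIdeal →+* (p.asIdeal.Fiber B ⧸ M.asIdeal) :=
    Ideal.Quotient.lift (pr p M).asIdeal b fun z hz => Ideal.Quotient.eq_zero_iff_mem.mpr (mem_pr.mp hz)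
  let cR := (inferInstance : CommRing (p.asIdeal.Fiber B ⧸ M.asIdeal))
  letI : Algebra (B ⧸ (pr p M).asIdeal) (p.asIdeal.Fiber B ⧸ M.asIdeal) := g.toAlgebra
  have hb : ∀ z, algebraMap (B ⧸ (pr p M).asIdeal) (p.asIdeal.Fiber B ⧸ M.asIdeal) (Ideal.Quotient.mk _ z) = b z := fun z => rfl
  letI algAD : Algebra (A ⧸ p.asIdeal) (p.asIdeal.Fiber B ⧸ M.asIdeal) :=
    (g.comp (algebraMap (A ⧸ p.asIdeal) (B ⧸ (pr p M).asIdeal))).toAlgebra
  letI : SMul (A ⧸ p.asIdeal) (p.asIdeal.Fiber B ⧸ M.asIdeal) := algAD.toSMul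
  haveI : IsScalarTower (A ⧸ p.asIdeal) (B ⧸ (pr p M).asIdeal) (p.asIdeal.Fiber B ⧸ M.asIdeal) := IsScalarTower.of_algebraMap_eq fun _ => rfl
  have hA : ∀ a : A, (algebraMap K (p.asIdeal.Fiber B ⧸ M.asIdeal)) (algebraMap A K a) = b (algebraMap A B a) := fun a => by
    show (algebraMap K (p.asIdeal.Fiber B ⧸ M.asIdeal)) (algebraMap A K a) = Ideal.Quotient.mk M.asIdeal ((1 : K) ⊗ₜ[A] algebraMap A B a)
    rw [Algebra.algebraMap_eq_smul_one (R := A) (A := B), TensorProduct.tmul_smul, TensorProduct.smul_tmul',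
      ← Algebra.algebraMap_eq_smul_one]
    rfl
  haveI : IsScalarTower (A ⧸ p.asIdeal) K (p.asIdeal.Fiber B ⧸ M.asIdeal) := IsScalarTower.of_algebraMap_eq fun z => by
    obtain ⟨z, rfl⟩ := Ideal.Quotient.mk_surjective z
    exact ((hA z).symm : _)
  haveI : FaithfulSMul (A ⧸ p.asIdeal) (B ⧸ (pr p M).asIdeal) :=
    (faithfulSMul_iff_algebraMap_injective _ _).mpr (Altitude.quot_injective _ _)
  haveI : FaithfulSMul (B ⧸ (pr p M).asIdeal) (p.asIdeal.Fiber B ⧸ M.asIdeal) := (faithfulSMul_iff_algebraMap_injective _ _).mpr (by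
    rw [injective_iff_map_eq_zero]
    intro z hz
    obtain ⟨z, rfl⟩ := Ideal.Quotient.mk_surjective z
    rw [Ideal.Quotient.eq_zero_iff_mem, mem_pr]
    exact Ideal.Quotient.eq_zero_iff_mem.mp hz)
  haveI : FaithfulSMul K (p.asIdeal.Fiber B ⧸ M.asIdeal) := (faithfulSMul_iff_algebraMap_injective _ _).mpr (RingHom.injective _)
  haveI : Algebra.IsAlgebraic (A ⧸ p.asIdeal) K := IsLocalization.isAlgebraic _ (nonZeroDivisors (A ⧸ p.asIdeal))
  haveI : Algebra.IsAlgebraic (B ⧸ (pr p M).asIdeal) (p.asIdeal.Fiber B ⧸ M.asIdeal) := ⟨fun z => by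
    obtain ⟨z, rfl⟩ := Ideal.Quotient.mk_surjective z
    obtain ⟨r, hr, s, hs⟩ := Ideal.Fiber.exists_smul_eq_one_tmul p.asIdeal z
    refine ⟨Polynomial.C (Ideal.Quotient.mk _ (algebraMap A B r)) * Polynomial.X -
      Polynomial.C (Ideal.Quotient.mk _ s), fun h0 => hr ?_, ?_⟩
    · have h1 : Ideal.Quotient.mk (pr p M).asIdeal (algebraMap A B r) = 0 := by
        simpa using congrArg (fun P : Polynomial (B ⧸ (pr p M).asIdeal) => P.coeff 1) h0
      rw [Ideal.LiesOver.over (P := (pr p M).asIdeal) (p := p.asIdeal)]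
      show algebraMap A B r ∈ (pr p M).asIdeal
      exact Ideal.Quotient.eq_zero_iff_mem.mp h1
    · rw [map_sub, map_mul, Polynomial.aeval_C, Polynomial.aeval_C, Polynomial.aeval_X, hb, hb, ← hA]
      show _ * Ideal.Quotient.mk M.asIdeal z - Ideal.Quotient.mk M.asIdeal ((1 : K) ⊗ₜ[A] s) = 0
      rw [← hs, sub_eq_zero, ← IsScalarTower.algebraMap_apply A K (p.asIdeal.Fiber B ⧸ M.asIdeal),
        IsScalarTower.algebraMap_apply A (p.asIdeal.Fiber B) (p.asIdeal.Fiber B ⧸ M.asIdeal), Algebra.smul_def, map_mul]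
      rfl⟩
  have h := (trdeg_add_eq (A ⧸ p.asIdeal) K (A := (p.asIdeal.Fiber B ⧸ M.asIdeal))).trans (trdeg_add_eq (A ⧸ p.asIdeal) (B ⧸ (pr p M).asIdeal) (A := (p.asIdeal.Fiber B ⧸ M.asIdeal))).symm
  rwa [trdeg_eq_zero (R := A ⧸ p.asIdeal) (A := K), trdeg_eq_zero (R := B ⧸ (pr p M).asIdeal) (A := (p.asIdeal.Fiber B ⧸ M.asIdeal)),
    zero_add, add_zero] at h

end alg

section chart

variable {X Y : Scheme.{u}} (f : X ⟶ Y) [LocallyOfFiniteType f] {U₀ : Y.Opens} (hU₀ : IsAffineOpen U₀)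
  {V : X.Opens} (hV : IsAffineOpen V) (hVU : V ≤ f ⁻¹ᵁ U₀) [Algebra Γ(Y, U₀) Γ(X, V)]
  (halg : algebraMap Γ(Y, U₀) Γ(X, V) = (f.appLE U₀ V hVU).hom)

include hU₀ halg in
theorem quot_dim_eq_T (p : PrimeSpectrum Γ(Y, U₀)) (M : PrimeSpectrum (p.asIdeal.Fiber Γ(X, V))) (x : X)
    (hM : Equidim.ch hV (AlgHom.id Γ(Y, U₀) Γ(X, V)) p M = x) :
    ringKrullDim (p.asIdeal.Fiber Γ(X, V) ⧸ M.asIdeal) = (T f x : ℕ) := by
  haveI : Algebra.FiniteType Γ(Y, U₀) Γ(X, V) := Equidim.finiteType_chart f hU₀ hV hVU halg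
  haveI : (pr p M).asIdeal.LiesOver p.asIdeal := ⟨(pr_under p M).symm⟩
  obtain ⟨s, hs, hst⟩ := Equidim.exists_trdeg p.asIdeal.ResidueField (p.asIdeal.Fiber Γ(X, V) ⧸ M.asIdeal)
  have hxV : x ∈ V := by rw [← hM]; exact hV.range_fromSpec.subset ⟨_, rfl⟩
  have hq : (pr p M).asIdeal = (hV.primeIdealOf ⟨x, hxV⟩).asIdeal := congrArg PrimeSpectrum.asIdeal
    (hV.fromSpec.isOpenEmbedding.injective (a₁ := pr p M) (hM.trans (hV.fromSpec_primeIdealOf ⟨x, hxV⟩).symm))
  have hp : p.asIdeal = (hU₀.primeIdealOf ⟨f x, hVU hxV⟩).asIdeal := congrArg PrimeSpectrum.asIdeal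
    (hU₀.fromSpec.isOpenEmbedding.injective (a₁ := p) (((Equidim.f_ch f hU₀ hV hVU halg _ p M).symm.trans
      (congrArg (fun z => f z) hM)).trans (hU₀.fromSpec_primeIdealOf ⟨f x, hVU hxV⟩).symm))
  have h1 := (TrdegScheme.trdeg_residueFieldMap f hU₀ hV hVU halg x hxV p.asIdeal (pr p M).asIdeal hp hq).symm.trans
    (T_spec f x)
  rw [← trdeg_fibre_quot, hst, Nat.cast_inj] at h1
  rw [hs, h1]

end chart

variable {X Y : Scheme.{u}} (f : X ⟶ Y) [LocallyOfFiniteType f]

theorem fibreDimAt_mono {z x : X} (h : z ⤳ x) : FlatMor.fibreDimAt f z ≤ FlatMor.fibreDimAt f x :=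
  h.mem_open (Equidim.isOpen_fibreDimAt_le f _) (le_refl (FlatMor.fibreDimAt f x))

theorem T_le_fibreDimAt (z : X) : ((T f z : ℕ) : WithBot ℕ∞) ≤ FlatMor.fibreDimAt f z := by
  obtain ⟨U₀, hU₀, hyU₀, -⟩ := exists_isAffineOpen_mem_and_subset (X := Y) (U := ⊤) (x := f z) trivial
  obtain ⟨V, hV, hzV, hVU⟩ := exists_isAffineOpen_mem_and_subset (X := X) (U := f ⁻¹ᵁ U₀) (x := z) hyU₀
  let : Algebra Γ(Y, U₀) Γ(X, V) := (f.appLE U₀ V hVU).hom.toAlgebra
  obtain ⟨Q, hQ⟩ := hV.range_fromSpec.superset hzV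
  obtain ⟨M, hM⟩ := Equidim.exists_ch f hU₀ hV hVU rfl (AlgHom.id _ _) Function.surjective_id
    (hU₀.primeIdealOf ⟨f z, hyU₀⟩) Q (fun a ha => by rw [(show a = 0 from ha)]; exact Ideal.zero_mem _)
    (by rw [hQ, hU₀.fromSpec_primeIdealOf])
  rw [hQ] at hM
  rw [← quot_dim_eq_T f hU₀ hV hVU rfl _ M z hM]
  exact (FibreChart.quot_le_fibreDimAt f hU₀ hV hVU rfl _ M).trans (le_of_eq (congrArg _ hM))

theorem fibreDimAt_eq_T_of_maximal (z : X) (hmax : ∀ x' : X, f x' = f z → z ∈ closure {x'} → x' = z) :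
    FlatMor.fibreDimAt f z = (T f z : ℕ) := by
  refine le_antisymm ?_ (T_le_fibreDimAt f z)
  obtain ⟨U₀, hU₀, hyU₀, -⟩ := exists_isAffineOpen_mem_and_subset (X := Y) (U := ⊤) (x := f z) trivial
  obtain ⟨V, hV, hzV, hVU⟩ := exists_isAffineOpen_mem_and_subset (X := X) (U := f ⁻¹ᵁ U₀) (x := z) hyU₀
  let : Algebra Γ(Y, U₀) Γ(X, V) := (f.appLE U₀ V hVU).hom.toAlgebra
  obtain ⟨Q, hQ⟩ := hV.range_fromSpec.superset hzV
  obtain ⟨M, hM⟩ := Equidim.exists_ch f hU₀ hV hVU rfl (AlgHom.id _ _) Function.surjective_id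
    (hU₀.primeIdealOf ⟨f z, hyU₀⟩) Q (fun a ha => by rw [(show a = 0 from ha)]; exact Ideal.zero_mem _)
    (by rw [hQ, hU₀.fromSpec_primeIdealOf])
  rw [hQ] at hM
  rw [← quot_dim_eq_T f hU₀ hV hVU rfl _ M z hM]
  exact FibreChart.fibreDimAt_le_quot f hU₀ hV hVU rfl z hzV hmax _ (hU₀.fromSpec_primeIdealOf _) M hM

/-- a point maximal in the fibre above `x` carrying the whole dimension -/
theorem exists_maximal_dim (x : X) :
    ∃ g : ↥(f.fiber (f x)), g ⤳ f.asFiber x ∧ (∀ p, p ⤳ g → p = g) ∧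
      FlatMor.fibreDimAt f x ≤ FlatMor.fibreDimAt f (f.fiberι (f x) g) := by
  classical
  obtain ⟨m, hm⟩ := ChevalleyTfae.exists_nat_eq f x
  obtain ⟨g₀, hg₀, hg₀m⟩ := Equidim.AffineCrit.exists_maximal_above (f.asFiber x)
  by_contra hno
  push Not at hno
  have : LocallyOfFiniteType (f.fiberToSpecResidueField (f x)) :=
    MorphismProperty.pullback_snd (P := @LocallyOfFiniteType) _ _ inferInstance
  have : IsLocallyNoetherian (f.fiber (f x)) :=
    LocallyOfFiniteType.isLocallyNoetherian (f.fiberToSpecResidueField (f x))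
  have h0 := hno g₀ hg₀ hg₀m
  cases m with
  | zero =>
    obtain ⟨j, hj⟩ := ChevalleyTfae.exists_nat_eq f (f.fiberι (f x) g₀)
    rw [hj, hm] at h0
    exact absurd h0 (not_lt.mpr (by exact_mod_cast Nat.zero_le j))
  | succ k =>
    obtain ⟨O, hxO, hO⟩ := Equidim.AffineParam.exists_nhd_gen (f.asFiber x)
    have : QuasiSober ↥(O : Set ↥(f.fiber (f x))) := O.2.isOpenEmbedding_subtypeVal.quasiSober
    have h1 : FlatMor.fibreDimAt f x ≤ (k : ℕ) := by
      refine (TopDim.Basic.localDim_le (f.asFiber x) O hxO).trans (Equidim.dim_le_of_components fun C hC => ?_)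
      let d := hC.1.genericPoint
      have hd : closure ({d} : Set ↥(O : Set ↥(f.fiber (f x)))) = C := by
        rw [hC.1.genericPoint_closure_eq, (isClosed_of_mem_irreducibleComponents C hC).closure_eq]
      have hmax : ∀ p, p ⤳ d.1 → p = d.1 := fun p hp =>
        congrArg Subtype.val (Equidim.AffineCrit.genericPoint_maximal hC ⟨p, hp.mem_open O.2 d.2⟩
          (IsInducing.subtypeVal.specializes_iff.mp hp))
      refine (Equidim.dim_le_of_range (φ := fun s : C => (s.1.1 : ↥(f.fiber (f x))))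
        (IsInducing.subtypeVal.comp IsInducing.subtypeVal)
        (IsEmbedding.subtypeVal (p := fun z => z ∈ closure ({d.1} : Set ↥(f.fiber (f x))))) fun s => ⟨⟨s.1.1, ?_⟩, rfl⟩).trans ?_
      · exact specializes_iff_mem_closure.mp ((specializes_iff_mem_closure.mpr (hd.ge s.2)).map continuous_subtype_val)
      · rw [FibreComp.dim_closure_eq f (f x) d.1 hmax]
        have h2 := hno d.1 (hO d.1 d.2 hmax) hmax
        rw [hm] at h2
        exact ChevalleyTfae.le_of_lt_succ h2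
    rw [hm] at h1
    have h3 : k + 1 ≤ k := by exact_mod_cast h1
    omega

set_option maxHeartbeats 1000000 in
theorem main (x : X) :
    ∃ k : ℕ, Order.coheight (f.asFiber x) = (k : ℕ∞) ∧ FlatMor.fibreDimAt f x = ((k + T f x : ℕ) : WithBot ℕ∞) := by
  classical
  obtain ⟨U₀, hU₀, hyU₀, -⟩ := exists_isAffineOpen_mem_and_subset (X := Y) (U := ⊤) (x := f x) trivial
  obtain ⟨V, hV, hxV, hVU⟩ := exists_isAffineOpen_mem_and_subset (X := X) (U := f ⁻¹ᵁ U₀) (x := x) hyU₀
  let : Algebra Γ(Y, U₀) Γ(X, V) := (f.appLE U₀ V hVU).hom.toAlgebra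
  haveI : Algebra.FiniteType Γ(Y, U₀) Γ(X, V) := Equidim.finiteType_chart f hU₀ hV hVU rfl
  let π := AlgHom.id Γ(Y, U₀) Γ(X, V)
  have hπ : Function.Surjective π := Function.surjective_id
  let p := hU₀.primeIdealOf ⟨f x, hyU₀⟩
  have hp : hU₀.fromSpec p = f x := hU₀.fromSpec_primeIdealOf _
  let ι := f.fiberι (f x)
  let F := p.asIdeal.Fiber Γ(X, V)
  have hlift : ∀ c : ↥(f.fiber (f x)), c ⤳ f.asFiber x → ∃ M : PrimeSpectrum F, Equidim.ch hV π p M = ι c := by
    intro c hc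
    have hcV : ι c ∈ V := (hc.map ι.continuous).mem_open V.2 (by rw [f.fiberι_asFiber]; exact hxV)
    obtain ⟨Q, hQ⟩ := hV.range_fromSpec.superset hcV
    obtain ⟨M, hM⟩ := Equidim.exists_ch f hU₀ hV hVU rfl π hπ p Q
      (fun a ha => by rw [(show a = 0 from ha)]; exact Ideal.zero_mem _)
      (by rw [hQ, hp]; exact (f.range_fiberι (f x)).subset ⟨c, rfl⟩)
    exact ⟨M, hM.trans hQ⟩
  choose μ hμ using hlift
  let Mx := μ (f.asFiber x) specializes_rfl
  have hMx : Equidim.ch hV π p Mx = x := (hμ _ _).trans (f.fiberι_asFiber x)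
  have hmono : ∀ a b ha hb, a ⤳ b → μ a ha ≤ μ b hb := fun a b ha hb hab =>
    (Equidim.ch_specializes hV π hπ p _ _).mp (by rw [hμ, hμ]; exact hab.map ι.continuous)
  obtain ⟨m, hm⟩ := ChevalleyTfae.exists_nat_eq f x
  have hdx := quot_dim_eq_T f hU₀ hV hVU rfl p Mx x hMx
  -- chains give at most the difference
  have hup : ∀ l : LTSeries ↥(f.fiber (f x)), l.head = f.asFiber x → l.length + T f x ≤ m := by
    intro l hl
    have hge : ∀ i, l i ⤳ f.asFiber x := fun i => by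
      have h1 : l.head ≤ l i := l.monotone (Fin.zero_le i)
      rw [hl] at h1
      exact h1
    obtain ⟨lx, hlx⟩ := Order.le_krullDim_iff.mp hdx.ge
    let W := PrimeSpectrum.zeroLocus ((μ l.last (hge _)).asIdeal : Set F)
    have hW : ∀ i, μ (l i) (hge i) ∈ W := fun i => hmono _ _ (hge _) (hge i) (l.monotone (Fin.le_last i))
    let l₁ : LTSeries W := ⟨l.length, fun i => ⟨μ (l i.rev) (hge _), hW _⟩, fun i => by
      have hlt : l i.succ.rev < l i.castSucc.rev := l.strictMono (Fin.rev_lt_rev.mpr i.castSucc_lt_succ)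
      show (⟨μ (l i.castSucc.rev) (hge _), hW _⟩ : W) < ⟨μ (l i.succ.rev) (hge _), hW _⟩
      refine Subtype.mk_lt_mk.mpr (lt_of_le_of_ne (hmono (l i.castSucc.rev) (l i.succ.rev) (hge _) (hge _) hlt.le) fun e => hlt.not_ge ?_)
      exact (ι.isEmbedding.injective ((hμ _ (hge _)).symm.trans ((congrArg (Equidim.ch hV π p) e).trans (hμ _ (hge _))))).le⟩
    have hMW : ∀ i, PrimeSpectrum.comap (Ideal.Quotient.mk Mx.asIdeal) (lx i) ∈ W := fun i z hz => by
      have h1 : z ∈ Mx.asIdeal := hmono _ _ (hge (Fin.last _)) specializes_rfl (by exact hge (Fin.last _)) hz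
      show Ideal.Quotient.mk _ z ∈ (lx i).asIdeal
      rw [Ideal.Quotient.eq_zero_iff_mem.mpr h1]
      exact zero_mem _
    have hlast : l₁.last.1 = Mx := by
      show μ (l (Fin.last l.length).rev) _ = μ (f.asFiber x) _
      congr 1
      rw [Fin.rev_last]; exact hl
    let l₂ : LTSeries W := ⟨lx.length, fun i => ⟨_, hMW i⟩, fun i => by
      show (⟨_, hMW i.castSucc⟩ : W) < ⟨_, hMW i.succ⟩
      exact Subtype.mk_lt_mk.mpr (RingHom.strictMono_comap_of_surjective Ideal.Quotient.mk_surjective (lx.step i))⟩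
    have hchain : ((l.length + lx.length : ℕ) : WithBot ℕ∞) ≤ ringKrullDim (F ⧸ (μ l.last (hge _)).asIdeal) := by
      rw [ringKrullDim_quotient]
      rcases (show l₁.last ≤ l₂.head by
        refine Subtype.coe_le_coe.mp ?_
        rw [hlast]
        intro z hz
        show Ideal.Quotient.mk _ z ∈ lx.head.asIdeal
        rw [Ideal.Quotient.eq_zero_iff_mem.mpr hz]
        exact zero_mem _).lt_or_eq with h | h
      · refine le_trans ?_ (Order.LTSeries.length_le_krullDim (l₁.append l₂ h))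
        rw [RelSeries.append_length]
        exact_mod_cast Nat.le_succ _
      · refine le_trans ?_ (Order.LTSeries.length_le_krullDim (l₁.smash l₂ h))
        rw [RelSeries.smash_length]
    have h2 := quot_dim_eq_T f hU₀ hV hVU rfl p _ _ (hμ l.last (hge _))
    rw [h2] at hchain
    have h3 := hchain.trans ((T_le_fibreDimAt f _).trans ((fibreDimAt_mono f ((hge _).map ι.continuous)).trans
      (le_of_eq ((congrArg _ (f.fiberι_asFiber x)).trans hm))))
    have h4 : l.length + lx.length ≤ m := by exact_mod_cast h3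
    have h5 : T f x = lx.length := by
      have : ((T f x : ℕ) : WithBot ℕ∞) = ((lx.length : ℕ) : WithBot ℕ∞) := by rw [hlx]
      exact_mod_cast this
    omega
  -- and the maximum is attained
  obtain ⟨g, hg, hgmax, hgdim⟩ := exists_maximal_dim f x
  have hTg : m ≤ T f (ι g) := by
    rw [hm, fibreDimAt_eq_T_of_maximal f (ι g) fun x' hx' hcl =>
      FibreComp.maximal_image f (f x) g hgmax x' (hx'.trans ((f.range_fiberι (f x)).subset ⟨g, rfl⟩)) hcl] at hgdim
    exact_mod_cast hgdim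
  let Mg := μ g hg
  have hle : Mg ≤ Mx := hmono _ _ _ _ hg
  let cRg := (inferInstance : CommRing (F ⧸ Mg.asIdeal))
  let P := Mx.asIdeal.map (Ideal.Quotient.mk Mg.asIdeal)
  haveI : P.IsPrime := Ideal.map_isPrime_of_surjective Ideal.Quotient.mk_surjective (by rw [Ideal.mk_ker]; exact hle)
  have hdim := Equidim.ringKrullDim_le_height_add p.asIdeal.ResidueField (F ⧸ Mg.asIdeal) P
  let ψ : F ⧸ Mx.asIdeal →+* (F ⧸ Mg.asIdeal) ⧸ P :=
    Ideal.Quotient.lift Mx.asIdeal ((Ideal.Quotient.mk P).comp (Ideal.Quotient.mk Mg.asIdeal))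
      fun z hz => Ideal.Quotient.eq_zero_iff_mem.mpr (Ideal.mem_map_of_mem _ hz)
  have hψ : Function.Surjective ψ := fun z => by
    obtain ⟨z, rfl⟩ := Ideal.Quotient.mk_surjective z
    obtain ⟨z, rfl⟩ := Ideal.Quotient.mk_surjective z
    exact ⟨Ideal.Quotient.mk _ z, rfl⟩
  replace hdim := hdim.trans (add_le_add le_rfl ((ringKrullDim_le_of_surjective ψ hψ).trans hdx.le))
  rw [quot_dim_eq_T f hU₀ hV hVU rfl p Mg _ (hμ g hg)] at hdim
  haveI : IsNoetherianRing F := Algebra.FiniteType.isNoetherianRing p.asIdeal.ResidueField _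
  haveI : IsNoetherianRing (F ⧸ Mg.asIdeal) := isNoetherianRing_of_surjective _ _ _ Ideal.Quotient.mk_surjective
  haveI : P.FiniteHeight := Ideal.finiteHeight_of_isNoetherianRing P
  obtain ⟨lp, hlp, hlplen⟩ := P.exists_ltSeries_length_eq_height
  rw [← hlplen] at hdim
  have hdim' : T f (ι g) ≤ lp.length + T f x := by exact_mod_cast hdim
  have hmemf : ∀ i, Equidim.ch hV π p (PrimeSpectrum.comap (Ideal.Quotient.mk Mg.asIdeal) (lp i)) ∈ Set.range ι := fun i => by
    rw [f.range_fiberι]; exact (Equidim.f_ch f hU₀ hV hVU rfl π p _).trans hp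
  choose c hc using hmemf
  have hcmono : ∀ i : Fin lp.length, c i.succ < c i.castSucc := fun i => by
    have h1 := RingHom.strictMono_comap_of_surjective (f := Ideal.Quotient.mk Mg.asIdeal) Ideal.Quotient.mk_surjective (lp.step i)
    have h2 : c i.castSucc ⤳ c i.succ := ι.isEmbedding.isInducing.specializes_iff.mp
      (by rw [hc, hc]; exact (Equidim.ch_specializes hV π hπ p _ _).mpr h1.le)
    refine ⟨h2, fun h3 => h1.ne ((Equidim.ch_isEmbedding hV π hπ p).injective ?_)⟩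
    rw [← hc, ← hc]
    exact congrArg ι (h2.antisymm h3).eq
  let l : LTSeries ↥(f.fiber (f x)) := ⟨lp.length, fun i => c i.rev, fun i => by
    show c i.castSucc.rev < c i.succ.rev
    rw [Fin.rev_castSucc, Fin.rev_succ]
    exact hcmono i.rev⟩
  have hhead : l.head = f.asFiber x := ι.isEmbedding.injective (by
    show ι (c (0 : Fin (lp.length + 1)).rev) = _
    rw [hc, f.fiberι_asFiber, Fin.rev_zero]
    show Equidim.ch hV π p (PrimeSpectrum.comap _ lp.last) = x
    rw [hlp]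
    refine Eq.trans (congrArg _ (PrimeSpectrum.ext ?_)) hMx
    show P.comap _ = _
    rw [Ideal.comap_map_of_surjective' _ Ideal.Quotient.mk_surjective, Ideal.mk_ker, sup_eq_left.mpr hle])
  have h6 := hup l hhead
  have h7 : l.length = lp.length := rfl
  refine ⟨lp.length, le_antisymm (Order.coheight_le fun q hq => ?_) ?_, ?_⟩
  · have h8 := hup q hq
    exact_mod_cast (by omega : q.length ≤ lp.length)
  · rw [← hhead]
    exact Order.length_le_coheight_head (p := l)
  · rw [hm, show lp.length + T f x = m by omega]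

end Groth.Agent.HensPair.FibreTrdeg
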