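import Groth.Agent.HensPair.RelDim
import Groth.Agent.HensPair.DimBC
import Groth.Agent.HensPair.FieldTrdeg

/-!
Local dimension over a field along flat morphisms.
-/

set_option autoImplicit false
set_option synthInstance.maxHeartbeats 200000

noncomputable section

open CategoryTheory AlgebraicGeometry TopologicalSpace Topology Limits

namespace Groth.Agent.HensPair.FieldAdd

universe u

set_option backward.isDefEq.respectTransparency false

variable {P Y K : Scheme.{u}} (s : P ⟶ Y) (q : Y ⟶ K) [Subsingleton K] [IsLocallyNoetherian K]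

theorem localDim_add_of_flat [Flat s] [LocallyOfFiniteType s] [LocallyOfFiniteType q] (z : P) :
    FlatMor.localDim P z = FlatMor.localDim Y (s z) + FlatMor.fibreDimAt s z := by
  haveI : IsLocallyNoetherian Y := LocallyOfFiniteType.isLocallyNoetherian q
  haveI : IsLocallyNoetherian P := LocallyOfFiniteType.isLocallyNoetherian (s ≫ q)
  haveI : LocallyOfFinitePresentation s := LocallyOfFinitePresentation.iff_locallyOfFiniteType.mpr inferInstance
  obtain ⟨k, -, hk, hz⟩ := FieldTrdeg.main (s ≫ q) z
  obtain ⟨j, -, hj, hy⟩ := FieldTrdeg.main q (s z)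
  obtain ⟨m, d, i, hm, hd, hi, -, he⟩ := CatFormula.dims s z
  have h := Groth.Agent.S2559.result s z fun w _ _ V hV => by
    obtain ⟨O, hO, hOo, hwO⟩ := mem_nhds_iff.mp hV
    exact Filter.mem_of_superset ((s.isOpenMap O hOo).mem_nhds ⟨_, hwO, rfl⟩) (Set.image_mono hO)
  rw [hm, hd, hi] at h
  rw [hk] at hm
  rw [hj] at hd
  have h1 : k = m := by exact_mod_cast hm
  have h2 : j = d := by exact_mod_cast hd
  have h3 : m = d + i := by exact_mod_cast h
  rw [hz, hy, he, JacobsonDim.T_add s q z]
  exact_mod_cast (by omega : k + (FibreTrdeg.T q (s z) + FibreTrdeg.T s z) =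
    j + FibreTrdeg.T q (s z) + (i + FibreTrdeg.T s z))

omit [IsLocallyNoetherian K] in
/-- local dimension of a product over a point -/
theorem fibreDimAt_snd {X : Scheme.{u}} (f : X ⟶ K) [LocallyOfFiniteType f] (z : ↥(pullback f q)) :
    FlatMor.fibreDimAt (pullback.snd f q) z = FlatMor.localDim X (pullback.fst f q z) :=
  (DimBC.fibreDimAt_baseChange f q _ _ (IsPullback.of_hasPullback f q) z).trans (FieldTrdeg.fibreDimAt_eq_localDim f _)

end Groth.Agent.HensPair.FieldAdd
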