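import Groth.Agent.HensPair.DimMore

/-!
Dimensions of closures over a point base.
-/

set_option autoImplicit false
set_option synthInstance.maxHeartbeats 200000

noncomputable section

open CategoryTheory AlgebraicGeometry TopologicalSpace Topology

namespace Groth.Agent.HensPair.FieldDim

universe u

set_option backward.isDefEq.respectTransparency false

variable {X S : Scheme.{u}} (p : X ⟶ S) [Subsingleton S] [IsLocallyNoetherian S] [LocallyOfFiniteType p]

theorem dim_closure (x : X) : topologicalKrullDim ↥(closure ({x} : Set X)) = (FibreTrdeg.T p x : ℕ) := by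
  let C : Closeds X := ⟨closure {x}, isClosed_closure⟩
  let i := (Scheme.IdealSheafData.vanishingIdeal C).subschemeι
  have hr : Set.range i = closure {x} := by exact Scheme.IdealSheafData.range_subschemeι _
  obtain ⟨t₀, ht₀⟩ : x ∈ Set.range i := by rw [hr]; exact subset_closure rfl
  have hgen : ∀ s, t₀ ⤳ s := fun s => i.isEmbedding.isInducing.specializes_iff.mp
    (by rw [ht₀]; exact specializes_iff_mem_closure.mpr (hr.le ⟨s, rfl⟩))
  refine le_antisymm (le_trans (Equidim.dim_le_of_range (φ := fun w : ↥(closure ({x} : Set X)) => w.1)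
    IsInducing.subtypeVal i.isEmbedding fun w => by rw [hr]; exact w.2) ?_)
    (le_trans ?_ (Equidim.dim_le_of_range (φ := i.base) i.isEmbedding.isInducing IsEmbedding.subtypeVal
      fun w => ⟨⟨i w, hr.le ⟨w, rfl⟩⟩, rfl⟩))
  · refine le_trans (le_of_eq (Order.krullDim_eq_of_orderIso irreducibleSetEquivPoints)) (iSup_le fun l => ?_)
    obtain ⟨ξ, hmax, hl⟩ := DimMore.length_le_T (i ≫ p) l
    obtain rfl : t₀ = ξ := hmax t₀ (hgen ξ)
    rw [EquidimStalk.T_comp, ht₀] at hl
    exact_mod_cast hl
  · rw [← ht₀, ← EquidimStalk.T_comp i p t₀]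
    exact DimMore.T_le_dim (i ≫ p) t₀

theorem dim_le_of_maximal (n : WithBot ℕ∞) (h : ∀ ξ : X, (∀ z, z ⤳ ξ → z = ξ) → ((FibreTrdeg.T p ξ : ℕ) : WithBot ℕ∞) ≤ n) :
    topologicalKrullDim ↥X ≤ n := by
  refine le_trans (le_of_eq (Order.krullDim_eq_of_orderIso irreducibleSetEquivPoints)) (iSup_le fun l => ?_)
  obtain ⟨ξ, hmax, hl⟩ := DimMore.length_le_T p l
  exact le_trans (by exact_mod_cast hl) (h ξ hmax)

/-- the dimension of a scheme is the supremum of the dimensions of its local rings -/
theorem dim_eq_iSup_stalk (Y : Scheme.{u}) [Nonempty Y] :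
    topologicalKrullDim ↥Y = ⨆ y : Y, ringKrullDim (Y.presheaf.stalk y) := by
  rw [show topologicalKrullDim ↥Y = Order.krullDim ↥Y from Order.krullDim_eq_of_orderIso irreducibleSetEquivPoints]
  refine le_antisymm (iSup_le fun l => le_iSup_of_le l.head ?_) (iSup_le fun y => ?_)
  · rw [ringKrullDim_stalk_eq_coheight]
    exact WithBot.coe_le_coe.mpr Order.length_le_coheight_head
  · rw [ringKrullDim_stalk_eq_coheight]
    exact Order.coheight_le_krullDim y

end Groth.Agent.HensPair.FieldDim
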