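import Groth.Agent.Hensel.Decomp
import Groth.Agent.HensPair.Integral

/-!
Localizations of finite algebras over henselian local rings at maximal ideals are quotients.
-/

set_option autoImplicit false

open IsLocalRing

namespace Groth.Agent.HensPair.FiniteLoc

universe u

variable {A C : Type u} [CommRing A] [HenselianLocalRing A] [CommRing C] [Algebra A C] [Module.Finite A C]

include A in
theorem surjective (q : Ideal C) [hq : q.IsMaximal] :
    Function.Surjective (algebraMap C (Localization.AtPrime q)) := by
  classical
  obtain ⟨_, e, hc, he⟩ := Hensel.Decomp.exists_finite_decomposition (R := A) (S := C)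
  intro z
  obtain ⟨a, s, rfl⟩ := IsLocalization.exists_mk'_eq q.primeCompl z
  let Q : MaximalSpectrum C := ⟨q, hq⟩
  have hid : IsIdempotentElem (e Q) := hc.idem Q
  have hone : algebraMap C (Localization.AtPrime q) (e Q) = 1 := by
    have hu : IsUnit (algebraMap C (Localization.AtPrime q) (e Q)) :=
      IsLocalization.map_units _ (⟨e Q, (he Q Q).mpr rfl⟩ : q.primeCompl)
    exact hu.mul_left_cancel (by rw [← map_mul, hid.eq, mul_one])
  have hu : IsUnit ((s : C) * e Q + (1 - e Q)) := by
    by_contra hnu
    obtain ⟨N, hN, hmem⟩ := exists_max_ideal_of_mem_nonunits hnu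
    by_cases hQN : e Q ∈ N
    · refine hN.ne_top ((Ideal.eq_top_iff_one _).mpr ?_)
      have h1 := add_mem (sub_mem hmem (N.mul_mem_left s hQN)) hQN
      ring_nf at h1
      exact h1
    · have hNq : Q = ⟨N, hN⟩ := (he Q ⟨N, hN⟩).mp hQN
      have hNq' : q = N := congrArg MaximalSpectrum.asIdeal hNq
      rw [← hNq'] at hmem hQN
      have h1 : 1 - e Q ∈ q := (hq.isPrime.mem_or_mem (show e Q * (1 - e Q) ∈ q by
        rw [mul_sub, mul_one, hid.eq, sub_self]; exact zero_mem _)).resolve_left hQN
      have h2 : (s : C) * e Q ∈ q := by simpa using sub_mem hmem h1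
      exact s.2 ((hq.isPrime.mem_or_mem h2).resolve_right hQN)
  obtain ⟨v, hv⟩ := hu.exists_right_inv
  refine ⟨a * v, ?_⟩
  rw [eq_comm, IsLocalization.mk'_eq_iff_eq_mul]
  have h3 := congrArg (algebraMap C (Localization.AtPrime q)) hv
  simp only [map_add, map_sub, map_mul, map_one, hone, mul_one, sub_self, add_zero] at h3
  rw [map_mul]
  linear_combination -(algebraMap C (Localization.AtPrime q) a) * h3

theorem finite (q : Ideal C) [q.IsMaximal] : Module.Finite A (Localization.AtPrime q) :=
  Module.Finite.of_surjective (IsScalarTower.toAlgHom A C (Localization.AtPrime q)).toLinearMap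
    (surjective (A := A) q)

include A in
theorem henselianLocalRing (q : Ideal C) [q.IsMaximal] :
    HenselianLocalRing (Localization.AtPrime q) :=
  haveI := finite (A := A) q
  Integral.henselianLocalRing (A := A)

end Groth.Agent.HensPair.FiniteLoc
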