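import Groth.Agent.HensPair.Henselization
import Mathlib.RingTheory.Etale.Kaehler

/-!
The henselization of a pair is formally etale.
-/

set_option autoImplicit false

noncomputable section

open Groth.Agent.HensPair.Construction

namespace Groth.Agent.HensPair.FormallyEtale

universe u

variable {A : Type u} [CommRing A] {I : Ideal A}

theorem tens (S : Set (Idx I)) : Algebra.FormallyEtale A (Tens I S) := by
  rw [Algebra.FormallyEtale.iff_comp_bijective]
  intro B _ _ J hJ
  refine ⟨fun f g hfg => tens_ext S f g fun i => ?_, fun σ => ?_⟩
  · have := (i : Idx I).2.etale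
    refine Algebra.FormallyUnramified.comp_injective J hJ ?_
    exact congrArg (fun t => AlgHom.comp t (tensInj S i)) hfg
  · have hl : ∀ i : S, ∃ τ : (i : Idx I).Ring →ₐ[A] B,
        (Ideal.Quotient.mkₐ A J).comp τ = σ.comp (tensInj S i) := fun i => by
      have := (i : Idx I).2.etale
      exact Algebra.FormallySmooth.comp_surjective A _ J hJ _
    choose τ hτ using hl
    refine ⟨tensLift S τ, tens_ext S _ _ fun i => ?_⟩
    show ((Ideal.Quotient.mkₐ A J).comp (tensLift S τ)).comp (tensInj S i) = _
    rw [AlgHom.comp_assoc, tensLift_inj, hτ]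

theorem hull : Algebra.FormallyEtale A (Hull I) :=
  have := tens (I := I) Set.univ
  have : Algebra.FormallyEtale (Tens I Set.univ) (Hull I) :=
    Algebra.FormallyEtale.of_isLocalization (unitsMod I)
  Algebra.FormallyEtale.comp A (Tens I Set.univ) (Hull I)

theorem of_isPairHenselization {B : Type u} [CommRing B] [Algebra A B]
    (hB : Hens2.IsPairHenselization A I B) : Algebra.FormallyEtale A B := by
  obtain ⟨e⟩ := Henselization.exists_equiv_hull hB
  have := hull (I := I)
  exact Algebra.FormallyEtale.of_equiv e.symm

end Groth.Agent.HensPair.FormallyEtale
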