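import Groth.Agent.HensPair.UnibranchOpenScheme

/-!
Geometric unibranchness only depends on the reduced ring.
-/

set_option autoImplicit false
set_option synthInstance.maxHeartbeats 200000

noncomputable section

open IsLocalRing

namespace Groth.Agent.HensPair.GeomUniRed

universe u

set_option backward.isDefEq.respectTransparency false

theorem isGeomUnibranch_of_red {R T : Type u} [CommRing R] [IsLocalRing R] [CommRing T] [IsLocalRing T]
    (e : CAlg2.red R ≃+* CAlg2.red T) (h : CAlg2.IsGeomUnibranch R) : CAlg2.IsGeomUnibranch T := by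
  refine ⟨UnibranchOpen.isUnibranch_of_red e h.1, fun m' _ x => ?_⟩
  have := h.1.1
  have hT : IsDomain (CAlg2.red T) := MulEquiv.isDomain (CAlg2.red R) e.symm.toMulEquiv
  let E := IsFractionRing.ringEquivOfRingEquiv (K := FractionRing (CAlg2.red R))
    (L := FractionRing (CAlg2.red T)) e
  have hE : ∀ a, E (algebraMap (CAlg2.red R) _ a) = algebraMap (CAlg2.red T) _ (e a) :=
    IsFractionRing.ringEquivOfRingEquiv_algebraMap e
  have hto : ∀ x : CAlg2.normRed R, IsIntegral (CAlg2.red T) (E x.1) := fun x => by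
    obtain ⟨P, hP, hP0⟩ := x.2
    refine ⟨P.map e.toRingHom, hP.map _, ?_⟩
    rw [Polynomial.eval₂_map, show (algebraMap (CAlg2.red T) (FractionRing (CAlg2.red T))).comp e.toRingHom =
      E.toRingHom.comp (algebraMap (CAlg2.red R) (FractionRing (CAlg2.red R))) from RingHom.ext fun a => (hE a).symm]
    exact (Polynomial.hom_eval₂ P _ E.toRingHom x.1).symm.trans ((congrArg E.toRingHom hP0).trans (map_zero _))
  let F : CAlg2.normRed R →+* CAlg2.normRed T :=
    (E.toRingHom.comp (algebraMap (CAlg2.normRed R) (FractionRing (CAlg2.red R)))).codRestrict _ hto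
  have hFalg : ∀ a, F (algebraMap (CAlg2.red R) (CAlg2.normRed R) a) = algebraMap (CAlg2.red T) (CAlg2.normRed T) (e a) :=
    fun a => Subtype.ext (hE a)
  have hF : Function.Surjective F := fun y => by
    obtain ⟨P, hP, hP0⟩ := y.2
    have : IsIntegral (CAlg2.red R) (E.symm y.1) := by
      refine ⟨P.map e.symm.toRingHom, hP.map _, ?_⟩
      rw [Polynomial.eval₂_map, show (algebraMap (CAlg2.red R) (FractionRing (CAlg2.red R))).comp e.symm.toRingHom =
        E.symm.toRingHom.comp (algebraMap (CAlg2.red T) (FractionRing (CAlg2.red T))) from RingHom.ext fun a =>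
          E.injective (show E (algebraMap _ _ (e.symm a)) = E (E.symm (algebraMap _ _ a)) by
            rw [hE, e.apply_symm_apply, E.apply_symm_apply])]
      exact (Polynomial.hom_eval₂ P _ E.symm.toRingHom y.1).symm.trans
        ((congrArg E.symm.toRingHom hP0).trans (map_zero _))
    exact ⟨⟨E.symm y.1, this⟩, Subtype.ext (E.apply_symm_apply y.1)⟩
  let m := m'.comap F
  have : m.IsMaximal := Ideal.comap_isMaximal_of_surjective F hF
  obtain ⟨y, rfl⟩ := Ideal.Quotient.mk_surjective x
  obtain ⟨z, rfl⟩ := hF y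
  obtain ⟨n, r, hr⟩ := h.2 m (Ideal.Quotient.mk m z)
  let q : CAlg2.normRed R ⧸ m →+* CAlg2.normRed T ⧸ m' := Ideal.quotientMap m' F le_rfl
  obtain ⟨t, ht⟩ := Ideal.Quotient.mk_surjective (e (Ideal.Quotient.mk (nilradical R) r))
  have : Nontrivial (CAlg2.normRed T ⧸ m') := Ideal.Quotient.nontrivial_iff.mpr ‹m'.IsMaximal›.ne_top
  let := Ideal.Quotient.field m
  have : ExpChar (CAlg2.normRed T ⧸ m') (ringExpChar (CAlg2.normRed R ⧸ m)) :=
    expChar_of_injective_ringHom q.injective _
  refine ⟨n, t, ?_⟩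
  rw [ringExpChar.eq (CAlg2.normRed T ⧸ m') (ringExpChar (CAlg2.normRed R ⧸ m))]
  show Ideal.Quotient.mk m' (algebraMap (CAlg2.red T) (CAlg2.normRed T) (Ideal.Quotient.mk _ t)) =
    q (Ideal.Quotient.mk m z) ^ _
  rw [ht, ← hFalg, ← map_pow, ← hr]
  rfl

end Groth.Agent.HensPair.GeomUniRed
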