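import Groth.Agent.HensPair.Construction
import Groth.Prelude.Def_Hens2
import Mathlib.RingTheory.Etale.StandardEtale

/-!
Henselizations of pairs: existence, description by etale neighbourhoods, flatness.
-/

set_option autoImplicit false

noncomputable section

open Polynomial Groth.Agent.HensPair.Construction

namespace Groth.Agent.HensPair.Henselization

universe u

variable {A : Type u} [CommRing A] {I : Ideal A}

theorem map_mem {A' B : Type u} [CommRing A'] [Algebra A A'] [CommRing B] [Algebra A B]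
    (φ : A' →ₐ[A] B) {x : A'} (hx : x ∈ I.map (algebraMap A A')) :
    φ x ∈ I.map (algebraMap A B) := by
  have := Ideal.mem_map_of_mem φ.toRingHom hx
  rwa [Ideal.map_map, AlgHom.toRingHom_eq_coe, AlgHom.comp_algebraMap] at this

/-- a point modulo `I` kills the extension of `I` -/
theorem section_eq_zero {A' : Type u} [CommRing A'] [Algebra A A'] (σ : A' →ₐ[A] A ⧸ I) {x : A'}
    (hx : x ∈ I.map (algebraMap A A')) : σ x = 0 := by
  have := map_mem σ hx
  rwa [Ideal.Quotient.algebraMap_eq, Ideal.map_quotient_self, Ideal.mem_bot] at this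

/-- the reduction of the henselization -/
theorem exists_proj : Nonempty (Hull I →ₐ[A] A ⧸ I) := by
  let σ : Tens I Set.univ →ₐ[A] A ⧸ I :=
    tensLift Set.univ fun i => (i : Idx I).2.section_exists.some
  exact ⟨IsLocalization.liftAlgHom (M := unitsMod I) (f := σ) fun m => by
    have h : Ideal.Quotient.mk (I.map (algebraMap A (Tens I Set.univ))) (m : Tens I Set.univ) =
        Ideal.Quotient.mk _ 1 := m.2.trans (map_one _).symm
    have h' := section_eq_zero σ (Ideal.Quotient.eq.mp h)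
    rw [map_sub, map_one, sub_eq_zero] at h'
    rw [h']; exact isUnit_one⟩

theorem hull_approx (x : Hull I) : ∃ a : A, x - algebraMap A _ a ∈ I.map (algebraMap A (Hull I)) := by
  obtain ⟨i, φ, h⟩ := exists_rep fun _ : Unit => x
  obtain ⟨r, hr⟩ := h ()
  obtain ⟨a, ha⟩ := i.2.approx r
  exact ⟨a, by simpa [hr] using map_mem φ ha⟩

theorem mem_map_iff (π : Hull I →ₐ[A] A ⧸ I) (x : Hull I) :
    x ∈ I.map (algebraMap A (Hull I)) ↔ π x = 0 := by
  refine ⟨section_eq_zero π, fun h => ?_⟩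
  obtain ⟨a, ha⟩ := hull_approx x
  have h1 := section_eq_zero π ha
  rw [map_sub, h, AlgHom.commutes, zero_sub, neg_eq_zero, Ideal.Quotient.algebraMap_eq,
    Ideal.Quotient.eq_zero_iff_mem] at h1
  simpa using add_mem ha (Ideal.mem_map_of_mem (algebraMap A (Hull I)) h1)

/-- adjoining a simple root gives a neighbourhood -/
theorem exists_root_nbhd (A₁ : Type u) [CommRing A₁] [Algebra A A₁] (h : Nbhd.IsNbhd I A₁)
    (f : A₁[X]) (hf : f.Monic) (b : A₁) (hb : f.eval b ∈ I.map (algebraMap A A₁))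
    (σ₁ : A₁ →ₐ[A] A ⧸ I) (hu : IsUnit (σ₁ (f.derivative.eval b))) :
    ∃ (A₂ : Type u) (_ : CommRing A₂) (_ : Algebra A A₂) (_ : Nbhd.IsNbhd I A₂)
      (ι : A₁ →ₐ[A] A₂) (t : A₂), f.eval₂ ι.toRingHom t = 0 ∧
        t - ι b ∈ I.map (algebraMap A A₂) := by
  have := h.etale
  set k : A₁[X] := (f - C (f.eval b)) /ₘ (X - C b) with hk
  have hmul : (X - C b) * k = f - C (f.eval b) :=
    mul_divByMonic_eq_iff_isRoot.mpr (by simp [IsRoot])
  have hkb : k.eval b = f.derivative.eval b := by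
    have := congrArg (fun p : A₁[X] => p.derivative.eval b) hmul
    simpa [derivative_mul] using this
  let P : StandardEtalePair A₁ := ⟨f, hf, derivative f * k, k, 0, 1, by ring⟩
  let algR : Algebra A P.Ring := ((algebraMap A₁ P.Ring).comp (algebraMap A A₁)).toAlgebra
  have : IsScalarTower A A₁ P.Ring := IsScalarTower.of_algebraMap_eq' rfl
  have : Algebra.Etale A P.Ring := Algebra.Etale.comp A A₁ P.Ring
  let ι : A₁ →ₐ[A] P.Ring := IsScalarTower.toAlgHom A A₁ P.Ring
  let J := I.map (algebraMap A P.Ring)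
  have hιJ : ∀ z ∈ I.map (algebraMap A A₁), algebraMap A₁ P.Ring z ∈ J := fun z hz => map_mem ι hz
  have hT : aeval P.X f = 0 := P.hasMap_X.1
  have hkU : IsUnit (Ideal.Quotient.mk J (aeval P.X k)) := by
    have : IsUnit (aeval P.X (derivative f * k)) := P.hasMap_X.2
    rw [map_mul] at this
    exact (isUnit_of_mul_isUnit_right this).map _
  have hTb : P.X - algebraMap A₁ P.Ring b ∈ J := by
    have h1 := congrArg (fun p : A₁[X] => Ideal.Quotient.mk J (aeval P.X p)) hmul
    simp only [map_mul, map_sub, aeval_X, aeval_C, hT, zero_sub, map_neg, neg_zero,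
      Ideal.Quotient.eq_zero_iff_mem.mpr (hιJ _ hb), map_zero] at h1
    rw [← Ideal.Quotient.eq_zero_iff_mem, map_sub]
    exact hkU.mul_left_eq_zero.mp h1
  let alg : Algebra A₁ (A ⧸ I) := σ₁.toRingHom.toAlgebra
  have : IsScalarTower A A₁ (A ⧸ I) := IsScalarTower.of_algebraMap_eq fun a => (σ₁.commutes a).symm
  have hmap : P.HasMap (σ₁ b) := by
    constructor
    · show aeval (algebraMap A₁ (A ⧸ I) b) f = 0
      rw [aeval_algebraMap_apply]
      show σ₁ (aeval b f) = 0
      rw [coe_aeval_eq_eval]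
      exact section_eq_zero σ₁ hb
    · show IsUnit (aeval (algebraMap A₁ (A ⧸ I) b) (derivative f * k))
      rw [aeval_algebraMap_apply]
      show IsUnit (σ₁ (aeval b (derivative f * k)))
      rw [coe_aeval_eq_eval, eval_mul, hkb, map_mul]
      exact hu.mul hu
  let σ₂ : P.Ring →ₐ[A] A ⧸ I := (P.lift (σ₁ b) hmap).restrictScalars A
  refine ⟨P.Ring, inferInstance, inferInstance, ⟨inferInstance, ⟨σ₂⟩, fun x => ?_⟩, ι, P.X, ?_, hTb⟩
  · let K : Ideal A₁ := I.map (algebraMap A A₁)
    let q : (A₁ ⧸ K) →ₐ[A₁] P.Ring ⧸ J := Ideal.Quotient.liftₐ K (Algebra.ofId A₁ _) fun z hz =>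
      Ideal.Quotient.eq_zero_iff_mem.mpr (hιJ z hz)
    have hKmap : P.HasMap (Ideal.Quotient.mk K b) := by
      constructor
      · rw [← Ideal.Quotient.algebraMap_eq, aeval_algebraMap_apply, coe_aeval_eq_eval]
        exact Ideal.Quotient.eq_zero_iff_mem.mpr hb
      · rw [← Ideal.Quotient.algebraMap_eq, aeval_algebraMap_apply, coe_aeval_eq_eval, eval_mul, hkb,
          map_mul]
        obtain ⟨u, hu'⟩ := hu.exists_right_inv
        obtain ⟨c, rfl⟩ := Ideal.Quotient.mk_surjective u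
        obtain ⟨a, ha⟩ := h.approx (f.derivative.eval b)
        have h1 := section_eq_zero σ₁ ha
        rw [map_sub, AlgHom.commutes, sub_eq_zero] at h1
        rw [h1, Ideal.Quotient.algebraMap_eq, ← map_mul, ← map_one (Ideal.Quotient.mk I),
          Ideal.Quotient.eq] at hu'
        have h2 : IsUnit (algebraMap A₁ (A₁ ⧸ K) (f.derivative.eval b)) := by
          refine IsUnit.of_mul_eq_one (Ideal.Quotient.mk K (algebraMap A A₁ c)) ?_
          rw [Ideal.Quotient.algebraMap_eq, ← map_mul, ← map_one (Ideal.Quotient.mk K),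
            Ideal.Quotient.eq]
          have h3 := add_mem (K.mul_mem_right (algebraMap A A₁ c) ha)
            (Ideal.mem_map_of_mem (algebraMap A A₁) hu')
          simpa [map_mul, sub_mul] using h3
        exact h2.mul h2
    have heq : q.comp (P.lift _ hKmap) = Ideal.Quotient.mkₐ A₁ J := by
      refine P.hom_ext ?_
      rw [AlgHom.comp_apply, StandardEtalePair.lift_X]
      exact (Ideal.Quotient.eq.mpr hTb).symm
    obtain ⟨y, hy⟩ := Ideal.Quotient.mk_surjective (P.lift _ hKmap x)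
    obtain ⟨a, ha⟩ := h.approx y
    refine ⟨a, ?_⟩
    have h1 : Ideal.Quotient.mk J x = Ideal.Quotient.mk J (algebraMap A₁ P.Ring y) := by
      have := DFunLike.congr_fun heq x
      rw [AlgHom.comp_apply, ← hy] at this
      exact this.symm
    rw [← Ideal.Quotient.eq, h1, IsScalarTower.algebraMap_apply A A₁ P.Ring, Ideal.Quotient.eq,
      ← map_sub]
    exact hιJ _ ha
  · exact (aeval_def P.X f).symm.trans hT

instance henselian_hull : HenselianRing (Hull I) (I.map (algebraMap A (Hull I))) := by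
  refine ⟨map_le_jacobson, fun f hf a₀ h₀ hu => ?_⟩
  obtain ⟨π⟩ := exists_proj (I := I)
  obtain ⟨i, φ, h⟩ := exists_rep fun k : Option (Fin f.natDegree) =>
    Option.elim k a₀ fun j => f.coeff j
  choose r hr using h
  let f₁ : i.Ring[X] := X ^ f.natDegree + ∑ j : Fin f.natDegree, C (r (some j)) * X ^ (j : ℕ)
  have hmon : f₁.Monic := monic_X_pow_add (degree_sum_fin_lt _)
  have hφf : f₁.map φ.toRingHom = f := by
    conv_rhs => rw [hf.as_sum]
    simp only [f₁, Polynomial.map_add, Polynomial.map_pow, Polynomial.map_X, Polynomial.map_sum,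
      Polynomial.map_mul, Polynomial.map_C, AlgHom.toRingHom_eq_coe, AlgHom.coe_toRingHom, hr,
      Option.elim_some]
    rw [← Fin.sum_univ_eq_sum_range fun j => C (f.coeff j) * X ^ j]
  have ha₀ : φ (r none) = a₀ := hr none
  let σ₁ : i.Ring →ₐ[A] A ⧸ I := π.comp φ
  have hev : φ (f₁.eval (r none)) = f.eval a₀ := by
    refine (eval_map_apply (p := f₁) φ.toRingHom (r none)).symm.trans ?_
    rw [hφf]; exact congrArg (fun z => f.eval z) ha₀
  have hmem : f₁.eval (r none) ∈ I.map (algebraMap A i.Ring) := by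
    obtain ⟨a, ha⟩ := i.2.approx (f₁.eval (r none))
    have h1 := section_eq_zero σ₁ ha
    have h2 : π (f.eval a₀) = 0 := (mem_map_iff π _).mp h₀
    simp only [σ₁, AlgHom.comp_apply, map_sub, hev, h2, AlgHom.commutes, zero_sub, neg_eq_zero,
      Ideal.Quotient.algebraMap_eq, Ideal.Quotient.eq_zero_iff_mem] at h1
    simpa using add_mem ha (Ideal.mem_map_of_mem (algebraMap A i.Ring) h1)
  have hder : φ (f₁.derivative.eval (r none)) = f.derivative.eval a₀ := by
    refine (eval_map_apply (p := derivative f₁) φ.toRingHom (r none)).symm.trans ?_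
    rw [← derivative_map, hφf]; exact congrArg (fun z => f.derivative.eval z) ha₀
  have hunit : IsUnit (σ₁ (f₁.derivative.eval (r none))) := by
    show IsUnit (π (φ _))
    rw [hder]
    exact hu.map (Ideal.Quotient.liftₐ _ π fun z hz => (mem_map_iff π z).mp hz)
  obtain ⟨A₂, _, _, hA₂, ι, t, ht, htb⟩ := exists_root_nbhd i.Ring i.2 f₁ hmon _ hmem σ₁ hunit
  obtain ⟨ψ⟩ := exists_hom A₂ hA₂
  have hcomp : ψ.comp ι = φ := hom_eq _ i.2 _ _
  refine ⟨ψ t, ?_, ?_⟩
  · show f.eval (ψ t) = 0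
    rw [← hφf, eval_map, ← hcomp]
    refine (hom_eval₂ f₁ ι.toRingHom ψ.toRingHom t).symm.trans ?_
    rw [ht, map_zero]
  · have := map_mem ψ htb
    rwa [map_sub, ← AlgHom.comp_apply, hcomp, ha₀] at this

/-- maps from neighbourhoods into henselian pairs exist -/
theorem exists_hom_henselian {C : Type u} [CommRing C] [Algebra A C] (J : Ideal C) [HenselianRing C J]
    (hJ : I.map (algebraMap A C) ≤ J) (A' : Type u) [CommRing A'] [Algebra A A']
    (h : Nbhd.IsNbhd I A') : Nonempty (A' →ₐ[A] C) := by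
  have := h.etale
  obtain ⟨σ⟩ := h.section_exists
  let q : (A ⧸ I) →ₐ[A] C ⧸ J := Ideal.Quotient.liftₐ I (Algebra.ofId A _) fun a ha =>
    Ideal.Quotient.eq_zero_iff_mem.mpr (hJ (Ideal.mem_map_of_mem _ ha))
  exact ⟨(Basic.existsUnique_lift (J := J) A' (q.comp σ)).exists.choose⟩

theorem existsUnique_algHom {C : Type u} [CommRing C] [Algebra A C] (J : Ideal C) [HenselianRing C J]
    (hJ : I.map (algebraMap A C) ≤ J) : ∃! g : Hull I →ₐ[A] C, True := by
  have hjac : I.map (algebraMap A C) ≤ Ideal.jacobson ⊥ := hJ.trans HenselianRing.jac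
  let Φ : Tens I Set.univ →ₐ[A] C :=
    tensLift Set.univ fun i => (exists_hom_henselian J hJ _ (i : Idx I).2).some
  have hΦ : ∀ m : unitsMod I, IsUnit (Φ m) := fun m => by
    refine Criteria.isUnit_of_mk_isUnit (I := J) HenselianRing.jac ?_
    have h : (m : Tens I Set.univ) - 1 ∈ I.map (algebraMap A (Tens I Set.univ)) :=
      Ideal.Quotient.eq.mp (m.2.trans (map_one _).symm)
    have h' := hJ (map_mem Φ h)
    rw [map_sub, map_one, ← Ideal.Quotient.eq, map_one] at h'
    rw [h']; exact isUnit_one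
  refine ⟨IsLocalization.liftAlgHom (M := unitsMod I) (f := Φ) hΦ, trivial, fun g _ => ?_⟩
  refine AlgHom.ext fun x => ?_
  obtain ⟨i, φ, h⟩ := exists_rep fun _ : Unit => x
  obtain ⟨r, rfl⟩ := h ()
  exact DFunLike.congr_fun (i.2.hom_eq hjac (g.comp φ)
    ((IsLocalization.liftAlgHom (M := unitsMod I) (f := Φ) hΦ).comp φ)) r

theorem isPairHenselization_hull (I : Ideal A) : Hens2.IsPairHenselization A I (Hull I) := by
  refine ⟨inferInstance, fun C _ J f hC hf => ?_⟩
  let := f.toAlgebra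
  obtain ⟨g, -, hg⟩ := existsUnique_algHom (I := I) J hf
  refine ⟨g.toRingHom, g.comp_algebraMap, fun g' hg' => ?_⟩
  exact congrArg AlgHom.toRingHom
    (hg ⟨g', fun a => RingHom.congr_fun hg' a⟩ trivial)

section Any

variable {B : Type u} [CommRing B] [Algebra A B]

theorem algHom_ext (hB : Hens2.IsPairHenselization A I B) {C : Type u} [CommRing C] [Algebra A C]
    (J : Ideal C) [HenselianRing C J] (hJ : I.map (algebraMap A C) ≤ J) (g₁ g₂ : B →ₐ[A] C) :
    g₁ = g₂ :=
  AlgHom.coe_ringHom_injective ((hB.2 C J (algebraMap A C) inferInstance hJ).unique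
    g₁.comp_algebraMap g₂.comp_algebraMap)

theorem exists_algHom (hB : Hens2.IsPairHenselization A I B) {C : Type u} [CommRing C] [Algebra A C]
    (J : Ideal C) [HenselianRing C J] (hJ : I.map (algebraMap A C) ≤ J) : Nonempty (B →ₐ[A] C) := by
  obtain ⟨g, hg⟩ := (hB.2 C J (algebraMap A C) inferInstance hJ).exists
  exact ⟨⟨g, fun a => RingHom.congr_fun hg a⟩⟩

theorem unique (hB : Hens2.IsPairHenselization A I B) {B' : Type u} [CommRing B'] [Algebra A B']
    (hB' : Hens2.IsPairHenselization A I B') : Nonempty (B ≃ₐ[A] B') := by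
  have := hB.1
  have := hB'.1
  obtain ⟨g⟩ := exists_algHom hB (I.map (algebraMap A B')) le_rfl
  obtain ⟨g'⟩ := exists_algHom hB' (I.map (algebraMap A B)) le_rfl
  exact ⟨AlgEquiv.ofAlgHom g g' (algHom_ext hB' (I.map (algebraMap A B')) le_rfl _ _)
    (algHom_ext hB (I.map (algebraMap A B)) le_rfl _ _)⟩

theorem of_equiv (hB : Hens2.IsPairHenselization A I B) {B' : Type u} [CommRing B'] [Algebra A B']
    (e : B ≃ₐ[A] B') [HenselianRing B' (I.map (algebraMap A B'))] :
    Hens2.IsPairHenselization A I B' := by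
  refine ⟨inferInstance, fun C _ J f hC hf => ?_⟩
  let := f.toAlgebra
  obtain ⟨g⟩ := exists_algHom hB J hf
  refine ⟨(g.comp e.symm.toAlgHom).toRingHom, (g.comp e.symm.toAlgHom).comp_algebraMap,
    fun g' hg' => ?_⟩
  let g'' : B' →ₐ[A] C := ⟨g', fun a => RingHom.congr_fun hg' a⟩
  have := algHom_ext hB J hf (g''.comp e.toAlgHom) g
  refine RingHom.ext fun x => ?_
  show g'' x = g (e.symm x)
  rw [← this]; simp

theorem exists_equiv_hull (hB : Hens2.IsPairHenselization A I B) : Nonempty (B ≃ₐ[A] Hull I) :=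
  unique hB (isPairHenselization_hull I)

theorem approx (hB : Hens2.IsPairHenselization A I B) (x : B) :
    ∃ a : A, x - algebraMap A B a ∈ I.map (algebraMap A B) := by
  obtain ⟨e⟩ := exists_equiv_hull hB
  obtain ⟨a, ha⟩ := hull_approx (e x)
  exact ⟨a, by simpa using map_mem e.symm.toAlgHom ha⟩

theorem exists_nbhd_hom (hB : Hens2.IsPairHenselization A I B) (A' : Type u) [CommRing A']
    [Algebra A A'] (h : Nbhd.IsNbhd I A') : Nonempty (A' →ₐ[A] B) :=
  have := hB.1
  exists_hom_henselian _ le_rfl A' h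

theorem nbhd_hom_eq (hB : Hens2.IsPairHenselization A I B) {A' : Type u} [CommRing A']
    [Algebra A A'] (h : Nbhd.IsNbhd I A') (τ₁ τ₂ : A' →ₐ[A] B) : τ₁ = τ₂ :=
  h.hom_eq hB.1.jac τ₁ τ₂

theorem exists_nbhd_rep (hB : Hens2.IsPairHenselization A I B) {ι : Type*} [Finite ι] (x : ι → B) :
    ∃ (A' : Type u) (_ : CommRing A') (_ : Algebra A A') (_ : Nbhd.IsNbhd I A')
      (φ : A' →ₐ[A] B), ∀ k, ∃ r, φ r = x k := by
  obtain ⟨e⟩ := exists_equiv_hull hB
  obtain ⟨i, φ, h⟩ := exists_rep fun k => e (x k)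
  refine ⟨i.Ring, inferInstance, inferInstance, i.2, e.symm.toAlgHom.comp φ, fun k => ?_⟩
  obtain ⟨r, hr⟩ := h k
  exact ⟨r, by simp [hr]⟩

theorem exists_nbhd_kill (hB : Hens2.IsPairHenselization A I B) {A' : Type u} [CommRing A']
    [Algebra A A'] (h : Nbhd.IsNbhd I A') (φ : A' →ₐ[A] B) {ι : Type*} [Finite ι] (s : ι → A')
    (hs : ∀ k, φ (s k) = 0) :
    ∃ (A'' : Type u) (_ : CommRing A'') (_ : Algebra A A'') (_ : Nbhd.IsNbhd I A'')
      (ψ : A' →ₐ[A] A''), ∀ k, ψ (s k) = 0 := by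
  obtain ⟨e⟩ := exists_equiv_hull hB
  exact exists_kill A' h (e.toAlgHom.comp φ) s fun k => by simp [hs k]

theorem flat (hB : Hens2.IsPairHenselization A I B) : Module.Flat A B := by
  refine Module.Flat.iff_forall_isTrivialRelation.mpr fun {l f x} hfx => ?_
  obtain ⟨A₁, _, _, h₁, φ, hr⟩ := exists_nbhd_rep hB x
  choose r hr using hr
  obtain ⟨A₂, _, _, h₂, ψ, hψ⟩ := exists_nbhd_kill hB h₁ φ (fun _ : Unit => ∑ j, f j • r j)
    fun _ => by simpa [map_sum, hr] using hfx
  have := h₂.etale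
  obtain ⟨ψ₂⟩ := exists_nbhd_hom hB A₂ h₂
  have hcomp : ψ₂.comp ψ = φ := nbhd_hom_eq hB h₁ _ _
  have h0 : ∑ j, f j • ψ (r j) = 0 := by simpa [map_sum] using hψ ()
  obtain ⟨n, a, y, hy, ha⟩ := Module.Flat.iff_forall_isTrivialRelation.mp inferInstance h0
  refine ⟨n, a, fun j => ψ₂ (y j), fun j => ?_, ha⟩
  rw [← hr j, ← hcomp, AlgHom.comp_apply, show ψ (r j) = _ from hy j, map_sum]
  simp

/-- elements of `A` in a power of the extended ideal -/
theorem mem_pow_of_map_mem (hB : Hens2.IsPairHenselization A I B) (n : ℕ) (a : A)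
    (ha : algebraMap A B a ∈ (I ^ n).map (algebraMap A B)) : a ∈ I ^ n := by
  classical
  obtain rfl | hn := Nat.eq_zero_or_pos n
  · simp
  obtain ⟨c, hc⟩ : ∃ c : (I ^ n : Ideal A) →₀ B,
      c.sum (fun z w => w * algebraMap A B z) = algebraMap A B a := by
    have : algebraMap A B a ∈ Submodule.span B (Set.range fun z : (I ^ n : Ideal A) =>
        algebraMap A B z) := by
      convert ha using 2
      rw [Ideal.map, Set.image_eq_range]; rfl
    obtain ⟨c, hc⟩ := Finsupp.mem_span_range_iff_exists_finsupp.mp this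
    exact ⟨c, by simpa [smul_eq_mul] using hc⟩
  obtain ⟨A₁, _, _, h₁, φ, hr⟩ := exists_nbhd_rep hB fun z : c.support => c z
  choose r hr using hr
  obtain ⟨A₂, _, _, h₂, ψ, hψ⟩ := exists_nbhd_kill hB h₁ φ
    (fun _ : Unit => algebraMap A A₁ a - ∑ z : c.support, r z * algebraMap A A₁ z.1) fun _ => by
      simp only [map_sub, map_sum, map_mul, AlgHom.commutes, hr]
      rw [Finset.sum_coe_sort c.support fun z => c z * algebraMap A B z, sub_eq_zero]
      exact hc.symm
  have := h₂.etale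
  obtain ⟨σ⟩ := h₂.section_exists
  have hle : I ^ n ≤ I := Ideal.pow_le_self hn.ne'
  let q : (A ⧸ I) →ₐ[A] (A ⧸ I ^ n) ⧸ I.map (Ideal.Quotient.mk (I ^ n)) :=
    Ideal.Quotient.liftₐ I (Algebra.ofId A _) fun z hz => Ideal.Quotient.eq_zero_iff_mem.mpr
      (Ideal.mem_map_of_mem _ hz)
  let σn : A₂ →ₐ[A] A ⧸ I ^ n := Algebra.FormallySmooth.lift (I.map (Ideal.Quotient.mk (I ^ n)))
    ⟨n, by rw [← Ideal.map_pow]; exact Ideal.map_quotient_self _⟩ (q.comp σ)
  have h0 := congrArg σn (hψ ())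
  simp only [map_sub, map_sum, map_mul, AlgHom.commutes, map_zero] at h0
  rw [Finset.sum_eq_zero fun z _ => ?_, sub_zero] at h0
  · exact Ideal.Quotient.eq_zero_iff_mem.mp h0
  · rw [show algebraMap A (A ⧸ I ^ n) (z.1 : A) = 0 from Ideal.Quotient.eq_zero_iff_mem.mpr z.1.2,
      mul_zero]

theorem exists_sub_mem_pow (hB : Hens2.IsPairHenselization A I B) (n : ℕ) (x : B) :
    ∃ a : A, x - algebraMap A B a ∈ (I ^ n).map (algebraMap A B) := by
  induction n generalizing x with
  | zero => exact ⟨0, by simp [Ideal.map_top]⟩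
  | succ n ih =>
    have key : ∀ y ∈ (I ^ n).map (algebraMap A B),
        ∃ a : A, y - algebraMap A B a ∈ (I ^ (n + 1)).map (algebraMap A B) := by
      intro y hy
      rw [Ideal.map] at hy
      induction hy using Submodule.span_induction with
      | mem y hy =>
        obtain ⟨z, hz, rfl⟩ := hy
        exact ⟨z, by simp⟩
      | zero => exact ⟨0, by simp⟩
      | add y z _ _ hy hz =>
        obtain ⟨a, ha⟩ := hy
        obtain ⟨b, hb⟩ := hz
        exact ⟨a + b, by simpa [add_sub_add_comm] using add_mem ha hb⟩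
      | smul c y hymem hy =>
        obtain ⟨a, ha⟩ := hy
        obtain ⟨b, hb⟩ := approx hB c
        refine ⟨b * a, ?_⟩
        have h1 : (c - algebraMap A B b) * y ∈ (I ^ (n + 1)).map (algebraMap A B) := by
          rw [pow_succ', Ideal.map_mul]
          exact Ideal.mul_mem_mul hb hymem
        have h2 := add_mem h1 (Ideal.mul_mem_left _ (algebraMap A B b) ha)
        convert h2 using 1
        rw [smul_eq_mul, map_mul]; ring
    obtain ⟨a, ha⟩ := ih x
    obtain ⟨b, hb⟩ := key _ ha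
    exact ⟨a + b, by rwa [map_add, ← sub_sub]⟩

theorem bijective_pow (hB : Hens2.IsPairHenselization A I B) (n : ℕ) : Function.Bijective
    (Ideal.quotientMap ((I ^ n).map (algebraMap A B)) (algebraMap A B) Ideal.le_comap_map) := by
  refine ⟨?_, fun z => ?_⟩
  · rw [injective_iff_map_eq_zero]
    intro z hz
    obtain ⟨z, rfl⟩ := Ideal.Quotient.mk_surjective z
    rw [Ideal.quotientMap_mk, Ideal.Quotient.eq_zero_iff_mem] at hz
    exact Ideal.Quotient.eq_zero_iff_mem.mpr (mem_pow_of_map_mem hB n z hz)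
  · obtain ⟨x, rfl⟩ := Ideal.Quotient.mk_surjective z
    obtain ⟨a, ha⟩ := exists_sub_mem_pow hB n x
    exact ⟨Ideal.Quotient.mk _ a, (Ideal.Quotient.eq.mpr ha).symm⟩

end Any

end Groth.Agent.HensPair.Henselization
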