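import Groth.Agent.HensPair.Radical

/-!
Products, limits and directed colimits of henselian pairs.
-/

set_option autoImplicit false

open Polynomial

namespace Groth.Agent.HensPair.Limits

universe u v w

/-- a root congruent to the approximate root is unique -/
theorem root_unique {A : Type*} [CommRing A] {I : Ideal A} (hjac : I ≤ Ideal.jacobson ⊥) {f : A[X]}
    {a b : A} (ha : f.IsRoot a) (hb : f.IsRoot b) (hab : b - a ∈ I)
    (hu : IsUnit (f.derivative.eval a)) : a = b := by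
  obtain ⟨k, hk⟩ := Polynomial.binomExpansion f a (b - a)
  rw [add_sub_cancel, hb.eq_zero, ha.eq_zero, zero_add] at hk
  have h1 : (b - a) * (f.derivative.eval a + k * (b - a)) = 0 := by linear_combination -hk
  have h2 : IsUnit (f.derivative.eval a + k * (b - a)) := by
    obtain ⟨u, hu⟩ := hu
    rw [← hu]
    have : (u : A) + k * (b - a) = u * ((↑u⁻¹ * k) * (b - a) + 1) := by
      rw [mul_add, ← mul_assoc, ← mul_assoc, Units.mul_inv]; ring
    rw [this]
    refine u.isUnit.mul ?_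
    rw [mul_comm (_ * k)]
    exact Ideal.mem_jacobson_bot.mp (hjac hab) _
  exact (sub_eq_zero.mp (h2.mul_left_eq_zero.mp h1)).symm

/-- the limit criterion -/
theorem henselian_of_glue {A : Type*} [CommRing A] {J : Type v} (B : J → Type*)
    [∀ j, CommRing (B j)] (p : ∀ j, A →+* B j) {E : Type w} (src tgt : E → J)
    (t : ∀ e, B (src e) →+* B (tgt e)) (hp : ∀ e, (t e).comp (p (src e)) = p (tgt e))
    (I : ∀ j, Ideal (B j)) (hI : ∀ e, (I (src e)).map (t e) ≤ I (tgt e))
    (h : ∀ j, HenselianRing (B j) (I j)) (hinj : ∀ a b : A, (∀ j, p j a = p j b) → a = b)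
    (hglue : ∀ s : ∀ j, B j, (∀ e, t e (s (src e)) = s (tgt e)) → ∃ a, ∀ j, p j a = s j) :
    HenselianRing A (⨅ j, (I j).comap (p j)) := by
  have hunit : ∀ x : A, (∀ j, IsUnit (p j x)) → IsUnit x := fun x hx => by
    obtain ⟨a, ha⟩ := hglue (fun j => ↑(hx j).unit⁻¹) fun e => by
      have h1 := congrArg (t e) ((hx (src e)).mul_val_inv)
      rw [map_mul, map_one, ← RingHom.comp_apply, hp] at h1
      exact (hx (tgt e)).mul_left_cancel (h1.trans (hx (tgt e)).mul_val_inv.symm)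
    exact IsUnit.of_mul_eq_one a (hinj _ _ fun j => by rw [map_mul, ha, map_one]; exact (hx j).mul_val_inv)
  refine ⟨fun x hx => Ideal.mem_jacobson_bot.mpr fun y => hunit _ fun j => ?_, fun f hf a₀ h₀ hu => ?_⟩
  · rw [map_add, map_mul, map_one]
    exact Ideal.mem_jacobson_bot.mp ((h j).jac (Ideal.mem_iInf.mp hx j)) _
  · have huA : IsUnit (f.derivative.eval a₀) := by
      obtain ⟨c, hc⟩ := hu.exists_right_inv
      obtain ⟨c, rfl⟩ := Ideal.Quotient.mk_surjective c
      rw [← map_mul, ← map_one (Ideal.Quotient.mk _), Ideal.Quotient.eq] at hc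
      refine hunit _ fun j => isUnit_of_mul_isUnit_left (y := p j c) ?_
      have := Ideal.mem_jacobson_bot.mp ((h j).jac (Ideal.mem_iInf.mp hc j)) 1
      rwa [mul_one, map_sub, map_one, sub_add_cancel, map_mul] at this
    have hj : ∀ j, ∃ a, (f.map (p j)).IsRoot a ∧ a - p j a₀ ∈ I j := fun j =>
      (h j).is_henselian (f.map (p j)) (hf.map _) (p j a₀)
        (by rw [eval_map_apply]; exact Ideal.mem_iInf.mp h₀ j)
        (by rw [derivative_map, eval_map_apply]; exact (huA.map _).map _)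
    choose a ha haI using hj
    obtain ⟨r, hr⟩ := hglue a fun e => by
      have h1 : (f.map (p (tgt e))).IsRoot (t e (a (src e))) := by
        rw [← hp e, ← Polynomial.map_map]
        exact (ha (src e)).map
      have h2 : t e (a (src e)) - p (tgt e) a₀ ∈ I (tgt e) := by
        rw [← hp e, RingHom.comp_apply, ← map_sub]
        exact hI e (Ideal.mem_map_of_mem _ (haI (src e)))
      refine (root_unique (h (tgt e)).jac (ha (tgt e)) h1 (by simpa using sub_mem h2 (haI (tgt e))) ?_).symm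
      have : IsUnit ((f.map (p (tgt e))).derivative.eval (p (tgt e) a₀)) := by
        rw [derivative_map, eval_map_apply]; exact huA.map _
      refine Criteria.isUnit_of_mk_isUnit (h (tgt e)).jac ?_
      rw [Ideal.Quotient.eq.mpr (Ideal.mem_of_dvd _ (sub_dvd_eval_sub (a (tgt e)) (p (tgt e) a₀) _)
        (haI (tgt e)))]
      exact this.map _
    refine ⟨r, hinj _ _ fun j => ?_, Ideal.mem_iInf.mpr fun j => ?_⟩
    · rw [map_zero, ← eval_map_apply, hr]
      exact ha j
    · rw [Ideal.mem_comap, map_sub, hr]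
      exact haI j

theorem henselian_pi {J : Type v} (B : J → Type*) [∀ j, CommRing (B j)] (I : ∀ j, Ideal (B j))
    (h : ∀ j, HenselianRing (B j) (I j)) :
    HenselianRing (∀ j, B j) (⨅ j, (I j).comap (Pi.evalRingHom B j)) :=
  henselian_of_glue B (Pi.evalRingHom B) (E := PEmpty.{1}) (fun e => e.elim) (fun e => e.elim)
    (fun e => e.elim) (fun e => e.elim) I (fun e => e.elim) h (fun _ _ h => funext h)
    fun s _ => ⟨s, fun _ => rfl⟩

/-- the directed colimit criterion -/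
theorem henselian_of_directed {A : Type*} [CommRing A] {J : Type v} [Preorder J]
    [IsDirectedOrder J] [Nonempty J] (B : J → Type*) [∀ j, CommRing (B j)]
    (g : ∀ i j, i ≤ j → B i →+* B j) (c : ∀ j, B j →+* A)
    (hc : ∀ i j (hij : i ≤ j) (x : B i), c j (g i j hij x) = c i x)
    (hsurj : ∀ a : A, ∃ j x, c j x = a)
    (hzero : ∀ i (x : B i), c i x = 0 → ∃ j, ∃ hij : i ≤ j, g i j hij x = 0)
    (I : ∀ j, Ideal (B j)) (hI : ∀ i j (hij : i ≤ j), (I i).map (g i j hij) ≤ I j)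
    (h : ∀ j, HenselianRing (B j) (I j)) : HenselianRing A (⨆ j, (I j).map (c j)) := by
  classical
  have hmono : ∀ i j, i ≤ j → (I i).map (c i) ≤ (I j).map (c j) := fun i j hij =>
    Ideal.map_le_iff_le_comap.mpr fun x hx => by
      rw [Ideal.mem_comap, ← hc i j hij]
      exact Ideal.mem_map_of_mem _ (hI i j hij (Ideal.mem_map_of_mem _ hx))
  have hstage : ∀ (s : Finset A), ∃ j, ∀ a ∈ s, ∃ x, c j x = a := fun s => by
    choose j x hx using hsurj
    obtain ⟨m, hm⟩ := Finset.exists_le (s.image j)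
    exact ⟨m, fun a ha => ⟨g _ m (hm _ (Finset.mem_image_of_mem j ha)) (x a), by rw [hc, hx]⟩⟩
  have hmem : ∀ i (x : B i), c i x ∈ ⨆ j, (I j).map (c j) →
      ∃ (n : J) (ρ : B i →+* B n), (c n).comp ρ = c i ∧ (I i).map ρ ≤ I n ∧ ρ x ∈ I n := by
    intro i x hx
    have hdir : Directed (· ≤ ·) fun j => (I j).map (c j) := fun a b => by
      obtain ⟨m, ha, hb⟩ := exists_ge_ge a b
      exact ⟨m, hmono a m ha, hmono b m hb⟩
    obtain ⟨k, hk⟩ := (Submodule.mem_iSup_of_directed _ hdir).mp hx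
    obtain ⟨m, hm, y, hy, hym⟩ : ∃ m, i ≤ m ∧ ∃ y, c m y = c i x ∧ y ∈ I m := by
      refine Submodule.span_induction (p := fun z _ => ∃ m, i ≤ m ∧ ∃ y, c m y = z ∧ y ∈ I m)
        ?_ ?_ ?_ ?_ hk
      · rintro _ ⟨y, hy, rfl⟩
        obtain ⟨m, h1, h2⟩ := exists_ge_ge i k
        exact ⟨m, h1, g k m h2 y, hc _ _ _ _, hI _ _ _ (Ideal.mem_map_of_mem _ hy)⟩
      · exact ⟨i, le_rfl, 0, map_zero _, zero_mem _⟩
      · rintro _ _ _ _ ⟨m₁, l₁, y₁, rfl, hy₁⟩ ⟨m₂, l₂, y₂, rfl, hy₂⟩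
        obtain ⟨m, h1, h2⟩ := exists_ge_ge m₁ m₂
        exact ⟨m, l₁.trans h1, g _ m h1 y₁ + g _ m h2 y₂, by rw [map_add, hc, hc],
          add_mem (hI _ _ _ (Ideal.mem_map_of_mem _ hy₁)) (hI _ _ _ (Ideal.mem_map_of_mem _ hy₂))⟩
      · rintro a _ _ ⟨m₁, l₁, y₁, rfl, hy₁⟩
        obtain ⟨j, z, rfl⟩ := hsurj a
        obtain ⟨m, h1, h2⟩ := exists_ge_ge m₁ j
        exact ⟨m, l₁.trans h1, g _ m h2 z * g _ m h1 y₁, by rw [map_mul, hc, hc, smul_eq_mul],
          Ideal.mul_mem_left _ _ (hI _ _ _ (Ideal.mem_map_of_mem _ hy₁))⟩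
    obtain ⟨n, hn, h0⟩ := hzero m (g i m hm x - y) (by rw [map_sub, hc, hy, sub_self])
    refine ⟨n, (g m n hn).comp (g i m hm), RingHom.ext fun z => by simp [hc], ?_, ?_⟩
    · rw [← Ideal.map_map]
      exact (Ideal.map_mono (hI i m hm)).trans (hI m n hn)
    rw [RingHom.comp_apply, ← sub_add_cancel (g i m hm x) y, map_add, h0, zero_add]
    exact hI _ _ _ (Ideal.mem_map_of_mem _ hym)
  refine ⟨fun x hx => Ideal.mem_jacobson_bot.mpr fun y => ?_, fun f hf a₀ h₀ hu => ?_⟩
  · obtain ⟨j, hj⟩ := hstage {x, y}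
    obtain ⟨x', rfl⟩ := hj x (by simp)
    obtain ⟨y', rfl⟩ := hj y (by simp)
    obtain ⟨n, ρ, hρ, -, hx'⟩ := hmem j x' hx
    rw [← hρ, RingHom.comp_apply, RingHom.comp_apply, ← map_mul, ← map_one (c n), ← map_add]
    exact (Ideal.mem_jacobson_bot.mp ((h n).jac hx') (ρ y')).map (c n)
  · obtain ⟨u, hu⟩ := hu.exists_right_inv
    obtain ⟨u, rfl⟩ := Ideal.Quotient.mk_surjective u
    rw [← map_mul, ← map_one (Ideal.Quotient.mk _), Ideal.Quotient.eq] at hu
    obtain ⟨j, hj⟩ := hstage ({a₀, u} ∪ Finset.univ.image fun k : Fin f.natDegree => f.coeff k)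
    obtain ⟨b, rfl⟩ := hj a₀ (by simp)
    obtain ⟨v, rfl⟩ := hj u (by simp)
    choose r hr using fun k : Fin f.natDegree => hj (f.coeff k)
      (Finset.mem_union_right _ (Finset.mem_image_of_mem _ (Finset.mem_univ k)))
    let q : (B j)[X] := X ^ f.natDegree + ∑ k : Fin f.natDegree, C (r k) * X ^ (k : ℕ)
    have hq : q.Monic := monic_X_pow_add (degree_sum_fin_lt _)
    have hqf : q.map (c j) = f := by
      conv_rhs => rw [hf.as_sum]
      simp only [q, Polynomial.map_add, Polynomial.map_pow, Polynomial.map_X, Polynomial.map_sum,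
        Polynomial.map_mul, Polynomial.map_C, hr]
      rw [← Fin.sum_univ_eq_sum_range fun k => C (f.coeff k) * X ^ k]
    obtain ⟨n₁, ρ₁, hρ₁, -, h1⟩ := hmem j (q.eval b) (by rw [← eval_map_apply, hqf]; exact h₀)
    obtain ⟨n, ρ₂, hρ₂, hle, h2⟩ := hmem n₁ (ρ₁ (q.derivative.eval b * v - 1)) (by
      rw [← RingHom.comp_apply, hρ₁, map_sub, map_mul, map_one, ← eval_map_apply, ← derivative_map,
        hqf]
      exact hu)
    let ρ := ρ₂.comp ρ₁
    have hρ : (c n).comp ρ = c j := by rw [← RingHom.comp_assoc, hρ₂, hρ₁]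
    have h3 : ρ (q.eval b) ∈ I n := hle (Ideal.mem_map_of_mem _ h1)
    obtain ⟨r', hr', hrI⟩ := (h n).is_henselian (q.map ρ) (hq.map _) (ρ b)
      (by rw [eval_map_apply]; exact h3) (by
        rw [derivative_map, eval_map_apply]
        refine IsUnit.of_mul_eq_one (Ideal.Quotient.mk _ (ρ v)) ?_
        rw [← map_mul, ← map_one (Ideal.Quotient.mk _), Ideal.Quotient.eq, ← map_mul, ← map_one ρ,
          ← map_sub]
        exact h2)
    refine ⟨c n r', ?_, ?_⟩
    · rw [← hqf, ← hρ, ← Polynomial.map_map]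
      exact hr'.map
    · rw [← RingHom.congr_fun hρ b, RingHom.comp_apply, ← map_sub]
      exact Submodule.mem_iSup_of_mem n (Ideal.mem_map_of_mem _ hrI)

end Groth.Agent.HensPair.Limits
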