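import Groth.Agent.HensPair.Basic
import Groth.Agent.EtAlg.ZeroLocusNhd

/-!
Etale neighbourhoods of a pair.
-/

set_option autoImplicit false

namespace Groth.Agent.HensPair.Nbhd

universe u

variable {A : Type u} [CommRing A] (I : Ideal A)

/-- an etale `A`-algebra with the same reduction modulo `I` -/
structure IsNbhd (A' : Type u) [CommRing A'] [Algebra A A'] : Prop where
  etale : Algebra.Etale A A'
  section_exists : Nonempty (A' →ₐ[A] A ⧸ I)
  approx : ∀ x : A', ∃ a : A, x - algebraMap A A' a ∈ I.map (algebraMap A A')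

variable {I}

/-- the value of `x` modulo `I` does not depend on the map -/
theorem IsNbhd.sub_mem {A' B : Type u} [CommRing A'] [Algebra A A'] [CommRing B] [Algebra A B]
    (h : IsNbhd I A') (τ₁ τ₂ : A' →ₐ[A] B) (x : A') :
    τ₁ x - τ₂ x ∈ I.map (algebraMap A B) := by
  obtain ⟨a, ha⟩ := h.approx x
  have h1 : ∀ τ : A' →ₐ[A] B, τ x - algebraMap A B a ∈ I.map (algebraMap A B) := fun τ => by
    have := Ideal.mem_map_of_mem τ.toRingHom ha
    rw [Ideal.map_map, AlgHom.toRingHom_eq_coe, AlgHom.comp_algebraMap] at this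
    simpa using this
  simpa using _root_.sub_mem (h1 τ₁) (h1 τ₂)

theorem IsNbhd.hom_eq {A' B : Type u} [CommRing A'] [Algebra A A'] [CommRing B] [Algebra A B]
    (h : IsNbhd I A') (hjac : I.map (algebraMap A B) ≤ Ideal.jacobson ⊥) (τ₁ τ₂ : A' →ₐ[A] B) :
    τ₁ = τ₂ :=
  haveI := h.etale
  Unique.algHom_eq hjac τ₁ τ₂ (h.sub_mem τ₁ τ₂)

theorem IsNbhd.bijective {A' : Type u} [CommRing A'] [Algebra A A'] (h : IsNbhd I A') :
    Function.Bijective (Ideal.quotientMap (I.map (algebraMap A A')) (algebraMap A A')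
      Ideal.le_comap_map) := by
  refine ⟨?_, fun z => ?_⟩
  · rw [injective_iff_map_eq_zero]
    intro z hz
    obtain ⟨z, rfl⟩ := Ideal.Quotient.mk_surjective z
    rw [Ideal.quotientMap_mk, Ideal.Quotient.eq_zero_iff_mem] at hz
    obtain ⟨σ⟩ := h.section_exists
    have h1 := Ideal.mem_map_of_mem σ.toRingHom hz
    rw [Ideal.map_map, AlgHom.toRingHom_eq_coe, AlgHom.comp_algebraMap] at h1
    simp only [AlgHom.coe_toRingHom, AlgHom.commutes] at h1
    rwa [Ideal.Quotient.algebraMap_eq, Ideal.map_quotient_self, Ideal.mem_bot] at h1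
  · obtain ⟨x, rfl⟩ := Ideal.Quotient.mk_surjective z
    obtain ⟨a, ha⟩ := h.approx x
    exact ⟨Ideal.Quotient.mk I a, (Ideal.Quotient.eq.mpr ha).symm⟩

theorem of_bijective {A' : Type u} [CommRing A'] [Algebra A A'] [Algebra.Etale A A']
    (h : Function.Bijective (Ideal.quotientMap (I.map (algebraMap A A')) (algebraMap A A')
      Ideal.le_comap_map)) : IsNbhd I A' := by
  let q : (A ⧸ I) →ₐ[A] A' ⧸ I.map (algebraMap A A') :=
    Ideal.Quotient.liftₐ I (Algebra.ofId A _) fun i hi =>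
      Ideal.Quotient.eq_zero_iff_mem.mpr (Ideal.mem_map_of_mem _ hi)
  have hq : ∀ z, q z = Ideal.quotientMap (I.map (algebraMap A A')) (algebraMap A A')
      Ideal.le_comap_map z := fun z => by
    obtain ⟨a, rfl⟩ := Ideal.Quotient.mk_surjective z; rfl
  refine ⟨inferInstance, ⟨(AlgEquiv.ofBijective q ?_).symm.toAlgHom.comp
    (Ideal.Quotient.mkₐ A _)⟩, fun x => ?_⟩
  · exact ⟨fun a b hab => h.1 (by rw [← hq, ← hq, hab]), fun y => by
      obtain ⟨z, hz⟩ := h.2 y; exact ⟨z, (hq z).trans hz⟩⟩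
  · obtain ⟨z, hz⟩ := h.2 (Ideal.Quotient.mk _ x)
    obtain ⟨a, rfl⟩ := Ideal.Quotient.mk_surjective z
    exact ⟨a, Ideal.Quotient.eq.mp hz.symm⟩

theorem of_equiv {A' A'' : Type u} [CommRing A'] [Algebra A A'] [CommRing A''] [Algebra A A'']
    (h : IsNbhd I A') (e : A' ≃ₐ[A] A'') : IsNbhd I A'' := by
  obtain ⟨σ⟩ := h.section_exists
  have := h.etale
  refine ⟨Algebra.Etale.of_equiv e, ⟨σ.comp e.symm.toAlgHom⟩, fun x => ?_⟩
  obtain ⟨a, ha⟩ := h.approx (e.symm x)
  refine ⟨a, ?_⟩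
  have h1 := Ideal.mem_map_of_mem e.toAlgHom.toRingHom ha
  rw [Ideal.map_map, AlgHom.toRingHom_eq_coe, AlgHom.comp_algebraMap] at h1
  simpa using h1

/-- inverting an element congruent to `1` -/
theorem IsNbhd.away {A' : Type u} [CommRing A'] [Algebra A A'] (h : IsNbhd I A') {g : A'}
    (hg : g - 1 ∈ I.map (algebraMap A A')) : IsNbhd I (Localization.Away g) := by
  have := h.etale
  obtain ⟨σ⟩ := h.section_exists
  let L := Localization.Away g
  have hL : Algebra.Etale A' L := EtAlg.ZeroLocusNhd.etale_away g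
  have hσg : σ g = 1 := by
    have h1 := Ideal.mem_map_of_mem σ.toRingHom hg
    rw [Ideal.map_map, AlgHom.toRingHom_eq_coe, AlgHom.comp_algebraMap] at h1
    simp only [AlgHom.coe_toRingHom, map_sub, map_one] at h1
    rwa [Ideal.Quotient.algebraMap_eq, Ideal.map_quotient_self, Ideal.mem_bot, sub_eq_zero] at h1
  refine ⟨Algebra.Etale.comp A A' L,
    ⟨IsLocalization.liftAlgHom (M := Submonoid.powers g) (f := σ) fun y => by
      obtain ⟨k, hk⟩ := y.2
      rw [← hk, map_pow, hσg, one_pow]; exact isUnit_one⟩, fun y => ?_⟩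
  obtain ⟨⟨x, _, k, rfl⟩, hx⟩ := IsLocalization.surj (Submonoid.powers g) y
  obtain ⟨a, ha⟩ := h.approx x
  refine ⟨a, ?_⟩
  let J := I.map (algebraMap A L)
  have hmem : ∀ z ∈ I.map (algebraMap A A'), algebraMap A' L z ∈ J := fun z hz => by
    have := Ideal.mem_map_of_mem (algebraMap A' L) hz
    rwa [Ideal.map_map, ← IsScalarTower.algebraMap_eq] at this
  rw [← Ideal.Quotient.eq]
  have hg1 : Ideal.Quotient.mk J (algebraMap A' L g) = 1 := by
    rw [← map_one (Ideal.Quotient.mk J), Ideal.Quotient.eq, ← map_one (algebraMap A' L), ← map_sub]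
    exact hmem _ hg
  have h2 := congrArg (Ideal.Quotient.mk J) hx
  rw [map_mul, map_pow, map_pow, hg1, one_pow, mul_one] at h2
  rw [h2, IsScalarTower.algebraMap_apply A A' L, Ideal.Quotient.eq, ← map_sub]
  exact hmem _ ha

end Groth.Agent.HensPair.Nbhd
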