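import Mathlib.RingTheory.Henselian
import Mathlib.RingTheory.LocalRing.ResidueField.Basic
import Mathlib.FieldTheory.IsSepClosed
import Mathlib.RingTheory.Polynomial.GaussLemma

/-!
Normal local domains with separably closed fraction field are strictly henselian.
-/

set_option autoImplicit false

open Polynomial IsLocalRing

namespace Groth.Agent.HensPair.NormalSepClosed

variable {A : Type*} [CommRing A] [IsDomain A] [IsLocalRing A] [IsIntegrallyClosed A]
  (K : Type*) [Field K] [Algebra A K] [IsFractionRing A K] [IsSepClosed K]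

include K

/-- a monic irreducible factor over `K` comes from `A` and is linear unless its derivative dies -/
theorem factor (f : A[X]) (hf : f.Monic) {g : K[X]} (hg : g.Monic) (hirr : Irreducible g)
    (hdvd : g ∣ f.map (algebraMap A K)) :
    ∃ g' : A[X], g'.Monic ∧ g'.map (algebraMap A K) = g ∧
      ((∃ c, g' = X + C c) ∨ g'.derivative = 0) := by
  obtain ⟨g', hg'⟩ := IsIntegrallyClosed.eq_map_mul_C_of_dvd K hf hdvd
  rw [hg.leadingCoeff, C_1, mul_one] at hg'
  have hinj := IsFractionRing.injective A K
  have hm : g'.Monic := monic_of_injective hinj (hg' ▸ hg)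
  refine ⟨g', hm, hg', ?_⟩
  by_cases hd : g'.derivative = 0
  · exact Or.inr hd
  · have hsep : g.Separable := (separable_iff_derivative_ne_zero hirr).mpr (by
      rw [← hg', derivative_map]
      exact (Polynomial.map_ne_zero_iff hinj).mpr hd)
    have h1 := IsSepClosed.degree_eq_one_of_irreducible K hirr hsep
    refine Or.inl ⟨g'.coeff 0, hm.eq_X_add_C ?_⟩
    rw [← natDegree_map_eq_of_injective hinj, hg']
    exact natDegree_eq_of_degree_eq_some h1

theorem henselianLocalRing : HenselianLocalRing A := by
  classical
  refine { is_henselian := fun f hf a₀ h₀ hu => ?_ }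
  have hfK : (f.map (algebraMap A K)).Monic := hf.map _
  have hfac := UniqueFactorizationMonoid.prod_normalizedFactors_eq (a := f.map (algebraMap A K)) hfK.ne_zero
  rw [hfK.normalize_eq_self] at hfac
  have hall : ∀ g ∈ UniqueFactorizationMonoid.normalizedFactors (f.map (algebraMap A K)),
      ∃ g' : A[X], g'.Monic ∧ g'.map (algebraMap A K) = g ∧
        ((∃ c, g' = X + C c) ∨ g'.derivative = 0) := fun g hg => by
    have hirr := UniqueFactorizationMonoid.irreducible_of_normalized_factor g hg
    refine factor K f hf ?_ hirr (UniqueFactorizationMonoid.dvd_of_mem_normalizedFactors hg)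
    rw [← UniqueFactorizationMonoid.normalize_normalized_factor g hg]
    exact Polynomial.monic_normalize hirr.ne_zero
  choose g' hg'm hg'K hg'c using hall
  let s := (UniqueFactorizationMonoid.normalizedFactors (f.map (algebraMap A K))).attach.map
    fun g => g' g.1 g.2
  have hs : s.prod = f := by
    refine Polynomial.map_injective (algebraMap A K) (IsFractionRing.injective A K) ?_
    rw [Polynomial.map_multiset_prod, Multiset.map_map]
    simp only [Function.comp_def, hg'K, Multiset.attach_map_val]
    exact hfac
  have hP := (maximalIdeal.isMaximal A).isPrime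
  have h₀' : (s.map (eval a₀)).prod ∈ maximalIdeal A := by
    rw [← Polynomial.eval_multiset_prod, hs]; exact h₀
  obtain ⟨v, hv, hmem⟩ := hP.multiset_prod_mem_iff_exists_mem _ |>.mp h₀'
  obtain ⟨p, hp, hpv⟩ := Multiset.mem_map.mp hv
  subst hpv
  obtain ⟨⟨g, hg⟩, -, rfl⟩ := Multiset.mem_map.mp hp
  obtain ⟨r, hr⟩ : g' g hg ∣ f := hs ▸ Multiset.dvd_prod hp
  rcases hg'c g hg with ⟨c, hc⟩ | hd
  · refine ⟨-c, ?_, ?_⟩
    · rw [IsRoot, hr, eval_mul, hc]; simp
    · have : -c - a₀ = -((g' g hg).eval a₀) := by rw [hc]; simp; ring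
      rw [this]
      exact neg_mem hmem
  · refine absurd hu ?_
    rw [← mem_nonunits_iff, ← mem_maximalIdeal, hr, derivative_mul, hd, zero_mul, zero_add, eval_mul]
    exact Ideal.mul_mem_right _ _ hmem

theorem isSepClosed_residueField : IsSepClosed (ResidueField A) := by
  refine IsSepClosed.of_exists_root _ fun p hp hirr hsep => ?_
  obtain ⟨q, hq, hqd, hqm⟩ := Polynomial.lifts_and_natDegree_eq_and_monic (f := residue A)
    ((Polynomial.lifts_iff_coeff_lifts p).mpr fun _ => residue_surjective _) hp
  have hq0 : (q.map (algebraMap A K)).degree ≠ 0 := by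
    rw [hqm.degree_map, degree_eq_natDegree hqm.ne_zero, hqd]
    exact_mod_cast hirr.natDegree_pos.ne'
  obtain ⟨g, hgm, hgirr, hgdvd⟩ := Polynomial.exists_monic_irreducible_factor (q.map (algebraMap A K))
    (fun h => hq0 (degree_eq_zero_of_isUnit h))
  obtain ⟨g', hg'm, hg'K, hg'c⟩ := factor K q hqm hgm hgirr hgdvd
  have hdvd : g' ∣ q := hqm.dvd_of_fraction_map_dvd_fraction_map (K := K) hg'm (hg'K ▸ hgdvd)
  have hd0 : 0 < g'.natDegree := by
    rw [← natDegree_map_eq_of_injective (IsFractionRing.injective A K), hg'K]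
    exact hgirr.natDegree_pos
  have hbar : g'.map (residue A) = p := by
    refine eq_of_monic_of_associated (hg'm.map _) hp
      ((hirr.dvd_iff.mp (hq ▸ Polynomial.map_dvd (residue A) hdvd)).resolve_left fun h => ?_).symm
    have := natDegree_eq_zero_of_isUnit h
    rw [hg'm.natDegree_map] at this
    omega
  rcases hg'c with ⟨c, hc⟩ | hd
  · exact ⟨-residue A c, by rw [← hbar, hc]; simp⟩
  · exact absurd (by rw [← hbar, derivative_map, hd, Polynomial.map_zero])
      ((separable_iff_derivative_ne_zero hirr).mp hsep)

end Groth.Agent.HensPair.NormalSepClosed
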