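import Groth.Agent.Equidim.AffineCrit
import Groth.Agent.AlgSpTopo.ThickScheme
import Groth.Agent.EGA43.LocClosed
import Groth.Agent.GenDim.Alg

/-!
A morphism open at a maximal point of a fibre does not drop fibre dimension along generizations.
-/

set_option autoImplicit false
set_option synthInstance.maxHeartbeats 200000

noncomputable section

open CategoryTheory CategoryTheory.Limits AlgebraicGeometry TopologicalSpace Topology TensorProduct

namespace Groth.Agent.HensPair.OpenDim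

open Groth.Agent.Equidim.Core (pr mem_pr pr_under)

universe u

set_option backward.isDefEq.respectTransparency false

section algebra

variable {A B : Type u} [CommRing A] [CommRing B] [Algebra A B]

/-- independent elements modulo a prime of a fibre -/
def Indep (p : Ideal A) (Q : Ideal B) {d : ℕ} (b : Fin d → B) : Prop :=
  Q.comap (MvPolynomial.aeval b : MvPolynomial (Fin d) A →ₐ[A] B) = p.map (MvPolynomial.C : A →+* MvPolynomial (Fin d) A)

theorem fibre_aeval (p : Ideal A) [p.IsPrime] {d : ℕ} (b : Fin d → B) (G : MvPolynomial (Fin d) A) :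
    MvPolynomial.aeval (fun i => ((1 : p.ResidueField) ⊗ₜ[A] b i : p.Fiber B))
      (MvPolynomial.map (algebraMap A p.ResidueField) G) =
    ((1 : p.ResidueField) ⊗ₜ[A] MvPolynomial.aeval b G : p.Fiber B) := by
  rw [MvPolynomial.aeval_map_algebraMap]
  exact (MvPolynomial.comp_aeval_apply b (Algebra.TensorProduct.includeRight : B →ₐ[A] p.Fiber B) G).symm

theorem indep_smul {K R : Type u} [Field K] [CommRing R] [Algebra K R] {d : ℕ} {c : Fin d → R}
    (hc : AlgebraicIndependent K c) (u : Fin d → K) (hu : ∀ i, u i ≠ 0) :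
    AlgebraicIndependent K (fun i => u i • c i) := by
  refine algebraicIndependent_iff.mpr fun G hG => ?_
  let v : Fin d → MvPolynomial (Fin d) K := fun i => MvPolynomial.C (u i) * MvPolynomial.X i
  have h1 : MvPolynomial.aeval c (MvPolynomial.bind₁ v G) = 0 := by
    rw [MvPolynomial.aeval_bind₁]
    refine Eq.trans ?_ hG
    congr 1
    refine MvPolynomial.algHom_ext fun i => ?_
    simp [v, Algebra.smul_def]
  have h2 := congrArg (MvPolynomial.bind₁ fun i => MvPolynomial.C (u i)⁻¹ * MvPolynomial.X i)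
    (algebraicIndependent_iff.mp hc _ h1)
  rw [map_zero, MvPolynomial.bind₁_bind₁] at h2
  refine Eq.trans ?_ h2
  have h3 : (fun i => MvPolynomial.bind₁ (fun i => MvPolynomial.C (u i)⁻¹ * MvPolynomial.X i) (v i)) =
      (MvPolynomial.X : Fin d → MvPolynomial (Fin d) K) := funext fun i => by
    rw [map_mul, MvPolynomial.bind₁_C_right, MvPolynomial.bind₁_X_right, ← mul_assoc, ← map_mul,
      mul_inv_cancel₀ (hu i), map_one, one_mul]
  rw [h3]
  exact (MvPolynomial.aeval_X_left_apply G).symm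

theorem exists_indep_quot [Algebra.FiniteType A B] (p : PrimeSpectrum A) (M : PrimeSpectrum (p.asIdeal.Fiber B)) :
    ∃ (d : ℕ) (b : Fin d → B), ringKrullDim (p.asIdeal.Fiber B ⧸ M.asIdeal) = (d : ℕ) ∧
      Indep p.asIdeal (pr p M).asIdeal b := by
  classical
  let K := p.asIdeal.ResidueField
  obtain ⟨d, hd, ⟨c, hc⟩, -⟩ := GenDim.exists_indep K (p.asIdeal.Fiber B ⧸ M.asIdeal)
  choose c' hc' using fun i => Ideal.Quotient.mk_surjective (c i)
  choose r hr s hs using fun i => Ideal.Fiber.exists_smul_eq_one_tmul p.asIdeal (c' i)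
  refine ⟨d, s, hd, le_antisymm (fun G hG => ?_) (Ideal.map_le_iff_le_comap.mpr fun a ha => ?_)⟩
  · rw [MvPolynomial.mem_map_C_iff]
    intro n
    rw [← Ideal.algebraMap_residueField_eq_zero]
    have hc2 : AlgebraicIndependent K (fun i => algebraMap A K (r i) • c i) :=
      indep_smul hc _ fun i h => hr i (Ideal.algebraMap_residueField_eq_zero.mp h)
    have h0 : MvPolynomial.aeval (fun i => algebraMap A K (r i) • c i) (MvPolynomial.map (algebraMap A K) G) = 0 := by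
      have h1 : (fun i => algebraMap A K (r i) • c i) =
          fun i => Ideal.Quotient.mkₐ K M.asIdeal ((1 : K) ⊗ₜ[A] s i) := funext fun i => by
        rw [← hs, ← algebraMap_smul K (r i), map_smul, ← hc']
        rfl
      rw [h1, ← MvPolynomial.comp_aeval_apply, fibre_aeval]
      exact Ideal.Quotient.eq_zero_iff_mem.mpr (mem_pr.mp hG)
    have h2 := hc2 (h0.trans (map_zero _).symm)
    have := congrArg (MvPolynomial.coeff n) h2
    rwa [MvPolynomial.coeff_map, MvPolynomial.coeff_zero] at this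
  · rw [Ideal.mem_comap, Ideal.mem_comap, MvPolynomial.aeval_C]
    rw [← pr_under p M] at ha
    exact ha

theorem exists_clear (p : PrimeSpectrum A) {d : ℕ} (G : MvPolynomial (Fin d) p.asIdeal.ResidueField) :
    ∃ (G0 : MvPolynomial (Fin d) A) (t : A), algebraMap A p.asIdeal.ResidueField t ≠ 0 ∧
      MvPolynomial.map (algebraMap A p.asIdeal.ResidueField) G0 = algebraMap A p.asIdeal.ResidueField t • G := by
  induction G using MvPolynomial.induction_on with
  | C k =>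
    obtain ⟨a, t, ht, rfl⟩ := IsFractionRing.div_surjective (A := A ⧸ p.asIdeal) k
    obtain ⟨a, rfl⟩ := Ideal.Quotient.mk_surjective a
    obtain ⟨t, rfl⟩ := Ideal.Quotient.mk_surjective t
    have ht' : algebraMap A p.asIdeal.ResidueField t ≠ 0 :=
      show algebraMap (A ⧸ p.asIdeal) p.asIdeal.ResidueField (Ideal.Quotient.mk _ t) ≠ 0 from
        IsFractionRing.to_map_ne_zero_of_mem_nonZeroDivisors ht
    refine ⟨MvPolynomial.C a, t, ht', ?_⟩
    rw [MvPolynomial.map_C, MvPolynomial.smul_eq_C_mul, ← map_mul]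
    exact congrArg _ (mul_div_cancel₀ _ ht').symm
  | add P R hP hR =>
    obtain ⟨P0, t, ht, hP0⟩ := hP
    obtain ⟨R0, t', ht', hR0⟩ := hR
    refine ⟨MvPolynomial.C t' * P0 + MvPolynomial.C t * R0, t * t', by rw [map_mul]; exact mul_ne_zero ht ht', ?_⟩
    simp only [map_add, map_mul, MvPolynomial.map_C, hP0, hR0, MvPolynomial.smul_eq_C_mul]
    ring
  | mul_X P i hP =>
    obtain ⟨P0, t, ht, hP0⟩ := hP
    exact ⟨P0 * MvPolynomial.X i, t, ht, by rw [map_mul, hP0, MvPolynomial.map_X, smul_mul_assoc]⟩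

theorem le_dim_of_indep [Algebra.FiniteType A B] (p : PrimeSpectrum A) (M : PrimeSpectrum (p.asIdeal.Fiber B))
    {d : ℕ} (b : Fin d → B) (h : Indep p.asIdeal (pr p M).asIdeal b) :
    ((d : ℕ) : WithBot ℕ∞) ≤ ringKrullDim (p.asIdeal.Fiber B ⧸ M.asIdeal) := by
  classical
  let K := p.asIdeal.ResidueField
  obtain ⟨s, hs, -, hmax⟩ := GenDim.exists_indep K (p.asIdeal.Fiber B ⧸ M.asIdeal)
  rw [hs]
  refine Nat.cast_le.mpr (hmax d (fun i => Ideal.Quotient.mkₐ K M.asIdeal ((1 : K) ⊗ₜ[A] b i)) ?_)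
  refine algebraicIndependent_iff.mpr fun G hG => ?_
  obtain ⟨G0, t, ht, hG0⟩ := exists_clear p G
  have h0 : MvPolynomial.aeval b G0 ∈ (pr p M).asIdeal := by
    rw [mem_pr, ← fibre_aeval, hG0, map_smul]
    refine Submodule.smul_of_tower_mem _ _ ?_
    rw [← Ideal.Quotient.eq_zero_iff_mem]
    rw [← MvPolynomial.comp_aeval_apply] at hG
    exact hG
  have hmem : G0 ∈ p.asIdeal.map (MvPolynomial.C : A →+* MvPolynomial (Fin d) A) := h.le h0
  have hz : MvPolynomial.map (algebraMap A K) G0 = 0 := by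
    ext n
    rw [MvPolynomial.coeff_map, MvPolynomial.coeff_zero, Ideal.algebraMap_residueField_eq_zero]
    exact MvPolynomial.mem_map_C_iff.mp hmem n
  rw [hG0, smul_eq_zero] at hz
  exact hz.resolve_left ht

/-- independence propagates to an immediate generization -/
theorem indep_of_immediate [IsNoetherianRing A] {p₁ p : Ideal A} [p₁.IsPrime] [p.IsPrime] (hlt : p₁ < p)
    (himm : ∀ q : Ideal A, q.IsPrime → p₁ ≤ q → q ≤ p → q = p₁ ∨ q = p)
    {Q₁ Q : Ideal B} [Q₁.IsPrime] [Q.IsPrime] (hle : Q₁ ≤ Q) (hQ₁ : Q₁.comap (algebraMap A B) = p₁)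
    {d : ℕ} (b : Fin d → B) (h : Indep p Q b) : Indep p₁ Q₁ b := by
  classical
  let T := MvPolynomial (Fin d) A
  let P : Ideal T := Q₁.comap (MvPolynomial.aeval b : T →ₐ[A] B)
  have : P.IsPrime := Ideal.IsPrime.comap _
  have hP1 : p₁.map (MvPolynomial.C : A →+* T) ≤ P := Ideal.map_le_iff_le_comap.mpr fun a ha => by
    show MvPolynomial.aeval b (MvPolynomial.C a) ∈ Q₁
    rw [MvPolynomial.aeval_C]
    rw [← hQ₁] at ha
    exact ha
  have hPp : P ≤ p.map (MvPolynomial.C : A →+* T) := le_of_le_of_eq (Ideal.comap_mono hle) h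
  have hPA : P.comap (MvPolynomial.C : A →+* T) = p₁ := by
    rw [← hQ₁]
    ext a
    show MvPolynomial.aeval b (MvPolynomial.C a) ∈ Q₁ ↔ algebraMap A B a ∈ Q₁
    rw [MvPolynomial.aeval_C]
  refine le_antisymm (fun G hG => ?_) hP1
  by_contra hG1
  obtain ⟨a, ha, ha₁⟩ := SetLike.exists_of_lt hlt
  let f : T →+* MvPolynomial (Fin d) (A ⧸ p₁) := MvPolynomial.map (Ideal.Quotient.mk p₁)
  have hf : Function.Surjective f := MvPolynomial.map_surjective _ Ideal.Quotient.mk_surjective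
  have hker : RingHom.ker f = p₁.map (MvPolynomial.C : A →+* T) := by rw [MvPolynomial.ker_map, Ideal.mk_ker]
  have hsur : ∀ J : Ideal T, RingHom.ker f ≤ J → (J.map f).comap f = J := fun J hJ => by
    rw [Ideal.comap_map_of_surjective' f hf, sup_eq_left.mpr hJ]
  have hpT : (p.map (MvPolynomial.C : A →+* T)).IsPrime := by
    rw [← h]
    exact Ideal.IsPrime.comap _
  have hkp : RingHom.ker f ≤ p.map (MvPolynomial.C : A →+* T) := hker ▸ Ideal.map_mono hlt.le
  let Pb := P.map f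
  let pb := (p.map (MvPolynomial.C : A →+* T)).map f
  have : Pb.IsPrime := Ideal.map_isPrime_of_surjective hf (hker ▸ hP1)
  have hpb : pb.IsPrime := Ideal.map_isPrime_of_surjective hf hkp
  let I : Ideal (MvPolynomial (Fin d) (A ⧸ p₁)) := Ideal.span {f (MvPolynomial.C a)}
  have hmin : pb ∈ I.minimalPrimes := by
    refine ⟨⟨hpb, (Ideal.span_singleton_le_iff_mem _).mpr (Ideal.mem_map_of_mem _ (Ideal.mem_map_of_mem _ ha))⟩,
      fun J ⟨hJ, hIJ⟩ hJp => ?_⟩
    have hJc := Ideal.IsPrime.comap (K := J) f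
    have h1 : (J.comap f).comap (MvPolynomial.C : A →+* T) = p := by
      refine (himm _ (Ideal.IsPrime.comap _) ?_ ?_).resolve_left fun e => ha₁ ?_
      · intro c hc
        show f (MvPolynomial.C c) ∈ J
        rw [show f (MvPolynomial.C c) = 0 from by
          rw [← RingHom.mem_ker, hker]; exact Ideal.mem_map_of_mem _ hc]
        exact zero_mem _
      · intro c hc
        have h2 : MvPolynomial.C c ∈ (pb.comap f) := Ideal.comap_mono hJp hc
        rw [hsur _ hkp, MvPolynomial.mem_map_C_iff] at h2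
        simpa using h2 0
      · rw [← e]
        exact hIJ (Ideal.mem_span_singleton_self _)
    calc pb = (p.map (MvPolynomial.C : A →+* T)).map f := rfl
      _ ≤ (J.comap f).map f := Ideal.map_mono (Ideal.map_le_iff_le_comap.mpr h1.ge)
      _ ≤ J := Ideal.map_comap_le
  have h1 : pb.height ≤ 1 := Ideal.height_le_one_of_isPrincipal_of_mem_minimalPrimes I pb hmin
  have hPne : Pb ≠ ⊥ := fun e => hG1 (by
    rw [← hker, RingHom.mem_ker]
    exact (Submodule.mem_bot _).mp (e.le (Ideal.mem_map_of_mem f hG)))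
  have hlt2 : Pb < pb := lt_of_le_of_ne (Ideal.map_mono hPp) fun e => by
    have h3 : P = p.map (MvPolynomial.C : A →+* T) := by
      rw [← hsur P (hker ▸ hP1), ← hsur _ hkp]
      exact congrArg (Ideal.comap f) e
    have : a ∈ P.comap (MvPolynomial.C : A →+* T) := by
      rw [h3]; exact Ideal.mem_map_of_mem _ ha
    rw [hPA] at this
    exact ha₁ this
  have h2 : (1 : ℕ∞) ≤ Pb.height := by
    rw [ENat.one_le_iff_ne_zero, Ne, Ideal.height_eq_zero_iff]
    intro h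
    exact hPne (le_bot_iff.mp (h.2 ⟨Ideal.isPrime_bot, le_refl _⟩ bot_le))
  have h3 : Pb.height + 1 ≤ pb.height := Ideal.height_add_one_le_of_lt_of_isPrime hlt2
  exact absurd (le_trans (add_le_add_left h2 1) (h3.trans h1)) (by norm_num)

/-- primes between: existence of an immediate generization avoiding an element -/
theorem exists_immediate [IsNoetherianRing A] {p' p : Ideal A} [p'.IsPrime] [hp : p.IsPrime] (hle : p' ≤ p)
    {a : A} (hap : a ∈ p) (ha' : a ∉ p') :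
    ∃ p₁ : Ideal A, p₁.IsPrime ∧ p' ≤ p₁ ∧ p₁ < p ∧ a ∉ p₁ ∧
      ∀ q : Ideal A, q.IsPrime → p₁ ≤ q → q ≤ p → q = p₁ ∨ q = p := by
  classical
  obtain ⟨p₁, ⟨hp₁, h1, h2, h3⟩, hmax⟩ := set_has_maximal_iff_noetherian.mpr (inferInstance : IsNoetherian A A)
    {q : Ideal A | q.IsPrime ∧ p' ≤ q ∧ q ≤ p ∧ a ∉ q} ⟨p', inferInstance, le_rfl, hle, ha'⟩
  refine ⟨p₁, hp₁, h1, lt_of_le_of_ne h2 fun e => h3 (e ▸ hap), h3, fun q hq hq1 hq2 => ?_⟩
  by_contra hne
  push Not at hne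
  let L := Localization.AtPrime p
  let e := IsLocalization.AtPrime.orderIsoOfPrime L p
  let P₁ : {q : Ideal A // q.IsPrime ∧ q ≤ p} := ⟨p₁, hp₁, h2⟩
  let Pq : {q : Ideal A // q.IsPrime ∧ q ≤ p} := ⟨q, hq, hq2⟩
  let Pp : {q : Ideal A // q.IsPrime ∧ q ≤ p} := ⟨p, hp, le_rfl⟩
  let toS : {q : Ideal A // q.IsPrime ∧ q ≤ p} → PrimeSpectrum L := fun z => ⟨(e.symm z).1, (e.symm z).2⟩
  have hmono : ∀ z w : {q : Ideal A // q.IsPrime ∧ q ≤ p}, z < w → toS z < toS w := fun z w hzw =>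
    (e.symm.strictMono hzw : (e.symm z).1 < (e.symm w).1)
  refine EGA43.LocClosed.no_chain (toS P₁) (toS Pq) (toS Pp) (algebraMap A L a) (fun s hs hsa => ?_) ?_
    (hmono P₁ Pq (lt_of_le_of_ne hq1 fun e => hne.1 (congrArg Subtype.val e).symm)) (hmono Pq Pp (lt_of_le_of_ne hq2 fun e => hne.2 (congrArg Subtype.val e)))
  · let z := e ⟨s.asIdeal, s.2⟩
    have hz : toS z = s := PrimeSpectrum.ext (congrArg Subtype.val (e.symm_apply_apply ⟨s.asIdeal, s.2⟩))
    have hle1 : P₁ ≤ z := e.symm.le_iff_le.mp (show (e.symm P₁).1 ≤ (e.symm z).1 by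
      rw [e.symm_apply_apply]; exact hs)
    have : z.1 = p₁ := by
      by_contra hzne
      exact hmax z.1 ⟨z.2.1, h1.trans hle1, z.2.2, fun h => hsa h⟩ (lt_of_le_of_ne hle1 (Ne.symm hzne))
    rw [← hz]
    exact congrArg toS (Subtype.ext this)
  · intro h
    have h4 : a ∈ (e (e.symm P₁)).1 := h
    rw [e.apply_symm_apply] at h4
    exact h3 h4

end algebra

variable {X Y : Scheme.{u}} (f : X ⟶ Y) [LocallyOfFiniteType f]

theorem exists_generization_dim [IsLocallyNoetherian Y] (x : X)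
    (hmax : ∀ x' : X, f x' = f x → x ∈ closure {x'} → x' = x) (hopen : EGA43.IsOpenAt f.base x)
    (y' : Y) (hy' : y' ⤳ f x) :
    ∃ z : X, f z = y' ∧ z ⤳ x ∧ FlatMor.fibreDimAt f x ≤ FlatMor.fibreDimAt f z := by
  classical
  by_cases hne : y' = f x
  · exact ⟨x, hne.symm, specializes_rfl, le_rfl⟩
  obtain ⟨U₀, hU₀, hyU₀, -⟩ := exists_isAffineOpen_mem_and_subset (X := Y) (U := ⊤) (x := f x) trivial
  obtain ⟨V, hV, hxV, hVU⟩ := exists_isAffineOpen_mem_and_subset (X := X) (U := f ⁻¹ᵁ U₀) (x := x) hyU₀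
  let : Algebra Γ(Y, U₀) Γ(X, V) := (f.appLE U₀ V hVU).hom.toAlgebra
  have : Algebra.FiniteType Γ(Y, U₀) Γ(X, V) := Equidim.finiteType_chart f hU₀ hV hVU rfl
  have : IsNoetherianRing Γ(Y, U₀) := IsLocallyNoetherian.component_noetherian ⟨U₀, hU₀⟩
  have : IsNoetherianRing Γ(X, V) := Algebra.FiniteType.isNoetherianRing Γ(Y, U₀) _
  let π := AlgHom.id Γ(Y, U₀) Γ(X, V)
  have hπ : Function.Surjective π := Function.surjective_id
  have hkerπ : ∀ Q : PrimeSpectrum Γ(X, V), RingHom.ker π.toRingHom ≤ Q.asIdeal := fun Q a ha => by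
    rw [(show a = 0 from ha)]; exact Ideal.zero_mem _
  obtain ⟨Qx', hQx'⟩ := hV.range_fromSpec.superset hxV
  let Qx : PrimeSpectrum Γ(X, V) := Qx'
  have hQx : hV.fromSpec Qx = x := hQx'
  let p := hU₀.primeIdealOf ⟨f x, hyU₀⟩
  have hp : hU₀.fromSpec p = f x := hU₀.fromSpec_primeIdealOf _
  have hy'U : y' ∈ U₀ := hy'.mem_open U₀.2 hyU₀
  let p' := hU₀.primeIdealOf ⟨y', hy'U⟩
  have hp' : hU₀.fromSpec p' = y' := hU₀.fromSpec_primeIdealOf _
  have hle : p' ≤ p := (PrimeSpectrum.le_iff_specializes p' p).mpr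
    (hU₀.fromSpec.isOpenEmbedding.isInducing.specializes_iff.mp (by rw [hp, hp']; exact hy'))
  obtain ⟨Mx, hMx⟩ := Equidim.exists_ch f hU₀ hV hVU rfl π hπ p Qx (hkerπ _) (by rw [hQx, hp])
  rw [hQx] at hMx
  -- every point of the fibre near `x` specializes from `x`
  obtain ⟨d, b, hd, hind⟩ := exists_indep_quot p Mx
  have hdim : FlatMor.fibreDimAt f x ≤ (d : ℕ) := by
    have : IsLocallyNoetherian (f.fiber (f x)) :=
      haveI : LocallyOfFiniteType (f.fiberToSpecResidueField (f x)) :=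
        MorphismProperty.pullback_snd (P := @LocallyOfFiniteType) _ _ inferInstance
      LocallyOfFiniteType.isLocallyNoetherian (f.fiberToSpecResidueField (f x))
    obtain ⟨O, hxO, hO⟩ := Equidim.AffineParam.exists_nhd_gen (f.asFiber x)
    let ι := f.fiberι (f x)
    let O' : TopologicalSpace.Opens ↥(f.fiber (f x)) :=
      ⟨(O : Set ↥(f.fiber (f x))) ∩ ι ⁻¹' (V : Set X), O.2.inter (V.2.preimage ι.continuous)⟩
    have hxO' : f.asFiber x ∈ O' := ⟨hxO, by show ι (f.asFiber x) ∈ V; rw [f.fiberι_asFiber]; exact hxV⟩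
    refine (TopDim.Basic.localDim_le (f.asFiber x) O' hxO').trans (le_of_le_of_eq ?_ hd)
    refine Equidim.dim_le_quot (φ := fun s : ↥(O' : Set ↥(f.fiber (f x))) => ι s.1)
      (ι.isEmbedding.isInducing.comp IsInducing.subtypeVal) (Equidim.ch_isEmbedding hV π hπ p) Mx.asIdeal fun s => ?_
    obtain ⟨g, hgs, hgmax⟩ := Equidim.AffineCrit.exists_maximal_above (s.1 : ↥(f.fiber (f x)))
    have hgx : g ⤳ f.asFiber x := hO g (hgs.mem_open O.2 s.2.1) hgmax
    have hgx' : ι g = x := by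
      refine hmax _ ((f.range_fiberι (f x)).subset ⟨g, rfl⟩) ?_
      have := hgx.map ι.continuous
      rw [f.fiberι_asFiber] at this
      exact this.mem_closure
    obtain ⟨Qs, hQs⟩ := hV.range_fromSpec.superset (show ι s.1 ∈ V from s.2.2)
    obtain ⟨Ms, hMs⟩ := Equidim.exists_ch f hU₀ hV hVU rfl π hπ p Qs (hkerπ _)
      (by rw [hQs, hp]; exact (f.range_fiberι (f x)).subset ⟨_, rfl⟩)
    rw [hQs] at hMs
    refine ⟨Ms, (Equidim.ch_specializes hV π hπ p Mx Ms).mp ?_, hMs⟩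
    rw [hMx, hMs]
    exact (specializes_of_eq hgx'.symm).trans (hgs.map ι.continuous)
  -- the case of an immediate generization
  have himm : ∀ (p₁ : PrimeSpectrum Γ(Y, U₀)), p₁.asIdeal < p.asIdeal →
      (∀ q : Ideal Γ(Y, U₀), q.IsPrime → p₁.asIdeal ≤ q → q ≤ p.asIdeal → q = p₁.asIdeal ∨ q = p.asIdeal) →
      ∃ Q₁ : PrimeSpectrum Γ(X, V), Q₁ ≤ Qx ∧ f (hV.fromSpec Q₁) = hU₀.fromSpec p₁ ∧
        FlatMor.fibreDimAt f x ≤ FlatMor.fibreDimAt f (hV.fromSpec Q₁) := by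
    intro p₁ hlt hbetween
    have : IsJacobsonRing (p₁.asIdeal.Fiber Γ(X, V)) := isJacobsonRing_of_finiteType (A := p₁.asIdeal.ResidueField)
    have : IsNoetherianRing (p₁.asIdeal.Fiber Γ(X, V)) :=
      Algebra.FiniteType.isNoetherianRing p₁.asIdeal.ResidueField _
    let bad : Set (PrimeSpectrum (p₁.asIdeal.Fiber Γ(X, V))) :=
      {m | m.asIdeal ∈ minimalPrimes _ ∧ ¬ Equidim.ch hV π p₁ m ⤳ x}
    have hfin : bad.Finite := ((minimalPrimes.finite_of_isNoetherianRing _).preimage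
      (fun a _ b _ h => PrimeSpectrum.ext h)).subset fun m hm => hm.1
    let C : Set X := ⋃ m ∈ bad, closure {Equidim.ch hV π p₁ m}
    have hxC : x ∉ C := fun h => by
      obtain ⟨m, hm, hmx⟩ := Set.mem_iUnion₂.mp h
      exact hm.2 (specializes_iff_mem_closure.mpr hmx)
    have hN : (V : Set X) ∩ Cᶜ ∈ nhds x :=
      (V.2.inter (hfin.isClosed_biUnion fun _ _ => isClosed_closure).isOpen_compl).mem_nhds ⟨hxV, hxC⟩
    have hy₁ : hU₀.fromSpec p₁ ⤳ f x := by
      rw [← hp]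
      exact ((PrimeSpectrum.le_iff_specializes p₁ p).mp hlt.le).map hU₀.fromSpec.continuous
    obtain ⟨O, hOsub, hO, hyO⟩ := mem_nhds_iff.mp (hopen _ hN)
    obtain ⟨w, ⟨hwV, hwC⟩, hwy⟩ := hOsub (hy₁.mem_open hO hyO)
    obtain ⟨Qw, hQw⟩ := hV.range_fromSpec.superset hwV
    obtain ⟨Mw, hMw⟩ := Equidim.exists_ch f hU₀ hV hVU rfl π hπ p₁ Qw (hkerπ _) (by rw [hQw]; exact hwy)
    rw [hQw] at hMw
    obtain ⟨m, hm, hmw⟩ := Ideal.exists_minimalPrimes_le (bot_le (a := Mw.asIdeal))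
    let m' : PrimeSpectrum (p₁.asIdeal.Fiber Γ(X, V)) := ⟨m, hm.1.1⟩
    have hm'x : Equidim.ch hV π p₁ m' ⤳ x := by
      by_contra hh
      refine hwC (Set.mem_iUnion₂.mpr ⟨m', ⟨hm, hh⟩, ?_⟩)
      rw [← hMw]
      exact specializes_iff_mem_closure.mp ((Equidim.ch_specializes hV π hπ p₁ m' Mw).mpr hmw)
    have hQle : pr p₁ m' ≤ Qx := (PrimeSpectrum.le_iff_specializes _ _).mpr
      (hV.fromSpec.isOpenEmbedding.isInducing.specializes_iff.mp (hm'x.trans (specializes_of_eq hQx.symm)))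
    refine ⟨pr p₁ m', hQle, Equidim.f_ch f hU₀ hV hVU rfl π p₁ m', ?_⟩
    have hQxp : pr p Mx = Qx := hV.fromSpec.isOpenEmbedding.injective (hMx.trans hQx.symm)
    have h1 : Indep p₁.asIdeal (pr p₁ m').asIdeal b :=
      indep_of_immediate hlt hbetween (Q := Qx.asIdeal) hQle (pr_under p₁ m') b (hQxp ▸ hind)
    refine hdim.trans ((le_dim_of_indep p₁ m' b h1).trans ?_)
    have hf1 : f (hV.fromSpec (pr p₁ m')) = hU₀.fromSpec p₁ := Equidim.f_ch f hU₀ hV hVU rfl π p₁ m'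
    let y₁ : Y := hU₀.fromSpec p₁
    obtain ⟨c, hc⟩ : hV.fromSpec (pr p₁ m') ∈ Set.range (f.fiberι y₁) := by
      rw [f.range_fiberι]; exact hf1
    rw [← Equidim.localDim_fiber_eq f y₁ c _ hc]
    refine le_trans ?_ (Equidim.AffineCrit.le_localDim f y₁ (closure {c}) isIrreducible_singleton.closure
      isClosed_closure c (subset_closure rfl))
    refine le_of_eq_of_le (PrimeSpectrum.topologicalKrullDim_eq_ringKrullDim
      (p₁.asIdeal.Fiber Γ(X, V) ⧸ m'.asIdeal)).symm ?_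
    refine Equidim.dim_le_of_range (g := fun s : ↥(closure ({c} : Set ↥(f.fiber y₁))) => f.fiberι y₁ s.1)
      (φ := fun s : PrimeSpectrum (p₁.asIdeal.Fiber Γ(X, V) ⧸ m'.asIdeal) =>
        Equidim.ch hV π p₁ (PrimeSpectrum.comap (Ideal.Quotient.mk m'.asIdeal) s))
      ((Equidim.ch_isEmbedding hV π hπ p₁).isInducing.comp
        (PrimeSpectrum.isClosedEmbedding_comap_of_surjective _ _ Ideal.Quotient.mk_surjective).isEmbedding.isInducing)
      ((f.fiberι y₁).isEmbedding.comp IsEmbedding.subtypeVal) fun s => ?_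
    obtain ⟨g, hg⟩ : Equidim.ch hV π p₁ (PrimeSpectrum.comap (Ideal.Quotient.mk m'.asIdeal) s) ∈ Set.range (f.fiberι y₁) := by
      rw [f.range_fiberι]; exact Equidim.f_ch f hU₀ hV hVU rfl π p₁ _
    refine ⟨⟨g, specializes_iff_mem_closure.mp ((f.fiberι y₁).isEmbedding.isInducing.specializes_iff.mp ?_)⟩, hg⟩
    rw [hg, hc]
    refine (Equidim.ch_specializes hV π hπ p₁ m' _).mpr ?_
    intro t ht
    show Ideal.Quotient.mk m'.asIdeal t ∈ s.asIdeal
    rw [Ideal.Quotient.eq_zero_iff_mem.mpr ht]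
    exact zero_mem _
  -- the closed set of large fibre dimension over the closure of `y'`
  obtain ⟨n, hn⟩ : ∃ n : WithBot ℕ∞, FlatMor.fibreDimAt f x = n := ⟨_, rfl⟩
  let E : Set X := {z | n ≤ FlatMor.fibreDimAt f z}
  have hE : IsClosed E := by
    refine isOpen_compl_iff.mp (isOpen_iff_forall_mem_open.mpr fun z hz => ?_)
    exact ⟨{t | FlatMor.fibreDimAt f t ≤ FlatMor.fibreDimAt f z},
      fun t ht h => hz (le_trans (show n ≤ FlatMor.fibreDimAt f t from h) ht),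
      Equidim.isOpen_fibreDimAt_le f _, le_refl (FlatMor.fibreDimAt f z)⟩
  let S : Set (PrimeSpectrum Γ(X, V)) :=
    hV.fromSpec ⁻¹' E ∩ PrimeSpectrum.comap (algebraMap Γ(Y, U₀) Γ(X, V)) ⁻¹' PrimeSpectrum.zeroLocus p'.asIdeal
  have hS : IsClosed S := (hE.preimage hV.fromSpec.continuous).inter
    ((PrimeSpectrum.isClosed_zeroLocus _).preimage (PrimeSpectrum.continuous_comap _))
  obtain ⟨I, hI⟩ := (PrimeSpectrum.isClosed_iff_zeroLocus_ideal S).mp hS
  have hcomap : ∀ Q : PrimeSpectrum Γ(X, V), f (hV.fromSpec Q) =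
      hU₀.fromSpec (PrimeSpectrum.comap (algebraMap Γ(Y, U₀) Γ(X, V)) Q) :=
    fun Q => Equidim.f_fromSpec f hU₀ hV hVU rfl Q
  have hQxp' : (PrimeSpectrum.comap (algebraMap Γ(Y, U₀) Γ(X, V)) Qx) = p :=
    hU₀.fromSpec.isOpenEmbedding.injective (by rw [← hcomap, hQx, hp])
  by_contra hno
  push Not at hno
  let Ms : Set (Ideal Γ(X, V)) := {P | P ∈ I.minimalPrimes ∧ P ≤ Qx.asIdeal}
  have hMs : Ms.Finite := (Ideal.finite_minimalPrimes_of_isNoetherianRing Γ(X, V) I).subset fun P hP => hP.1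
  have hsep : ∀ P ∈ Ms, ∃ a : Γ(Y, U₀), algebraMap Γ(Y, U₀) Γ(X, V) a ∈ P ∧ a ∉ p'.asIdeal := by
    intro P hP
    by_contra hc
    push Not at hc
    have : P.IsPrime := hP.1.1.1
    have hPS : (⟨P, this⟩ : PrimeSpectrum Γ(X, V)) ∈ S := hI ▸ (hP.1.1.2 : I ≤ P)
    have heq : PrimeSpectrum.comap (algebraMap Γ(Y, U₀) Γ(X, V)) ⟨P, this⟩ = p' :=
      PrimeSpectrum.ext (le_antisymm (fun a ha => hc a ha) hPS.2)
    refine absurd (hPS.1) (not_le.mpr (hn ▸ hno (hV.fromSpec ⟨P, this⟩) (by rw [hcomap, heq, hp']) ?_))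
    rw [← hQx]
    exact ((PrimeSpectrum.le_iff_specializes _ _).mp hP.2).map hV.fromSpec.continuous
  choose a ha ha' using hsep
  have := hMs.fintype
  let A₀ : Γ(Y, U₀) := ∏ P : Ms, a P.1 P.2
  have hA₀' : A₀ ∉ p'.asIdeal := fun h => by
    obtain ⟨P, -, hP⟩ := (p'.2.prod_mem_iff).mp h
    exact ha' _ _ hP
  have hA₀P : ∀ P : Ms, algebraMap Γ(Y, U₀) Γ(X, V) A₀ ∈ P.1 := fun P =>
    Ideal.mem_of_dvd _ (map_dvd _ (Finset.dvd_prod_of_mem _ (Finset.mem_univ P))) (ha P.1 P.2)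
  have hA₀p : A₀ ∈ p.asIdeal := by
    have hx : Qx ∈ S := by
      refine ⟨show n ≤ FlatMor.fibreDimAt f (hV.fromSpec Qx) by rw [hQx, hn], ?_⟩
      rw [Set.mem_preimage, hQxp']
      exact hle
    rw [hI] at hx
    obtain ⟨P, hP, hPQ⟩ := Ideal.exists_minimalPrimes_le (show I ≤ Qx.asIdeal from hx)
    rw [← hQxp']
    exact hPQ (hA₀P ⟨P, hP, hPQ⟩)
  obtain ⟨p₁, hp₁, hp'1, hlt, hA₁, hbetween⟩ := exists_immediate hle hA₀p hA₀'
  obtain ⟨Q₁, hQ₁, hfQ₁, hd₁⟩ := himm ⟨p₁, hp₁⟩ hlt hbetween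
  have hc1 : PrimeSpectrum.comap (algebraMap Γ(Y, U₀) Γ(X, V)) Q₁ = ⟨p₁, hp₁⟩ :=
    hU₀.fromSpec.isOpenEmbedding.injective ((hcomap Q₁).symm.trans hfQ₁)
  have hQS : Q₁ ∈ S := by
    refine ⟨show n ≤ _ by rw [← hn]; exact hd₁, ?_⟩
    rw [Set.mem_preimage, hc1]
    exact hp'1
  rw [hI] at hQS
  obtain ⟨P, hP, hPQ⟩ := Ideal.exists_minimalPrimes_le (show I ≤ Q₁.asIdeal from hQS)
  have h5 : algebraMap Γ(Y, U₀) Γ(X, V) A₀ ∈ Q₁.asIdeal := hPQ (hA₀P ⟨P, hP, hPQ.trans hQ₁⟩)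
  exact hA₁ ((congrArg PrimeSpectrum.asIdeal hc1).le h5)

theorem dim_ge_of_openAt [IsLocallyNoetherian Y] (x : X)
    (hmax : ∀ x' : X, f x' = f x → x ∈ closure {x'} → x' = x) (hopen : EGA43.IsOpenAt f.base x)
    (U : X.Opens) (hxU : x ∈ U) (y' : Y) (hy' : y' ⤳ f x) :
    FlatMor.fibreDimAt f x ≤ topologicalKrullDim ↥((U : Set X) ∩ f ⁻¹' {y'}) := by
  obtain ⟨z, hz, hzx, hle⟩ := exists_generization_dim f x hmax hopen y' hy'
  refine hle.trans ?_
  subst hz
  rw [AlgSpTopo.ThickScheme.fibreDimAt_eq]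
  refine (TopDim.Basic.localDim_le _ ⟨Subtype.val ⁻¹' (U : Set X), U.2.preimage continuous_subtype_val⟩
    (hzx.mem_open U.2 hxU)).trans (Equidim.dim_le_of_range
      (φ := fun s : ↥((Subtype.val ⁻¹' (U : Set X)) : Set ↥(f ⁻¹' {f z})) => (s.1.1 : X))
      (IsInducing.subtypeVal.comp IsInducing.subtypeVal) IsEmbedding.subtypeVal fun s => ⟨⟨s.1.1, s.2, s.1.2⟩, rfl⟩)

end Groth.Agent.HensPair.OpenDim
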