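import Groth.Agent.HensPair.BranchUnibranch
import Mathlib.AlgebraicGeometry.Morphisms.UniversallyInjective
import Mathlib.RingTheory.Localization.Integral
import Mathlib.FieldTheory.IsAlgClosed.AlgebraicClosure
import Mathlib.RingTheory.Spectrum.Prime.Topology

/-!
The normalization of a domain is radicial iff all local rings are geometrically unibranch.
-/

set_option autoImplicit false
set_option synthInstance.maxHeartbeats 200000

noncomputable section

open CategoryTheory AlgebraicGeometry IsLocalRing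

namespace Groth.Agent.HensPair.Radicial

universe u

theorem univInj_spec_iff {A B : CommRingCat.{u}} (φ : A ⟶ B) :
    UniversallyInjective (Spec.map φ) ↔
      ∀ (K : Type u) [Field K] (g₁ g₂ : B →+* K), g₁.comp φ.hom = g₂.comp φ.hom → g₁ = g₂ := by
  refine Iff.trans ((tfae_universallyInjective (Spec.map φ)).out 0 1 rfl rfl : UniversallyInjective (Spec.map φ) ↔
    ∀ (K : Type u) [Field K], Function.Injective (fun g : Spec (.of K) ⟶ Spec B ↦ g ≫ Spec.map φ)) ?_
  refine ⟨fun h K _ g₁ g₂ e => ?_, fun h K _ g₁ g₂ e => ?_⟩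
  · have := @h K _ (Spec.map (CommRingCat.ofHom g₁)) (Spec.map (CommRingCat.ofHom g₂)) (by
      show Spec.map (CommRingCat.ofHom g₁) ≫ Spec.map φ = Spec.map (CommRingCat.ofHom g₂) ≫ Spec.map φ
      rw [← Spec.map_comp, ← Spec.map_comp]
      exact congrArg Spec.map (CommRingCat.hom_ext e))
    exact congrArg CommRingCat.Hom.hom (Spec.map_injective this)
  · have e' : Spec.preimage g₁ = Spec.preimage g₂ := by
      refine CommRingCat.hom_ext (h K _ _ ?_)
      have : φ ≫ Spec.preimage g₁ = φ ≫ Spec.preimage g₂ := by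
        refine Spec.map_injective ?_
        rw [Spec.map_comp, Spec.map_comp, Spec.map_preimage, Spec.map_preimage]
        exact e
      exact congrArg CommRingCat.Hom.hom this
    rw [← Spec.map_preimage g₁, ← Spec.map_preimage g₂, e']

variable (A : Type u) [CommRing A] [IsDomain A]

local notation "B" => integralClosure A (FractionRing A)

section loc

variable (p : Ideal A) [p.IsPrime]

local notation "Ap" => Localization.AtPrime p
local notation "N" => CAlg2.normRed (Localization.AtPrime p)

theorem red_bijective : Function.Bijective (Ideal.Quotient.mk (nilradical Ap)) := by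
  refine ⟨fun x y h => ?_, Ideal.Quotient.mk_surjective⟩
  have := Ideal.Quotient.eq.mp h
  rwa [nilradical_eq_zero, Submodule.zero_eq_bot, Ideal.mem_bot, sub_eq_zero] at this

theorem isDomain_red : IsDomain (CAlg2.red Ap) :=
  (Ideal.Quotient.isDomain_iff_prime _).mpr (by rw [nilradical_eq_zero]; exact Ideal.isPrime_bot)

def toN : A →+* N :=
  (algebraMap (CAlg2.red Ap) N).comp ((Ideal.Quotient.mk (nilradical Ap)).comp (algebraMap A Ap))

theorem exists_j : ∃ j : B →+* N, j.comp (algebraMap A B) = toN A p ∧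
    Function.Injective j ∧ ∀ z : N, ∃ b : B, ∃ s : A, s ∉ p ∧ z * toN A p s = j b := by
  let K1 := FractionRing (CAlg2.red Ap)
  have := isDomain_red A p
  let f : A →+* K1 := (algebraMap (CAlg2.red Ap) K1).comp ((Ideal.Quotient.mk (nilradical Ap)).comp (algebraMap A Ap))
  have hf : Function.Injective f := (IsFractionRing.injective (CAlg2.red Ap) K1).comp
    ((red_bijective A p).1.comp (IsLocalization.injective Ap p.primeCompl_le_nonZeroDivisors))
  let e : FractionRing A →ₐ[A] K1 := IsFractionRing.liftAlgHom (g := Algebra.ofId A K1) hf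
  have hsurj : Function.Surjective e := fun z => by
    obtain ⟨a, b, hb, rfl⟩ := IsFractionRing.div_surjective (A := CAlg2.red Ap) z
    obtain ⟨a, rfl⟩ := Ideal.Quotient.mk_surjective a
    obtain ⟨b, rfl⟩ := Ideal.Quotient.mk_surjective b
    have h : ∀ c : Ap, ∃ y, e y = algebraMap (CAlg2.red Ap) K1 (Ideal.Quotient.mk _ c) := fun c => by
      obtain ⟨a, s, rfl⟩ := IsLocalization.exists_mk'_eq p.primeCompl c
      refine ⟨algebraMap A _ a / algebraMap A _ (s : A), ?_⟩
      rw [map_div₀, e.commutes, e.commutes, div_eq_iff]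
      · show f a = _ * f s
        simp only [f, RingHom.comp_apply]
        rw [← map_mul, ← map_mul, IsLocalization.mk'_spec]
      · exact fun h0 => s.2 (hf (h0.trans (map_zero f).symm) ▸ p.zero_mem)
    obtain ⟨x, hx⟩ := h a
    obtain ⟨y, hy⟩ := h b
    exact ⟨x / y, by rw [map_div₀, hx, hy]⟩
  have hint : ∀ b : B, IsIntegral (CAlg2.red Ap) (e b.1) := fun b => by
    obtain ⟨P, hP, hP0⟩ := (b.2 : IsIntegral A b.1).map e
    refine ⟨P.map ((Ideal.Quotient.mk (nilradical Ap)).comp (algebraMap A Ap)), hP.map _, ?_⟩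
    rwa [Polynomial.eval₂_map]
  let j : B →+* N := (e.toRingHom.comp (algebraMap B (FractionRing A))).codRestrict _ fun b => hint b
  refine ⟨j, RingHom.ext fun a => Subtype.ext (e.commutes a), fun x y h => Subtype.ext
    (e.toRingHom.injective (congrArg Subtype.val h)), fun z => ?_⟩
  have hz : IsIntegral Ap (z.1 : K1) := by
    obtain ⟨P, hP, hP0⟩ := z.2
    obtain ⟨Q, hQ, -, hQm⟩ := Polynomial.lifts_and_degree_eq_and_monic
      (Polynomial.map_surjective _ Ideal.Quotient.mk_surjective P) hP
    refine ⟨Q, hQm, ?_⟩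
    show Polynomial.eval₂ ((algebraMap (CAlg2.red Ap) K1).comp (Ideal.Quotient.mk (nilradical Ap))) _ Q = 0
    rw [← Polynomial.eval₂_map, hQ]
    exact hP0
  obtain ⟨m, hm⟩ := hz.exists_multiple_integral_of_isLocalization p.primeCompl _
  obtain ⟨y, hy⟩ := hsurj (m • (z.1 : K1))
  have hy' : IsIntegral A y := (isIntegral_algHom_iff e e.toRingHom.injective).mp (hy.symm ▸ hm)
  refine ⟨⟨y, hy'⟩, m, m.2, Subtype.ext ?_⟩
  show (z.1 : K1) * f m = e y
  rw [hy, Submonoid.smul_def, Algebra.smul_def, mul_comm]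
  rfl

theorem geomUnibranch_iff : CAlg2.IsGeomUnibranch Ap ↔
    ∀ (K : Type u) [Field K] (g₁ g₂ : B →+* K), g₁.comp (algebraMap A B) = g₂.comp (algebraMap A B) →
      RingHom.ker (g₁.comp (algebraMap A B)) = p → g₁ = g₂ := by
  obtain ⟨j, hj, hinj, hsur⟩ := exists_j A p
  have hu : ∀ s : A, s ∉ p → IsUnit (toN A p s) := fun s hs =>
    ((IsLocalization.map_units Ap (⟨s, hs⟩ : p.primeCompl)).map (Ideal.Quotient.mk (nilradical Ap))).map
      (algebraMap (CAlg2.red Ap) N)
  let : Algebra B N := j.toAlgebra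
  let M : Submonoid B := p.primeCompl.map (algebraMap A B).toMonoidHom
  have hloc : IsLocalization M N := by
    refine (isLocalization_iff M N).mpr ⟨?_, ?_, ?_⟩
    · rintro ⟨_, s, hs, rfl⟩
      show IsUnit (j.comp (algebraMap A B) s)
      rw [hj]
      exact hu s hs
    · intro z
      obtain ⟨b, s, hs, h⟩ := hsur z
      refine ⟨⟨b, ⟨_, s, hs, rfl⟩⟩, ?_⟩
      show z * j.comp (algebraMap A B) s = j b
      rw [hj, h]
    · intro x y h
      exact ⟨1, by rw [hinj h]⟩
  have := isDomain_red A p
  constructor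
  · rintro ⟨⟨_, hN⟩, hpi⟩ K _ g₁ g₂ e hker
    have hgu : ∀ (g : B →+* K), g.comp (algebraMap A B) = g₁.comp (algebraMap A B) → ∀ y : M, IsUnit (g y) := by
      rintro g hg ⟨_, s, hs, rfl⟩
      refine Ne.isUnit fun h0 => hs ?_
      show s ∈ p
      rw [← hker, RingHom.mem_ker, ← hg]
      exact h0
    let G₁ : N →+* K := IsLocalization.lift (hgu g₁ rfl)
    let G₂ : N →+* K := IsLocalization.lift (hgu g₂ e.symm)
    have h1 : ∀ b, G₁ (j b) = g₁ b := fun b => IsLocalization.lift_eq _ b
    have h2 : ∀ b, G₂ (j b) = g₂ b := fun b => IsLocalization.lift_eq _ b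
    let r : Ap →+* N := (algebraMap (CAlg2.red Ap) N).comp (Ideal.Quotient.mk _)
    have hr : G₁.comp r = G₂.comp r := IsLocalization.ringHom_ext p.primeCompl (RingHom.ext fun a => by
      show G₁ (toN A p a) = G₂ (toN A p a)
      rw [← hj, RingHom.comp_apply, h1, h2]
      exact RingHom.congr_fun e a)
    have := Branches.isIntegral_normRed Ap
    have hk : ∀ G : N →+* K, G.comp r = G₁.comp r → RingHom.ker G = maximalIdeal N := fun G hG => by
      have hkp : (RingHom.ker G).IsPrime := RingHom.ker_isPrime G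
      refine eq_maximalIdeal (Ideal.isMaximal_of_isIntegral_of_isMaximal_comap (R := Ap) _ ?_)
      rw [RingHom.comap_ker]
      show (RingHom.ker (G.comp r)).IsMaximal
      have hle : maximalIdeal Ap ≤ RingHom.ker (G.comp r) := by
        rw [← Localization.AtPrime.map_eq_maximalIdeal, Ideal.map_le_iff_le_comap]
        intro a ha
        show G (toN A p a) = 0
        rw [← hker, RingHom.mem_ker, RingHom.comp_apply, ← h1, ← RingHom.comp_apply j, hj] at ha
        exact (RingHom.congr_fun hG (algebraMap A Ap a)).trans ha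
      rw [← (maximalIdeal.isMaximal Ap).eq_of_le (RingHom.ker_ne_top _) hle]
      infer_instance
    let m' := maximalIdeal N
    let L := N ⧸ m'
    let : Field L := Ideal.Quotient.field m'
    let F₁ : L →+* K := Ideal.Quotient.lift m' G₁ (hk G₁ rfl).ge
    let F₂ : L →+* K := Ideal.Quotient.lift m' G₂ (hk G₂ hr.symm).ge
    have : ExpChar L (ringExpChar L) := inferInstance
    have : ExpChar K (ringExpChar L) := expChar_of_injective_ringHom F₁.injective _
    refine RingHom.ext fun b => ?_
    rw [← h1, ← h2]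
    obtain ⟨n, a, ha⟩ := hpi m' (Ideal.Quotient.mk m' (j b))
    refine iterateFrobenius_inj K (ringExpChar L) n ?_
    rw [iterateFrobenius_def, iterateFrobenius_def]
    show F₁ (Ideal.Quotient.mk m' (j b)) ^ _ = F₂ (Ideal.Quotient.mk m' (j b)) ^ _
    refine (map_pow F₁ _ _).symm.trans (Eq.trans ?_ (map_pow F₂ _ _))
    exact ((congrArg F₁ ha).symm.trans (RingHom.congr_fun hr a)).trans (congrArg F₂ ha)
  · intro h
    refine (BranchUnibranch.numGeomBranches_eq_one_iff Ap).mp ?_
    unfold Brnch.numGeomBranches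
    rw [if_pos (BranchUnibranch.finite_of_isDomain Ap)]
    have := BranchUnibranch.nontrivial_normRed Ap
    obtain ⟨M0, hM0⟩ := Ideal.exists_maximal N
    refine BranchUnibranch.card_eq_one_iff'.mpr ⟨⟨?_⟩, ⟨⟨⟨M0, hM0⟩, (BranchUnibranch.emb_facts Ap ⟨M0, hM0⟩).1.some⟩⟩⟩
    rintro ⟨P, σ⟩ ⟨Q, τ⟩
    have := P.isMaximal
    have := Q.isMaximal
    let L := AlgebraicClosure (ResidueField Ap)
    let G₁ : N →+* L := σ.1.comp (Ideal.Quotient.mk P.asIdeal)
    let G₂ : N →+* L := τ.1.comp (Ideal.Quotient.mk Q.asIdeal)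
    have e1 : ∀ a : A, G₁ (toN A p a) = Brnch.toClosure Ap (algebraMap A Ap a) := fun a => RingHom.congr_fun σ.2 _
    have e2 : ∀ a : A, G₂ (toN A p a) = Brnch.toClosure Ap (algebraMap A Ap a) := fun a => RingHom.congr_fun τ.2 _
    have hg : G₁ = G₂ := IsLocalization.ringHom_ext M <| h L _ _ (RingHom.ext fun a => by
      show G₁ (j.comp (algebraMap A B) a) = G₂ (j.comp (algebraMap A B) a)
      rw [hj, e1, e2]) (by
      ext a
      show G₁ (j.comp (algebraMap A B) a) = 0 ↔ _
      rw [hj, e1, Brnch.toClosure, RingHom.comp_apply, map_eq_zero_iff _ (RingHom.injective _),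
        residue_eq_zero_iff, IsLocalization.AtPrime.to_map_mem_maximal_iff Ap p])
    have hPQ : P = Q := by
      let := Ideal.Quotient.field P.asIdeal
      let := Ideal.Quotient.field Q.asIdeal
      have k1 : RingHom.ker G₁ = P.asIdeal := by
        rw [RingHom.ker_comp_of_injective _ (RingHom.injective σ.1), Ideal.mk_ker]
      have k2 : RingHom.ker G₂ = Q.asIdeal := by
        rw [RingHom.ker_comp_of_injective _ (RingHom.injective τ.1), Ideal.mk_ker]
      exact MaximalSpectrum.ext (k1.symm.trans ((congrArg RingHom.ker hg).trans k2))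
    subst hPQ
    have : σ = τ := Subtype.ext (Ideal.Quotient.ringHom_ext hg)
    rw [this]

end loc

theorem main :
    (UniversallyInjective (Spec.map (CommRingCat.ofHom (algebraMap A B))) ↔
      ∀ (p : Ideal A) [p.IsPrime], CAlg2.IsGeomUnibranch (Localization.AtPrime p)) ∧
    ((∀ (p : Ideal A) [p.IsPrime], CAlg2.IsGeomUnibranch (Localization.AtPrime p)) →
      IsHomeomorph (PrimeSpectrum.comap (algebraMap A B))) := by
  have h : UniversallyInjective (Spec.map (CommRingCat.ofHom (algebraMap A B))) ↔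
      ∀ (p : Ideal A) [p.IsPrime], CAlg2.IsGeomUnibranch (Localization.AtPrime p) := by
    rw [univInj_spec_iff]
    refine ⟨fun h p _ => (geomUnibranch_iff A p).mpr fun K _ g₁ g₂ e _ => h K g₁ g₂ e, fun h K _ g₁ g₂ e => ?_⟩
    have : (RingHom.ker (g₁.comp (algebraMap A B))).IsPrime := RingHom.ker_isPrime _
    exact (geomUnibranch_iff A _).mp (h (RingHom.ker (g₁.comp (algebraMap A B)))) K g₁ g₂ e rfl
  refine ⟨h, fun hu => ?_⟩
  have := h.mpr hu
  refine isHomeomorph_iff_continuous_isClosedMap_bijective.mpr ⟨PrimeSpectrum.continuous_comap _, ?_, ?_, ?_⟩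
  · exact PrimeSpectrum.isClosedMap_comap_of_isIntegral _ (algebraMap_isIntegral_iff.mpr inferInstance)
  · exact (Spec.map (CommRingCat.ofHom (algebraMap A B))).injective
  · intro q
    obtain ⟨Q, -, hQ, hc⟩ := Ideal.exists_ideal_over_prime_of_isIntegral q.asIdeal (⊥ : Ideal B) (by
      rw [← RingHom.ker_eq_comap_bot, (RingHom.injective_iff_ker_eq_bot _).mp (FaithfulSMul.algebraMap_injective A B)]
      exact bot_le)
    exact ⟨⟨Q, hQ⟩, PrimeSpectrum.ext hc⟩

end Groth.Agent.HensPair.Radicial
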