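import Groth.Agent.HensPair.GeomUniRed
import Groth.Agent.HensPair.Radicial
import Mathlib.RingTheory.Polynomial.IsIntegral
import Mathlib.RingTheory.MvPolynomial.Localization

/-!
Polynomial rings over geometrically unibranch rings are geometrically unibranch.
-/

set_option autoImplicit false
set_option synthInstance.maxHeartbeats 200000

noncomputable section

open IsLocalRing MvPolynomial

namespace Groth.Agent.HensPair.PolyUnibranch

universe u

set_option backward.isDefEq.respectTransparency false

theorem isIntegrallyClosed_fin {B : Type u} [CommRing B] [IsDomain B] [IsIntegrallyClosed B] :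
    ∀ n : ℕ, IsIntegrallyClosed (MvPolynomial (Fin n) B)
  | 0 => IsIntegrallyClosed.of_equiv (MvPolynomial.isEmptyAlgEquiv B (Fin 0)).symm.toRingEquiv
  | n + 1 => by
    have := isIntegrallyClosed_fin (B := B) n
    exact IsIntegrallyClosed.of_equiv (MvPolynomial.finSuccEquiv B n).symm.toRingEquiv

theorem isIntegrallyClosed_mvPolynomial {B : Type u} [CommRing B] [IsDomain B] [IsIntegrallyClosed B]
    (σ : Type u) [Finite σ] : IsIntegrallyClosed (MvPolynomial σ B) := by
  obtain ⟨n, ⟨e⟩⟩ := Finite.exists_equiv_fin σ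
  have := isIntegrallyClosed_fin (B := B) n
  exact IsIntegrallyClosed.of_equiv (MvPolynomial.renameEquiv B e).symm.toRingEquiv

theorem exists_hom {A B : Type u} [CommRing A] [IsDomain A] [CommRing B] [IsDomain B] [IsIntegrallyClosed B]
    [Algebra A B] (hinj : Function.Injective (algebraMap A B)) [Algebra.IsIntegral A B]
    (hfrac : ∀ b : B, ∃ a c : A, a ≠ 0 ∧ algebraMap A B a * b = algebraMap A B c) (σ : Type u) [Finite σ] :
    ∃ ψ : MvPolynomial σ B →+* integralClosure (MvPolynomial σ A) (FractionRing (MvPolynomial σ A)),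
      Function.Surjective ψ ∧
        ∀ x, ψ (MvPolynomial.map (algebraMap A B) x) = algebraMap (MvPolynomial σ A) _ x := by
  classical
  have := isIntegrallyClosed_mvPolynomial (B := B) σ
  let m : MvPolynomial σ A →+* MvPolynomial σ B := MvPolynomial.map (algebraMap A B)
  let : Algebra (MvPolynomial σ A) (MvPolynomial σ B) := m.toAlgebra
  let G := FractionRing (MvPolynomial σ B)
  have hmem : ∀ Q : MvPolynomial σ B, ∃ a : A, a ≠ 0 ∧ C (algebraMap A B a) * Q ∈ m.range := by
    intro Q
    induction Q using MvPolynomial.induction_on with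
    | C b =>
      obtain ⟨a, c, ha, h⟩ := hfrac b
      exact ⟨a, ha, C c, by rw [← map_mul, h]; exact MvPolynomial.map_C _ c⟩
    | add p q hp hq =>
      obtain ⟨a, ha, P', hP⟩ := hp
      obtain ⟨b, hb, Q', hQ⟩ := hq
      refine ⟨a * b, mul_ne_zero ha hb, C b * P' + C a * Q', ?_⟩
      rw [map_add, map_mul, map_mul, hP, hQ, show m (C b) = C (algebraMap A B b) from MvPolynomial.map_C _ b,
        show m (C a) = C (algebraMap A B a) from MvPolynomial.map_C _ a, map_mul, map_mul]
      ring
    | mul_X p i hp =>
      obtain ⟨a, ha, P', hP⟩ := hp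
      refine ⟨a, ha, P' * X i, ?_⟩
      rw [map_mul, hP, show m (X i) = X i from MvPolynomial.map_X _ i, mul_assoc]
  have hTG : Function.Injective (algebraMap (MvPolynomial σ A) G) := by
    rw [IsScalarTower.algebraMap_eq (MvPolynomial σ A) (MvPolynomial σ B) G]
    exact (IsFractionRing.injective (MvPolynomial σ B) G).comp (MvPolynomial.map_injective _ hinj)
  have : FaithfulSMul (MvPolynomial σ A) G := (faithfulSMul_iff_algebraMap_injective _ _).mpr hTG
  have : IsFractionRing (MvPolynomial σ A) G := by
    refine IsFractionRing.of_field _ _ fun z => ?_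
    obtain ⟨p, q, hq, rfl⟩ := IsFractionRing.div_surjective (A := MvPolynomial σ B) z
    obtain ⟨a, ha, P', hP⟩ := hmem p
    obtain ⟨b, hb, Q', hQ⟩ := hmem q
    refine ⟨C b * P', C a * Q', ?_⟩
    have e : ∀ x, algebraMap (MvPolynomial σ A) G x = algebraMap (MvPolynomial σ B) G (m x) := fun x =>
      IsScalarTower.algebraMap_apply (MvPolynomial σ A) (MvPolynomial σ B) G x
    rw [e, e, map_mul m, map_mul m, hP, hQ, show m (C b) = C (algebraMap A B b) from MvPolynomial.map_C _ b,
      show m (C a) = C (algebraMap A B a) from MvPolynomial.map_C _ a, ← mul_assoc, ← mul_assoc,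
      mul_comm (C (algebraMap A B b)) (C (algebraMap A B a)), map_mul, map_mul _ _ q]
    have hab : ∀ c : A, c ≠ 0 → algebraMap (MvPolynomial σ B) G (C (algebraMap A B c)) ≠ 0 := fun c hc h => by
      rw [map_eq_zero_iff _ (IsFractionRing.injective (MvPolynomial σ B) G), ← map_zero (C : B →+* MvPolynomial σ B)] at h
      exact hc (hinj ((C_injective σ B h).trans (map_zero _).symm))
    refine (mul_div_mul_left _ _ ?_).symm
    rw [map_mul]
    exact mul_ne_zero (hab a ha) (hab b hb)
  have hint : ∀ Q : MvPolynomial σ B, IsIntegral (MvPolynomial σ A) Q := fun Q => by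
    induction Q using MvPolynomial.induction_on with
    | C b =>
      obtain ⟨g, hg, hg0⟩ := Algebra.IsIntegral.isIntegral (R := A) b
      refine ⟨g.map (C : A →+* MvPolynomial σ A), hg.map _, ?_⟩
      rw [Polynomial.eval₂_map, show (algebraMap (MvPolynomial σ A) (MvPolynomial σ B)).comp C =
        (C : B →+* MvPolynomial σ B).comp (algebraMap A B) from RingHom.ext fun a => MvPolynomial.map_C _ a,
        ← Polynomial.hom_eval₂, hg0, map_zero]
    | add p q hp hq => exact hp.add hq
    | mul_X p i hp =>
      refine hp.mul ?_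
      have h : (X i : MvPolynomial σ B) = algebraMap (MvPolynomial σ A) (MvPolynomial σ B) (X i) :=
        (MvPolynomial.map_X _ i).symm
      rw [h]
      exact isIntegral_algebraMap
  let e := IsLocalization.algEquiv (nonZeroDivisors (MvPolynomial σ A)) G (FractionRing (MvPolynomial σ A))
  let φ : MvPolynomial σ B →ₐ[MvPolynomial σ A] FractionRing (MvPolynomial σ A) :=
    e.toAlgHom.comp (IsScalarTower.toAlgHom (MvPolynomial σ A) (MvPolynomial σ B) G)
  refine ⟨(φ.codRestrict (integralClosure _ _) fun Q => (hint Q).map φ).toRingHom, fun z => ?_, fun x => ?_⟩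
  · have h1 : IsIntegral (MvPolynomial σ A) (e.symm z.1) := z.2.map e.symm.toAlgHom
    obtain ⟨Q, hQ⟩ := IsIntegrallyClosed.isIntegral_iff.mp (h1.tower_top (A := MvPolynomial σ B))
    exact ⟨Q, Subtype.ext (show e (algebraMap _ G Q) = z.1 by rw [hQ, e.apply_symm_apply])⟩
  · exact Subtype.ext (φ.commutes x)

theorem domain (A : Type u) [CommRing A] [IsDomain A] (σ : Type u) [Finite σ] (P : Ideal (MvPolynomial σ A))
    [P.IsPrime] (hA : CAlg2.IsGeomUnibranch (Localization.AtPrime (P.comap (C : A →+* MvPolynomial σ A)))) :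
    CAlg2.IsGeomUnibranch (Localization.AtPrime P) := by
  have : IsIntegrallyClosed (integralClosure A (FractionRing A)) :=
    integralClosure.isIntegrallyClosedOfFiniteExtension (FractionRing A)
  have hinj : Function.Injective (algebraMap A (integralClosure A (FractionRing A))) := fun x y h =>
    IsFractionRing.injective A (FractionRing A) (congrArg Subtype.val h)
  obtain ⟨ψ, hψ, hψm⟩ := exists_hom (B := integralClosure A (FractionRing A)) hinj (fun b => by
    obtain ⟨⟨c, s⟩, hs⟩ := IsLocalization.surj (nonZeroDivisors A) (b : FractionRing A)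
    exact ⟨s, c, nonZeroDivisors.ne_zero s.2, Subtype.ext (by rw [mul_comm] at hs; exact hs)⟩) σ
  refine (Radicial.geomUnibranch_iff (MvPolynomial σ A) P).mpr fun L _ g₁ g₂ e hker => ?_
  have h := (Radicial.geomUnibranch_iff A (P.comap (C : A →+* MvPolynomial σ A))).mp hA
  have hc : ∀ a : A, ψ (C (algebraMap A (integralClosure A (FractionRing A)) a)) =
      algebraMap (MvPolynomial σ A) _ (C a) := fun a => by rw [← hψm, MvPolynomial.map_C]
  have key := h L (g₁.comp (ψ.comp C)) (g₂.comp (ψ.comp C))
    (RingHom.ext fun a => by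
      show g₁ (ψ (C (algebraMap A _ a))) = g₂ (ψ (C (algebraMap A _ a)))
      rw [hc]; exact RingHom.congr_fun e (C a))
    (Ideal.ext fun a => by
      show g₁ (ψ (C (algebraMap A _ a))) = 0 ↔ C a ∈ P
      rw [hc, ← hker]; rfl)
  have hall : g₁.comp ψ = g₂.comp ψ := MvPolynomial.ringHom_ext (fun b => RingHom.congr_fun key b) fun i => by
    have hx : ψ (X i) = algebraMap (MvPolynomial σ A) _ (X i) := by rw [← hψm, MvPolynomial.map_X]
    show g₁ (ψ (X i)) = g₂ (ψ (X i))
    rw [hx]; exact RingHom.congr_fun e (X i)
  refine RingHom.ext fun z => ?_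
  obtain ⟨Q, rfl⟩ := hψ z
  exact RingHom.congr_fun hall Q

/-- a reduced ring as a reduced quotient -/
theorem red_of_reduced {R B : Type u} [CommRing R] [CommRing B] [IsReduced B] (e : CAlg2.red R ≃+* B) :
    Nonempty (CAlg2.red R ≃+* CAlg2.red B) :=
  ⟨e.trans ((RingEquiv.quotientBot B).symm.trans (Ideal.quotEquivOfEq (nilradical_eq_zero B).symm))⟩

/-- reduced quotients of isomorphic rings -/
theorem red_congr {R B : Type u} [CommRing R] [CommRing B] (e : R ≃+* B) :
    Nonempty (CAlg2.red R ≃+* CAlg2.red B) := by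
  refine ⟨Ideal.quotientEquiv (nilradical R) (nilradical B) e ?_⟩
  refine le_antisymm (fun z hz => ?_) (Ideal.map_le_iff_le_comap.mpr fun a ha => (mem_nilradical.mp ha).map e)
  rw [← e.apply_symm_apply z]
  exact Ideal.mem_map_of_mem _ (mem_nilradical.mpr ((mem_nilradical.mp hz).map e.symm))

/-- the reduced local ring does not see a surjection with nilpotent kernel onto a reduced ring -/
theorem red_localization_equiv {R S : Type u} [CommRing R] [CommRing S] [IsReduced S] (f : R →+* S)
    (hf : Function.Surjective f) (hker : RingHom.ker f ≤ nilradical R) (q : Ideal S) [q.IsPrime]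
    (p : Ideal R) [p.IsPrime] (hpq : p = q.comap f) :
    Nonempty (CAlg2.red (Localization.AtPrime p) ≃+* CAlg2.red (Localization.AtPrime q)) := by
  subst hpq
  let Sq := Localization.AtPrime q
  let π := Localization.localRingHom (q.comap f) q f rfl
  have hπ : ∀ r, π (algebraMap R _ r) = algebraMap S Sq (f r) := fun r => Localization.localRingHom_to_map _ _ _ _ r
  have hsurj : Function.Surjective π := fun z => by
    obtain ⟨a, s, rfl⟩ := IsLocalization.exists_mk'_eq q.primeCompl z
    obtain ⟨a, rfl⟩ := hf a
    obtain ⟨r, hr⟩ := hf (s : S)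
    have hrP : r ∈ (q.comap f).primeCompl := fun h => s.2 (hr ▸ h)
    refine ⟨IsLocalization.mk' _ a (⟨r, hrP⟩ : (q.comap f).primeCompl), ?_⟩
    rw [eq_comm, IsLocalization.mk'_eq_iff_eq_mul, ← hr, ← hπ r, ← map_mul, IsLocalization.mk'_spec, hπ]
  have hred : IsReduced Sq := inferInstance
  have hk : RingHom.ker π = nilradical (Localization.AtPrime (q.comap f)) := by
    refine le_antisymm (fun z hz => ?_) fun z hz => ((mem_nilradical.mp hz).map π).eq_zero
    obtain ⟨a, s, rfl⟩ := IsLocalization.exists_mk'_eq (q.comap f).primeCompl z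
    have h1 : π (algebraMap R _ a) = 0 := by
      rw [← IsLocalization.mk'_spec (Localization.AtPrime (q.comap f)) a s, map_mul, RingHom.mem_ker.mp hz, zero_mul]
    rw [hπ] at h1
    obtain ⟨t, ht⟩ := (IsLocalization.map_eq_zero_iff q.primeCompl Sq _).mp h1
    obtain ⟨t', ht'⟩ := hf (t : S)
    have hu : IsUnit (algebraMap R (Localization.AtPrime (q.comap f)) t') :=
      IsLocalization.map_units _ (⟨t', fun h => t.2 (ht' ▸ h)⟩ : (q.comap f).primeCompl)
    have hn : t' * a ∈ nilradical R := hker (by rw [RingHom.mem_ker, map_mul, ht', ht])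
    have hn' : IsNilpotent (algebraMap R (Localization.AtPrime (q.comap f)) (t' * a)) :=
      (mem_nilradical.mp hn).map _
    rw [map_mul] at hn'
    have ha := (Commute.all _ _).isNilpotent_mul_left (x := (↑hu.unit⁻¹ : Localization.AtPrime (q.comap f))) hn'
    rw [← mul_assoc, IsUnit.val_inv_mul, one_mul] at ha
    rw [mem_nilradical, IsLocalization.mk'_eq_mul_mk'_one]
    exact (Commute.all _ _).isNilpotent_mul_right ha
  exact ⟨((Ideal.quotEquivOfEq hk.symm).trans (RingHom.quotientKerEquivOfSurjective hsurj)).trans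
    ((RingEquiv.quotientBot Sq).symm.trans (Ideal.quotEquivOfEq (nilradical_eq_zero Sq).symm))⟩

theorem reduced_case (R : Type u) [CommRing R] [IsLocalRing R] (hR : CAlg2.IsGeomUnibranch R) (σ : Type u) [Finite σ]
    (P : Ideal (MvPolynomial σ R)) [P.IsPrime] (hP : P.comap (C : R →+* MvPolynomial σ R) = maximalIdeal R) :
    CAlg2.IsGeomUnibranch (Localization.AtPrime P) := by
  have : IsDomain (CAlg2.red R) := hR.1.1
  let A := CAlg2.red R
  have : IsLocalRing A := IsLocalRing.of_surjective' (Ideal.Quotient.mk (nilradical R)) Ideal.Quotient.mk_surjective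
  let f : MvPolynomial σ R →+* MvPolynomial σ A := MvPolynomial.map (Ideal.Quotient.mk (nilradical R))
  have hf : Function.Surjective f := MvPolynomial.map_surjective _ Ideal.Quotient.mk_surjective
  have hker : RingHom.ker f ≤ nilradical (MvPolynomial σ R) := by
    rw [MvPolynomial.ker_map, Ideal.mk_ker, Ideal.map_le_iff_le_comap]
    exact fun a ha => (mem_nilradical.mp ha).map _
  have hle : RingHom.ker f ≤ P := hker.trans (nilradical_le_prime P)
  have := Ideal.map_isPrime_of_surjective hf hle
  have hPP : P = (P.map f).comap f := by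
    rw [Ideal.comap_map_of_surjective' _ hf, sup_eq_left.mpr hle]
  obtain ⟨e⟩ := red_localization_equiv f hf hker (P.map f) P hPP
  refine GeomUniRed.isGeomUnibranch_of_red e.symm ?_
  refine domain A σ _ ?_
  have hmax : (P.map f).comap (C : A →+* MvPolynomial σ A) = maximalIdeal A := by
    refine eq_maximalIdeal ?_
    have h2 : ((P.map f).comap (C : A →+* MvPolynomial σ A)).comap (Ideal.Quotient.mk (nilradical R)) = maximalIdeal R := by
      rw [Ideal.comap_comap, show (C : A →+* MvPolynomial σ A).comp (Ideal.Quotient.mk (nilradical R)) = f.comp C from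
        RingHom.ext fun a => (MvPolynomial.map_C _ a).symm, ← Ideal.comap_comap, ← hPP, hP]
    have hm : (((P.map f).comap (C : A →+* MvPolynomial σ A)).comap (Ideal.Quotient.mk (nilradical R))).IsMaximal := by
      rw [h2]; infer_instance
    have : ((P.map f).comap (C : A →+* MvPolynomial σ A)).IsPrime := Ideal.IsPrime.comap _
    rw [← Ideal.map_comap_of_surjective (Ideal.Quotient.mk (nilradical R)) Ideal.Quotient.mk_surjective
      ((P.map f).comap (C : A →+* MvPolynomial σ A))]
    exact Ideal.IsMaximal.map_of_surjective_of_ker_le Ideal.Quotient.mk_surjective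
      (by rw [Ideal.mk_ker]; exact nilradical_le_prime _)
  let eA : A ≃ₐ[A] Localization.AtPrime ((P.map f).comap (C : A →+* MvPolynomial σ A)) :=
    IsLocalization.atUnits A ((P.map f).comap (C : A →+* MvPolynomial σ A)).primeCompl fun x hx => by
      by_contra hn
      exact hx (hmax ▸ (mem_maximalIdeal x).mpr hn)
  obtain ⟨e'⟩ := red_of_reduced (R := R) eA.toRingEquiv
  exact GeomUniRed.isGeomUnibranch_of_red e' hR

theorem main (R : Type u) [CommRing R] (σ : Type u) [Finite σ] (P : Ideal (MvPolynomial σ R)) [P.IsPrime]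
    (p : Ideal R) [p.IsPrime] (hP : P.comap (C : R →+* MvPolynomial σ R) = p)
    (h : CAlg2.IsGeomUnibranch (Localization.AtPrime p)) :
    CAlg2.IsGeomUnibranch (Localization.AtPrime P) := by
  let Rp := Localization.AtPrime p
  let M : Submonoid (MvPolynomial σ R) := p.primeCompl.map (C : R →+* MvPolynomial σ R)
  let T := MvPolynomial σ Rp
  let : Algebra (MvPolynomial σ R) T := MvPolynomial.algebraMvPolynomial
  have : IsLocalization M T := MvPolynomial.isLocalization p.primeCompl Rp
  have hd : Disjoint (M : Set (MvPolynomial σ R)) (P : Set (MvPolynomial σ R)) := Set.disjoint_left.mpr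
    fun x ⟨s, hs, hsx⟩ hx => hs (by rw [SetLike.mem_coe, ← hP, Ideal.mem_comap, hsx]; exact hx)
  have := IsLocalization.isPrime_of_isPrime_disjoint M T P inferInstance hd
  let P' := P.map (algebraMap (MvPolynomial σ R) T)
  have hP' : P'.comap (algebraMap (MvPolynomial σ R) T) = P :=
    IsLocalization.comap_map_of_isPrime_disjoint M T inferInstance hd
  have hloc : IsLocalization.AtPrime (Localization.AtPrime P') P := by
    have := IsLocalization.isLocalization_isLocalization_atPrime_isLocalization M (Localization.AtPrime P') P'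
    simpa only [hP'] using this
  have hP'p : P'.comap (C : Rp →+* T) = maximalIdeal Rp := by
    refine le_antisymm (le_maximalIdeal (Ideal.comap_ne_top _ (Ideal.IsPrime.ne_top inferInstance))) ?_
    rw [← Localization.AtPrime.map_eq_maximalIdeal, Ideal.map_le_iff_le_comap]
    intro a ha
    show C (algebraMap R Rp a) ∈ P'
    rw [← MvPolynomial.map_C]
    exact Ideal.mem_map_of_mem _ (show C a ∈ P by rw [← hP] at ha; exact ha)
  have h1 := reduced_case Rp h σ P' hP'p
  let e : Localization.AtPrime P ≃ₐ[MvPolynomial σ R] Localization.AtPrime P' :=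
    IsLocalization.algEquiv P.primeCompl _ _
  obtain ⟨e'⟩ := red_congr (R := Localization.AtPrime P') (B := Localization.AtPrime P) e.symm.toRingEquiv
  exact GeomUniRed.isGeomUnibranch_of_red e' h1

end Groth.Agent.HensPair.PolyUnibranch
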