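import Groth.Agent.HensPair.LocalFacts
import Groth.Agent.HensPair.Noetherian
import Groth.Agent.EtaleLocal.Basic
import Groth.Agent.S2938
import Mathlib.RingTheory.Flat.Localization
import Mathlib.RingTheory.Unramified.LocalRing

/-!
Local rings of the henselization at arbitrary primes.
-/

set_option autoImplicit false

open IsLocalRing

namespace Groth.Agent.HensPair.Primes

universe u

variable {A B : Type u} [CommRing A] [CommRing B] [Algebra A B] {I : Ideal A}

/-- a prime is locally the extension of its contraction -/
theorem exists_mul_mem (hB : Hens2.IsPairHenselization A I B) (P : Ideal B) [P.IsPrime] {x : B}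
    (hx : x ∈ P) : ∃ s, s ∉ P ∧ s * x ∈ (P.comap (algebraMap A B)).map (algebraMap A B) := by
  obtain ⟨A', _, _, h, φ, hr⟩ := Henselization.exists_nbhd_rep hB fun _ : Unit => x
  obtain ⟨r, rfl⟩ := hr ()
  have := h.etale
  let q : Ideal A' := P.comap φ.toRingHom
  have : q.IsPrime := Ideal.IsPrime.comap _
  let p : Ideal A := P.comap (algebraMap A B)
  have : q.LiesOver p := ⟨by
    show p = (P.comap φ.toRingHom).comap (algebraMap A A')
    rw [Ideal.comap_comap, AlgHom.toRingHom_eq_coe, AlgHom.comp_algebraMap]⟩
  let : Algebra (Localization.AtPrime p) (Localization.AtPrime q) :=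
    Localization.AtPrime.algebraOfLiesOver p q
  have hmax := ((Algebra.isUnramifiedAt_iff_map_eq (R := A) p q).mp inferInstance).2
  have hrq : algebraMap A' (Localization.AtPrime q) r ∈
      (p.map (algebraMap A A')).map (algebraMap A' (Localization.AtPrime q)) := by
    rw [Ideal.map_map, ← IsScalarTower.algebraMap_eq, hmax]
    exact (IsLocalization.AtPrime.to_map_mem_maximal_iff _ q r).mpr hx
  obtain ⟨⟨⟨j, hj⟩, t⟩, ht⟩ := (IsLocalization.mem_map_algebraMap_iff q.primeCompl _).mp hrq
  rw [← map_mul] at ht
  obtain ⟨c, hc⟩ := (IsLocalization.eq_iff_exists q.primeCompl _).mp ht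
  refine ⟨φ ((c : A') * (t : A')), fun hm => ?_, ?_⟩
  · rcases ‹q.IsPrime›.mem_or_mem (show (c : A') * (t : A') ∈ q from hm) with h1 | h1
    exacts [c.2 h1, t.2 h1]
  · rw [← map_mul, mul_assoc, mul_comm (t : A') r, hc]
    exact Henselization.map_mem φ (Ideal.mul_mem_left _ _ hj)

variable [IsNoetherianRing A]

/-- the flat local map at a prime -/
theorem localRing_facts (hB : Hens2.IsPairHenselization A I B) (P : Ideal B) [P.IsPrime]
    (p : Ideal A) [p.IsPrime] (hp : p = P.comap (algebraMap A B)) :
    (IsRegularLocalRing (Localization.AtPrime p) ↔ IsRegularLocalRing (Localization.AtPrime P)) ∧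
    p.height = P.height ∧
    LocCoh.depth (Localization.AtPrime P) (Localization.AtPrime P) =
      LocCoh.depth (Localization.AtPrime p) (Localization.AtPrime p) := by
  have := Noetherian.isNoetherianRing hB
  have := Henselization.flat hB
  let f : Localization.AtPrime p →+* Localization.AtPrime P :=
    Localization.localRingHom p P (algebraMap A B) hp
  let : Algebra (Localization.AtPrime p) (Localization.AtPrime P) := f.toAlgebra
  have : IsScalarTower A (Localization.AtPrime p) (Localization.AtPrime P) :=
    IsScalarTower.of_algebraMap_eq fun a => by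
      refine Eq.trans ?_ (Localization.localRingHom_to_map p P (algebraMap A B) hp a).symm
      exact IsScalarTower.algebraMap_apply A B (Localization.AtPrime P) a
  have : IsLocalHom (algebraMap (Localization.AtPrime p) (Localization.AtPrime P)) :=
    Localization.isLocalHom_localRingHom p P _ hp
  have : Module.Flat A (Localization.AtPrime P) := Module.Flat.trans A B _
  have : Module.Flat (Localization.AtPrime p) (Localization.AtPrime P) :=
    Module.flat_iff_of_isLocalization (Localization.AtPrime p) p.primeCompl _ |>.mpr ‹_›
  have hmap : (maximalIdeal (Localization.AtPrime p)).map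
      (algebraMap (Localization.AtPrime p) (Localization.AtPrime P)) = maximalIdeal _ := by
    refine le_antisymm (((local_hom_TFAE _).out 0 2).mp ‹IsLocalHom (algebraMap (Localization.AtPrime p)
      (Localization.AtPrime P))›) fun z hz => ?_
    rw [← Localization.AtPrime.map_eq_maximalIdeal (I := p), Ideal.map_map, ← IsScalarTower.algebraMap_eq,
      IsScalarTower.algebraMap_eq A B (Localization.AtPrime P), ← Ideal.map_map]
    obtain ⟨b, s, rfl⟩ := IsLocalization.exists_mk'_eq P.primeCompl z
    obtain ⟨c, hc, hcb⟩ := exists_mul_mem hB P ((IsLocalization.AtPrime.mk'_mem_maximal_iff _ P b s).mp hz)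
    rw [IsLocalization.mk'_eq_mul_mk'_one]
    refine Ideal.mul_mem_right _ _ ?_
    refine (Ideal.unit_mul_mem_iff_mem _ (IsLocalization.map_units _ (⟨c, hc⟩ : P.primeCompl))).mp ?_
    rw [← map_mul, hp]
    exact Ideal.mem_map_of_mem _ hcb
  refine ⟨EtaleLocal.Basic.isRegularLocalRing_iff hmap, ?_, ?_⟩
  · have h := EtaleLocal.Basic.ringKrullDim_eq hmap
    rw [IsLocalization.AtPrime.ringKrullDim_eq_height p (Localization.AtPrime p),
      IsLocalization.AtPrime.ringKrullDim_eq_height P (Localization.AtPrime P)] at h
    exact_mod_cast h.symm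
  · have : Module.FaithfullyFlat (Localization.AtPrime p) (Localization.AtPrime P) :=
      Module.FaithfullyFlat.of_flat_of_isLocalHom
    have h := (Groth.Agent.S2938.result (Localization.AtPrime p) (Localization.AtPrime P)
      (maximalIdeal _) (Localization.AtPrime p)).2 inferInstance
    rw [hmap, IdealDepth.congr _ (TensorProduct.AlgebraTensorModule.rid (Localization.AtPrime p)
      (Localization.AtPrime P) (Localization.AtPrime P))] at h
    exact h

end Groth.Agent.HensPair.Primes
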