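import Groth.Agent.HensPair.Henselization
import Mathlib.RingTheory.TensorProduct.Quotient
import Mathlib.RingTheory.Flat.Stability

/-!
Reduction of the henselization of an algebra modulo powers.
-/

set_option autoImplicit false

namespace Groth.Agent.HensPair.Reduction

universe u

variable {A : Type u} [CommRing A] {R : Type u} [CommRing R] [Algebra A R]
  {B : Type u} [CommRing B] [Algebra R B] [Algebra A B] [IsScalarTower A R B]

theorem map_pow_eq (I : Ideal A) (r : ℕ) :
    (I ^ r).map (algebraMap A B) = ((I.map (algebraMap A R)) ^ r).map (algebraMap R B) := by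
  rw [← Ideal.map_pow, Ideal.map_map, ← IsScalarTower.algebraMap_eq]

theorem exists_equiv (I : Ideal A) (hB : Hens2.IsPairHenselization R (I.map (algebraMap A R)) B)
    (r : ℕ) : Nonempty (TensorProduct A (A ⧸ I ^ r) R ≃ₐ[A ⧸ I ^ r]
      (B ⧸ (I ^ r).map (algebraMap A B))) := by
  let f : (R ⧸ (I ^ r).map (algebraMap A R)) →ₐ[A] B ⧸ (I ^ r).map (algebraMap A B) :=
    Ideal.quotientMapₐ _ (IsScalarTower.toAlgHom A R B) (by
      rw [← Ideal.map_le_iff_le_comap]
      show Ideal.map (algebraMap R B) _ ≤ _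
      rw [Ideal.map_map, ← IsScalarTower.algebraMap_eq])
  have hf : Function.Bijective f := by
    obtain ⟨hinj, hsurj⟩ := Henselization.bijective_pow hB r
    refine ⟨fun x y h => ?_, fun z => ?_⟩
    · obtain ⟨x, rfl⟩ := Ideal.Quotient.mk_surjective x
      obtain ⟨y, rfl⟩ := Ideal.Quotient.mk_surjective y
      simp only [f, Ideal.quotient_map_mkₐ, Ideal.Quotient.mkₐ_eq_mk] at h
      rw [Ideal.Quotient.eq,
        map_pow_eq (R := R)] at h
      have := @hinj (Ideal.Quotient.mk _ x) (Ideal.Quotient.mk _ y) (by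
        rw [Ideal.quotientMap_mk, Ideal.quotientMap_mk, Ideal.Quotient.eq]; exact h)
      rwa [Ideal.Quotient.eq, ← Ideal.map_pow, ← Ideal.Quotient.eq] at this
    · obtain ⟨b, rfl⟩ := Ideal.Quotient.mk_surjective z
      obtain ⟨x, hx⟩ := hsurj (Ideal.Quotient.mk _ b)
      obtain ⟨x, rfl⟩ := Ideal.Quotient.mk_surjective x
      refine ⟨Ideal.Quotient.mk _ x, ?_⟩
      rw [Ideal.quotientMap_mk, Ideal.Quotient.eq, ← map_pow_eq (R := R)] at hx
      simp only [f, Ideal.quotient_map_mkₐ, Ideal.Quotient.mkₐ_eq_mk]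
      rw [Ideal.Quotient.eq]
      exact hx
  exact ⟨(Algebra.TensorProduct.quotIdealMapEquivQuotTensor R (I ^ r)).symm.trans
    (AlgEquiv.extendScalarsOfSurjective Ideal.Quotient.mk_surjective (AlgEquiv.ofBijective f hf))⟩

theorem flat [Module.Flat A R] (I : Ideal R) (hB : Hens2.IsPairHenselization R I B) :
    Module.Flat A B :=
  have := Henselization.flat hB
  Module.Flat.trans A R B

end Groth.Agent.HensPair.Reduction
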