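import Groth.Agent.HensPair.FieldDim
import Groth.Agent.HensPair.CatFormula
import Groth.Agent.CMFlat.Main
import Groth.Agent.S2559
import Groth.Agent.Equidim.Upper
import Mathlib.AlgebraicGeometry.Noetherian
import Groth.Agent.Equidim.AffineCrit
import Mathlib.AlgebraicGeometry.Morphisms.UniversallyOpen

/-!
Local dimension along flat morphisms with constant fibre dimension.
-/

set_option autoImplicit false
set_option synthInstance.maxHeartbeats 200000

noncomputable section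

open CategoryTheory AlgebraicGeometry TopologicalSpace Topology Limits

namespace Groth.Agent.HensPair.RelDim

universe u

set_option backward.isDefEq.respectTransparency false

theorem fibreDimAt_const_of_flat_param {X Y : Scheme.{u}} (f : X ⟶ Y) [LocallyOfFiniteType f] {d : ℕ} (U : X.Opens)
    (g : (U : Scheme.{u}) ⟶ 𝔸(ULift.{u} (Fin d); Y)) (hgq : g ≫ (𝔸(ULift.{u} (Fin d); Y) ↘ Y) = U.ι ≫ f)
    [Flat g] [LocallyQuasiFinite g] (x : X) (hx : x ∈ U) : FlatMor.fibreDimAt f x = (d : ℕ) := by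
  let w : (U : Scheme.{u}) := (⟨x, hx⟩ : U)
  rw [show x = U.ι w from rfl, ← (CMFlat.Main.fibre_open U.ι f w).2]
  let q := U.ι ≫ f
  let t := q w
  show FlatMor.localDim ↥(q.fiber t) (q.asFiber w) = _
  haveI : LocallyOfFiniteType (q.fiberToSpecResidueField t) :=
    MorphismProperty.pullback_snd (P := @LocallyOfFiniteType) _ _ inferInstance
  haveI : IsLocallyNoetherian (q.fiber t) := LocallyOfFiniteType.isLocallyNoetherian (q.fiberToSpecResidueField t)
  have hcomp : ∀ c : q.fiber t, topologicalKrullDim ↥(closure ({c} : Set (q.fiber t))) ≤ (d : ℕ) := fun c =>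
    TopDim.Basic.dim_le fun σ => Nat.cast_le.mpr (Equidim.AffineParam.length_le q g hgq t _ isClosed_closure c
      (fun z hz => specializes_iff_mem_closure.mpr hz) σ).1
  have hfull : ∀ c : q.fiber t, (∀ p, p ⤳ c → p = c) →
      (d : WithBot ℕ∞) ≤ topologicalKrullDim ↥(closure ({c} : Set (q.fiber t))) := fun c hc => by
    refine Equidim.AffineParam.le_dim q g hgq t c ?_
    refine ((Equidim.AffineParam.pt_isEmbedding t).injective ?_).symm
    rw [Equidim.AffineParam.pt_fibPrime q g hgq]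
    let z := Equidim.AffineParam.pt t (Equidim.AffineParam.gen (e := d) t)
    have hz : z ⤳ g (q.fiberι t c) := by
      rw [← Equidim.AffineParam.pt_fibPrime q g hgq]
      exact (Equidim.AffineParam.gen_specializes t _).map (Equidim.AffineParam.pt_isEmbedding t).continuous
    have hzt : (𝔸(ULift.{u} (Fin d); Y) ↘ Y) z = t := by
      show (AffineSpace.map (ULift.{u} (Fin d)) (Y.fromSpecResidueField t) ≫ (𝔸(ULift.{u} (Fin d); Y) ↘ Y)) _ = t
      rw [AffineSpace.map_over]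
      exact (Y.range_fromSpecResidueField t).le ⟨_, rfl⟩
    obtain ⟨v, hv, hvz⟩ := Flat.generalizingMap g hz
    have hvt : q v = t := by
      show (U.ι ≫ f) v = t
      rw [← hgq]
      show (𝔸(ULift.{u} (Fin d); Y) ↘ Y) (g v) = t
      rw [hvz, hzt]
    obtain ⟨p, rfl⟩ : v ∈ Set.range (q.fiberι t) := by rw [q.range_fiberι]; exact hvt
    rw [hc p ((q.fiberι t).isEmbedding.isInducing.specializes_iff.mp hv)] at hvz
    exact hvz.symm
  refine le_antisymm ?_ ?_
  · obtain ⟨c, -, hmax, hdim⟩ := FibreTrdeg.exists_maximal_dim q w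
    rw [← Equidim.localDim_fiber_eq q t c _ rfl] at hdim
    exact hdim.trans ((Equidim.AffineCrit.localDim_le_component q t c hmax).trans (hcomp c))
  · obtain ⟨c, hc, hmax⟩ := Equidim.AffineCrit.exists_maximal_above (q.asFiber w)
    exact (hfull c hmax).trans
      (Equidim.AffineCrit.le_localDim q t _ isIrreducible_singleton.closure isClosed_closure _ hc.mem_closure)

variable {X Y : Scheme.{u}} (f : X ⟶ Y) [IsLocallyNoetherian X] [IsLocallyNoetherian Y] [LocallyOfFiniteType f]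

/-- dimension of an open subset from its local rings -/
theorem dim_open_le {Z : Scheme.{u}} (V : Z.Opens) (hV : (V : Set Z).Nonempty) {c : WithBot ℕ∞}
    (h : ∀ z ∈ V, ringKrullDim (Z.presheaf.stalk z) ≤ c) : topologicalKrullDim ↥(V : Set Z) ≤ c := by
  obtain ⟨a, ha⟩ := hV
  haveI : Nonempty (V : Scheme.{u}) := ⟨(⟨a, ha⟩ : V)⟩
  show topologicalKrullDim ↥(V : Scheme.{u}) ≤ c
  rw [FieldDim.dim_eq_iSup_stalk]
  exact iSup_le fun v => (ringKrullDim_eq_of_ringEquiv (V.stalkIso v).commRingCatIsoToRingEquiv).trans_le (h v.1 v.2)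

theorem stalk_le_dim_open {Z : Scheme.{u}} (V : Z.Opens) (z : Z) (hz : z ∈ V) :
    ringKrullDim (Z.presheaf.stalk z) ≤ topologicalKrullDim ↥(V : Set Z) := by
  haveI : Nonempty (V : Scheme.{u}) := ⟨(⟨z, hz⟩ : V)⟩
  show _ ≤ topologicalKrullDim ↥(V : Scheme.{u})
  rw [FieldDim.dim_eq_iSup_stalk]
  exact le_iSup_of_le (⟨z, hz⟩ : V) (ringKrullDim_eq_of_ringEquiv (V.stalkIso ⟨z, hz⟩).commRingCatIsoToRingEquiv).ge

theorem add_le_of {Z : Scheme.{u}} (W : Z.Opens) (hW : (W : Set Z).Nonempty) (e : ℕ) (c : WithBot ℕ∞)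
    (h : ∀ y ∈ W, ringKrullDim (Z.presheaf.stalk y) + (e : ℕ) ≤ c) :
    topologicalKrullDim ↥(W : Set Z) + (e : ℕ) ≤ c := by
  obtain ⟨y₀, hy₀⟩ := hW
  have h0 : ((e : ℕ) : WithBot ℕ∞) ≤ c :=
    le_trans (le_add_of_nonneg_left ringKrullDim_nonneg_of_nontrivial) (h y₀ hy₀)
  match c, h, h0 with
  | ⊥, _, h0 => exact absurd h0 (by simp)
  | (⊤ : ℕ∞), _, _ => exact le_top
  | ((n : ℕ) : ℕ∞), h, h0 =>
    have hen : e ≤ n := by exact_mod_cast h0
    obtain ⟨k, hk⟩ : ∃ k, k + e = n := ⟨n - e, by omega⟩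
    refine le_trans (add_le_add (dim_open_le W ⟨y₀, hy₀⟩ (c := ((k : ℕ) : WithBot ℕ∞)) fun y hy => ?_) le_rfl)
      (by exact_mod_cast hk.le)
    have h1 := h y hy
    match hd : ringKrullDim (Z.presheaf.stalk y), h1 with
    | ⊥, _ => exact bot_le
    | (⊤ : ℕ∞), h1 =>
      have h2 : (⊤ : ℕ∞) + (e : ℕ∞) ≤ (n : ℕ∞) := by exact_mod_cast h1
      simp at h2
    | ((a : ℕ) : ℕ∞), h1 =>
      have : a + e ≤ n := by exact_mod_cast h1
      exact_mod_cast (by omega : a ≤ k)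

theorem localDim_add [Flat f] (x : X) (U : X.Opens) (hxU : x ∈ U) (e : ℕ)
    (hU : ∀ z ∈ U, FlatMor.fibreDimAt f z = (e : ℕ)) :
    FlatMor.localDim ↑X x = FlatMor.localDim ↑Y (f x) + (e : WithBot ℕ∞) := by
  haveI : LocallyOfFinitePresentation f := LocallyOfFinitePresentation.iff_locallyOfFiniteType.mpr inferInstance
  have hk : ∀ z ∈ U, ∃ m d k : ℕ, ringKrullDim (X.presheaf.stalk z) = (m : ℕ) ∧
      ringKrullDim (Y.presheaf.stalk (f z)) = (d : ℕ) ∧ m ≤ d + k ∧ d + k ≤ m ∧ k + FibreTrdeg.T f z = e := fun z hz => by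
    obtain ⟨m, d, k, hm, hd, hk, hle, he⟩ := CatFormula.dims f z
    have := Groth.Agent.S2559.result f z fun w _ _ V hV => by
      obtain ⟨O, hO, hOo, hwO⟩ := mem_nhds_iff.mp hV
      exact Filter.mem_of_superset ((f.isOpenMap O hOo).mem_nhds ⟨_, hwO, rfl⟩) (Set.image_mono hO)
    rw [hm, hd, hk] at this
    rw [hU z hz] at he
    exact ⟨m, d, k, hm, hd, hle, by exact_mod_cast this.ge, by exact_mod_cast he.symm⟩
  have hup : ∀ V : X.Opens, (V : Set X) ⊆ U → (V : Set X).Nonempty → ∀ W : Y.Opens, f '' (V : Set X) ⊆ W →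
      topologicalKrullDim ↥(V : Set X) ≤ topologicalKrullDim ↥(W : Set Y) + (e : ℕ) := fun V hVU hV W hW => by
    refine dim_open_le V hV fun z hz => ?_
    obtain ⟨m, d, k, hm, hd, hle, -, he⟩ := hk z (hVU hz)
    refine le_trans ?_ (add_le_add (stalk_le_dim_open W (f z) (hW ⟨z, hz, rfl⟩)) le_rfl)
    rw [hm, hd]
    exact_mod_cast (by omega : m ≤ d + e)
  have hlow : ∀ V : X.Opens, (V : Set X) ⊆ U → (V : Set X).Nonempty →
      topologicalKrullDim ↥(f '' (V : Set X)) + (e : ℕ) ≤ topologicalKrullDim ↥(V : Set X) := fun V hVU hV => by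
    refine add_le_of ⟨f '' (V : Set X), f.isOpenMap _ V.isOpen⟩ (hV.image _) e _ ?_
    rintro _ ⟨v, hv, rfl⟩
    obtain ⟨a, ha, hac⟩ := nonempty_inter_closedPoints (X := ↥(f.fiber (f v))) (Z := f.fiberι (f v) ⁻¹' V)
      ⟨f.asFiber v, by show f.fiberι _ (f.asFiber v) ∈ V; rw [Scheme.Hom.fiberι_asFiber]; exact hv⟩
      (V.isOpen.preimage (f.fiberι _).continuous).isLocallyClosed
    let z := f.fiberι (f v) a
    have hfz : f z = f v := (f.range_fiberι (f v)).subset ⟨a, rfl⟩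
    have hT : FibreTrdeg.T f z = 0 := DimMore.T_eq_zero f z fun z' hz' hsp => by
      obtain ⟨b, rfl⟩ : z' ∈ Set.range (f.fiberι (f v)) := by rw [f.range_fiberι]; exact hz'.trans hfz
      exact congrArg _ (((mem_closedPoints_iff.mp hac).closure_eq).le
        ((f.fiberι (f v)).isEmbedding.isInducing.specializes_iff.mp hsp).mem_closure)
    obtain ⟨m, d, k, hm, hd, -, hge, he⟩ := hk z (hVU ha)
    refine le_trans ?_ (stalk_le_dim_open V z ha)
    rw [← hfz, hd, hm]
    exact_mod_cast (by omega : d + e ≤ m)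
  refine le_antisymm ?_ (le_iInf fun O => ?_)
  · obtain ⟨W, hyW, hW⟩ := TopDim.Basic.exists_localDim (f x)
    rw [← hW]
    let V : X.Opens := f ⁻¹ᵁ W ⊓ U
    refine (TopDim.Basic.localDim_le x V ⟨hyW, hxU⟩).trans (hup V (fun _ h => h.2) ⟨x, hyW, hxU⟩ W ?_)
    rintro _ ⟨z, hz, rfl⟩
    exact hz.1
  · let V : X.Opens := O.1 ⊓ U
    have hle : topologicalKrullDim ↥(V : Set X) ≤ topologicalKrullDim ↥(O.1 : Set X) :=
      Equidim.dim_le_of_range (φ := fun w : ↥(V : Set X) => w.1) IsInducing.subtypeVal IsEmbedding.subtypeVal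
        fun w => ⟨⟨w.1, w.2.1⟩, rfl⟩
    refine le_trans ?_ ((hlow V (fun _ h => h.2) ⟨x, O.2, hxU⟩).trans hle)
    exact add_le_add (TopDim.Basic.localDim_le (f x) ⟨f '' (V : Set X), f.isOpenMap _ V.isOpen⟩ ⟨x, ⟨O.2, hxU⟩, rfl⟩) le_rfl

end Groth.Agent.HensPair.RelDim
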