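import Groth.Agent.HensPair.RelDimStalk

/-!
Codimensions of points on etale charts, without finiteness hypotheses.
-/

set_option autoImplicit false
set_option synthInstance.maxHeartbeats 200000

noncomputable section

open CategoryTheory CategoryTheory.Limits AlgebraicGeometry TopologicalSpace Topology

namespace Groth.Agent.HensPair.RelDimCodim

universe u

set_option backward.isDefEq.respectTransparency false

open AlgSp AlgSpTopo

theorem le_of_lqf {U V : Scheme.{u}} (e : U ⟶ V) [LocallyQuasiFinite e] (z : U) :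
    ringKrullDim (U.presheaf.stalk z) ≤ ringKrullDim (V.presheaf.stalk (e z)) := by
  rw [ringKrullDim_stalk_eq_coheight, ringKrullDim_stalk_eq_coheight, WithBot.coe_le_coe]
  refine Order.coheight_le_coheight_apply_of_strictMono e (fun a b hab => lt_iff_le_not_ge.mpr
    ⟨(show b ⤳ a from hab.le).map e.continuous, fun h => ?_⟩) z
  have he : e b = e a := (((show b ⤳ a from hab.le).map e.continuous).antisymm h).eq
  exact hab.ne (AlgSpTopo.ThickScheme.eq_of_specializes_of_discrete (e.isDiscrete_preimage_singleton (e a)) he rfl hab.le).symm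

theorem ge_of_flat {U V : Scheme.{u}} (e : U ⟶ V) [Flat e] (z : U) :
    ringKrullDim (V.presheaf.stalk (e z)) ≤ ringKrullDim (U.presheaf.stalk z) := by
  rw [ringKrullDim_stalk_eq_coheight, ringKrullDim_stalk_eq_coheight, WithBot.coe_le_coe]
  refine Order.coheight_le fun l hl => ?_
  have hgd := FibDimComp.gd_of_flat e z (Flat.stalkMap e z)
  have lift : ∀ n, ∀ hn : n ≤ l.length, ∃ p : LTSeries U, p.head = z ∧ e p.last = l ⟨n, by omega⟩ ∧ p.length = n := by
    intro n
    induction n with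
    | zero => exact fun _ => ⟨RelSeries.singleton _ z, rfl, hl.symm, rfl⟩
    | succ n ih =>
      intro hn
      obtain ⟨p, hp0, hp1, hlen⟩ := ih (by omega)
      have hstep : l ⟨n, by omega⟩ < l ⟨n + 1, by omega⟩ := l.strictMono (Fin.mk_lt_mk.mpr (Nat.lt_succ_self n))
      have hpz : p.last ⤳ z := hp0 ▸ (p.monotone (Fin.zero_le _) : p 0 ≤ p.last)
      obtain ⟨ξ, hξ, hξ'⟩ := hgd p.last hpz (l ⟨n + 1, by omega⟩) (by rw [hp1]; exact hstep.le)
      have hlt : p.last < ξ := lt_iff_le_not_ge.mpr ⟨hξ, fun h => hstep.not_ge (by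
        rw [← hp1, ← hξ']; exact (show p.last ⤳ ξ from h).map e.continuous)⟩
      exact ⟨p.snoc ξ hlt, (RelSeries.head_snoc _ _ _).trans hp0,
        (congrArg e (RelSeries.last_snoc _ _ _)).trans hξ', by rw [RelSeries.snoc_length, hlen]⟩
  obtain ⟨p, hp0, -, hlen⟩ := lift l.length le_rfl
  rw [← hlen]
  exact Order.length_le_coheight hp0.ge

theorem dim_etale {U V : Scheme.{u}} (e : U ⟶ V) [Etale e] (z : U) :
    ringKrullDim (U.presheaf.stalk z) = ringKrullDim (V.presheaf.stalk (e z)) := by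
  haveI : LocallyQuasiFinite e := etaleLocal_locallyQuasiFinite.of_etale e ‹_›
  exact le_antisymm (le_of_lqf e z) (ge_of_flat e z)

variable {S : Scheme.{u}} {X : Sp S}

theorem chart_indep {U U₁ : Over S} {a : (yon S).obj U ⟶ X} (ha : RepWith @Etale a) {a₁ : (yon S).obj U₁ ⟶ X}
    (ha₁ : RepWith @Etale a₁) (u : U.left) (u₁ : U₁.left) (hx : Points.ofPt a₁ u₁ = Points.ofPt a u) :
    ringKrullDim ↥(U.left.presheaf.stalk u) = ringKrullDim ↥(U₁.left.presheaf.stalk u₁) := by
  obtain ⟨E, w, e, sq, he⟩ := exists_square ha a₁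
  obtain ⟨w, rfl⟩ := (yon S).map_surjective w
  haveI : Etale w.left := ha₁.property _ _ _ sq.flip
  haveI : Etale e.left := he
  obtain ⟨z, hz1, hz2⟩ := points_surj sq (Points.ofScheme U u) (Points.ofScheme U₁ u₁) (by
    rw [← Points.ofPt_eq_map_ofScheme, ← Points.ofPt_eq_map_ofScheme]; exact hx.symm)
  obtain ⟨z, rfl⟩ := ofScheme_surjective E z
  rw [map_ofScheme] at hz1 hz2
  have hz1 := (Points.schemeEquiv U).injective hz1
  have hz2 := (Points.schemeEquiv U₁).injective hz2
  rw [← hz1, ← hz2, ← dim_etale w.left z, dim_etale e.left z]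

theorem hasAt_iff {U : Over S} {a : (yon S).obj U ⟶ X} (ha : RepWith @Etale a) (u : U.left) (d : WithBot ℕ∞) :
    HasAt (fun U u => ringKrullDim ↥(U.presheaf.stalk u) = d) X (Points.ofPt a u) ↔ ringKrullDim ↥(U.left.presheaf.stalk u) = d := by
  refine ⟨?_, fun h => ⟨U, a, u, ha, rfl, h⟩⟩
  rintro ⟨U₁, a₁, u₁, ha₁, hx, h⟩
  rw [chart_indep ha ha₁ u u₁ hx]
  exact h

end Groth.Agent.HensPair.RelDimCodim
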