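import Groth.Agent.FibreDepth.DenseLocus
import Groth.Agent.HensPair.DimBC
import Groth.Agent.Equidim.Upper

/-!
The loci of bounded fibre dimension are retrocompact.
-/

set_option autoImplicit false
set_option synthInstance.maxHeartbeats 200000

noncomputable section

open CategoryTheory AlgebraicGeometry TopologicalSpace Topology

namespace Groth.Agent.HensPair.RelDimRetro

universe u

set_option backward.isDefEq.respectTransparency false

variable {X S : Scheme.{u}} (f : X ⟶ S)

theorem gt_iff [LocallyOfFiniteType f] (n : ℕ) (x : X) :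
    x ∈ FibreDepth.Fibre.E f Set.univ (n + 1) ↔ ¬ FlatMor.fibreDimAt f x ≤ (n : ℕ) := by
  have below : ∀ a : X, a ⤳ x → FlatMor.fibreDimAt f a ≤ FlatMor.fibreDimAt f x := fun a ha =>
    ha.mem_open (Equidim.isOpen_fibreDimAt_le f _) (le_refl (FlatMor.fibreDimAt f x))
  constructor
  · rintro ⟨z, -, hzf, hzx, hd⟩ hle
    have h1 : FibreDepth.Fibre.cd f z ≤ FlatMor.fibreDimAt f x := by
      obtain ⟨c, hc, hcmax⟩ := Equidim.AffineCrit.exists_maximal_above (f.asFiber z)
      refine le_trans ?_ ((DimBC.dim_component_eq f _ c hcmax).le.trans (below _ ?_))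
      · exact (Topology.IsEmbedding.inclusion (closure_minimal (Set.singleton_subset_iff.mpr hc.mem_closure)
          isClosed_closure)).isInducing.topologicalKrullDim_le
      · refine ((hc.map (f.fiberι _).continuous).trans (specializes_of_eq ?_)).trans hzx
        exact f.fiberι_asFiber z
    have h2 : n + 1 ≤ n := by exact_mod_cast (hd.trans (h1.trans hle))
    omega
  · intro hgt
    obtain ⟨g, hg, hmax, hle⟩ := FibreTrdeg.exists_maximal_dim f x
    have hfz : f (f.fiberι (f x) g) = f x := (f.range_fiberι _).subset ⟨g, rfl⟩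
    refine ⟨f.fiberι (f x) g, trivial, hfz, (hg.map (f.fiberι _).continuous).trans (specializes_of_eq (f.fiberι_asFiber x)), ?_⟩
    have e : FibreDepth.Fibre.cd f (f.fiberι (f x) g) = topologicalKrullDim ↥(closure ({g} : Set ↥(f.fiber (f x)))) := by
      have h := FibreDepth.Fibre.fiber_iff f (P := fun y w => topologicalKrullDim ↥(closure ({w} : Set ↥(f.fiber y))) =
        topologicalKrullDim ↥(closure ({g} : Set ↥(f.fiber (f x))))) (f x) g
      exact h.mp rfl
    rw [e, DimBC.dim_component_eq f _ g hmax]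
    refine le_trans ?_ hle
    obtain ⟨m, hm⟩ := ChevalleyTfae.exists_nat_eq f x
    rw [hm] at hgt ⊢
    have : ¬ m ≤ n := fun h' => hgt (by exact_mod_cast h')
    exact_mod_cast (by omega : n + 1 ≤ m)

theorem isRetrocompact_le [LocallyOfFinitePresentation f] (n : ℕ) :
    IsRetrocompact {x : X | FlatMor.fibreDimAt f x ≤ (n : ℕ)} := by
  have hlc : IsLocallyConstructible {x : X | FlatMor.fibreDimAt f x ≤ (n : ℕ)} :=
    (congrArg IsLocallyConstructible (Set.ext fun x => by
      rw [Set.mem_compl_iff, gt_iff, not_not]; rfl)).mp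
      (FibreDepth.ConstrStatements.lc_compl (FibreDepth.DenseLocus.lc_E f FibreDepth.DenseLocus.lc_univ (n + 1)))
  intro V hVc hV
  have hO : IsOpen {x : X | FlatMor.fibreDimAt f x ≤ (n : ℕ)} := Equidim.isOpen_fibreDimAt_le f _
  -- cover by affines
  have cover : ∀ v : ↥V, ∃ A : X.Opens, IsAffineOpen A ∧ v.1 ∈ A ∧ (A : Set X) ⊆ V := fun v => by
    obtain ⟨A, hA, hvA, hAV⟩ := exists_isAffineOpen_mem_and_subset (X := X) (U := ⟨V, hV⟩) (x := v.1) v.2
    exact ⟨A, hA, hvA, hAV⟩
  choose A hA hvA hAV using cover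
  obtain ⟨t, ht⟩ := hVc.elim_finite_subcover (fun v => (A v : Set X)) (fun v => (A v).2)
    fun v hv => Set.mem_iUnion.mpr ⟨⟨v, hv⟩, hvA _⟩
  rw [show {x : X | FlatMor.fibreDimAt f x ≤ (n : ℕ)} ∩ V =
      ⋃ v ∈ t, {x : X | FlatMor.fibreDimAt f x ≤ (n : ℕ)} ∩ (A v : Set X) from ?_]
  · refine t.finite_toSet.isCompact_biUnion fun v _ => ?_
    have hc : IsLocallyConstructible (((hA v).fromSpec ⁻¹' {x : X | FlatMor.fibreDimAt f x ≤ (n : ℕ)}) : Set (PrimeSpectrum Γ(X, A v))) :=
      hlc.preimage_of_isOpenEmbedding (hA v).fromSpec.isOpenEmbedding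
    obtain ⟨T, _, φ, hφ⟩ := PrimeSpectrum.exists_range_eq_of_isConstructible hc.isConstructible
    have h1 := (isCompact_range (PrimeSpectrum.continuous_comap φ)).image (hA v).fromSpec.continuous
    rw [hφ] at h1
    rwa [Set.image_preimage_eq_inter_range, (hA v).range_fromSpec] at h1
  · ext x
    simp only [Set.mem_inter_iff, Set.mem_iUnion, exists_prop]
    constructor
    · rintro ⟨hx, hxV⟩
      obtain ⟨v, hv, hxv⟩ := Set.mem_iUnion₂.mp (ht hxV)
      exact ⟨v, hv, hx, hxv⟩
    · rintro ⟨v, -, hx, hxv⟩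
      exact ⟨hx, hAV v hxv⟩

end Groth.Agent.HensPair.RelDimRetro
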