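import Groth.Agent.HensPair.DimBC
import Mathlib.AlgebraicGeometry.Morphisms.Smooth
import Mathlib.AlgebraicGeometry.Morphisms.Etale
import Mathlib.RingTheory.RingHom.StandardSmooth
import Mathlib.RingTheory.Etale.QuasiFinite

/-!
Fibre dimensions of smooth morphisms.
-/

set_option autoImplicit false
set_option synthInstance.maxHeartbeats 200000

noncomputable section

open CategoryTheory AlgebraicGeometry TopologicalSpace Topology Limits

namespace Groth.Agent.HensPair.SmoothDim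

universe u

set_option backward.isDefEq.respectTransparency false

variable {X Y : Scheme.{u}} (f : X ⟶ Y) [LocallyOfFiniteType f]

theorem of_etale {U : Y.Opens} (hU : IsAffineOpen U) {V : X.Opens} (hV : IsAffineOpen V) (e : V ≤ f ⁻¹ᵁ U) {n : ℕ}
    (g : MvPolynomial (Fin n) Γ(Y, U) →+* Γ(X, V)) (hgC : g.comp MvPolynomial.C = (f.appLE U V e).hom) (hg : g.Etale)
    (x : X) (hx : x ∈ V) : FlatMor.fibreDimAt f x = (n : ℕ) := by
  let ψ : MvPolynomial (ULift.{u} (Fin n)) Γ(Y, U) →+* Γ(X, V) :=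
    g.comp (MvPolynomial.renameEquiv Γ(Y, U) Equiv.ulift).toRingEquiv.toRingHom
  have hψ : ψ.Etale := RingHom.Etale.respectsIso.2 g _ hg
  have hψC : ψ.comp MvPolynomial.C = (f.appLE U V e).hom := by
    rw [← hgC]
    refine RingHom.ext fun a => congrArg g ?_
    exact MvPolynomial.rename_C _ a
  haveI : Etale (Spec.map (CommRingCat.ofHom ψ)) := (HasRingHomProperty.Spec_iff (P := @Etale)).mpr hψ
  haveI : LocallyQuasiFinite (Spec.map (CommRingCat.ofHom ψ)) := (HasRingHomProperty.Spec_iff (P := @LocallyQuasiFinite)).mpr (by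
    letI := ψ.toAlgebra
    haveI : Algebra.Etale (MvPolynomial (ULift.{u} (Fin n)) Γ(Y, U)) Γ(X, V) := hψ
    show Algebra.QuasiFinite _ _
    infer_instance)
  haveI : IsOpenImmersion (AffineSpace.map (ULift.{u} (Fin n)) hU.fromSpec) :=
    MorphismProperty.of_isPullback (AffineSpace.isPullback_map hU.fromSpec).flip inferInstance
  let G : (V : Scheme.{u}) ⟶ 𝔸(ULift.{u} (Fin n); Y) :=
    hV.isoSpec.hom ≫ Spec.map (CommRingCat.ofHom ψ) ≫
      (AffineSpace.SpecIso (ULift.{u} (Fin n)) Γ(Y, U)).inv ≫ AffineSpace.map _ hU.fromSpec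
  have hGq : G ≫ (𝔸(ULift.{u} (Fin n); Y) ↘ Y) = V.ι ≫ f := by
    simp only [G, Category.assoc, AffineSpace.map_over, AffineSpace.SpecIso_inv_over_assoc]
    rw [← cancel_epi hV.isoSpec.inv, Iso.inv_hom_id_assoc, ← Category.assoc, ← Spec.map_comp, ← CommRingCat.ofHom_comp,
      hψC, IsAffineOpen.isoSpec_inv_ι_assoc, ← IsAffineOpen.SpecMap_appLE_fromSpec f hU hV e]
    rfl
  haveI : Etale G := inferInstance
  exact RelDim.fibreDimAt_const_of_flat_param f V G hGq x hx

theorem fibreDimAt_eq (n : ℕ) [SmoothOfRelativeDimension n f] (x : X) : FlatMor.fibreDimAt f x = (n : ℕ) := by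
  obtain ⟨U, hU, V, hV, hx, e, hf⟩ :=
    SmoothOfRelativeDimension.exists_isStandardSmoothOfRelativeDimension (n := n) (f := f) x
  obtain ⟨g, hgC, hg⟩ := hf.exists_etale_mvPolynomial
  exact of_etale f hU hV e g hgC hg x hx

theorem exists_const_nhd [Smooth f] (x : X) :
    ∃ (n : ℕ) (V : X.Opens), x ∈ V ∧ ∀ z ∈ V, FlatMor.fibreDimAt f z = (n : ℕ) := by
  obtain ⟨U, hU, V, hV, hx, e, hf⟩ := Smooth.exists_isStandardSmooth f x
  obtain ⟨n, g, hgC, hg⟩ := hf.exists_etale_mvPolynomial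
  exact ⟨n, V, hx, fun z hz => of_etale f hU hV e g hgC hg z hz⟩

end Groth.Agent.HensPair.SmoothDim
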