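import Groth.Agent.AlgSpTopo.ThickChart
import Groth.Agent.AlgSpTopo.FibreFlat
import Groth.Agent.HensPair.FieldAdd
import Groth.Agent.HensPair.FlatDense
import Groth.Agent.HensPair.SmoothDim
import Groth.Agent.HensPair.CatFormula
import Groth.Agent.HensPair.JacobsonDim
import Groth.Agent.AlgSpTopo.DescProps
import Groth.Agent.S0116
import Groth.Prelude.Def_Dual3

/-!
Relative dimension of morphisms of algebraic spaces on charts.
-/

set_option autoImplicit false
set_option synthInstance.maxHeartbeats 200000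

noncomputable section

open CategoryTheory CategoryTheory.Limits AlgebraicGeometry TopologicalSpace Topology

namespace Groth.Agent.HensPair.RelDimSp

universe u

set_option backward.isDefEq.respectTransparency false

open AlgSp AlgSpTopo

variable {S : Scheme.{u}} {X Y : Sp S}

theorem exists_chart (hX : IsAlgSpace X) (hY : IsAlgSpace Y) (f : X ⟶ Y) :
    ∃ (U V : Over S) (a : (yon S).obj U ⟶ X) (b : (yon S).obj V ⟶ Y) (k : U ⟶ V),
      RepWith @Etale a ∧ RepWith @Surjective a ∧ RepWith @Etale b ∧ RepWith @Surjective b ∧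
        a ≫ f = (yon S).map k ≫ b := by
  obtain ⟨V, b, hb, hbs⟩ := hY.atlas
  obtain ⟨M, T, m, e, a, -, -, ha, has, comm⟩ := exists_atlas_chart hX hY f (locP_top f) hb hbs
  exact ⟨M, V, a, b, m ≫ e, ha, has, hb, hbs, comm⟩

/-- a property of the relative dimension may be read on any chart -/
theorem hasAtMor_iff {f : X ⟶ Y} {U V : Over S} {a : (yon S).obj U ⟶ X} {b : (yon S).obj V ⟶ Y} {k : U ⟶ V}
    (ha : RepWith @Etale a) (hb : RepWith @Etale b) (comm : a ≫ f = (yon S).map k ≫ b) (P : WithBot ℕ∞ → Prop)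
    (u : U.left) :
    HasAtMor (fun _ _ h u => P (FlatMor.fibreDimAt h u)) f (Points.ofPt a u) ↔ P (FlatMor.fibreDimAt k.left u) := by
  refine ⟨?_, fun h => ⟨U, V, a, b, k, u, ha, hb, comm, rfl, h⟩⟩
  rintro ⟨U₁, V₁, a₁, b₁, k₁, u₁, ha₁, hb₁, comm₁, hx, h⟩
  rwa [fibreDimAt_chart_indep ha hb comm ha₁ hb₁ comm₁ u u₁ hx]

theorem fibreDimAt_eq_zero {U V : Scheme.{u}} (f : U ⟶ V) [Etale f] (x : U) : FlatMor.fibreDimAt f x = 0 := by
  haveI : SmoothOfRelativeDimension 0 f := inferInstance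
  simpa using SmoothDim.fibreDimAt_eq f 0 x

theorem T_eq_zero_of_etale {U V : Scheme.{u}} (f : U ⟶ V) [Etale f] (x : U) : FibreTrdeg.T f x = 0 := by
  have h := FibreTrdeg.T_le_fibreDimAt f x
  rw [fibreDimAt_eq_zero] at h
  have : FibreTrdeg.T f x ≤ 0 := by exact_mod_cast h
  omega

theorem localDim_etale {U V : Scheme.{u}} (f : U ⟶ V) [Etale f] [IsLocallyNoetherian V] (x : U) :
    FlatMor.localDim ↑U x = FlatMor.localDim ↑V (f x) := by
  haveI : IsLocallyNoetherian U := LocallyOfFiniteType.isLocallyNoetherian f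
  have h := RelDim.localDim_add f x ⊤ trivial 0 fun z _ => by simpa using fibreDimAt_eq_zero f z
  simpa using h

theorem isLocallyNoetherian_chart (hN : IsLocNoethSp X) {U : Over S} {a : (yon S).obj U ⟶ X} (ha : RepWith @Etale a) :
    IsLocallyNoetherian U.left := by
  refine AlgSpTopo.prop_of_chart (P := fun U => IsLocallyNoetherian U) ?_ ?_ hN a ha
  · intro A B h hh hB
    haveI := hh; haveI := hB
    exact LocallyOfFiniteType.isLocallyNoetherian h
  · intro A B h hh hhs hA
    haveI := hh; haveI := hhs; haveI := hA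
    exact Groth.Agent.S0116.result h

/-- the local dimension may be read on any chart -/
theorem hasAt_localDim_iff (hN : IsLocNoethSp X) {U : Over S} {a : (yon S).obj U ⟶ X} (ha : RepWith @Etale a)
    (u : U.left) (d : WithBot ℕ∞) :
    HasAt (fun U u => FlatMor.localDim ↥U u = d) X (Points.ofPt a u) ↔ FlatMor.localDim ↥U.left u = d := by
  refine ⟨?_, fun h => ⟨U, a, u, ha, rfl, h⟩⟩
  rintro ⟨U₁, a₁, u₁, ha₁, hx, h⟩
  obtain ⟨E, w, e, sq, he⟩ := exists_square ha a₁
  obtain ⟨w, rfl⟩ := (yon S).map_surjective w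
  haveI : Etale w.left := ha₁.property _ _ _ sq.flip
  haveI : Etale e.left := he
  obtain ⟨z, hz1, hz2⟩ := points_surj sq (Points.ofScheme U u) (Points.ofScheme U₁ u₁) (by
    rw [← Points.ofPt_eq_map_ofScheme, ← Points.ofPt_eq_map_ofScheme]; exact hx.symm)
  obtain ⟨z, rfl⟩ := ofScheme_surjective E z
  rw [map_ofScheme] at hz1 hz2
  have hz1 := (Points.schemeEquiv U).injective hz1
  have hz2 := (Points.schemeEquiv U₁).injective hz2
  haveI := isLocallyNoetherian_chart hN ha
  haveI := isLocallyNoetherian_chart hN ha₁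
  rw [← hz1, ← localDim_etale w.left z, localDim_etale e.left z, hz2]
  exact h

/-- transcendence degrees may be read on any chart -/
theorem T_chart_indep {f : X ⟶ Y} {U V U₁ V₁ : Over S} {a : (yon S).obj U ⟶ X} {b : (yon S).obj V ⟶ Y} {k : U ⟶ V}
    (ha : RepWith @Etale a) (hb : RepWith @Etale b) (comm : a ≫ f = (yon S).map k ≫ b) [LocallyOfFiniteType k.left]
    {a₁ : (yon S).obj U₁ ⟶ X} {b₁ : (yon S).obj V₁ ⟶ Y} {k₁ : U₁ ⟶ V₁} (ha₁ : RepWith @Etale a₁)
    (hb₁ : RepWith @Etale b₁) (comm₁ : a₁ ≫ f = (yon S).map k₁ ≫ b₁) [LocallyOfFiniteType k₁.left]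
    (u : U.left) (u₁ : U₁.left) (hx : Points.ofPt a₁ u₁ = Points.ofPt a u) :
    FibreTrdeg.T k.left u = FibreTrdeg.T k₁.left u₁ := by
  obtain ⟨U'', w, e, squ, he⟩ := exists_square ha a₁
  obtain ⟨w, rfl⟩ := (yon S).map_surjective w
  haveI : Etale w.left := ha₁.property _ _ _ squ.flip
  obtain ⟨V'', vb, v', sqv, hv'⟩ := exists_square hb b₁
  obtain ⟨vb, rfl⟩ := (yon S).map_surjective vb
  haveI : Etale vb.left := hb₁.property _ _ _ sqv.flip
  obtain ⟨m, hm1, hm2⟩ := sqv.exists_lift ((yon S).map (w ≫ k)) ((yon S).map (e ≫ k₁)) (by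
    rw [Functor.map_comp, Category.assoc, ← comm, ← Category.assoc, squ.w, Category.assoc, comm₁,
      Functor.map_comp, Category.assoc])
  obtain ⟨m, rfl⟩ := (yon S).map_surjective m
  have e1 : m.left ≫ vb.left = w.left ≫ k.left :=
    congrArg CommaMorphism.left ((yon S).map_injective (X := U'') (by simpa using hm1) : m ≫ vb = w ≫ k)
  have e2 : m.left ≫ v'.left = e.left ≫ k₁.left :=
    congrArg CommaMorphism.left ((yon S).map_injective (X := U'') (by simpa using hm2) : m ≫ v' = e ≫ k₁)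
  obtain ⟨z, hz1, hz2⟩ := points_surj squ (Points.ofScheme U u) (Points.ofScheme U₁ u₁) (by
    rw [← Points.ofPt_eq_map_ofScheme, ← Points.ofPt_eq_map_ofScheme]; exact hx.symm)
  obtain ⟨z, rfl⟩ := ofScheme_surjective U'' z
  rw [map_ofScheme] at hz1 hz2
  have hz1 := (Points.schemeEquiv U).injective hz1
  have hz2 := (Points.schemeEquiv U₁).injective hz2
  haveI : Etale e.left := he
  haveI : Etale v'.left := hv'
  haveI : LocallyOfFiniteType (m.left ≫ vb.left) := by rw [e1]; infer_instance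
  haveI : LocallyOfFiniteType m.left := locallyOfFiniteType_of_comp m.left vb.left
  have h1 : FibreTrdeg.T (m.left ≫ vb.left) z = FibreTrdeg.T (w.left ≫ k.left) z := by congr 1
  have h2 : FibreTrdeg.T (m.left ≫ v'.left) z = FibreTrdeg.T (e.left ≫ k₁.left) z := by congr 1
  rw [JacobsonDim.T_add, JacobsonDim.T_add, T_eq_zero_of_etale vb.left, T_eq_zero_of_etale w.left] at h1
  rw [JacobsonDim.T_add, JacobsonDim.T_add, T_eq_zero_of_etale v'.left, T_eq_zero_of_etale e.left] at h2
  rw [← hz1, ← hz2]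
  omega

theorem resTrdeg_eq {U V : Scheme.{u}} (f : U ⟶ V) [LocallyOfFiniteType f] (x : U) :
    ((Cardinal.toENat (Dual3.resTrdeg f x) : ℕ∞) : WithBot ℕ∞) = ((FibreTrdeg.T f x : ℕ) : WithBot ℕ∞) := by
  rw [show Dual3.resTrdeg f x = (FibreTrdeg.T f x : Cardinal.{u}) from FibreTrdeg.T_spec f x, map_natCast]
  rfl

end Groth.Agent.HensPair.RelDimSp
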