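import Groth.Agent.HensPair.RelDimTr
import Groth.Agent.HensPair.FibDimComp

/-!
Dimensions of local rings on etale charts of algebraic spaces.
-/

set_option autoImplicit false
set_option synthInstance.maxHeartbeats 200000

noncomputable section

open CategoryTheory CategoryTheory.Limits AlgebraicGeometry TopologicalSpace Topology

namespace Groth.Agent.HensPair.RelDimStalk

universe u

set_option backward.isDefEq.respectTransparency false

open AlgSp AlgSpTopo

theorem dim_stalk_etale {U V : Scheme.{u}} (e : U ⟶ V) [Etale e] [IsLocallyNoetherian V] (z : U) :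
    ringKrullDim (U.presheaf.stalk z) = ringKrullDim (V.presheaf.stalk (e z)) := by
  obtain ⟨m, d, k, hm, hd, hk, hle, he⟩ := CatFormula.dims e z
  rw [RelDimSp.fibreDimAt_eq_zero] at he
  have he' : k + FibreTrdeg.T e z = 0 := by exact_mod_cast he.symm
  refine le_antisymm ?_ ?_
  · rw [hm, hd]; exact_mod_cast (by omega : m ≤ d)
  · rw [ringKrullDim_stalk_eq_coheight, ringKrullDim_stalk_eq_coheight, WithBot.coe_le_coe]
    refine Order.coheight_le fun l hl => ?_
    have hgd := FibDimComp.gd_of_flat e z (Flat.stalkMap e z)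
    have lift : ∀ n, ∀ hn : n ≤ l.length, ∃ p : LTSeries U, p.head = z ∧ e p.last = l ⟨n, by omega⟩ ∧ p.length = n := by
      intro n
      induction n with
      | zero => exact fun _ => ⟨RelSeries.singleton _ z, rfl, hl.symm, rfl⟩
      | succ n ih =>
        intro hn
        obtain ⟨p, hp0, hp1, hlen⟩ := ih (by omega)
        have hstep : l ⟨n, by omega⟩ < l ⟨n + 1, by omega⟩ := l.strictMono (Fin.mk_lt_mk.mpr (Nat.lt_succ_self n))
        have hpz : p.last ⤳ z := hp0 ▸ (p.monotone (Fin.zero_le _) : p 0 ≤ p.last)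
        obtain ⟨ξ, hξ, hξ'⟩ := hgd p.last hpz (l ⟨n + 1, by omega⟩) (by rw [hp1]; exact hstep.le)
        have hlt : p.last < ξ := lt_iff_le_not_ge.mpr ⟨hξ, fun h => hstep.not_ge (by
          rw [← hp1, ← hξ']; exact (show p.last ⤳ ξ from h).map e.continuous)⟩
        exact ⟨p.snoc ξ hlt, (RelSeries.head_snoc _ _ _).trans hp0,
          (congrArg e (RelSeries.last_snoc _ _ _)).trans hξ', by rw [RelSeries.snoc_length, hlen]⟩
    obtain ⟨p, hp0, -, hlen⟩ := lift l.length le_rfl
    rw [← hlen]
    exact Order.length_le_coheight hp0.ge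

theorem dim_stalk_eq_zero_iff {U : Scheme.{u}} (ξ : U) :
    ringKrullDim (U.presheaf.stalk ξ) = 0 ↔ closure ({ξ} : Set U) ∈ irreducibleComponents ↥U := by
  rw [ringKrullDim_stalk_eq_coheight]
  have h0 : ((Order.coheight ξ : ℕ∞) : WithBot ℕ∞) = 0 ↔ IsMax ξ := by
    rw [← Order.coheight_eq_zero]; exact WithBot.coe_eq_coe
  rw [h0]
  constructor
  · intro hmax
    exact Equidim.closure_mem_irreducibleComponents ξ fun z hz => ((hz.antisymm (hmax hz)).eq)
  · intro hc z hz
    obtain ⟨g, hg, hgmax⟩ := Equidim.AffineCrit.exists_maximal_above z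
    have h1 : closure ({ξ} : Set U) ⊆ closure {g} := closure_minimal (Set.singleton_subset_iff.mpr (hg.trans hz).mem_closure) isClosed_closure
    have h2 := hc.2 isIrreducible_singleton.closure h1 (subset_closure rfl)
    exact (specializes_iff_mem_closure.mpr h2).trans hg

variable {S : Scheme.{u}} {X : Sp S}

/-- dimensions of local rings are read on any chart -/
theorem hasAt_iff (hN : IsLocNoethSp X) {U : Over S} {a : (yon S).obj U ⟶ X} (ha : RepWith @Etale a)
    (u : U.left) (d : WithBot ℕ∞) :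
    HasAt (fun U u => ringKrullDim ↥(U.presheaf.stalk u) = d) X (Points.ofPt a u) ↔ ringKrullDim ↥(U.left.presheaf.stalk u) = d := by
  refine ⟨?_, fun h => ⟨U, a, u, ha, rfl, h⟩⟩
  rintro ⟨U₁, a₁, u₁, ha₁, hx, h⟩
  obtain ⟨E, w, e, sq, he⟩ := exists_square ha a₁
  obtain ⟨w, rfl⟩ := (yon S).map_surjective w
  haveI : Etale w.left := ha₁.property _ _ _ sq.flip
  haveI : Etale e.left := he
  obtain ⟨z, hz1, hz2⟩ := points_surj sq (Points.ofScheme U u) (Points.ofScheme U₁ u₁) (by
    rw [← Points.ofPt_eq_map_ofScheme, ← Points.ofPt_eq_map_ofScheme]; exact hx.symm)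
  obtain ⟨z, rfl⟩ := ofScheme_surjective E z
  rw [map_ofScheme] at hz1 hz2
  have hz1 := (Points.schemeEquiv U).injective hz1
  have hz2 := (Points.schemeEquiv U₁).injective hz2
  haveI := RelDimSp.isLocallyNoetherian_chart hN ha
  haveI := RelDimSp.isLocallyNoetherian_chart hN ha₁
  rw [← hz1, ← dim_stalk_etale w.left z, dim_stalk_etale e.left z, hz2]
  exact h

end Groth.Agent.HensPair.RelDimStalk
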