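import Groth.Agent.HensPair.RelDimSp
import Groth.Agent.HensPair.DimMore

/-!
Transcendence degrees along morphisms of algebraic spaces, on charts.
-/

set_option autoImplicit false
set_option synthInstance.maxHeartbeats 200000

noncomputable section

open CategoryTheory CategoryTheory.Limits AlgebraicGeometry TopologicalSpace Topology

namespace Groth.Agent.HensPair.RelDimTr

universe u

set_option backward.isDefEq.respectTransparency false

open AlgSp AlgSpTopo

variable {S : Scheme.{u}} {X Y Z : Sp S}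

/-- transcendence degrees read on a chart -/
theorem hasAtMor_iff {f : X ⟶ Y} (hf : LocP @LocallyOfFiniteType f) {U V : Over S} {a : (yon S).obj U ⟶ X}
    {b : (yon S).obj V ⟶ Y} {k : U ⟶ V} (ha : RepWith @Etale a) (hb : RepWith @Etale b)
    (comm : a ≫ f = (yon S).map k ≫ b) (r : Cardinal.{u}) (u : U.left) :
    HasAtMor (fun _ _ h u => Dual3.resTrdeg h u = r) f (Points.ofPt a u) ↔ r = (FibreTrdeg.T k.left u : Cardinal.{u}) := by
  haveI : LocallyOfFiniteType k.left := hf a b k ha hb comm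
  refine ⟨?_, fun h => ⟨U, V, a, b, k, u, ha, hb, comm, rfl, (FibreTrdeg.T_spec k.left u).trans h.symm⟩⟩
  rintro ⟨U₁, V₁, a₁, b₁, k₁, u₁, ha₁, hb₁, comm₁, hx, h⟩
  haveI : LocallyOfFiniteType k₁.left := hf a₁ b₁ k₁ ha₁ hb₁ comm₁
  rw [RelDimSp.T_chart_indep ha hb comm ha₁ hb₁ comm₁ u u₁ hx, ← h]
  exact FibreTrdeg.T_spec k₁.left u₁

/-- compatible charts of two composable morphisms -/
theorem exists_charts (hX : IsAlgSpace X) (hY : IsAlgSpace Y) (hZ : IsAlgSpace Z) (f : X ⟶ Y) (g : Y ⟶ Z) :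
    ∃ (U V W : Over S) (a : (yon S).obj U ⟶ X) (b : (yon S).obj V ⟶ Y) (c : (yon S).obj W ⟶ Z) (k : U ⟶ V) (l : V ⟶ W),
      RepWith @Etale a ∧ RepWith @Surjective a ∧ RepWith @Etale b ∧ RepWith @Etale c ∧
        a ≫ f = (yon S).map k ≫ b ∧ b ≫ g = (yon S).map l ≫ c ∧ a ≫ (f ≫ g) = (yon S).map (k ≫ l) ≫ c := by
  obtain ⟨W, c, hc, hcs⟩ := hZ.atlas
  obtain ⟨V, T2, m2, e2, b, -, -, hb, hbs, comm2⟩ := exists_atlas_chart hY hZ g (locP_top g) hc hcs
  obtain ⟨U, T1, m1, e1, a, -, -, ha, has, comm1⟩ := exists_atlas_chart hX hY f (locP_top f) hb hbs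
  refine ⟨U, V, W, a, b, c, m1 ≫ e1, m2 ≫ e2, ha, has, hb, hc, comm1, comm2, ?_⟩
  rw [← Category.assoc, comm1, Category.assoc, comm2, ← Category.assoc, ← Functor.map_comp]

theorem T_eq_zero_of_lqf {U V : Scheme.{u}} (k : U ⟶ V) [LocallyQuasiFinite k] [LocallyOfFiniteType k] (u : U) :
    FibreTrdeg.T k u = 0 :=
  DimMore.T_eq_zero k u fun _ hz h =>
    (AlgSpTopo.ThickScheme.eq_of_specializes_of_discrete (k.isDiscrete_preimage_singleton (k u)) rfl hz h).symm

end Groth.Agent.HensPair.RelDimTr
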