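import Mathlib.RingTheory.Flat.EquationalCriterion
import Mathlib.RingTheory.Flat.Stability
import Mathlib.RingTheory.Unramified.Finite
import Mathlib.RingTheory.RingHom.Flat
import Mathlib.FieldTheory.IsAlgClosed.AlgebraicClosure

/-!
Agreement of elements of two algebras at a common field point.
-/

set_option autoImplicit false
set_option backward.isDefEq.respectTransparency false

noncomputable section

open TensorProduct

namespace Groth.Agent.HensPair.SheafAgree

universe u

variable {H K : Type u} [CommRing H] [Field K] [Algebra H K]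
variable {X Y Z : Type u} [CommRing X] [CommRing Y] [CommRing Z] [Algebra H X] [Algebra H Y] [Algebra H Z]

/-- the point of the tensor product given by two points -/
abbrev pair (a : X →ₐ[H] K) (b : Y →ₐ[H] K) : X ⊗[H] Y →ₐ[H] K :=
  Algebra.TensorProduct.lift a b fun _ _ => Commute.all _ _

/-- the difference of two elements in the tensor product -/
abbrev diff (s : X) (t : Y) : X ⊗[H] Y := s ⊗ₜ[H] 1 - 1 ⊗ₜ[H] t

/-- `s` and `t` agree in the localization of the tensor product at the point given by `a`, `b` -/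
def Agree (a : X →ₐ[H] K) (b : Y →ₐ[H] K) (s : X) (t : Y) : Prop :=
  ∃ r : X ⊗[H] Y, pair a b r ≠ 0 ∧ r * diff s t = 0

theorem descend_kill {P W : Type u} [CommRing P] [CommRing W] [Algebra P W] [Module.Flat P W]
    (f : W →+* K) {δ : P} {u : W} (hu : f u ≠ 0) (h : u * algebraMap P W δ = 0) :
    ∃ r : P, f (algebraMap P W r) ≠ 0 ∧ r * δ = 0 := by
  have hrel : δ • u = 0 := by rw [Algebra.smul_def, mul_comm]; exact h
  obtain ⟨n, a, y, hy, ha⟩ := Module.Flat.isTrivialRelation_of_sum_smul_eq_zero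
    (R := P) (M := W) (ι := Fin 1) (f := fun _ => δ) (x := fun _ => u) (by simpa using hrel)
  by_contra hne
  refine hu ?_
  rw [show u = _ from hy 0, map_sum]
  refine Finset.sum_eq_zero fun j _ => ?_
  have h0 : δ * a 0 j = 0 := by simpa using ha j
  have : f (algebraMap P W (a 0 j)) = 0 := by
    by_contra hh
    exact hne ⟨a 0 j, hh, by rw [mul_comm]; exact h0⟩
  rw [Algebra.smul_def, map_mul, this, zero_mul]

theorem symm {a : X →ₐ[H] K} {b : Y →ₐ[H] K} {s : X} {t : Y} (h : Agree a b s t) : Agree b a t s := by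
  obtain ⟨r, hr, hrd⟩ := h
  let e := Algebra.TensorProduct.comm H X Y
  have he : (pair b a).comp e.toAlgHom = pair a b := by
    apply Algebra.TensorProduct.ext <;> ext x <;> simp [e]
  refine ⟨e r, ?_, ?_⟩
  · rw [← he] at hr
    exact hr
  · have : diff t s = -e (diff s t) := by simp [e, diff]
    rw [this, mul_neg, ← map_mul, hrd, map_zero, neg_zero]

theorem trans [Module.Flat H Y] {a : X →ₐ[H] K} {b : Y →ₐ[H] K} {c : Z →ₐ[H] K} {s : X} {t : Y} {v : Z}
    (h₁ : Agree a b s t) (h₂ : Agree b c t v) : Agree a c s v := by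
  obtain ⟨r₁, hr₁, hd₁⟩ := h₁
  obtain ⟨r₂, hr₂, hd₂⟩ := h₂
  let j₁ : X ⊗[H] Y →ₐ[H] ((X ⊗[H] Z) ⊗[H] Y) := Algebra.TensorProduct.map Algebra.TensorProduct.includeLeft (AlgHom.id H Y)
  let j₂ : Y ⊗[H] Z →ₐ[H] ((X ⊗[H] Z) ⊗[H] Y) := (Algebra.TensorProduct.map Algebra.TensorProduct.includeRight (AlgHom.id H Y)).comp
    (Algebra.TensorProduct.comm H Y Z).toAlgHom
  let f : ((X ⊗[H] Z) ⊗[H] Y) →ₐ[H] K := pair (pair a c) b
  have hj₁ : ∀ x y, j₁ (x ⊗ₜ[H] y) = (x ⊗ₜ[H] (1 : Z)) ⊗ₜ[H] y := fun x y => rfl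
  have hj₂ : ∀ y z, j₂ (y ⊗ₜ[H] z) = ((1 : X) ⊗ₜ[H] z) ⊗ₜ[H] y := fun y z => rfl
  have hf₁ : f.comp j₁ = pair a b := by
    refine AlgHom.ext fun w => ?_
    induction w using TensorProduct.induction_on with
    | zero => simp
    | tmul x y => simp [f, pair, hj₁]
    | add w w' hw hw' => simp only [map_add, hw, hw']
  have hf₂ : f.comp j₂ = pair b c := by
    refine AlgHom.ext fun w => ?_
    induction w using TensorProduct.induction_on with
    | zero => simp
    | tmul y z => simp [f, pair, hj₂, mul_comm]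
    | add w w' hw hw' => simp only [map_add, hw, hw']
  have hu : f (j₁ r₁ * j₂ r₂) ≠ 0 := by
    rw [map_mul]
    exact mul_ne_zero (by rw [← AlgHom.comp_apply, hf₁]; exact hr₁)
      (by rw [← AlgHom.comp_apply, hf₂]; exact hr₂)
  have hz : (j₁ r₁ * j₂ r₂) * algebraMap (X ⊗[H] Z) ((X ⊗[H] Z) ⊗[H] Y) (diff s v) = 0 := by
    have e : algebraMap (X ⊗[H] Z) ((X ⊗[H] Z) ⊗[H] Y) (diff s v) = j₁ (diff s t) + j₂ (diff t v) := by
      simp [diff, hj₁, hj₂, Algebra.TensorProduct.algebraMap_apply, TensorProduct.sub_tmul, Algebra.TensorProduct.one_def]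
    rw [e, mul_add, show j₁ r₁ * j₂ r₂ * j₁ (diff s t) = j₂ r₂ * j₁ (r₁ * diff s t) by rw [map_mul]; ring,
      show j₁ r₁ * j₂ r₂ * j₂ (diff t v) = j₁ r₁ * j₂ (r₂ * diff t v) by rw [map_mul]; ring, hd₁, hd₂,
      map_zero, map_zero, mul_zero, mul_zero, add_zero]
  obtain ⟨r, hr, hrd⟩ := descend_kill (P := X ⊗[H] Z) f.toRingHom hu hz
  refine ⟨r, ?_, hrd⟩
  simpa [f, Algebra.TensorProduct.algebraMap_apply] using hr

theorem of_common {B : Type u} [CommRing B] [Algebra H B] [Algebra.FormallyUnramified H B]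
    [Algebra.FiniteType H B] (φ : B →ₐ[H] X) (φ' : B →ₐ[H] Y) (β : B)
    (a : X →ₐ[H] K) (b : Y →ₐ[H] K) (h : a.comp φ = b.comp φ') : Agree a b (φ β) (φ' β) := by
  classical
  let μ : B ⊗[H] B →ₐ[H] B := Algebra.TensorProduct.lmul' H
  have hI : IsIdempotentElem (KaehlerDifferential.ideal H B) := by
    rw [← Ideal.cotangent_subsingleton_iff]
    exact (inferInstance : Subsingleton (Ω[B⁄H]))
  obtain ⟨e, he, hspan⟩ := (Ideal.isIdempotentElem_iff_of_fg _ (KaehlerDifferential.ideal_fg H B)).mp hI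
  have hμe : μ e = 0 := by
    have : e ∈ KaehlerDifferential.ideal H B := hspan ▸ Ideal.mem_span_singleton_self e
    exact this
  have hd : diff β β ∈ KaehlerDifferential.ideal H B := by
    show μ (diff β β) = 0
    simp [μ, diff]
  rw [hspan] at hd
  obtain ⟨z, hz⟩ := Ideal.mem_span_singleton'.mp hd
  let m : B ⊗[H] B →ₐ[H] X ⊗[H] Y := Algebra.TensorProduct.map φ φ'
  refine ⟨m (1 - e), ?_, ?_⟩
  · have : (pair a b).comp m = (a.comp φ).comp μ := by
      apply Algebra.TensorProduct.ext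
      · ext x; simp [m, μ]
      · ext x; simp [m, μ, h]
    rw [← AlgHom.comp_apply, this, AlgHom.comp_apply, map_sub, hμe, map_one, sub_zero, map_one]
    exact one_ne_zero
  · have : diff (φ β) (φ' β) = m (diff β β) := by simp [m, diff]
    rw [this, ← map_mul, ← hz, show (1 - e) * (z * e) = z * (e - e * e) by ring, he.eq, sub_self, mul_zero,
      map_zero]

/-- agreement through an algebra which is flat over the tensor product -/
theorem of_flat {W : Type u} [CommRing W] [Algebra H W] (σ : X →ₐ[H] W) (τ : Y →ₐ[H] W)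
    (hflat : (Algebra.TensorProduct.lift σ τ fun _ _ => Commute.all _ _).toRingHom.Flat)
    (d : W →ₐ[H] K) (a : X →ₐ[H] K) (b : Y →ₐ[H] K) (ha : d.comp σ = a) (hb : d.comp τ = b)
    (s : X) (t : Y) (hst : σ s = τ t) : Agree a b s t := by
  let ι : X ⊗[H] Y →ₐ[H] W := Algebra.TensorProduct.lift σ τ fun _ _ => Commute.all _ _
  let : Algebra (X ⊗[H] Y) W := ι.toRingHom.toAlgebra
  have : Module.Flat (X ⊗[H] Y) W := hflat
  have h0 : (1 : W) * algebraMap (X ⊗[H] Y) W (diff s t) = 0 := by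
    show 1 * ι (diff s t) = 0
    simp [ι, diff, hst]
  obtain ⟨r, hr, hrd⟩ := descend_kill (P := X ⊗[H] Y) d.toRingHom (by simp) h0
  refine ⟨r, ?_, hrd⟩
  have : d.comp ι = pair a b := by
    subst ha hb
    apply Algebra.TensorProduct.ext <;> ext x <;> simp [ι]
  rw [← this]
  exact hr

/-- elements agreeing at all points are equal -/
theorem eq_zero_of_agree {X Y : Type u} [CommRing X] [CommRing Y] [Algebra H X] [Algebra H Y] (s : X) (t : Y)
    (h : ∀ (K : Type u) [Field K] [IsAlgClosed K] [Algebra H K] (a : X →ₐ[H] K) (b : Y →ₐ[H] K), Agree a b s t) :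
    diff (H := H) s t = 0 := by
  let P := X ⊗[H] Y
  let J : Ideal P := (⊥ : Ideal P).colon ({diff (H := H) s t} : Set P)
  suffices hJ : J = ⊤ by
    have : (1 : P) ∈ J := hJ ▸ Submodule.mem_top
    simpa [J, Submodule.mem_colon_singleton] using this
  by_contra hne
  obtain ⟨M, hM, hJM⟩ := Ideal.exists_le_maximal J hne
  let : Field (P ⧸ M) := Ideal.Quotient.field M
  let K := AlgebraicClosure (P ⧸ M)
  let π : P →ₐ[H] K := IsScalarTower.toAlgHom H P K
  have hπ : pair (π.comp Algebra.TensorProduct.includeLeft) (π.comp Algebra.TensorProduct.includeRight) = π := by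
    apply Algebra.TensorProduct.ext <;> ext x <;> simp [pair] <;> rfl
  obtain ⟨r, hr, hrd⟩ := h K (π.comp Algebra.TensorProduct.includeLeft) (π.comp Algebra.TensorProduct.includeRight)
  refine hr ?_
  rw [hπ]
  have : r ∈ M := hJM (by simpa [J, Submodule.mem_colon_singleton] using hrd)
  show algebraMap P K r = 0
  rw [IsScalarTower.algebraMap_apply P (P ⧸ M) K, Ideal.Quotient.algebraMap_eq,
    Ideal.Quotient.eq_zero_iff_mem.mpr this, map_zero]

end Groth.Agent.HensPair.SheafAgree
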