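import Groth.Agent.HensPair.SheafLocus
import Mathlib.RingTheory.Flat.FaithfullyFlat.Basic

/-!
The sheaf condition for henselizations of basic opens along a covering of the closed subset.
-/

set_option autoImplicit false
set_option backward.isDefEq.respectTransparency false

noncomputable section

open TensorProduct IsLocalRing

namespace Groth.Agent.HensPair.SheafCond

universe u

open SheafAgree SheafPoint Groth.Agent.HensPoint

section descent

variable {H : Type u} [CommRing H]

/-- faithfully flat descent of elements -/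
theorem exists_algebraMap_eq {C : Type u} [CommRing C] [Algebra H C] [Module.FaithfullyFlat H C] (c : C)
    (h : c ⊗ₜ[H] (1 : C) = (1 : C) ⊗ₜ[H] c) : ∃ x : H, algebraMap H C x = c := by
  let d : C →ₗ[H] C ⊗[H] C := (Algebra.TensorProduct.includeLeft : C →ₐ[H] C ⊗[H] C).toLinearMap -
    (Algebra.TensorProduct.includeRight : C →ₐ[H] C ⊗[H] C).toLinearMap
  have hex : Function.Exact (Algebra.linearMap H C) d := by
    refine (Module.FaithfullyFlat.lTensor_exact_iff_exact H C _ _).mp fun w => ⟨fun hw => ?_, ?_⟩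
    · let μ : C ⊗[H] C →ₐ[H] C := Algebra.TensorProduct.lmul' H
      let N : C ⊗[H] (C ⊗[H] C) →ₗ[H] C ⊗[H] C :=
        (μ.toLinearMap.rTensor C).comp (TensorProduct.assoc H C C C).symm.toLinearMap
      have key : ∀ w : C ⊗[H] C, N (d.lTensor C w) = (μ w) ⊗ₜ[H] 1 - w := fun w => by
        induction w using TensorProduct.induction_on with
        | zero => simp
        | tmul a b => simp [N, d, μ, tmul_sub]
        | add v v' hv hv' =>
          rw [map_add, map_add, hv, hv', map_add, TensorProduct.add_tmul]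
          abel
      refine ⟨(μ w) ⊗ₜ[H] 1, ?_⟩
      have := key w
      rw [hw, map_zero, eq_comm, sub_eq_zero] at this
      simpa using this
    · rintro ⟨z, rfl⟩
      rw [← LinearMap.comp_apply, ← LinearMap.lTensor_comp,
        show d ∘ₗ Algebra.linearMap H C = 0 from LinearMap.ext fun x => by
          simp [d, Algebra.TensorProduct.tmul_one_eq_one_tmul], LinearMap.lTensor_zero, LinearMap.zero_apply]
  exact (hex c).mp (by simp [d, h])

/-- descent along a finite family which is jointly faithfully flat -/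
theorem exists_descend {κ : Type u} [Fintype κ] [DecidableEq κ] {C : κ → Type u} [∀ k, CommRing (C k)]
    [∀ k, Algebra H (C k)] [Module.FaithfullyFlat H (∀ k, C k)] (s : ∀ k, C k)
    (h : ∀ j k, SheafAgree.diff (H := H) (s j) (s k) = 0) : ∃ x : H, ∀ k, algebraMap H (C k) x = s k := by
  obtain ⟨x, hx⟩ := exists_algebraMap_eq (H := H) s (by
    rw [← sub_eq_zero]
    have h1 : ∀ j k, (Pi.single j (1 : C j) : ∀ k, C k) ⊗ₜ[H] (Pi.single k (1 : C k) : ∀ k, C k) *
        (s ⊗ₜ[H] 1 - 1 ⊗ₜ[H] s) = 0 := by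
      intro j k
      have h2 := congrArg (TensorProduct.map (LinearMap.single H C j) (LinearMap.single H C k)) (h j k)
      rw [map_zero] at h2
      rw [← h2, mul_sub, Algebra.TensorProduct.tmul_mul_tmul, Algebra.TensorProduct.tmul_mul_tmul, mul_one, mul_one]
      simp [SheafAgree.diff, ← Pi.single_mul_left]
    have h3 : (1 : (∀ k, C k) ⊗[H] (∀ k, C k)) =
        ∑ j, ∑ k, (Pi.single j (1 : C j) : ∀ k, C k) ⊗ₜ[H] (Pi.single k (1 : C k) : ∀ k, C k) := by
      simp only [← TensorProduct.tmul_sum, ← TensorProduct.sum_tmul, Finset.univ_sum_single]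
      rfl
    rw [← one_mul (s ⊗ₜ[H] (1 : ∀ k, C k) - 1 ⊗ₜ[H] s), h3, Finset.sum_mul]
    exact Finset.sum_eq_zero fun j _ => by rw [Finset.sum_mul]; exact Finset.sum_eq_zero fun k _ => h1 j k)
  exact ⟨x, fun k => congrFun hx k⟩

end descent

variable {A : Type u} [CommRing A] {I : Ideal A} {ι : Type u} {g : ι → A}
  {H : Type u} [CommRing H] [Algebra A H] (hH : Hens2.IsPairHenselization A I H)
  {Hi : ι → Type u} [∀ i, CommRing (Hi i)] [∀ i, Algebra (Localization.Away (g i)) (Hi i)]
  [∀ i, Algebra A (Hi i)] [∀ i, IsScalarTower A (Localization.Away (g i)) (Hi i)]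
  (hHi : ∀ i, Hens2.IsPairHenselization (Localization.Away (g i))
    (I.map (algebraMap A (Localization.Away (g i)))) (Hi i))
  [∀ i, Algebra H (Hi i)] [∀ i, IsScalarTower A H (Hi i)]

include hH hHi in
theorem faithfullyFlat (F : Finset ι) (hF : I ⊔ Ideal.span (g '' F) = ⊤) :
    Module.FaithfullyFlat H (∀ k : F, Hi k) := by
  classical
  have := fun k : F => (Trans.cancel (SheafPoint.isEtColim hH) (SheafPoint.etColim (hHi k))).flat
  have : Module.Flat H (∀ k : F, Hi k) :=
    Module.Flat.of_linearEquiv (DirectSum.linearEquivFunOnFintype H F fun k => Hi k).symm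
  refine ⟨fun m hm htop => ?_⟩
  let q := algebraMap A (H ⧸ m)
  have hIm : I.map (algebraMap A H) ≤ m := fun c hc => Hensel.Idem.mem_of_mem_jacobson (hH.1.jac hc) m
  have hk : ∃ k : F, q (g k) ≠ 0 := by
    by_contra hne
    push Not at hne
    have h1 : I ⊔ Ideal.span (g '' F) ≤ RingHom.ker q := by
      refine sup_le (fun c hc => ?_) (Ideal.span_le.mpr ?_)
      · rw [RingHom.mem_ker, show q c = Ideal.Quotient.mk m (algebraMap A H c) from rfl,
          Ideal.Quotient.eq_zero_iff_mem]
        exact hIm (Ideal.mem_map_of_mem _ hc)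
      · rintro _ ⟨k, hk, rfl⟩
        exact hne ⟨k, hk⟩
    rw [hF] at h1
    have := h1 (Submodule.mem_top (x := (1 : A)))
    rw [RingHom.mem_ker, map_one] at this
    exact hm.ne_top (Ideal.Quotient.eq_zero_iff_mem.mp (show Ideal.Quotient.mk m 1 = 0 by rw [map_one]; exact this) |>
      (Ideal.eq_top_iff_one m).mpr)
  obtain ⟨k, hk⟩ := hk
  let : Field (H ⧸ m) := Ideal.Quotient.field m
  have hI0 : I.map q ≤ ⊥ := by
    rw [le_bot_iff, Ideal.map_eq_bot_iff_le_ker]
    intro c hc
    rw [RingHom.mem_ker, show q c = Ideal.Quotient.mk m (algebraMap A H c) from rfl, Ideal.Quotient.eq_zero_iff_mem]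
    exact hIm (Ideal.mem_map_of_mem _ hc)
  have : HenselianRing (H ⧸ m) (⊥ : Ideal (H ⧸ m)) := by
    rw [← IsLocalRing.maximalIdeal_eq_bot]; infer_instance
  obtain ⟨f⟩ := SheafPoint.exists_hom (hHi k) ⊥ hI0 (IsUnit.mk0 _ hk)
  have hfH := Henselization.algHom_ext hH (⊥ : Ideal (H ⧸ m)) hI0
    (f.comp (IsScalarTower.toAlgHom A H (Hi k))) (IsScalarTower.toAlgHom A H (H ⧸ m))
  have h1 : (1 : ∀ k : F, Hi k) ∈ m • (⊤ : Submodule H (∀ k : F, Hi k)) := by rw [htop]; exact Submodule.mem_top
  let fH : (∀ k : F, Hi k) →ₗ[H] H ⧸ m :=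
    { toFun := fun z => f (z k)
      map_add' := fun z w => map_add f _ _
      map_smul' := fun h z => by
        show f (h • z k) = h • f (z k)
        rw [Algebra.smul_def, map_mul, Algebra.smul_def]
        congr 1
        exact DFunLike.congr_fun hfH h }
  have h2 : fH 1 ∈ m • (⊤ : Submodule H (H ⧸ m)) :=
    smul_mono_right m (le_top : Submodule.map fH ⊤ ≤ ⊤) ((Submodule.map_smul'' m ⊤ fH) ▸ Submodule.mem_map_of_mem h1)
  have h3 : m • (⊤ : Submodule H (H ⧸ m)) = ⊥ := by
    rw [eq_bot_iff, Submodule.smul_le]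
    intro c hc z _
    rw [Submodule.mem_bot, Algebra.smul_def, Ideal.Quotient.algebraMap_eq, Ideal.Quotient.eq_zero_iff_mem.mpr hc,
      zero_mul]
  rw [h3, Submodule.mem_bot] at h2
  exact one_ne_zero (show (1 : H ⧸ m) = 0 by rw [← h2]; exact (map_one f).symm)

include hH hHi in
theorem sheaf_condition (hcov : I ⊔ Ideal.span (Set.range g) = ⊤)
    {Hij : ι → ι → Type u} [∀ i j, CommRing (Hij i j)]
    [∀ i j, Algebra (Localization.Away (g i * g j)) (Hij i j)]
    [∀ i j, Algebra A (Hij i j)] [∀ i j, IsScalarTower A (Localization.Away (g i * g j)) (Hij i j)]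
    (hHij : ∀ i j, Hens2.IsPairHenselization (Localization.Away (g i * g j))
      (I.map (algebraMap A (Localization.Away (g i * g j)))) (Hij i j))
    (σ : ∀ i j, Hi i →ₐ[A] Hij i j) (τ : ∀ i j, Hi j →ₐ[A] Hij i j) :
    (∀ x y : H, (∀ i, algebraMap H (Hi i) x = algebraMap H (Hi i) y) → x = y) ∧
    ∀ s : ∀ i, Hi i, (∀ i j, σ i j (s i) = τ i j (s j)) → ∃ x : H, ∀ i, algebraMap H (Hi i) x = s i := by
  classical
  obtain ⟨u, hu, v, hv, huv⟩ := Submodule.mem_sup.mp (show (1 : A) ∈ I ⊔ Ideal.span (Set.range g) from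
    hcov ▸ Submodule.mem_top)
  obtain ⟨W, hW, hvW⟩ := Submodule.mem_span_finite_of_mem_span hv
  choose w hw using fun z : W => hW z.2
  let F : Finset ι := Finset.univ.image w
  have hF : ∀ F' : Finset ι, F ⊆ F' → I ⊔ Ideal.span (g '' F') = ⊤ := fun F' hFF' => by
    rw [Ideal.eq_top_iff_one, ← huv]
    refine add_mem (Ideal.mem_sup_left hu) (Ideal.mem_sup_right (Submodule.span_mono ?_ hvW))
    intro z hz
    exact ⟨w ⟨z, hz⟩, hFF' (Finset.mem_image_of_mem _ (Finset.mem_univ _)), hw ⟨z, hz⟩⟩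
  have hinj : ∀ x y : H, (∀ i ∈ F, algebraMap H (Hi i) x = algebraMap H (Hi i) y) → x = y := fun x y h => by
    have := faithfullyFlat hH hHi F (hF F le_rfl)
    refine FaithfulSMul.algebraMap_injective H (∀ k : F, Hi k) (funext fun k => ?_)
    exact h k.1 k.2
  refine ⟨fun x y h => hinj x y fun i _ => h i, fun s hs => ?_⟩
  have hdesc : ∀ F' : Finset ι, F ⊆ F' → ∃ x : H, ∀ i ∈ F', algebraMap H (Hi i) x = s i := fun F' hFF' => by
    have := faithfullyFlat hH hHi F' (hF F' hFF')
    obtain ⟨x, hx⟩ := exists_descend (H := H) (C := fun k : F' => Hi k) (fun k => s k) fun j k =>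
      SheafAgree.eq_zero_of_agree _ _ fun K _ _ _ a b =>
        letI : Algebra A K := ((algebraMap H K).comp (algebraMap A H)).toAlgebra
        haveI : IsScalarTower A H K := IsScalarTower.of_algebraMap_eq' rfl
        SheafLocus.agree hH hHi hHij σ τ s hs hcov a b
    exact ⟨x, fun i hi => hx ⟨i, hi⟩⟩
  obtain ⟨x, hx⟩ := hdesc F le_rfl
  refine ⟨x, fun i => ?_⟩
  obtain ⟨y, hy⟩ := hdesc (insert i F) (Finset.subset_insert _ _)
  rw [hinj x y fun k hk => (hx k hk).trans (hy k (Finset.mem_insert_of_mem hk)).symm]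
  exact hy i (Finset.mem_insert_self _ _)

end Groth.Agent.HensPair.SheafCond
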