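import Groth.Agent.HensPair.Henselization
import Groth.Agent.HensPair.Basic
import Groth.Agent.HensPair.NormalSepClosed
import Groth.Agent.HensPoint.EtColim
import Groth.Agent.HensPoint.EtColimLoc
import Groth.Agent.HensPoint.Trans
import Mathlib.FieldTheory.IsAlgClosed.AlgebraicClosure
import Mathlib.FieldTheory.IsSepClosed
import Mathlib.RingTheory.Algebraic.Integral

/-!
Pair henselizations of basic opens: universal property, ind-etaleness, and field points through
localizations of absolute integral closures.
-/

set_option autoImplicit false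
set_option backward.isDefEq.respectTransparency false

noncomputable section

open IsLocalRing

namespace Groth.Agent.HensPair.SheafPoint

universe u

open Groth.Agent.HensPoint

/-- a henselization of a pair is a colimit of etale algebras -/
theorem isEtColim {A B : Type u} [CommRing A] [CommRing B] [Algebra A B] {I : Ideal A}
    (hB : Hens2.IsPairHenselization A I B) : EtColim.IsEtColim A B := by
  classical
  refine ⟨fun {n} x => ?_, fun {A'} _ _ _ φ {n} s hs => ?_⟩
  · obtain ⟨A', _, _, h, φ, hr⟩ := Henselization.exists_nbhd_rep hB x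
    exact ⟨A', inferInstance, inferInstance, h.etale, φ, hr⟩
  · obtain ⟨m, π, hπ, hker⟩ := (inferInstance : Algebra.FinitePresentation A A').out
    obtain ⟨q, G, hG⟩ := Submodule.fg_iff_exists_fin_generating_family.mp hker
    choose s' hs' using fun k => hπ (s k)
    obtain ⟨N, _, _, hN, φN, hr⟩ := Henselization.exists_nbhd_rep hB fun i => φ (π (MvPolynomial.X i))
    choose r hr using hr
    let ev : MvPolynomial (Fin m) A →ₐ[A] N := MvPolynomial.aeval r
    have hev : φN.comp ev = φ.comp π := MvPolynomial.algHom_ext fun i => by simp [ev, hr]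
    have hev' : ∀ p, φN (ev p) = φ (π p) := fun p => DFunLike.congr_fun hev p
    have hG0 : ∀ l, π (G l) = 0 := fun l =>
      RingHom.mem_ker.mp (hG ▸ Submodule.subset_span ⟨l, rfl⟩ : G l ∈ RingHom.ker π.toRingHom)
    obtain ⟨N'', _, _, hN'', ψ, hz⟩ := Henselization.exists_nbhd_kill hB hN φN (Sum.elim (ev ∘ G) (ev ∘ s'))
      (fun k => by
        rcases k with l | k
        · simp [hev', hG0]
        · simp [hev', hs', hs])
    obtain ⟨ν⟩ := Henselization.exists_nbhd_hom hB N'' hN''
    have hν : ν.comp ψ = φN := Henselization.nbhd_hom_eq hB hN _ _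
    have hle : RingHom.ker π.toRingHom ≤ RingHom.ker (ψ.comp ev).toRingHom := by
      rw [← hG]
      refine Ideal.span_le.mpr ?_
      rintro _ ⟨l, rfl⟩
      exact hz (Sum.inl l)
    let ψ' : A' →ₐ[A] N'' :=
      (Ideal.Quotient.liftₐ _ (ψ.comp ev) fun p hp => hle hp).comp
        (Ideal.quotientKerAlgEquivOfSurjective hπ).symm.toAlgHom
    have hψ' : ∀ p, ψ' (π p) = ψ (ev p) := fun p => by
      have : (Ideal.quotientKerAlgEquivOfSurjective hπ).symm (π p) = Ideal.Quotient.mk _ p :=
        (Ideal.quotientKerAlgEquivOfSurjective hπ).injective (by rw [AlgEquiv.apply_symm_apply]; rfl)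
      exact (congrArg (Ideal.Quotient.liftₐ _ (ψ.comp ev) fun p hp => hle hp) this).trans
        (Ideal.Quotient.lift_mk _ _ _)
    refine ⟨N'', inferInstance, inferInstance, hN''.etale, ν, ψ', AlgHom.ext fun x => ?_, fun k => ?_⟩
    · obtain ⟨p, rfl⟩ := hπ x
      rw [AlgHom.comp_apply, hψ', ← AlgHom.comp_apply ν, hν, hev']
    · rw [← hs', hψ']
      exact hz (Sum.inr k)

section Away

variable {A : Type u} [CommRing A] {I : Ideal A} {g : A} {Hg : Type u} [CommRing Hg]
  [Algebra (Localization.Away g) Hg] [Algebra A Hg] [IsScalarTower A (Localization.Away g) Hg]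
  (hHg : Hens2.IsPairHenselization (Localization.Away g) (I.map (algebraMap A (Localization.Away g))) Hg)

include hHg

theorem henselianRing : HenselianRing Hg (I.map (algebraMap A Hg)) := by
  have := hHg.1
  rwa [Ideal.map_map, ← IsScalarTower.algebraMap_eq] at this

theorem isUnit_algebraMap : IsUnit (algebraMap A Hg g) := by
  rw [IsScalarTower.algebraMap_apply A (Localization.Away g) Hg]
  exact (IsLocalization.Away.algebraMap_isUnit g).map _

theorem etColim : EtColim.IsEtColim A Hg :=
  _root_.Groth.Agent.HensPoint.Trans.trans (EtColimLoc.isEtColim_localization (Submonoid.powers g)) (isEtColim hHg)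

theorem exists_hom {C : Type u} [CommRing C] [Algebra A C] (J : Ideal C) [HenselianRing C J]
    (hJ : I.map (algebraMap A C) ≤ J) (hg : IsUnit (algebraMap A C g)) : Nonempty (Hg →ₐ[A] C) := by
  let l : Localization.Away g →+* C := IsLocalization.Away.lift g hg
  let : Algebra (Localization.Away g) C := l.toAlgebra
  have : IsScalarTower A (Localization.Away g) C :=
    IsScalarTower.of_algebraMap_eq fun a => (IsLocalization.Away.lift_eq g hg a).symm
  obtain ⟨f⟩ := Henselization.exists_algHom hHg J
    (by rwa [Ideal.map_map, ← IsScalarTower.algebraMap_eq])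
  exact ⟨f.restrictScalars A⟩

theorem hom_eq {C : Type u} [CommRing C] [Algebra A C] (J : Ideal C) [HenselianRing C J]
    (hJ : I.map (algebraMap A C) ≤ J) (f₁ f₂ : Hg →ₐ[A] C) : f₁ = f₂ := by
  let l : Localization.Away g →+* C := (f₁ : Hg →+* C).comp (algebraMap (Localization.Away g) Hg)
  have hl : l = (f₂ : Hg →+* C).comp (algebraMap (Localization.Away g) Hg) := by
    refine IsLocalization.ringHom_ext (Submonoid.powers g) ?_
    ext a
    simp [l, ← IsScalarTower.algebraMap_apply]
  let : Algebra (Localization.Away g) C := l.toAlgebra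
  have : IsScalarTower A (Localization.Away g) C := IsScalarTower.of_algebraMap_eq fun a => by
    show algebraMap A C a = l (algebraMap A _ a)
    simp [l, ← IsScalarTower.algebraMap_apply]
  let F₁ : Hg →ₐ[Localization.Away g] C := { (f₁ : Hg →+* C) with commutes' := fun z => rfl }
  let F₂ : Hg →ₐ[Localization.Away g] C :=
    { (f₂ : Hg →+* C) with commutes' := fun z => (RingHom.congr_fun hl z).symm }
  have := Henselization.algHom_ext hHg J (by rwa [Ideal.map_map, ← IsScalarTower.algebraMap_eq]) F₁ F₂
  exact AlgHom.ext fun z => DFunLike.congr_fun this z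

theorem approx (z : Hg) : ∃ (a : A) (n : ℕ),
    z * algebraMap A Hg g ^ n - algebraMap A Hg a ∈ I.map (algebraMap A Hg) := by
  obtain ⟨w, hw⟩ := Henselization.approx hHg z
  obtain ⟨⟨a, ⟨_, n, rfl⟩⟩, ha⟩ := IsLocalization.surj (Submonoid.powers g) w
  rw [Ideal.map_map, ← IsScalarTower.algebraMap_eq] at hw
  refine ⟨a, n, ?_⟩
  have h1 := congrArg (algebraMap (Localization.Away g) Hg) ha
  simp only [map_mul, map_pow, ← IsScalarTower.algebraMap_apply] at h1
  rw [← h1, ← sub_mul]
  exact Ideal.mul_mem_right _ _ hw

end Away

section Normal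

/-- local rings of a normal domain with separably closed fraction field are henselian -/
theorem henselian_localization (D F : Type u) [CommRing D] [IsDomain D] [IsIntegrallyClosed D] [Field F]
    [Algebra D F] [IsFractionRing D F] [IsSepClosed F] (x : Ideal D) [x.IsPrime] :
    HenselianRing (Localization.AtPrime x) (maximalIdeal (Localization.AtPrime x)) := by
  let : Algebra (Localization.AtPrime x) F := (IsLocalization.map (M := x.primeCompl) (T := nonZeroDivisors D)
    F (RingHom.id D) x.primeCompl_le_nonZeroDivisors).toAlgebra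
  have : IsScalarTower D (Localization.AtPrime x) F := IsScalarTower.of_algebraMap_eq fun a =>
    (IsLocalization.map_eq (M := x.primeCompl) (T := nonZeroDivisors D) (Q := F) (g := RingHom.id D)
      x.primeCompl_le_nonZeroDivisors a).symm
  have : IsDomain (Localization.AtPrime x) := IsLocalization.isDomain_localization x.primeCompl_le_nonZeroDivisors
  have : IsIntegrallyClosed (Localization.AtPrime x) :=
    isIntegrallyClosed_of_isLocalization (Localization.AtPrime x) x.primeCompl x.primeCompl_le_nonZeroDivisors
  have : IsFractionRing (Localization.AtPrime x) F :=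
    IsFractionRing.isFractionRing_of_isDomain_of_isLocalization x.primeCompl (Localization.AtPrime x) F
  have := NormalSepClosed.henselianLocalRing (A := Localization.AtPrime x) F
  infer_instance

end Normal

section IntClosure

variable (R K : Type u) [CommRing R] [Field K] [Algebra R K] [IsAlgClosed K]

/-- the ring of elements of `K` integral over `R` -/
abbrev S : Subalgebra R K := integralClosure R K

instance isDomain_S : IsDomain (S R K) := inferInstance

instance isSepClosed_fraction :
    letI : Algebra (FractionRing (S R K)) K := FractionRing.liftAlgebra _ K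
    IsSepClosed (FractionRing (S R K)) := by
  let F := FractionRing (S R K)
  let : Algebra F K := FractionRing.liftAlgebra _ K
  have : IsScalarTower (S R K) F K := FractionRing.isScalarTower_liftAlgebra _ _
  refine IsSepClosed.of_exists_root _ fun p hp hirr hsep => ?_
  obtain ⟨z, hz⟩ := IsAlgClosed.exists_aeval_eq_zero K p (Polynomial.degree_pos_of_irreducible hirr).ne'
  have hzF : IsAlgebraic F z := ⟨p, hirr.ne_zero, hz⟩
  have hzS : IsAlgebraic (S R K) z := (IsFractionRing.isAlgebraic_iff (S R K) F K).mpr hzF
  obtain ⟨s, hs, hint⟩ := hzS.exists_integral_multiple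
  have hR : IsIntegral R (s • z) := isIntegral_trans (R := R) (A := S R K) _ hint
  let t : S R K := ⟨s • z, hR⟩
  refine ⟨algebraMap _ F t / algebraMap _ F s, ?_⟩
  refine (FaithfulSMul.algebraMap_injective F K) ?_
  rw [map_zero, ← Polynomial.aeval_algebraMap_apply_eq_algebraMap_eval]
  convert hz using 2
  congr 1
  rw [map_div₀, ← IsScalarTower.algebraMap_apply, ← IsScalarTower.algebraMap_apply]
  have hs0 : algebraMap (S R K) K s ≠ 0 := fun h => hs (Subtype.ext h)
  rw [div_eq_iff hs0]
  show s • z = z * algebraMap (S R K) K s
  rw [Algebra.smul_def, mul_comm]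

instance isIntegrallyClosed_S : IsIntegrallyClosed (S R K) := by
  let F := FractionRing (S R K)
  let : Algebra F K := FractionRing.liftAlgebra _ K
  have : IsScalarTower (S R K) F K := FractionRing.isScalarTower_liftAlgebra _ _
  refine (isIntegrallyClosed_iff F).mpr fun {x} hx => ?_
  have h1 : IsIntegral (S R K) (algebraMap F K x) := hx.map (IsScalarTower.toAlgHom (S R K) F K)
  have hR : IsIntegral R (algebraMap F K x) := isIntegral_trans (R := R) (A := S R K) _ h1
  refine ⟨⟨_, hR⟩, FaithfulSMul.algebraMap_injective F K ?_⟩
  rw [← IsScalarTower.algebraMap_apply]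
  rfl

variable (x : Ideal (S R K)) [x.IsPrime]

/-- the local ring of the absolute integral closure at a prime -/
abbrev L : Type u := Localization.AtPrime x

theorem henselian_L : HenselianRing (L R K x) (maximalIdeal (L R K x)) :=
  letI : Algebra (FractionRing (S R K)) K := FractionRing.liftAlgebra _ K
  henselian_localization (S R K) (FractionRing (S R K)) x

/-- the localization maps into `K` -/
def toK : L R K x →ₐ[S R K] K :=
  IsLocalization.liftAlgHom (M := x.primeCompl) (f := Algebra.ofId (S R K) K) fun y =>
    IsUnit.mk0 _ fun h => y.2 (by rw [show (y : S R K) = 0 from Subtype.ext h]; exact x.zero_mem)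

theorem toK_injective : Function.Injective (toK R K x) := by
  rw [injective_iff_map_eq_zero]
  intro z hz
  obtain ⟨⟨a, m⟩, ha⟩ := IsLocalization.surj x.primeCompl z
  have h1 := congrArg (toK R K x) ha
  rw [map_mul, hz, zero_mul, AlgHom.commutes] at h1
  have ha0 : a = 0 := Subtype.ext h1.symm
  rw [ha0, map_zero] at ha
  exact (IsLocalization.map_units (L R K x) m).mul_left_eq_zero.mp ha

end IntClosure

end Groth.Agent.HensPair.SheafPoint
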