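import Mathlib.RingTheory.Etale.Basic
import Mathlib.RingTheory.Nakayama
import Mathlib.RingTheory.Ideal.Quotient.Operations
import Mathlib.RingTheory.FiniteType
import Mathlib.RingTheory.Finiteness.ModuleFinitePresentation

/-!
Uniqueness of maps out of unramified algebras into pairs with ideal in the Jacobson radical.
-/

set_option autoImplicit false

namespace Groth.Agent.HensPair.Unique

universe u

theorem eq_bot_of_le_sq {B : Type u} [CommRing B] {J : Ideal B} (hfg : J.FG)
    (hjac : J ≤ Ideal.jacobson ⊥) (h : J ≤ J ^ 2) : J = ⊥ :=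
  Submodule.eq_bot_of_le_smul_of_le_jacobson_bot J J hfg (by rwa [smul_eq_mul, ← sq]) hjac

/-- Two algebra maps out of a formally unramified algebra of finite type which agree modulo an
ideal in the Jacobson radical are equal. -/
theorem algHom_eq {A A' B : Type u} [CommRing A] [CommRing A'] [CommRing B] [Algebra A A']
    [Algebra A B] [Algebra.FormallyUnramified A A'] [Algebra.FiniteType A A']
    {I' : Ideal B} (hjac : I' ≤ Ideal.jacobson ⊥) (τ₁ τ₂ : A' →ₐ[A] B)
    (h : ∀ x, τ₁ x - τ₂ x ∈ I') : τ₁ = τ₂ := by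
  classical
  obtain ⟨s, hs⟩ := (inferInstance : Algebra.FiniteType A A').out
  let J : Ideal B := Ideal.span ((fun x => τ₁ x - τ₂ x) '' (s : Set A'))
  have hmem : ∀ x, τ₁ x - τ₂ x ∈ J := by
    intro x
    let E := AlgHom.equalizer ((Ideal.Quotient.mkₐ A J).comp τ₁) ((Ideal.Quotient.mkₐ A J).comp τ₂)
    have hE : Algebra.adjoin A (s : Set A') ≤ E := Algebra.adjoin_le fun y hy => by
      show Ideal.Quotient.mk J (τ₁ y) = Ideal.Quotient.mk J (τ₂ y)
      exact Ideal.Quotient.eq.mpr (Ideal.subset_span ⟨y, hy, rfl⟩)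
    exact Ideal.Quotient.eq.mp (hE (hs ▸ Algebra.mem_top : x ∈ Algebra.adjoin A (s : Set A')))
  have hJI : J ≤ I' := Ideal.span_le.mpr (by rintro _ ⟨x, -, rfl⟩; exact h x)
  have hsq : J ≤ J ^ 2 := by
    have heq : (Ideal.Quotient.mkₐ A (J ^ 2)).comp τ₁ = (Ideal.Quotient.mkₐ A (J ^ 2)).comp τ₂ := by
      refine Algebra.FormallyUnramified.lift_unique (J.map (Ideal.Quotient.mk (J ^ 2))) ⟨2, ?_⟩ _ _ ?_
      · rw [← Ideal.map_pow]; exact Ideal.map_quotient_self _
      · refine AlgHom.ext fun x => Ideal.Quotient.eq.mpr ?_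
        show Ideal.Quotient.mk (J ^ 2) (τ₁ x) - Ideal.Quotient.mk (J ^ 2) (τ₂ x) ∈ _
        rw [← map_sub]
        exact Ideal.mem_map_of_mem _ (hmem x)
    refine Ideal.span_le.mpr ?_
    rintro _ ⟨x, -, rfl⟩
    exact Ideal.Quotient.eq.mp (DFunLike.congr_fun heq x)
  have hbot : J = ⊥ := eq_bot_of_le_sq (Submodule.fg_span (s.finite_toSet.image _)) (hJI.trans hjac) hsq
  refine AlgHom.ext fun x => sub_eq_zero.mp ?_
  have := hmem x
  rwa [hbot] at this

/-- A surjective etale map with kernel in the Jacobson radical is bijective. -/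
theorem bijective_of_surjective {A C : Type u} [CommRing A] [CommRing C] [Algebra A C]
    [Algebra.Etale A C] (hs : Function.Surjective (algebraMap A C))
    (hk : RingHom.ker (algebraMap A C) ≤ Ideal.jacobson ⊥) :
    Function.Bijective (algebraMap A C) := by
  refine ⟨(RingHom.injective_iff_ker_eq_bot _).mpr ?_, hs⟩
  let J := RingHom.ker (algebraMap A C)
  have hfg : J.FG := by
    have := Algebra.FinitePresentation.ker_fG_of_surjective (Algebra.ofId A C) hs
    exact this
  refine eq_bot_of_le_sq hfg hk fun x hx => ?_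
  let K := J.map (Ideal.Quotient.mk (J ^ 2))
  have hK : IsNilpotent K := ⟨2, by rw [← Ideal.map_pow]; exact Ideal.map_quotient_self _⟩
  let g : C →ₐ[A] (A ⧸ J ^ 2) ⧸ K :=
    (Ideal.Quotient.liftₐ J (Algebra.ofId A ((A ⧸ J ^ 2) ⧸ K)) fun a ha =>
      Ideal.Quotient.eq_zero_iff_mem.mpr (Ideal.mem_map_of_mem _ ha)).comp
      (Ideal.quotientKerAlgEquivOfSurjective (f := Algebra.ofId A C) hs).symm.toAlgHom
  let l := Algebra.FormallySmooth.lift K hK g
  have h0 : Ideal.Quotient.mk (J ^ 2) x = 0 := by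
    rw [← map_zero l, ← (RingHom.mem_ker.mp hx : algebraMap A C x = 0), l.commutes]
    rfl
  exact Ideal.Quotient.eq_zero_iff_mem.mp h0

end Groth.Agent.HensPair.Unique
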