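import Groth.Agent.HensPair.SheafAgree
import Groth.Agent.HensPair.SheafPoint
import Groth.Agent.HensPair.Unique
import Groth.Agent.HensPoint.EtColimBC
import Groth.Agent.HensPoint.WeaklyEtale

/-!
A compatible family on the henselizations of a covering agrees at all field points of the tensor products.
-/

set_option autoImplicit false
set_option backward.isDefEq.respectTransparency false

noncomputable section

open TensorProduct IsLocalRing

namespace Groth.Agent.HensPair.SheafLocus

universe u

open SheafAgree SheafPoint Groth.Agent.HensPoint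

variable {A : Type u} [CommRing A] {I : Ideal A} {ι : Type u} {g : ι → A}
  {H : Type u} [CommRing H] [Algebra A H] (hH : Hens2.IsPairHenselization A I H)
  {Hi : ι → Type u} [∀ i, CommRing (Hi i)] [∀ i, Algebra (Localization.Away (g i)) (Hi i)]
  [∀ i, Algebra A (Hi i)] [∀ i, IsScalarTower A (Localization.Away (g i)) (Hi i)]
  (hHi : ∀ i, Hens2.IsPairHenselization (Localization.Away (g i))
    (I.map (algebraMap A (Localization.Away (g i)))) (Hi i))
  [∀ i, Algebra H (Hi i)] [∀ i, IsScalarTower A H (Hi i)]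

section points

variable {K : Type u} [Field K] [IsAlgClosed K] [Algebra H K] [Algebra A K] [IsScalarTower A H K]

/-- `a` is the point of `Hi j` through the localization at `x` -/
def At (x : Ideal (S H K)) [x.IsPrime] {j : ι} (a : Hi j →ₐ[H] K) : Prop :=
  ∃ f : Hi j →ₐ[A] L H K x, ∀ z, toK H K x (f z) = a z

variable (x : Ideal (S H K)) [x.IsPrime]

theorem map_le_max (hx : I.map (algebraMap A (S H K)) ≤ x) :
    I.map (algebraMap A (L H K x)) ≤ maximalIdeal (L H K x) := by
  rw [IsScalarTower.algebraMap_eq A (S H K) (L H K x), ← Ideal.map_map]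
  refine (Ideal.map_mono hx).trans ?_
  rw [← Localization.AtPrime.map_eq_maximalIdeal]

theorem isUnit_g {j : ι} (hj : algebraMap A (S H K) (g j) ∉ x) :
    IsUnit (algebraMap A (L H K x) (g j)) := by
  rw [IsScalarTower.algebraMap_apply A (S H K) (L H K x)]
  exact IsLocalization.map_units (L H K x) (⟨_, hj⟩ : x.primeCompl)

include hHi in
theorem at_unique (hx : I.map (algebraMap A (S H K)) ≤ x) {j : ι} {a b : Hi j →ₐ[H] K}
    (ha : At (A := A) x a) (hb : At (A := A) x b) : a = b := by
  obtain ⟨f, hf⟩ := ha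
  obtain ⟨f', hf'⟩ := hb
  have := henselian_L H K x
  have := SheafPoint.hom_eq (hHi j) _ (map_le_max x hx) f f'
  exact AlgHom.ext fun z => by rw [← hf, ← hf', this]

include hH in
theorem comp_algebraMap (hx : I.map (algebraMap A (S H K)) ≤ x) {T : Type u} [CommRing T] [Algebra A T]
    [Algebra H T] [IsScalarTower A H T] (f : T →ₐ[A] L H K x) (h : H) :
    f (algebraMap H T h) = algebraMap H (L H K x) h := by
  have := henselian_L H K x
  exact DFunLike.congr_fun (Henselization.algHom_ext hH (maximalIdeal (L H K x)) (map_le_max x hx)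
    (f.comp (IsScalarTower.toAlgHom A H T)) (IsScalarTower.toAlgHom A H (L H K x))) h

theorem toK_algebraMap (h : H) : toK H K x (algebraMap H (L H K x) h) = algebraMap H K h := by
  rw [IsScalarTower.algebraMap_apply H (S H K) (L H K x), AlgHom.commutes, ← IsScalarTower.algebraMap_apply]

include hH hHi in
theorem exists_at (hx : I.map (algebraMap A (S H K)) ≤ x) {j : ι} (hj : algebraMap A (S H K) (g j) ∉ x) :
    ∃ b : Hi j →ₐ[H] K, At (A := A) x b := by
  have := henselian_L H K x
  obtain ⟨f⟩ := SheafPoint.exists_hom (hHi j) _ (map_le_max x hx) (isUnit_g x hj)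
  refine ⟨{ ((toK H K x : L H K x →+* K).comp (f : Hi j →+* L H K x)) with
    commutes' := fun h => ?_ }, f, fun z => rfl⟩
  show toK H K x (f (algebraMap H (Hi j) h)) = _
  rw [comp_algebraMap hH x hx f h, toK_algebraMap]

end points

variable {K : Type u} [Field K] [IsAlgClosed K] [Algebra H K] [Algebra A K] [IsScalarTower A H K]

include hH hHi in
theorem exists_prime {j : ι} (a : Hi j →ₐ[H] K) :
    ∃ (x : Ideal (S H K)) (_ : x.IsPrime), I.map (algebraMap A (S H K)) ≤ x ∧
      algebraMap A (S H K) (g j) ∉ x ∧ At (A := A) x a := by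
  let : Algebra (Hi j) K := a.toRingHom.toAlgebra
  have : IsScalarTower H (Hi j) K := IsScalarTower.of_algebraMap_eq fun h => (a.commutes h).symm
  have : IsScalarTower A (Hi j) K := IsScalarTower.of_algebraMap_eq fun c => by
    rw [IsScalarTower.algebraMap_apply A H K, IsScalarTower.algebraMap_apply H (Hi j) K,
      ← IsScalarTower.algebraMap_apply A H (Hi j)]
  let T := S (Hi j) K
  let jn : S H K →+* T :=
    { toFun := fun z => ⟨z.1, z.2.tower_top⟩
      map_one' := rfl
      map_mul' := fun _ _ => rfl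
      map_zero' := rfl
      map_add' := fun _ _ => rfl }
  have hjn : ∀ c : A, jn (algebraMap A (S H K) c) = algebraMap A T c := fun c => Subtype.ext rfl
  obtain ⟨n, hn⟩ := Ideal.exists_maximal T
  have hT := (SheafPoint.henselianRing (hHi j)).jac
  have hIn : I.map (algebraMap A T) ≤ n := by
    rw [IsScalarTower.algebraMap_eq A (Hi j) T, ← Ideal.map_map]
    exact fun c hc => Hensel.Idem.mem_of_mem_jacobson (Hensel.Idem.map_le_jacobson hT hc) n
  have hgn : algebraMap A T (g j) ∉ n := fun h => hn.ne_top (Ideal.eq_top_of_isUnit_mem _ h (by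
    rw [IsScalarTower.algebraMap_apply A (Hi j) T]
    exact (SheafPoint.isUnit_algebraMap (hHi j)).map _))
  let x : Ideal (S H K) := n.comap jn
  have hxI : I.map (algebraMap A (S H K)) ≤ x := by
    rw [Ideal.map_le_iff_le_comap]
    intro c hc
    show jn (algebraMap A (S H K) c) ∈ n
    rw [hjn]
    exact hIn (Ideal.mem_map_of_mem _ hc)
  have hgx : algebraMap A (S H K) (g j) ∉ x := fun h => hgn (by rw [← hjn]; exact h)
  refine ⟨x, inferInstance, hxI, hgx, ?_⟩
  have := henselian_L H K x
  have := henselian_L (Hi j) K n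
  obtain ⟨f⟩ := SheafPoint.exists_hom (hHi j) _ (map_le_max x hxI) (isUnit_g x hgx)
  let loc : L H K x →ₐ[A] L (Hi j) K n :=
    { Localization.localRingHom x n jn rfl with
      commutes' := fun c => by
        show Localization.localRingHom x n jn rfl (algebraMap A (L H K x) c) = _
        rw [IsScalarTower.algebraMap_apply A (S H K) (L H K x), Localization.localRingHom_to_map, hjn,
          ← IsScalarTower.algebraMap_apply] }
  have hIn' : I.map (algebraMap A (L (Hi j) K n)) ≤ maximalIdeal (L (Hi j) K n) := by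
    rw [IsScalarTower.algebraMap_eq A T (L (Hi j) K n), ← Ideal.map_map]
    refine (Ideal.map_mono hIn).trans ?_
    rw [← Localization.AtPrime.map_eq_maximalIdeal]
  have hu := SheafPoint.hom_eq (hHi j) _ hIn' (loc.comp f) (IsScalarTower.toAlgHom A (Hi j) (L (Hi j) K n))
  refine ⟨f, fun z => ?_⟩
  have hK : ∀ w, toK (Hi j) K n (loc w) = toK H K x w := fun w => by
    have : ((toK (Hi j) K n : L (Hi j) K n →+* K).comp (loc : L H K x →+* L (Hi j) K n)) =
        (toK H K x : L H K x →+* K) := by
      refine IsLocalization.ringHom_ext x.primeCompl ?_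
      ext c
      show toK (Hi j) K n (Localization.localRingHom x n jn rfl (algebraMap _ _ c)) = _
      rw [Localization.localRingHom_to_map, AlgHom.commutes]
      exact ((toK H K x).commutes c).symm
    exact RingHom.congr_fun this w
  rw [← hK]
  have : loc (f z) = algebraMap (Hi j) (L (Hi j) K n) z := DFunLike.congr_fun hu z
  rw [this, IsScalarTower.algebraMap_apply (Hi j) T (L (Hi j) K n), AlgHom.commutes,
    ← IsScalarTower.algebraMap_apply]
  rfl

section family

variable {Hij : ι → ι → Type u} [∀ i j, CommRing (Hij i j)]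
  [∀ i j, Algebra (Localization.Away (g i * g j)) (Hij i j)]
  [∀ i j, Algebra A (Hij i j)] [∀ i j, IsScalarTower A (Localization.Away (g i * g j)) (Hij i j)]
  (hHij : ∀ i j, Hens2.IsPairHenselization (Localization.Away (g i * g j))
    (I.map (algebraMap A (Localization.Away (g i * g j)))) (Hij i j))
  (σ : ∀ i j, Hi i →ₐ[A] Hij i j) (τ : ∀ i j, Hi j →ₐ[A] Hij i j)
  (s : ∀ i, Hi i) (hs : ∀ i j, σ i j (s i) = τ i j (s j))

include hH hHi hHij hs in
theorem agree_overlap (x : Ideal (S H K)) [x.IsPrime] (hx : I.map (algebraMap A (S H K)) ≤ x) {i j : ι}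
    (hi : algebraMap A (S H K) (g i) ∉ x) (hj : algebraMap A (S H K) (g j) ∉ x)
    {a : Hi i →ₐ[H] K} {b : Hi j →ₐ[H] K} (ha : At (A := A) x a) (hb : At (A := A) x b) :
    Agree a b (s i) (s j) := by
  have := henselian_L H K x
  let : Algebra H (Hij i j) := ((σ i j).comp (IsScalarTower.toAlgHom A H (Hi i))).toRingHom.toAlgebra
  have : IsScalarTower A H (Hij i j) := IsScalarTower.of_algebraMap_eq fun c =>
    (((σ i j).comp (IsScalarTower.toAlgHom A H (Hi i))).commutes c).symm
  have := SheafPoint.henselianRing (hHij i j)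
  have hτ := Henselization.algHom_ext hH _ le_rfl ((τ i j).comp (IsScalarTower.toAlgHom A H (Hi j)))
    ((σ i j).comp (IsScalarTower.toAlgHom A H (Hi i)))
  let σ' : Hi i →ₐ[H] Hij i j := { σ i j with commutes' := fun h => rfl }
  let τ' : Hi j →ₐ[H] Hij i j := { τ i j with commutes' := fun h => DFunLike.congr_fun hτ h }
  obtain ⟨f⟩ := SheafPoint.exists_hom (hHij i j) _ (map_le_max x hx) (by
    rw [map_mul]; exact (isUnit_g x hi).mul (isUnit_g x hj))
  let d : Hij i j →ₐ[H] K :=
    { ((toK H K x : L H K x →+* K).comp (f : Hij i j →+* L H K x)) with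
      commutes' := fun h => by
        show toK H K x (f (algebraMap H (Hij i j) h)) = _
        rw [comp_algebraMap hH x hx f h, toK_algebraMap] }
  have hEi := fun k => Trans.cancel (SheafPoint.isEtColim hH) (SheafPoint.etColim (hHi k))
  have hE : EtColim.IsEtColim H (Hij i j) :=
    Trans.cancel (SheafPoint.isEtColim hH) (SheafPoint.etColim (hHij i j))
  refine SheafAgree.of_flat σ' τ' ?_ d a b
    (at_unique hHi x hx ⟨f.comp (σ i j), fun z => rfl⟩ ha)
    (at_unique hHi x hx ⟨f.comp (τ i j), fun z => rfl⟩ hb) (s i) (s j) (hs i j)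
  have := hE.flat
  have hP : EtColim.IsEtColim H (Hi i ⊗[H] Hi j) :=
    _root_.Groth.Agent.HensPoint.Trans.trans (B := Hi i) (hEi i) (EtColimBC.baseChange (C := Hi i) (hEi j))
  let ι' := Algebra.TensorProduct.lift σ' τ' fun _ _ => Commute.all _ _
  let : Algebra (Hi i ⊗[H] Hi j) (Hij i j) := ι'.toRingHom.toAlgebra
  have : IsScalarTower H (Hi i ⊗[H] Hi j) (Hij i j) :=
    IsScalarTower.of_algebraMap_eq fun h => (ι'.commutes h).symm
  exact WeaklyEtale.flat_of_flat_base hP (Hij i j)

include hH hHi in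
theorem exists_agree_nhd (x : Ideal (S H K)) [x.IsPrime] (hx : I.map (algebraMap A (S H K)) ≤ x) {j : ι}
    (hj : algebraMap A (S H K) (g j) ∉ x) {b : Hi j →ₐ[H] K} (hb : At (A := A) x b) :
    ∃ h : S H K, h ∉ x ∧ ∀ (y : Ideal (S H K)) (_ : y.IsPrime), I.map (algebraMap A (S H K)) ≤ y → h ∉ y →
      algebraMap A (S H K) (g j) ∉ y ∧ ∀ b' : Hi j →ₐ[H] K, At (A := A) y b' → Agree b b' (s j) (s j) := by
  classical
  have hE : EtColim.IsEtColim H (Hi j) := Trans.cancel (SheafPoint.isEtColim hH) (SheafPoint.etColim (hHi j))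
  obtain ⟨B, _, _, _, φ, hr⟩ := hE.rep fun _ : Unit => s j
  obtain ⟨β, hβ⟩ := hr ()
  obtain ⟨G, hG⟩ := (inferInstance : Algebra.FiniteType H B).out
  obtain ⟨f, hf⟩ := hb
  choose c m hap using fun k : B => SheafPoint.approx (hHi j) (φ k)
  choose uv huv using fun k : B => IsLocalization.surj x.primeCompl (f (φ k))
  have hmem : ∀ k : B, ∃ e : S H K, e ∉ x ∧
      e * ((uv k).1 * algebraMap A (S H K) (g j) ^ m k - algebraMap A (S H K) (c k) * (uv k).2) ∈
        I.map (algebraMap A (S H K)) := by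
    intro k
    have h1 := Ideal.mem_map_of_mem f.toRingHom (hap k)
    rw [Ideal.map_map, AlgHom.toRingHom_eq_coe, AlgHom.comp_algebraMap] at h1
    simp only [RingHom.coe_coe, map_sub, map_mul, map_pow, AlgHom.commutes] at h1
    have h2 : algebraMap (S H K) (L H K x)
        ((uv k).1 * algebraMap A (S H K) (g j) ^ m k - algebraMap A (S H K) (c k) * (uv k).2) ∈
        (I.map (algebraMap A (S H K))).map (algebraMap (S H K) (L H K x)) := by
      rw [Ideal.map_map, ← IsScalarTower.algebraMap_eq]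
      have := Ideal.mul_mem_right (algebraMap (S H K) (L H K x) ((uv k).2 : S H K)) _ h1
      convert this using 1
      rw [map_sub, map_mul, map_mul, map_pow, ← huv k, ← IsScalarTower.algebraMap_apply,
        ← IsScalarTower.algebraMap_apply]
      ring
    obtain ⟨e, he, heI⟩ := (IsLocalization.algebraMap_mem_map_algebraMap_iff x.primeCompl (L H K x) _ _).mp h2
    exact ⟨e, he, heI⟩
  choose e he heI using hmem
  refine ⟨algebraMap A (S H K) (g j) * ∏ k ∈ G, ((uv k).2 : S H K) * e k, ?_, fun y _ hy hh => ?_⟩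
  · refine fun h => ((‹x.IsPrime›.mem_or_mem h).resolve_left hj |> fun h' => ?_)
    obtain ⟨k, -, hk⟩ := (‹x.IsPrime›.prod_mem_iff).mp h'
    exact (‹x.IsPrime›.mem_or_mem hk).elim (uv k).2.2 (he k)
  have hjy : algebraMap A (S H K) (g j) ∉ y := fun h => hh (Ideal.mul_mem_right _ _ h)
  have hky : ∀ k ∈ G, ((uv k).2 : S H K) * e k ∉ y := fun k hk h =>
    hh (Ideal.mul_mem_left _ _ (Ideal.mem_of_dvd y (Finset.dvd_prod_of_mem _ hk) h))
  refine ⟨hjy, fun b' hb' => ?_⟩
  obtain ⟨f', hf'⟩ := hb'
  have := henselian_L H K y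
  -- the map `B → L y` through the fractions
  let toKH : L H K y →ₐ[H] K := (toK H K y).restrictScalars H
  have hden : ∀ k ∈ G, IsUnit (algebraMap (S H K) (L H K y) ((uv k).2 : S H K)) := fun k hk =>
    IsLocalization.map_units (L H K y) (⟨_, fun h => hky k hk (Ideal.mul_mem_right _ _ h)⟩ : y.primeCompl)
  have hrange : ∀ w : B, (b.comp φ) w ∈ toKH.range := by
    intro w
    have hle : Algebra.adjoin H (G : Set B) ≤ toKH.range.comap (b.comp φ) := by
      refine Algebra.adjoin_le fun k hk => ?_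
      obtain ⟨v, hv⟩ := (hden k hk).exists_right_inv
      refine ⟨algebraMap (S H K) (L H K y) (uv k).1 * v, ?_⟩
      show toK H K y (algebraMap (S H K) (L H K y) (uv k).1 * v) = b (φ k)
      have h1 := congrArg (toK H K x) (huv k)
      rw [map_mul, AlgHom.commutes, AlgHom.commutes, hf] at h1
      have h2 := congrArg (toK H K y) hv
      rw [map_mul, AlgHom.commutes, map_one] at h2
      rw [map_mul, AlgHom.commutes, ← h1, mul_assoc, h2, mul_one]
    exact hle (by rw [hG]; exact Algebra.mem_top)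
  let ψ : B →ₐ[H] L H K y :=
    (AlgEquiv.ofInjective toKH (toK_injective H K y)).symm.toAlgHom.comp ((b.comp φ).codRestrict toKH.range hrange)
  have hψ : ∀ w, toK H K y (ψ w) = b (φ w) := fun w => by
    have := (AlgEquiv.ofInjective toKH (toK_injective H K y)).apply_symm_apply ⟨_, hrange w⟩
    exact congrArg Subtype.val this
  let ψ' : B →ₐ[H] L H K y :=
    { ((f' : Hi j →+* L H K y).comp (φ : B →+* Hi j)) with
      commutes' := fun h => by
        show f' (φ (algebraMap H B h)) = _
        rw [AlgHom.commutes, comp_algebraMap hH y hy f' h] }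
  have hmax := map_le_max y hy
  have hgen : ∀ k ∈ G, ψ k - ψ' k ∈ maximalIdeal (L H K y) := by
    intro k hk
    have h1 := Ideal.mem_map_of_mem f'.toRingHom (hap k)
    rw [Ideal.map_map, AlgHom.toRingHom_eq_coe, AlgHom.comp_algebraMap] at h1
    simp only [RingHom.coe_coe, map_sub, map_mul, map_pow, AlgHom.commutes] at h1
    have h1' := hmax h1
    have h3 : ψ k * algebraMap (S H K) (L H K y) ((uv k).2 : S H K) = algebraMap (S H K) (L H K y) (uv k).1 := by
      refine toK_injective H K y ?_
      rw [map_mul, hψ, AlgHom.commutes, AlgHom.commutes]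
      have h := congrArg (toK H K x) (huv k)
      rwa [map_mul, AlgHom.commutes, AlgHom.commutes, hf] at h
    have h4 : algebraMap (S H K) (L H K y)
        ((uv k).1 * algebraMap A (S H K) (g j) ^ m k - algebraMap A (S H K) (c k) * (uv k).2) ∈
        maximalIdeal (L H K y) := by
      rw [← Localization.AtPrime.map_eq_maximalIdeal]
      refine Ideal.mem_map_of_mem _ ?_
      exact ((‹y.IsPrime›.mem_or_mem (hy (heI k))).resolve_left fun h => hky k hk (Ideal.mul_mem_left _ _ h))
    rw [map_sub, map_mul, map_mul, map_pow, ← h3, ← IsScalarTower.algebraMap_apply,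
      ← IsScalarTower.algebraMap_apply,
      mul_comm (ψ k) (algebraMap (S H K) (L H K y) ((uv k).2 : S H K)),
      mul_comm (algebraMap A (L H K y) (c k)), mul_assoc, ← mul_sub] at h4
    have hu := (isUnit_g y hjy).pow (m k)
    refine (Ideal.mul_unit_mem_iff_mem _ hu).mp ?_
    have h5 := (Ideal.unit_mul_mem_iff_mem _ (hden k hk)).mp h4
    have h6 := sub_mem h5 h1'
    rw [sub_sub_sub_cancel_right, ← sub_mul] at h6
    exact h6
  have heq : ψ = ψ' := by
    refine Unique.algHom_eq (maximalIdeal_le_jacobson _) ψ ψ' fun w => ?_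
    have hle : Algebra.adjoin H (G : Set B) ≤ AlgHom.equalizer
        ((Ideal.Quotient.mkₐ H (maximalIdeal (L H K y))).comp ψ)
        ((Ideal.Quotient.mkₐ H (maximalIdeal (L H K y))).comp ψ') :=
      Algebra.adjoin_le fun k hk => Ideal.Quotient.eq.mpr (hgen k hk)
    exact Ideal.Quotient.eq.mp (hle (by rw [hG]; exact Algebra.mem_top : w ∈ Algebra.adjoin H (G : Set B)))
  have hcomm : b.comp φ = b'.comp φ := AlgHom.ext fun w => by
    show b (φ w) = b' (φ w)
    rw [← hψ, heq, ← hf']
    rfl
  rw [← hβ]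
  exact SheafAgree.of_common φ φ β b b' hcomm

include hH hHi hHij hs in
theorem agree (hcov : I ⊔ Ideal.span (Set.range g) = ⊤) {i j : ι} (a : Hi i →ₐ[H] K) (b : Hi j →ₐ[H] K) :
    Agree a b (s i) (s j) := by
  classical
  have := fun k => (Trans.cancel (SheafPoint.isEtColim hH) (SheafPoint.etColim (hHi k))).flat
  obtain ⟨x₀, hx₀p, hx₀, hi₀, ha⟩ := exists_prime hH hHi a
  obtain ⟨x₁, hx₁p, hx₁, hj₁, hb⟩ := exists_prime hH hHi b
  let J : Ideal (S H K) := I.map (algebraMap A (S H K))
  have hexists : ∀ x : Ideal (S H K), x.IsPrime → J ≤ x → ∃ k, algebraMap A (S H K) (g k) ∉ x := by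
    intro x hxp hx
    by_contra hne
    push Not at hne
    have h1 : I ⊔ Ideal.span (Set.range g) ≤ x.comap (algebraMap A (S H K)) :=
      sup_le (Ideal.map_le_iff_le_comap.mp hx) (Ideal.span_le.mpr (by rintro _ ⟨k, rfl⟩; exact hne k))
    rw [hcov] at h1
    exact hxp.ne_top ((Ideal.eq_top_iff_one _).mpr (by simpa using h1 (Submodule.mem_top (x := (1 : A)))))
  let P : ∀ (x : Ideal (S H K)), x.IsPrime → Prop := fun x _ =>
    ∀ k, algebraMap A (S H K) (g k) ∉ x → ∀ c : Hi k →ₐ[H] K, At (A := A) x c → Agree a c (s i) (s k)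
  have hpropagate : ∀ (x : Ideal (S H K)) [x.IsPrime], J ≤ x → ∀ {k}, algebraMap A (S H K) (g k) ∉ x →
      ∀ {c : Hi k →ₐ[H] K}, At (A := A) x c → Agree a c (s i) (s k) → P x ‹_› :=
    fun x _ hx k hk c hc hac k' hk' c' hc' =>
      SheafAgree.trans hac (agree_overlap hH hHi hHij σ τ s hs x hx hk hk' hc hc')
  let R := S H K ⧸ J
  let T : Set (PrimeSpectrum R) := {z | P (z.asIdeal.comap (Ideal.Quotient.mk J)) inferInstance}
  have hJz : ∀ z : PrimeSpectrum R, J ≤ z.asIdeal.comap (Ideal.Quotient.mk J) := fun z c hc => by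
    show Ideal.Quotient.mk J c ∈ z.asIdeal
    rw [Ideal.Quotient.eq_zero_iff_mem.mpr hc]; exact z.asIdeal.zero_mem
  have hloc : ∀ z : PrimeSpectrum R, ∃ U : Set (PrimeSpectrum R), IsOpen U ∧ z ∈ U ∧ ∀ z' ∈ U, (z' ∈ T ↔ z ∈ T) := by
    intro z
    let x := z.asIdeal.comap (Ideal.Quotient.mk J)
    obtain ⟨k, hk⟩ := hexists x inferInstance (hJz z)
    obtain ⟨c, hc⟩ := exists_at hH hHi x (hJz z) hk
    obtain ⟨h, hhx, hh⟩ := exists_agree_nhd hH hHi s x (hJz z) hk hc
    refine ⟨PrimeSpectrum.basicOpen (Ideal.Quotient.mk J h), (PrimeSpectrum.basicOpen _).2, hhx, fun z' hz' => ?_⟩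
    let y := z'.asIdeal.comap (Ideal.Quotient.mk J)
    obtain ⟨hky, hagree⟩ := hh y inferInstance (hJz z') hz'
    obtain ⟨c', hc'⟩ := exists_at hH hHi y (hJz z') hky
    constructor
    · exact fun hT => hpropagate x (hJz z) hk hc (SheafAgree.trans (hT k hky c' hc') (SheafAgree.symm (hagree c' hc')))
    · exact fun hT => hpropagate y (hJz z') hky hc' (SheafAgree.trans (hT k hk c hc) (hagree c' hc'))
  have hclopen : IsClopen T := by
    refine ⟨⟨?_⟩, ?_⟩ <;> rw [isOpen_iff_forall_mem_open] <;> intro z hz <;> obtain ⟨U, hU, hzU, hUT⟩ := hloc z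
    · exact ⟨U, fun z' hz' h => hz ((hUT z' hz').mp h), hU, hzU⟩
    · exact ⟨U, fun z' hz' => (hUT z' hz').mpr hz, hU, hzU⟩
  obtain ⟨e, he, hTe⟩ := PrimeSpectrum.isClopen_iff.mp hclopen
  have hhens : HenselianRing (S H K) J := by
    have := hH.1
    have h1 := Basic.henselian_of_isIntegral (I := I.map (algebraMap A H)) (S H K)
    rwa [Ideal.map_map, ← IsScalarTower.algebraMap_eq] at h1
  obtain ⟨e₀, rfl⟩ := Ideal.Quotient.mk_surjective e
  have hlift : ∃ r : S H K, IsIdempotentElem r ∧ Ideal.Quotient.mk J r = Ideal.Quotient.mk J e₀ := by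
    have hu : IsUnit (Ideal.Quotient.mk J ((Polynomial.X ^ 2 - Polynomial.X : Polynomial (S H K)).derivative.eval e₀)) := by
      have he2 : Ideal.Quotient.mk J e₀ * Ideal.Quotient.mk J e₀ = Ideal.Quotient.mk J e₀ := he
      refine IsUnit.of_mul_eq_one (2 * Ideal.Quotient.mk J e₀ - 1) ?_
      simp only [Polynomial.derivative_sub, Polynomial.derivative_pow, Polynomial.derivative_X, mul_one,
        Polynomial.eval_sub, Polynomial.eval_mul, Polynomial.eval_C, Polynomial.eval_pow, Polynomial.eval_X,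
        Polynomial.eval_one, Polynomial.eval_ofNat, map_sub, map_mul, map_pow, map_one, map_natCast, Nat.cast_ofNat, map_ofNat]
      linear_combination 4 * he2
    obtain ⟨r, hr, hre⟩ := hhens.is_henselian (Polynomial.X ^ 2 - Polynomial.X)
      ((Polynomial.monic_X_pow 2).sub_of_left (by
        rw [Polynomial.degree_X_pow]; exact lt_of_le_of_lt Polynomial.degree_X_le (by norm_num))) e₀
      (by
        rw [← Ideal.Quotient.eq_zero_iff_mem]
        simp only [Polynomial.eval_sub, Polynomial.eval_pow, Polynomial.eval_X, map_sub, map_pow]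
        rw [pow_two, he.eq, sub_self]) hu
    refine ⟨r, ?_, Ideal.Quotient.eq.mpr hre⟩
    have := hr
    simp only [Polynomial.IsRoot.def, Polynomial.eval_sub, Polynomial.eval_pow, Polynomial.eval_X, sub_eq_zero] at this
    rwa [pow_two] at this
  obtain ⟨r, hr, hre⟩ := hlift
  let z₀ : PrimeSpectrum R := ⟨x₀.map (Ideal.Quotient.mk J),
    Ideal.map_isPrime_of_surjective Ideal.Quotient.mk_surjective (by rw [Ideal.mk_ker]; exact hx₀)⟩
  let z₁ : PrimeSpectrum R := ⟨x₁.map (Ideal.Quotient.mk J),
    Ideal.map_isPrime_of_surjective Ideal.Quotient.mk_surjective (by rw [Ideal.mk_ker]; exact hx₁)⟩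
  have hc₀ : z₀.asIdeal.comap (Ideal.Quotient.mk J) = x₀ := Ideal.comap_map_mk hx₀
  have hc₁ : z₁.asIdeal.comap (Ideal.Quotient.mk J) = x₁ := Ideal.comap_map_mk hx₁
  have hz₀ : z₀ ∈ T := by
    have hP : P x₀ hx₀p := hpropagate x₀ hx₀ hi₀ ha (agree_overlap hH hHi hHij σ τ s hs x₀ hx₀ hi₀ hi₀ ha ha)
    show P _ _
    simp only [hc₀]
    exact hP
  rw [← hre] at hTe
  rcases IsIdempotentElem.iff_eq_zero_or_one.mp hr with rfl | rfl
  · rw [hTe] at hz₀; simp at hz₀
  · have hz₁ : z₁ ∈ T := by rw [hTe]; simp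
    change P _ _ at hz₁
    simp only [hc₁] at hz₁
    exact hz₁ j hj₁ b hb

end family

end Groth.Agent.HensPair.SheafLocus
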