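import Groth.Agent.HensPair.Basic
import Groth.Agent.Hensel.System
import Mathlib.RingTheory.Smooth.Basic
import Mathlib.RingTheory.Nakayama

/-!
Points of smooth algebras lift along henselian pairs.
-/

set_option autoImplicit false

open MvPolynomial

namespace Groth.Agent.HensPair.SmoothLift

universe u

/-- multivariate Hensel lemma for henselian pairs -/
theorem exists_zero {A : Type u} [CommRing A] {I : Ideal A} [HenselianRing A I] {σ : Type}
    [Fintype σ] [DecidableEq σ] (P : σ → MvPolynomial σ A) (a₀ : σ → A)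
    (h₀ : ∀ i, eval a₀ (P i) ∈ I)
    (hJ : IsUnit (Matrix.of fun i j => Ideal.Quotient.mk I (eval a₀ (pderiv j (P i)))).det) :
    ∃ a : σ → A, (∀ i, eval a (P i) = 0) ∧ ∀ j, a j - a₀ j ∈ I := by
  let q := Ideal.Quotient.mkₐ A I
  let ev : MvPolynomial σ A →ₐ[A] A ⧸ I := aeval fun j => q (a₀ j)
  have hev : ∀ p, ev p = q (eval a₀ p) := fun p => by
    change ev p = (q.comp (aeval a₀)) p
    rw [comp_aeval]
  let ψ₀ : Hensel.System.Quot P →ₐ[A] A ⧸ I := Ideal.Quotient.liftₐ _ ev fun p hp => by
    have hle : Ideal.span (Set.range P) ≤ RingHom.ker ev := Ideal.span_le.mpr (by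
      rintro _ ⟨i, rfl⟩; exact (hev _).trans (Ideal.Quotient.eq_zero_iff_mem.mpr (h₀ i)))
    exact hle hp
  have hu : ∀ y : Submonoid.powers (Ideal.Quotient.mk (Ideal.span (Set.range P))
      (Hensel.System.jacobianPoly P)), IsUnit (ψ₀ y) := by
    rintro ⟨_, k, rfl⟩
    rw [map_pow]
    refine IsUnit.pow _ ?_
    change IsUnit (ev (Hensel.System.jacobianPoly P))
    rw [hev, Hensel.System.jacobianPoly, RingHom.map_det]
    show IsUnit (Ideal.Quotient.mk I _)
    rw [RingHom.map_det]
    exact hJ
  let ψ : Hensel.System.Simple P →ₐ[A] A ⧸ I := IsLocalization.liftAlgHom (f := ψ₀) hu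
  obtain ⟨f, hf, -⟩ := Basic.existsUnique_lift (B := A) (J := I) _ ψ
  let g : MvPolynomial σ A →ₐ[A] A :=
    (f.comp (IsScalarTower.toAlgHom A (Hensel.System.Quot P) (Hensel.System.Simple P))).comp
      (Ideal.Quotient.mkₐ A _)
  refine ⟨fun j => g (X j), fun i => ?_, fun j => ?_⟩
  · have : g (P i) = 0 := by
      simp [g, Ideal.Quotient.eq_zero_iff_mem.mpr (Ideal.subset_span (Set.mem_range_self i))]
    rw [aeval_unique g] at this
    exact this
  · rw [← Ideal.Quotient.eq]
    refine (DFunLike.congr_fun hf _).trans ?_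
    exact (IsLocalization.lift_eq _ _).trans (aeval_X _ j)

theorem taylor {R : Type u} [CommRing R] {n : ℕ} (J : Ideal (MvPolynomial (Fin n) R))
    (e : Fin n → MvPolynomial (Fin n) R) (he : ∀ i, e i ∈ J) (p : MvPolynomial (Fin n) R) :
    aeval (fun i => X i - e i) p - p + ∑ i, pderiv i p * e i ∈ J ^ 2 := by
  induction p using MvPolynomial.induction_on with
  | C a => simp
  | add p q hp hq =>
    convert add_mem hp hq using 1
    simp only [map_add, add_mul, Finset.sum_add_distrib]
    ring
  | mul_X p k hp =>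
    classical
    have h1 : (∑ i, pderiv i p * e i) * e k ∈ J ^ 2 :=
      pow_two J ▸ Ideal.mul_mem_mul (sum_mem fun i _ => J.mul_mem_left _ (he i)) (he k)
    convert add_mem (Ideal.mul_mem_right (X k - e k) _ hp) h1 using 1
    simp only [map_mul, aeval_X, pderiv_mul, pderiv_X]
    simp only [Pi.single_apply, mul_ite, mul_one, mul_zero, add_mul, Finset.sum_add_distrib, ite_mul,
      zero_mul, Finset.sum_ite_eq', Finset.sum_ite_eq, Finset.mem_univ, if_true,
      mul_right_comm _ (X k : MvPolynomial (Fin n) R), ← Finset.sum_mul]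
    ring

theorem pderiv_mem {R : Type u} [CommRing R] {n : ℕ} (J : Ideal (MvPolynomial (Fin n) R))
    {p : MvPolynomial (Fin n) R} (hp : p ∈ J ^ 2) (l : Fin n) : pderiv l p ∈ J := by
  rw [pow_two] at hp
  refine Submodule.mul_induction_on hp (fun a ha b hb => ?_) fun a b ha hb => ?_
  · rw [pderiv_mul]
    exact add_mem (J.mul_mem_left _ hb) (J.mul_mem_right _ ha)
  · rw [map_add]; exact add_mem ha hb

theorem exists_lift {R S A : Type u} [CommRing R] [CommRing S] [Algebra R S] [Algebra.Smooth R S]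
    [CommRing A] [Algebra R A] {I : Ideal A} [HenselianRing A I] (σ : S →ₐ[R] A ⧸ I) :
    ∃ τ : S →ₐ[R] A, (Ideal.Quotient.mkₐ R I).comp τ = σ := by
  classical
  obtain ⟨n, π, hπ, hker⟩ := (inferInstance : Algebra.FinitePresentation R S).out
  obtain ⟨m, f, hf⟩ := Submodule.fg_iff_exists_fin_generating_family.mp hker
  let J := RingHom.ker π
  have hJ : Ideal.span (Set.range f) = J := hf
  have hfJ : ∀ k, f k ∈ J := fun k => hJ ▸ Ideal.subset_span (Set.mem_range_self k)
  -- a section modulo the square of the kernel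
  let π₂ : MvPolynomial (Fin n) R ⧸ J ^ 2 →ₐ[R] S :=
    Ideal.Quotient.liftₐ (J ^ 2) π fun x hx => Ideal.pow_le_self two_ne_zero hx
  have hπ₂ : Function.Surjective π₂ := fun s => by
    obtain ⟨x, rfl⟩ := hπ s; exact ⟨Ideal.Quotient.mk _ x, rfl⟩
  have hnil : IsNilpotent (RingHom.ker π₂.toRingHom) := ⟨2, by
    refine le_bot_iff.mp ?_
    rw [show RingHom.ker π₂.toRingHom = J.map (Ideal.Quotient.mk (J ^ 2)) from by
      ext x
      obtain ⟨x, rfl⟩ := Ideal.Quotient.mk_surjective x
      rw [Ideal.mem_map_iff_of_surjective _ Ideal.Quotient.mk_surjective]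
      refine ⟨fun h => ⟨x, h, rfl⟩, ?_⟩
      rintro ⟨y, hy, hxy⟩
      show π₂ (Ideal.Quotient.mk _ x) = 0
      rw [← hxy]; exact hy]
    rw [← Ideal.map_pow, Ideal.map_quotient_self]⟩
  obtain ⟨s, hs⟩ : ∃ s : S →ₐ[R] MvPolynomial (Fin n) R ⧸ J ^ 2, π₂.comp s = AlgHom.id R S :=
    ⟨Algebra.FormallySmooth.liftOfSurjective (AlgHom.id R S) π₂ hπ₂ hnil,
      Algebra.FormallySmooth.comp_liftOfSurjective _ _ _ _⟩
  choose c hc using fun i => Ideal.Quotient.mk_surjective (s (π (X i)))
  let e : Fin n → MvPolynomial (Fin n) R := fun i => X i - c i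
  have he : ∀ i, e i ∈ J := fun i => by
    show π (X i - c i) = 0
    rw [map_sub, show π (c i) = π₂ (s (π (X i))) by rw [← hc]; rfl, ← AlgHom.comp_apply, hs]
    simp
  have hsc : s.comp π = (Ideal.Quotient.mkₐ R (J ^ 2)).comp (aeval fun i => X i - e i) := by
    refine MvPolynomial.algHom_ext fun i => ?_
    simp only [AlgHom.comp_apply, aeval_X, e, sub_sub_cancel]
    exact (hc i).symm
  have h1 : ∀ j, f j - ∑ i, pderiv i (f j) * e i ∈ J ^ 2 := fun j => by
    have h0 : aeval (fun i => X i - e i) (f j) ∈ J ^ 2 := by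
      rw [← Ideal.Quotient.eq_zero_iff_mem]
      have := DFunLike.congr_fun hsc (f j)
      simp only [AlgHom.comp_apply, show π (f j) = 0 from hfJ j, map_zero] at this
      exact this.symm
    have := sub_mem h0 (taylor J e he (f j))
    convert this using 1
    ring
  choose M hM using fun i => Ideal.mem_span_range_iff_exists_fun.mp (hJ ▸ he i : e i ∈ Ideal.span (Set.range f))
  let N : Fin n → Fin n → MvPolynomial (Fin n) R := fun i l => ∑ k, M i k * pderiv l (f k)
  have hNe : ∀ i l, pderiv l (e i) - N i l ∈ J := fun i l => by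
    rw [← hM i, map_sum, ← Finset.sum_sub_distrib]
    refine sum_mem fun k _ => ?_
    rw [pderiv_mul, add_sub_cancel_right]
    exact J.mul_mem_left _ (hfJ k)
  have h2 : ∀ j l, pderiv l (f j) - ∑ i, pderiv i (f j) * N i l ∈ J := fun j l => by
    have h := pderiv_mem J (h1 j) l
    rw [map_sub, map_sum] at h
    have h' : ∑ i, pderiv l (pderiv i (f j) * e i) - ∑ i, pderiv i (f j) * N i l ∈ J := by
      rw [← Finset.sum_sub_distrib]
      refine sum_mem fun i _ => ?_
      rw [pderiv_mul, add_sub_assoc, ← mul_sub]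
      exact add_mem (J.mul_mem_left _ (he i)) (J.mul_mem_left _ (hNe i l))
    simpa using add_mem h h'
  -- the system
  choose a₀ ha₀ using fun i => Ideal.Quotient.mk_surjective (σ (π (X i)))
  let φ : MvPolynomial (Fin n) R →ₐ[R] MvPolynomial (Fin n) A := aeval X
  have hφd : ∀ p l, pderiv l (φ p) = φ (pderiv l p) := fun p l => by
    induction p using MvPolynomial.induction_on with
    | C a => simp [φ, IsScalarTower.algebraMap_apply R A (MvPolynomial (Fin n) A)]
    | add p q hp hq => simp [map_add, hp, hq]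
    | mul_X p k hp =>
      rw [map_mul, pderiv_mul, hp, pderiv_mul, map_add, map_mul, map_mul]
      congr 1
      simp [φ, pderiv_X, Pi.single_apply, apply_ite φ]
  have hφe : ∀ (a : Fin n → A) p, eval a (φ p) = aeval a p := fun a p => by
    induction p using MvPolynomial.induction_on with
    | C r => simp [φ, IsScalarTower.algebraMap_apply R A (MvPolynomial (Fin n) A)]
    | add p q hp hq => simp [map_add, hp, hq]
    | mul_X p k hp => rw [map_mul, map_mul, map_mul, hp]; simp [φ]
  let H : Fin n → MvPolynomial (Fin n) A := fun i =>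
    φ (e i) + (X i - C (a₀ i)) - ∑ l, φ (N i l) * (X l - C (a₀ l))
  have hpt : ∀ p ∈ J, aeval a₀ p ∈ I := fun p hp => by
    have : (Ideal.Quotient.mkₐ R I).comp (aeval a₀) = σ.comp π :=
      MvPolynomial.algHom_ext fun i => by simp [ha₀]
    rw [← Ideal.Quotient.eq_zero_iff_mem]
    refine (DFunLike.congr_fun this p).trans ?_
    simp [show π p = 0 from hp]
  obtain ⟨a, ha, haI⟩ := exists_zero H a₀ (I := I) (fun i => by
    simpa [H, hφe] using hpt _ (he i)) (by
    have hone : (Matrix.of fun i j => Ideal.Quotient.mk I (eval a₀ (pderiv j (H i)))) = 1 := by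
      ext i j
      have h := Ideal.Quotient.eq_zero_iff_mem.mpr (hpt _ (hNe i j))
      rw [map_sub, map_sub, sub_eq_zero] at h
      simp only [Matrix.of_apply, H, map_add, map_sub, map_sum, pderiv_mul, hφd, pderiv_C, pderiv_X,
        hφe, eval_X, eval_C, map_mul, sub_self, mul_zero, zero_add, sub_zero, map_zero]
      simp only [Pi.single_apply, apply_ite (eval a₀), apply_ite (Ideal.Quotient.mk I), map_one,
        map_zero, mul_ite, mul_one, mul_zero, Finset.sum_ite_eq', Finset.sum_ite_eq, Finset.mem_univ,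
        if_true, h]
      rw [Matrix.one_apply]
      by_cases hij : i = j <;> simp [hij, eq_comm]
    rw [hone, Matrix.det_one]
    exact isUnit_one)
  -- it is a point of the algebra
  let K : Ideal A := Ideal.span (Set.range fun j => aeval a (f j))
  have hKmem : ∀ p ∈ J, aeval a p ∈ K := fun p hp => by
    obtain ⟨g, rfl⟩ := Ideal.mem_span_range_iff_exists_fun.mp (hJ ▸ hp : p ∈ Ideal.span (Set.range f))
    rw [map_sum]
    exact sum_mem fun j _ => by
      rw [map_mul]; exact K.mul_mem_left _ (Ideal.subset_span ⟨j, rfl⟩)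
  have hKI : K ≤ I := Ideal.span_le.mpr fun _ ⟨j, hj⟩ => by
    rw [← hj, SetLike.mem_coe, ← Ideal.Quotient.eq_zero_iff_mem]
    have h : (Ideal.Quotient.mkₐ R I).comp (aeval a) = σ.comp π :=
      MvPolynomial.algHom_ext fun i => by
        simp only [AlgHom.comp_apply, aeval_X, ← ha₀]
        exact Ideal.Quotient.eq.mpr (haI i)
    refine (DFunLike.congr_fun h (f j)).trans ?_
    simp [show π (f j) = 0 from hfJ j]
  have hK2 : ∀ p ∈ J ^ 2, aeval a p ∈ I * K := fun p hp => by
    rw [pow_two] at hp
    refine Submodule.mul_induction_on hp (fun x hx y hy => ?_) fun x y hx hy => ?_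
    · rw [map_mul]; exact Ideal.mul_mem_mul (hKI (hKmem x hx)) (hKmem y hy)
    · rw [map_add]; exact add_mem hx hy
  have hgen : ∀ j, aeval a (f j) ∈ I * K := fun j => by
    have hval : ∀ i, aeval a (e i) = (∑ l, aeval a (N i l) * (a l - a₀ l)) - (a i - a₀ i) := fun i => by
      have := ha i
      simp only [H, map_add, map_sub, map_sum, map_mul, hφe, eval_X, eval_C] at this
      linear_combination this
    have h3 := hK2 _ (h1 j)
    rw [map_sub, map_sum] at h3
    have h4 : ∑ i, aeval a (pderiv i (f j) * e i) ∈ I * K := by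
      have : ∑ i, aeval a (pderiv i (f j) * e i) = -∑ l, (a l - a₀ l) *
          aeval a (pderiv l (f j) - ∑ i, pderiv i (f j) * N i l) := by
        simp only [map_mul, hval, mul_sub, map_sub, map_sum, Finset.mul_sum, Finset.sum_sub_distrib,
          sub_mul, neg_sub, Finset.sum_sub_distrib]
        rw [Finset.sum_comm (f := fun i l => aeval a (pderiv i (f j)) * (aeval a (N i l) * a l)),
          Finset.sum_comm (f := fun i l => aeval a (pderiv i (f j)) * (aeval a (N i l) * a₀ l))]
        simp only [mul_comm, mul_left_comm]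
      rw [this]
      exact neg_mem ((I * K).sum_mem fun l _ => Ideal.mul_mem_mul (haI l) (hKmem _ (h2 j l)))
    have h5 := add_mem h3 h4
    rwa [← sub_add_cancel (aeval a (f j)) (∑ i, aeval a (pderiv i (f j) * e i))]
  have hK0 : K = ⊥ := by
    refine Submodule.eq_bot_of_le_smul_of_le_jacobson_bot I K
      (Submodule.fg_span (Set.finite_range _)) ?_ HenselianRing.jac
    rw [smul_eq_mul]
    exact Ideal.span_le.mpr fun _ ⟨j, hj⟩ => hj ▸ hgen j
  let τ : S →ₐ[R] A := (Ideal.Quotient.liftₐ (RingHom.ker π) (aeval a) fun p hp =>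
    (Ideal.mem_bot).mp (hK0 ▸ hKmem p hp)).comp (Ideal.quotientKerAlgEquivOfSurjective hπ).symm.toAlgHom
  have hτ : ∀ p, τ (π p) = aeval a p := fun p => by
    have key : (Ideal.quotientKerAlgEquivOfSurjective hπ).symm (π p) = Ideal.Quotient.mk _ p :=
      (Ideal.quotientKerAlgEquivOfSurjective hπ).injective (by simp)
    simp only [τ, AlgHom.comp_apply]
    exact (congrArg _ key).trans rfl
  refine ⟨τ, AlgHom.ext fun x => ?_⟩
  obtain ⟨p, rfl⟩ := hπ x
  have h : (Ideal.Quotient.mkₐ R I).comp (aeval a) = σ.comp π :=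
    MvPolynomial.algHom_ext fun i => by
      simp only [AlgHom.comp_apply, aeval_X, ← ha₀]
      exact Ideal.Quotient.eq.mpr (haI i)
  rw [AlgHom.comp_apply, hτ]
  exact DFunLike.congr_fun h p

end Groth.Agent.HensPair.SmoothLift
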