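import Groth.Agent.HensPair.ClosedDim

/-!
Dimension invariants of an irreducible closed subscheme relative to a morphism.
-/

set_option autoImplicit false
set_option synthInstance.maxHeartbeats 200000

noncomputable section

open CategoryTheory AlgebraicGeometry TopologicalSpace Topology

namespace Groth.Agent.HensPair.SubDim

universe u

variable {X Y : Scheme.{u}} (f : X ⟶ Y) [IsLocallyNoetherian Y] [LocallyOfFiniteType f]

/-- local rings of a closed subscheme with generic point -/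
theorem stalk_dim {T S : Scheme.{u}} (i : T ⟶ S) [IsClosedImmersion i] (t : T) (a : S)
    (hr : Set.range i = closure {a}) : ringKrullDim (T.presheaf.stalk t) = CatScheme.cd a (i t) := by
  obtain ⟨t₀, ht₀⟩ : a ∈ Set.range i := by rw [hr]; exact subset_closure rfl
  rw [← CatScheme.cd_eq_stalk_of_generic t₀ t fun w => i.isEmbedding.isInducing.specializes_iff.mp
    (by rw [ht₀]; exact specializes_iff_mem_closure.mpr (hr.le ⟨w, rfl⟩)), ← ClosedDim.cd_closedImmersion i, ht₀]

/-- all invariants of the closure of `ξ` at `x` -/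
theorem data (X' : Closeds X) (ξ : X) (hξ : closure ({ξ} : Set X) = X') (x : X) (hx : x ∈ X')
    (w : ↥(Scheme.IdealSheafData.vanishingIdeal X').subscheme)
    (hw : (Scheme.IdealSheafData.vanishingIdeal X').subschemeι.base w = x)
    (v : ↥(Scheme.IdealSheafData.vanishingIdeal
      (⟨closure (f.base '' (X' : Set X)), isClosed_closure⟩ : Closeds Y)).subscheme)
    (hv : (Scheme.IdealSheafData.vanishingIdeal
      (⟨closure (f.base '' (X' : Set X)), isClosed_closure⟩ : Closeds Y)).subschemeι.base v = f.base x)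
    (η' : Y) (hη' : closure ({η'} : Set Y) = closure (f.base '' (X' : Set X))) :
    ∃ m d k m' d' k' t tξ : ℕ,
      ringKrullDim (Y.presheaf.stalk (f.base x)) = (d : ℕ) ∧
      ringKrullDim (X.presheaf.stalk x) = (m : ℕ) ∧
      ringKrullDim ((Scheme.IdealSheafData.vanishingIdeal
        (⟨closure (f.base '' (X' : Set X)), isClosed_closure⟩ : Closeds Y)).subscheme.presheaf.stalk v) = (d' : ℕ) ∧
      ringKrullDim ((Scheme.IdealSheafData.vanishingIdeal X').subscheme.presheaf.stalk w) = (m' : ℕ) ∧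
      ringKrullDim ((f.fiber (f.base x)).presheaf.stalk (f.asFiber x)) = (k : ℕ) ∧
      ringKrullDim ((((Scheme.IdealSheafData.vanishingIdeal X').subschemeι ≫ f).fiber
        (((Scheme.IdealSheafData.vanishingIdeal X').subschemeι ≫ f).base w)).presheaf.stalk
        (((Scheme.IdealSheafData.vanishingIdeal X').subschemeι ≫ f).asFiber w)) = (k' : ℕ) ∧
      topologicalKrullDim ↥((X' : Set X) ∩ f.base ⁻¹' {η'}) = (tξ : ℕ) ∧
      FlatMor.fibreDimAt ((Scheme.IdealSheafData.vanishingIdeal X').subschemeι ≫ f) w = ((k' + t : ℕ) : WithBot ℕ∞) ∧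
      FlatMor.fibreDimAt f x = ((k + t : ℕ) : WithBot ℕ∞) ∧
      FlatMor.localDim ↥((X' : Set X) ∩ f.base ⁻¹' {f.base x}) ⟨x, hx, rfl⟩ = ((k' + t : ℕ) : WithBot ℕ∞) ∧
      m' + t ≤ d' + tξ ∧ tξ ≤ k' + t ∧ k' ≤ k ∧ d' ≤ d ∧ m' ≤ d' + k' ∧ m' ≤ m ∧ m ≤ d + k := by
  obtain ⟨m, d, k, hm, hd, hk, hle, he⟩ := CatFormula.dims f x
  let T' := (Scheme.IdealSheafData.vanishingIdeal X').subscheme
  let i : T' ⟶ X := (Scheme.IdealSheafData.vanishingIdeal X').subschemeι
  have hr : Set.range i = closure {ξ} := by rw [hξ]; exact Scheme.IdealSheafData.range_subschemeι _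
  obtain ⟨t₀, ht₀⟩ : ξ ∈ Set.range i := by rw [hr]; exact subset_closure rfl
  have hξx : ξ ⤳ x := specializes_iff_mem_closure.mpr (hξ.ge hx)
  have hgen : ∀ s : T', t₀ ⤳ s := fun s => i.isEmbedding.isInducing.specializes_iff.mp
    (by rw [ht₀]; exact specializes_iff_mem_closure.mpr (hr.le ⟨s, rfl⟩))
  have hfξ : η' = f ξ := by
    refine IsGenericPoint.eq (S := closure ({f ξ} : Set Y)) ?_ rfl
    show closure {η'} = _
    rw [hη']
    refine le_antisymm (closure_minimal ?_ isClosed_closure)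
      (closure_mono (Set.singleton_subset_iff.mpr ⟨ξ, hξ.le (subset_closure rfl), rfl⟩))
    rintro _ ⟨z, hz, rfl⟩
    exact ((specializes_iff_mem_closure.mpr (hξ.ge hz)).map f.continuous).mem_closure
  let q := i ≫ f
  obtain ⟨j, i', hi', hj, hineq, -⟩ := CatScheme.alt f x ξ hξx
  have hm' : ringKrullDim (T'.presheaf.stalk w) = (i' : ℕ) :=
    (stalk_dim i w ξ hr).trans ((congrArg (CatScheme.cd ξ) hw).trans hi')
  have hd' : ringKrullDim ((Scheme.IdealSheafData.vanishingIdeal
      (⟨closure (f.base '' (X' : Set X)), isClosed_closure⟩ : Closeds Y)).subscheme.presheaf.stalk v) = (j : ℕ) := by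
    refine (stalk_dim _ v η' ?_).trans ((congrArg (CatScheme.cd η') hv).trans (hfξ ▸ hj))
    rw [hη']
    exact Scheme.IdealSheafData.range_subschemeι _
  haveI : IsLocallyNoetherian X := LocallyOfFiniteType.isLocallyNoetherian f
  obtain ⟨mq, dq, k', hmq, hdq, hk', hleq, heq'⟩ := CatFormula.dims q w
  have hT : FibreTrdeg.T q w = FibreTrdeg.T f x :=
    (EquidimStalk.T_comp i f w).trans (congrArg (FibreTrdeg.T f) hw)
  rw [hT] at heq'
  have hqw : q w = f x := congrArg (fun z => f z) hw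
  have hlocal : FlatMor.fibreDimAt q w = FlatMor.localDim ↥((X' : Set X) ∩ f ⁻¹' {f x}) ⟨x, hx, rfl⟩ := by
    let e : ↥(q ⁻¹' {q w}) ≃ₜ ↥((X' : Set X) ∩ f ⁻¹' {f x}) := by
      refine ((i.isEmbedding.comp IsEmbedding.subtypeVal).toHomeomorph
        (f := fun s : ↥(q ⁻¹' {q w}) => i s.1)).trans (Homeomorph.setCongr (Set.ext fun z => ⟨?_, ?_⟩))
      · rintro ⟨⟨s, hs⟩, rfl⟩
        exact ⟨hξ.le (hr.le ⟨s, rfl⟩), (show f (i s) = q w from hs).trans hqw⟩
      · rintro ⟨hz, hzy⟩
        obtain ⟨s, rfl⟩ := hr.ge (hξ.ge hz)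
        exact ⟨⟨s, (show f (i s) = f x from hzy).trans hqw.symm⟩, rfl⟩
    rw [AlgSpTopo.ThickScheme.fibreDimAt_eq, AlgSpTopo.ThickScheme.localDim_homeo e]
    exact congrArg _ (Subtype.ext hw)
  have hk'k : k' ≤ k := by
    have h1 := ChevalleyTfae.localDim_inter_le f x (X' : Set X) hx
    rw [← hlocal, heq', he] at h1
    have h2 : k' + FibreTrdeg.T f x ≤ k + FibreTrdeg.T f x := by exact_mod_cast h1
    omega
  have htξ : topologicalKrullDim ↥((X' : Set X) ∩ f.base ⁻¹' {η'}) = (FibreTrdeg.T f ξ : ℕ) := by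
    rw [← ht₀, ← EquidimStalk.T_comp i f t₀, ← FibreTrdeg.fibreDimAt_eq_T_of_maximal q t₀
      fun s _ hs => ((specializes_iff_mem_closure.mpr hs).antisymm (hgen s)).eq]
    obtain ⟨c, hc⟩ : t₀ ∈ Set.range (q.fiberι (q t₀)) := by rw [q.range_fiberι]; rfl
    have hcgen : ∀ p, c ⤳ p := fun p => (q.fiberι (q t₀)).isEmbedding.isInducing.specializes_iff.mp (by rw [hc]; exact hgen _)
    refine le_antisymm ?_ ((Equidim.fibreDimAt_le_dim q t₀).trans ?_)
    · rw [← hc, ← FibreComp.dim_closure_eq q (q t₀) c fun p hp => (hp.antisymm (hcgen p)).eq]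
      refine Equidim.dim_le_of_range (φ := fun s : ↥((X' : Set X) ∩ f.base ⁻¹' {η'}) => s.1) IsInducing.subtypeVal
        ((i.isEmbedding.comp (q.fiberι (q t₀)).isEmbedding).comp IsEmbedding.subtypeVal) fun s => ?_
      obtain ⟨s', hs'⟩ := hr.ge (hξ.ge s.2.1)
      obtain ⟨p, hp⟩ : s' ∈ Set.range (q.fiberι (q t₀)) := by
        rw [q.range_fiberι]
        show f (i s') = f (i t₀)
        rw [hs', ht₀]
        exact (show f s.1 = η' from s.2.2).trans hfξ
      exact ⟨⟨p, (hcgen p).mem_closure⟩, by show i (q.fiberι (q t₀) p) = _; rw [hp, hs']⟩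
    · refine Equidim.dim_le_of_range (φ := fun p => i (q.fiberι (q t₀) p))
        (i.isEmbedding.isInducing.comp (q.fiberι (q t₀)).isEmbedding.isInducing) IsEmbedding.subtypeVal fun p => ⟨⟨_, ?_, ?_⟩, rfl⟩
      · exact hξ.le (hr.le ⟨_, rfl⟩)
      · show f (i (q.fiberι (q t₀) p)) = η'
        rw [hfξ, ← ht₀]
        exact (q.range_fiberι (q t₀)).subset ⟨p, rfl⟩
  have htle : FibreTrdeg.T f ξ ≤ k' + FibreTrdeg.T f x := by
    have h1 := (FibreTrdeg.T_le_fibreDimAt q t₀).trans (FibreTrdeg.fibreDimAt_mono q (hgen w))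
    rw [EquidimStalk.T_comp i f t₀, ht₀, heq'] at h1
    exact_mod_cast h1
  have him : i' ≤ m := by
    have h1 := CatScheme.cd_le_stalk ξ x
    rw [hi', hm] at h1
    exact_mod_cast h1
  have hjd : j ≤ d := by
    have h1 := CatScheme.cd_le_stalk (f ξ) (f x)
    rw [hj, hd] at h1
    exact_mod_cast h1
  refine ⟨m, d, k, i', j, k', FibreTrdeg.T f x, FibreTrdeg.T f ξ, hd, hm, hd', hm', hk, hk', htξ, heq', he,
    hlocal.symm.trans heq', hineq, htle, hk'k, hjd, ?_, him, hle⟩
  omega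

end Groth.Agent.HensPair.SubDim
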