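import Groth.Agent.HensPair.ClosedDim
import Groth.Agent.HensPair.DimMore
import Groth.Agent.FibreDepth.Gen
import Groth.Agent.ModStalk.Support
import Groth.Agent.ModStalk.Epi
import Groth.Prelude.Def_Coh

/-!
The dimension of a stalk of a coherent module, and inheritance of equidimensionality.
-/

set_option autoImplicit false
set_option synthInstance.maxHeartbeats 200000

noncomputable section

open CategoryTheory AlgebraicGeometry TopologicalSpace Topology

namespace Groth.Agent.HensPair.SuppDim

universe u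

set_option backward.isDefEq.respectTransparency false

theorem supportDim_eq {X : Scheme.{u}} [IsLocallyNoetherian X] (F : X.Modules) (hF : Coh.IsCoh F) (x : X) :
    Module.supportDim ↑(X.presheaf.stalk x) ↑(F.presheaf.stalk x) =
      topologicalKrullDim ↥{t : X | t ∈ CohB1.support F ∧ t ⤳ x} := by
  obtain ⟨hq, hft⟩ := hF
  haveI := hq
  haveI := hft
  have hM : ∀ z : X, Module.Finite (X.presheaf.stalk z) (F.presheaf.stalk z) := fun z => ModStalk.finite_stalk F z
  haveI := hM x
  let R := X.presheaf.stalk x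
  let I := Module.annihilator R (F.presheaf.stalk x)
  have hφ : IsEmbedding fun q : PrimeSpectrum (R ⧸ I) => FibreDepth.Gen.gen x (PrimeSpectrum.comap (Ideal.Quotient.mk I) q) :=
    (X.fromSpecStalk x).isEmbedding.comp (PrimeSpectrum.isClosedEmbedding_comap_of_surjective _ _ Ideal.Quotient.mk_surjective).isEmbedding
  have hrange : ∀ t : X, t ∈ Set.range (fun q : PrimeSpectrum (R ⧸ I) => FibreDepth.Gen.gen x (PrimeSpectrum.comap (Ideal.Quotient.mk I) q)) ↔
      t ∈ CohB1.support F ∧ t ⤳ x := fun t => by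
    have hI : ∀ p : PrimeSpectrum R, p ∈ Set.range (PrimeSpectrum.comap (Ideal.Quotient.mk I)) ↔
        FibreDepth.Gen.gen x p ∈ CohB1.support F := fun p => by
      rw [range_comap_of_surjective _ _ Ideal.Quotient.mk_surjective, Ideal.mk_ker]
      show _ ↔ ¬ Subsingleton _
      rw [not_subsingleton_iff_nontrivial, ← (FibreDepth.Gen.invariants F x inferInstance hM p).2.2,
        Module.mem_support_iff_of_finite]
      rfl
    constructor
    · rintro ⟨q, rfl⟩
      exact ⟨(hI _).mp ⟨q, rfl⟩, FibreDepth.Gen.gen_specializes x _⟩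
    · rintro ⟨h1, h2⟩
      obtain ⟨p, rfl⟩ := (FibreDepth.Gen.range_gen x t).mpr h2
      obtain ⟨q, rfl⟩ := (hI p).mpr h1
      exact ⟨q, rfl⟩
  rw [Module.supportDim_eq_ringKrullDim_quotient_annihilator, ← PrimeSpectrum.topologicalKrullDim_eq_ringKrullDim]
  exact le_antisymm
    (Equidim.dim_le_of_range (φ := fun q : PrimeSpectrum (R ⧸ I) => FibreDepth.Gen.gen x (PrimeSpectrum.comap (Ideal.Quotient.mk I) q))
      hφ.isInducing IsEmbedding.subtypeVal fun q => ⟨⟨_, (hrange _).mp ⟨q, rfl⟩⟩, rfl⟩)
    (Equidim.dim_le_of_range (φ := fun w : ↥{t : X | t ∈ CohB1.support F ∧ t ⤳ x} => w.1) IsInducing.subtypeVal hφ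
      fun w => (hrange w.1).mpr w.2)

variable {X S : Scheme.{u}} [IsLocallyNoetherian S] [JacobsonSpace S]
  (h2 : ∀ s : S, CAlg.IsUniversallyCatenary (S.presheaf.stalk s))
  (h3 : ∀ S' ∈ irreducibleComponents (S : Type u), ∀ s ∈ S', IsClosed ({s} : Set S) →
    topologicalKrullDim (↥S' : Type u) = topologicalKrullDim ↥{t : S | t ∈ S' ∧ t ⤳ s})

include h2 h3 in
/-- irreducible components upstairs are again equidimensional -/
theorem h3_of_lft (g : X ⟶ S) [LocallyOfFiniteType g] (X' : Set X) (hX' : X' ∈ irreducibleComponents (X : Type u)) (s : X) (hs : s ∈ X')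
    (hsc : IsClosed ({s} : Set X)) :
    topologicalKrullDim (↥X' : Type u) = topologicalKrullDim ↥{t : X | t ∈ X' ∧ t ⤳ s} := by
  let ξ := hX'.1.genericPoint
  have hc : closure ({ξ} : Set X) = X' := by
    rw [hX'.1.genericPoint_closure_eq, (isClosed_of_mem_irreducibleComponents X' hX').closure_eq]
  have hξs : ξ ⤳ s := specializes_iff_mem_closure.mpr (hc.ge hs)
  have hgs : IsClosed ({g s} : Set S) := g.closePoints_subset_preimage_closedPoints hsc
  have hTs : FibreTrdeg.T g s = 0 := DimMore.T_eq_zero g s fun z' _ h => hsc.closure_eq.le h.mem_closure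
  obtain ⟨j, i, hi, hj, -, heq⟩ := CatScheme.alt g s ξ hξs
  have hij := heq (h2 _)
  rw [hTs, add_zero] at hij
  let C : Closeds X := ⟨closure {ξ}, isClosed_closure⟩
  let T := (Scheme.IdealSheafData.vanishingIdeal C).subscheme
  let ι : T ⟶ X := (Scheme.IdealSheafData.vanishingIdeal C).subschemeι
  have hr : Set.range ι = closure {ξ} := by exact Scheme.IdealSheafData.range_subschemeι _
  haveI : IrreducibleSpace T := Chevalley.irreducibleSpace_of_range ι ι.isEmbedding isIrreducible_singleton.closure hr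
  obtain ⟨t₀, ht₀⟩ : ξ ∈ Set.range ι := by rw [hr]; exact subset_closure rfl
  have hgen : genericPoint T = t₀ := IsGenericPoint.eq (S := Set.univ) (genericPoint_spec T)
    (Set.eq_univ_of_forall fun w => (ι.isEmbedding.isInducing.specializes_iff.mp
      (by rw [ht₀]; exact specializes_iff_mem_closure.mpr (hr.le ⟨w, rfl⟩))).mem_closure)
  have hdim : topologicalKrullDim ↥X' = topologicalKrullDim ↥T := by
    rw [← hc]
    refine le_antisymm ?_ ?_
    · exact Equidim.dim_le_of_range (φ := fun w : ↥(closure ({ξ} : Set X)) => w.1) IsInducing.subtypeVal ι.isEmbedding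
        fun w => by rw [hr]; exact w.2
    · exact Equidim.dim_le_of_range (φ := ι.base) ι.isEmbedding.isInducing IsEmbedding.subtypeVal
        fun w => ⟨⟨ι w, hr.le ⟨w, rfl⟩⟩, rfl⟩
  have h := JacobsonDim.dim_irreducible h2 h3 (ι ≫ g) (g s)
    (show g (ι (genericPoint T)) ⤳ g s by rw [hgen, ht₀]; exact hξs.map g.continuous) hgs
  rw [hgen, EquidimStalk.T_comp, show (ι ≫ g) t₀ = g ξ by show g (ι t₀) = _; rw [ht₀], ht₀, hj] at h
  rw [hdim, h]
  conv_rhs => rw [← hc, CatAdd.topDim_gen ξ s hξs, hi]
  exact_mod_cast hij.symm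

end Groth.Agent.HensPair.SuppDim
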