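import Groth.Agent.HensPair.Altitude

/-!
Residue field extensions of points in affine charts.
-/

set_option autoImplicit false
set_option synthInstance.maxHeartbeats 200000

noncomputable section

open CategoryTheory AlgebraicGeometry

namespace Groth.Agent.HensPair.TrdegScheme

universe u

set_option backward.isDefEq.respectTransparency false

theorem trdeg_of_fraction {A B k K : Type u} [CommRing A] [CommRing B] [Field k] [Field K] [Algebra A B]
    [Algebra k K] (p : Ideal A) [p.IsPrime] (q : Ideal B) [q.IsPrime] [q.LiesOver p] (a : A →+* k) (b : B →+* K)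
    (hcomm : ∀ z : A, algebraMap k K (a z) = b (algebraMap A B z))
    (ka : RingHom.ker a = p) (kb : RingHom.ker b = q)
    (fa : ∀ z : k, ∃ n d : A, a d ≠ 0 ∧ z * a d = a n) (fb : ∀ z : K, ∃ n d : B, b d ≠ 0 ∧ z * b d = b n) :
    Algebra.trdeg k K = Algebra.trdeg (A ⧸ p) (B ⧸ q) := by
  letI : Algebra (A ⧸ p) k := (Ideal.Quotient.lift p a fun z hz => by rw [← ka] at hz; exact hz).toAlgebra
  letI : Algebra (B ⧸ q) K := (Ideal.Quotient.lift q b fun z hz => by rw [← kb] at hz; exact hz).toAlgebra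
  have hAk : ∀ z, algebraMap (A ⧸ p) k (Ideal.Quotient.mk p z) = a z := fun z => rfl
  have hBK : ∀ z, algebraMap (B ⧸ q) K (Ideal.Quotient.mk q z) = b z := fun z => rfl
  letI : Algebra (A ⧸ p) K := ((algebraMap (B ⧸ q) K).comp (algebraMap (A ⧸ p) (B ⧸ q))).toAlgebra
  haveI : IsScalarTower (A ⧸ p) (B ⧸ q) K := IsScalarTower.of_algebraMap_eq fun _ => rfl
  haveI : IsScalarTower (A ⧸ p) k K := IsScalarTower.of_algebraMap_eq fun z => by
    obtain ⟨z, rfl⟩ := Ideal.Quotient.mk_surjective z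
    rw [hAk, hcomm]
    rfl
  haveI : FaithfulSMul (A ⧸ p) (B ⧸ q) :=
    (faithfulSMul_iff_algebraMap_injective _ _).mpr (Altitude.quot_injective p q)
  haveI : FaithfulSMul (A ⧸ p) k := (faithfulSMul_iff_algebraMap_injective _ _).mpr (by
    rw [injective_iff_map_eq_zero]
    intro z hz
    obtain ⟨z, rfl⟩ := Ideal.Quotient.mk_surjective z
    rw [Ideal.Quotient.eq_zero_iff_mem, ← ka]
    exact hz)
  haveI : FaithfulSMul (B ⧸ q) K := (faithfulSMul_iff_algebraMap_injective _ _).mpr (by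
    rw [injective_iff_map_eq_zero]
    intro z hz
    obtain ⟨z, rfl⟩ := Ideal.Quotient.mk_surjective z
    rw [Ideal.Quotient.eq_zero_iff_mem, ← kb]
    exact hz)
  haveI : FaithfulSMul k K := (faithfulSMul_iff_algebraMap_injective _ _).mpr (RingHom.injective _)
  haveI : Algebra.IsAlgebraic (A ⧸ p) k := ⟨fun z => by
    obtain ⟨n, d, hd, he⟩ := fa z
    refine ⟨Polynomial.C (Ideal.Quotient.mk p d) * Polynomial.X - Polynomial.C (Ideal.Quotient.mk p n), fun h0 => hd ?_, ?_⟩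
    · have h1 := congrArg (fun P : Polynomial (A ⧸ p) => algebraMap (A ⧸ p) k (P.coeff 1)) h0
      simpa [hAk] using h1
    · rw [map_sub, map_mul, Polynomial.aeval_C, Polynomial.aeval_C, Polynomial.aeval_X, hAk, hAk, ← he, mul_comm, sub_self]⟩
  haveI : Algebra.IsAlgebraic (B ⧸ q) K := ⟨fun z => by
    obtain ⟨n, d, hd, he⟩ := fb z
    refine ⟨Polynomial.C (Ideal.Quotient.mk q d) * Polynomial.X - Polynomial.C (Ideal.Quotient.mk q n), fun h0 => hd ?_, ?_⟩
    · have h1 := congrArg (fun P : Polynomial (B ⧸ q) => algebraMap (B ⧸ q) K (P.coeff 1)) h0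
      simpa [hBK] using h1
    · rw [map_sub, map_mul, Polynomial.aeval_C, Polynomial.aeval_C, Polynomial.aeval_X, hBK, hBK, ← he, mul_comm, sub_self]⟩
  have h := (trdeg_add_eq (A ⧸ p) k (A := K)).trans (trdeg_add_eq (A ⧸ p) (B ⧸ q) (A := K)).symm
  rwa [trdeg_eq_zero (R := A ⧸ p) (A := k), trdeg_eq_zero (R := B ⧸ q) (A := K), zero_add, add_zero] at h

theorem ker_evaluation {X : Scheme.{u}} {V : X.Opens} (hV : IsAffineOpen V) (x : X) (hx : x ∈ V) :
    RingHom.ker (X.evaluation V x hx).hom = (hV.primeIdealOf ⟨x, hx⟩).asIdeal := by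
  ext z
  rw [RingHom.mem_ker]
  refine (X.evaluation_eq_zero_iff_notMem_basicOpen x hx z).trans ?_
  have h := congrArg (fun O : (Spec Γ(X, V)).Opens => hV.primeIdealOf ⟨x, hx⟩ ∈ O) (hV.fromSpec_preimage_basicOpen z)
  simp only [eq_iff_iff] at h
  change (hV.fromSpec (hV.primeIdealOf ⟨x, hx⟩) ∈ X.basicOpen z) ↔ _ at h
  rw [hV.fromSpec_primeIdealOf] at h
  rw [h]
  exact not_not

theorem evaluation_fraction {X : Scheme.{u}} {V : X.Opens} (hV : IsAffineOpen V) (x : X) (hx : x ∈ V)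
    (z : X.residueField x) : ∃ n d : Γ(X, V), (X.evaluation V x hx).hom d ≠ 0 ∧
      z * (X.evaluation V x hx).hom d = (X.evaluation V x hx).hom n := by
  obtain ⟨s, rfl⟩ := X.residue_surjective x z
  letI := X.presheaf.algebra_section_stalk ⟨x, hx⟩
  haveI := hV.isLocalization_stalk ⟨x, hx⟩
  obtain ⟨⟨n, d⟩, h⟩ := IsLocalization.surj (hV.primeIdealOf ⟨x, hx⟩).asIdeal.primeCompl s
  refine ⟨n, d, fun h0 => d.2 ?_, ?_⟩
  · show d.1 ∈ (hV.primeIdealOf ⟨x, hx⟩).asIdeal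
    exact (ker_evaluation hV x hx).le h0
  · show (X.residue x).hom s * (X.residue x).hom (X.presheaf.germ V x hx d.1) = (X.residue x).hom (X.presheaf.germ V x hx n)
    rw [← map_mul]
    exact congrArg _ h

theorem liesOver {X Y : Scheme.{u}} (f : X ⟶ Y) {U₀ : Y.Opens} (hU₀ : IsAffineOpen U₀)
    {V : X.Opens} (hV : IsAffineOpen V) (hVU : V ≤ f ⁻¹ᵁ U₀) [Algebra Γ(Y, U₀) Γ(X, V)]
    (halg : algebraMap Γ(Y, U₀) Γ(X, V) = (f.appLE U₀ V hVU).hom) (x : X) (hx : x ∈ V) :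
    (hV.primeIdealOf ⟨x, hx⟩).asIdeal.LiesOver (hU₀.primeIdealOf ⟨f x, hVU hx⟩).asIdeal := ⟨by
  show _ = Ideal.comap (algebraMap Γ(Y, U₀) Γ(X, V)) _
  rw [halg]; exact congrArg PrimeSpectrum.asIdeal (IsAffineOpen.comap_primeIdealOf_appLE U₀ hU₀ V hV hVU hx).symm⟩

theorem trdeg_residueFieldMap {X Y : Scheme.{u}} (f : X ⟶ Y) {U₀ : Y.Opens} (hU₀ : IsAffineOpen U₀)
    {V : X.Opens} (hV : IsAffineOpen V) (hVU : V ≤ f ⁻¹ᵁ U₀) [Algebra Γ(Y, U₀) Γ(X, V)]
    (halg : algebraMap Γ(Y, U₀) Γ(X, V) = (f.appLE U₀ V hVU).hom) (x : X) (hx : x ∈ V)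
    (p : Ideal Γ(Y, U₀)) (q : Ideal Γ(X, V)) [q.LiesOver p]
    (hp : p = (hU₀.primeIdealOf ⟨f x, hVU hx⟩).asIdeal) (hq : q = (hV.primeIdealOf ⟨x, hx⟩).asIdeal) :
    letI := (f.residueFieldMap x).hom.toAlgebra
    Algebra.trdeg (Y.residueField (f.base x)) (X.residueField x) = Algebra.trdeg (Γ(Y, U₀) ⧸ p) (Γ(X, V) ⧸ q) := by
  subst hp hq
  letI := (f.residueFieldMap x).hom.toAlgebra
  refine trdeg_of_fraction _ _ (Y.evaluation U₀ (f x) (hVU hx)).hom (X.evaluation V x hx).hom (fun z => ?_)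
    (ker_evaluation hU₀ _ _) (ker_evaluation hV _ _) (evaluation_fraction hU₀ _ _) (evaluation_fraction hV _ _)
  show (f.residueFieldMap x).hom ((Y.residue (f x)).hom (Y.presheaf.germ U₀ (f x) (hVU hx) z)) = _
  rw [halg]
  have h1 := congr($(Scheme.residue_residueFieldMap f x).hom (Y.presheaf.germ U₀ (f x) (hVU hx) z))
  refine h1.trans ?_
  show (X.residue x).hom ((f.stalkMap x).hom (Y.presheaf.germ U₀ (f x) (hVU hx) z)) = _
  refine congrArg _ ?_
  rw [Scheme.Hom.germ_stalkMap_apply, Scheme.Hom.appLE]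
  exact (X.presheaf.germ_res_apply (homOfLE hVU) x hx _).symm

end Groth.Agent.HensPair.TrdegScheme
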