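import Groth.Agent.HensPair.Radicial
import Groth.Prelude.Def_EGA43
import Mathlib.RingTheory.Spectrum.Prime.Polynomial
import Mathlib.RingTheory.ZariskisMainTheorem
import Mathlib.FieldTheory.Minpoly.IsIntegrallyClosed
import Mathlib.RingTheory.Ideal.GoingUp

/-!
Integral and quasi-finite extensions are open at unibranch points.
-/

set_option autoImplicit false
set_option synthInstance.maxHeartbeats 200000

noncomputable section

open IsLocalRing

namespace Groth.Agent.HensPair.UnibranchOpen

universe u

/-- integral extensions of normal domains are open -/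
theorem isOpen_image_basicOpen {A B : Type u} [CommRing A] [IsDomain A] [IsIntegrallyClosed A] [CommRing B]
    [IsDomain B] [Algebra A B] [FaithfulSMul A B] [Algebra.IsIntegral A B] (b : B) :
    IsOpen (PrimeSpectrum.comap (algebraMap A B) '' (PrimeSpectrum.basicOpen b : Set (PrimeSpectrum B))) := by
  classical
  have : Module.IsTorsionFree A B := Module.isTorsionFree_iff_faithfulSMul.mpr inferInstance
  have hb : IsIntegral A b := Algebra.IsIntegral.isIntegral b
  let g := minpoly A b
  have himg : PrimeSpectrum.comap (algebraMap A B) '' (PrimeSpectrum.basicOpen b : Set (PrimeSpectrum B)) =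
      PrimeSpectrum.comap Polynomial.C ''
        (PrimeSpectrum.zeroLocus {g} \ PrimeSpectrum.zeroLocus {Polynomial.X}) := by
    apply Set.Subset.antisymm
    · rintro _ ⟨Q, hQ, rfl⟩
      refine ⟨PrimeSpectrum.comap (Polynomial.aeval b).toRingHom Q, ⟨?_, ?_⟩, ?_⟩
      · rw [PrimeSpectrum.mem_zeroLocus, Set.singleton_subset_iff]
        show Polynomial.aeval b g ∈ Q.asIdeal
        rw [minpoly.aeval]
        exact zero_mem _
      · rw [PrimeSpectrum.mem_zeroLocus, Set.singleton_subset_iff]
        show ¬ Polynomial.aeval b Polynomial.X ∈ Q.asIdeal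
        rwa [Polynomial.aeval_X]
      · refine PrimeSpectrum.ext (Ideal.ext fun a => ?_)
        show Polynomial.aeval b (Polynomial.C a) ∈ Q.asIdeal ↔ algebraMap A B a ∈ Q.asIdeal
        rw [Polynomial.aeval_C]
    · rintro _ ⟨P, ⟨hg, hX⟩, rfl⟩
      rw [PrimeSpectrum.mem_zeroLocus, Set.singleton_subset_iff] at hg hX
      let φ := (Polynomial.aeval b : Polynomial A →ₐ[A] B)
      have hker : RingHom.ker φ.toRingHom ≤ P.asIdeal := fun h hh => by
        obtain ⟨d, rfl⟩ := (minpoly.isIntegrallyClosed_dvd hb (show Polynomial.aeval b h = 0 from hh))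
        exact P.asIdeal.mul_mem_right _ hg
      let E := φ.range
      have hsurj : Function.Surjective φ.rangeRestrict.toRingHom := AlgHom.rangeRestrict_surjective φ
      have hker' : RingHom.ker φ.rangeRestrict.toRingHom ≤ P.asIdeal := fun h hh =>
        hker (congrArg Subtype.val hh)
      have := Ideal.map_isPrime_of_surjective hsurj hker'
      have : Algebra.IsIntegral E B := Algebra.IsIntegral.tower_top A
      obtain ⟨Q, hQ, hQc⟩ := Ideal.exists_ideal_over_prime_of_isIntegral_of_isDomain (S := B)
        (P.asIdeal.map φ.rangeRestrict.toRingHom) (by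
          rw [(RingHom.injective_iff_ker_eq_bot _).mp (show Function.Injective (algebraMap E B) from Subtype.val_injective)]
          exact bot_le)
      have hPQ : ∀ h : Polynomial A, φ h ∈ Q ↔ h ∈ P.asIdeal := fun h => by
        rw [show φ h = algebraMap E B (φ.rangeRestrict h) from rfl, ← Ideal.mem_comap, hQc]
        show φ.rangeRestrict.toRingHom h ∈ _ ↔ _
        rw [← Ideal.mem_comap, Ideal.comap_map_of_surjective' _ hsurj, sup_eq_left.mpr hker']
      refine ⟨⟨Q, hQ⟩, fun hbQ => hX ?_, PrimeSpectrum.ext (Ideal.ext fun a => ?_)⟩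
      · exact (hPQ _).mp (by simpa [φ] using hbQ)
      · show algebraMap A B a ∈ Q ↔ Polynomial.C a ∈ P.asIdeal
        rw [← hPQ, show φ (Polynomial.C a) = algebraMap A B a from Polynomial.aeval_C b a]
  rw [himg]
  exact Polynomial.isOpen_image_comap_of_monic _ _ (minpoly.monic hb)

section unibranch

variable (A : Type u) [CommRing A] [IsDomain A] (p : Ideal A) [p.IsPrime]

/-- over a unibranch point the normalization has only one prime -/
theorem unique_prime (hA : CAlg2.IsUnibranch (Localization.AtPrime p))
    (P Q : Ideal (integralClosure A (FractionRing A))) [P.IsPrime] [Q.IsPrime]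
    (hP : P.comap (algebraMap A _) = p) (hQ : Q.comap (algebraMap A _) = p) : P = Q := by
  obtain ⟨j, hj, hinj, hsur⟩ := Radicial.exists_j A p
  let B := integralClosure A (FractionRing A)
  let N := CAlg2.normRed (Localization.AtPrime p)
  let : Algebra B N := j.toAlgebra
  let M : Submonoid B := p.primeCompl.map (algebraMap A B).toMonoidHom
  have hloc : IsLocalization M N := by
    refine (isLocalization_iff M N).mpr ⟨?_, ?_, ?_⟩
    · rintro ⟨_, s, hs, rfl⟩
      show IsUnit (j.comp (algebraMap A B) s)
      rw [hj]
      exact ((IsLocalization.map_units (Localization.AtPrime p) (⟨s, hs⟩ : p.primeCompl)).map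
        (Ideal.Quotient.mk (nilradical (Localization.AtPrime p)))).map
        (algebraMap (CAlg2.red (Localization.AtPrime p)) N)
    · intro z
      obtain ⟨b, s, hs, h⟩ := hsur z
      refine ⟨⟨b, ⟨_, s, hs, rfl⟩⟩, ?_⟩
      show z * j.comp (algebraMap A B) s = j b
      rw [hj, h]
    · intro x y h
      exact ⟨1, by rw [hinj h]⟩
  have := hA.2
  have := Branches.isIntegral_normRed (Localization.AtPrime p)
  have key : ∀ (P : Ideal B) [P.IsPrime], P.comap (algebraMap A B) = p → P = (maximalIdeal N).comap j := by
    intro P _ hP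
    have hd : Disjoint (M : Set B) (P : Set B) := Set.disjoint_left.mpr fun x ⟨s, hs, hsx⟩ hx =>
      hs (show s ∈ p by
        rw [← hP, Ideal.mem_comap, show algebraMap A B s = x from hsx]
        exact hx)
    have hprime := IsLocalization.isPrime_of_isPrime_disjoint M N P inferInstance hd
    have hmax : (P.map (algebraMap B N)).IsMaximal := by
      refine Ideal.isMaximal_of_isIntegral_of_isMaximal_comap (R := Localization.AtPrime p) _ ?_
      rw [show (P.map (algebraMap B N)).comap (algebraMap (Localization.AtPrime p) N) = maximalIdeal _ by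
        refine le_antisymm (le_maximalIdeal (Ideal.comap_ne_top _ hprime.ne_top)) ?_
        rw [← Localization.AtPrime.map_eq_maximalIdeal, Ideal.map_le_iff_le_comap]
        intro a ha
        rw [Ideal.mem_comap, Ideal.mem_comap, IsScalarTower.algebraMap_apply (Localization.AtPrime p)
          (CAlg2.red (Localization.AtPrime p)) N]
        show (algebraMap (CAlg2.red (Localization.AtPrime p)) N).comp
          ((Ideal.Quotient.mk (nilradical (Localization.AtPrime p))).comp (algebraMap A (Localization.AtPrime p))) a ∈ _
        rw [show (algebraMap (CAlg2.red (Localization.AtPrime p)) N).comp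
          ((Ideal.Quotient.mk (nilradical (Localization.AtPrime p))).comp (algebraMap A (Localization.AtPrime p))) =
          j.comp (algebraMap A B) from hj.symm]
        exact Ideal.mem_map_of_mem _ (show algebraMap A B a ∈ P by rw [← hP] at ha; exact ha)]
      exact maximalIdeal.isMaximal _
    rw [← IsLocalization.comap_map_of_isPrime_disjoint M N inferInstance hd, eq_maximalIdeal hmax]
    rfl
  rw [key P hP, key Q hQ]

end unibranch

theorem isOpenAt_of_isIntegral {A B : Type u} [CommRing A] [IsDomain A] [CommRing B] [IsDomain B] [Algebra A B]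
    (hinj : Function.Injective (algebraMap A B)) [Algebra.IsIntegral A B] (q : PrimeSpectrum B)
    (hA : CAlg2.IsUnibranch (Localization.AtPrime (q.asIdeal.comap (algebraMap A B)))) :
    EGA43.IsOpenAt (PrimeSpectrum.comap (algebraMap A B)) q := by
  classical
  intro U hU
  obtain ⟨_, ⟨b, rfl⟩, hqb, hbU⟩ := PrimeSpectrum.isTopologicalBasis_basic_opens.mem_nhds_iff.mp hU
  let L := FractionRing B
  let K := FractionRing A
  have hAL : Function.Injective (algebraMap A L) := (IsFractionRing.injective B L).comp hinj
  let A' := integralClosure A K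
  let : Algebra K L := (IsFractionRing.lift hAL).toAlgebra
  have : IsScalarTower A K L := IsScalarTower.of_algebraMap_eq fun a => (IsFractionRing.lift_algebraMap hAL a).symm
  have : IsIntegrallyClosed A' := integralClosure.isIntegrallyClosedOfFiniteExtension K
  let : Algebra A' L := ((algebraMap K L).comp A'.val.toRingHom).toAlgebra
  have : @IsScalarTower A A' L Algebra.toSMul Algebra.toSMul Algebra.toSMul :=
    IsScalarTower.of_algebraMap_eq (R := A) (S := A') (A := L) fun a => IsScalarTower.algebraMap_apply A K L a
  let B' := integralClosure A L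
  have hmem : ∀ x : A', algebraMap A' L x ∈ B' := fun x => (x.2).map (IsScalarTower.toAlgHom A K L)
  let : Algebra A' B' := (RingHom.codRestrict (algebraMap A' L) B' hmem).toAlgebra
  have : IsScalarTower A A' B' := IsScalarTower.of_algebraMap_eq fun a => Subtype.ext
    (show algebraMap A L a = algebraMap A' L (algebraMap A A' a) from IsScalarTower.algebraMap_apply A A' L a)
  have : Algebra.IsIntegral A B' := IsIntegralClosure.isIntegral_algebra A L
  have : Algebra.IsIntegral A' B' := Algebra.IsIntegral.tower_top A
  have : FaithfulSMul A' B' := (faithfulSMul_iff_algebraMap_injective _ _).mpr fun x y h =>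
    Subtype.ext ((algebraMap K L).injective (congrArg Subtype.val h))
  let ι : B →ₐ[A] B' := (IsScalarTower.toAlgHom A B L).codRestrict B' fun b =>
    (Algebra.IsIntegral.isIntegral b).map (IsScalarTower.toAlgHom A B L)
  let : Algebra B B' := ι.toRingHom.toAlgebra
  have : IsScalarTower A B B' := IsScalarTower.of_algebraMap_eq fun a => (ι.commutes a).symm
  have : Algebra.IsIntegral B B' := Algebra.IsIntegral.tower_top A
  have hι : Function.Injective (algebraMap B B') := fun x y h =>
    IsFractionRing.injective B L (congrArg Subtype.val h)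
  obtain ⟨Q, hQ, hQq⟩ := Ideal.exists_ideal_over_prime_of_isIntegral_of_isDomain (S := B') q.asIdeal (by
    rw [(RingHom.injective_iff_ker_eq_bot _).mp hι]; exact bot_le)
  have : Algebra.IsIntegral A A' := IsIntegralClosure.isIntegral_algebra A K
  let O := PrimeSpectrum.comap (algebraMap A' B') ''
    (PrimeSpectrum.basicOpen (algebraMap B B' b) : Set (PrimeSpectrum B'))
  have hO : IsOpen O := isOpen_image_basicOpen _
  let Z := PrimeSpectrum.comap (algebraMap A A') '' Oᶜ
  have hZ : IsClosed Z :=
    PrimeSpectrum.isClosedMap_comap_of_isIntegral _ (algebraMap_isIntegral_iff.mpr inferInstance) _ hO.isClosed_compl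
  have hcomap : ∀ R : PrimeSpectrum B', PrimeSpectrum.comap (algebraMap A B) (PrimeSpectrum.comap (algebraMap B B') R) =
      PrimeSpectrum.comap (algebraMap A A') (PrimeSpectrum.comap (algebraMap A' B') R) := fun R => by
    refine PrimeSpectrum.ext ?_
    show (R.asIdeal.comap (algebraMap B B')).comap (algebraMap A B) =
      (R.asIdeal.comap (algebraMap A' B')).comap (algebraMap A A')
    rw [Ideal.comap_comap, Ideal.comap_comap, ← IsScalarTower.algebraMap_eq, ← IsScalarTower.algebraMap_eq]
  have hqQ : PrimeSpectrum.comap (algebraMap B B') ⟨Q, hQ⟩ = q := PrimeSpectrum.ext hQq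
  refine Filter.mem_of_superset (hZ.isOpen_compl.mem_nhds ?_) fun r hr => ?_
  · rintro ⟨P, hP, hPp⟩
    refine hP ⟨⟨Q, hQ⟩, ?_, PrimeSpectrum.ext ?_⟩
    · show algebraMap B B' b ∉ Q
      intro h
      exact hqb (show b ∈ q.asIdeal by rw [← hQq]; exact h)
    · refine unique_prime A _ hA _ _ ?_ (congrArg PrimeSpectrum.asIdeal hPp)
      exact congrArg PrimeSpectrum.asIdeal ((hcomap ⟨Q, hQ⟩).symm.trans (congrArg _ hqQ))
  · obtain ⟨P, hP, hPr⟩ := Ideal.exists_ideal_over_prime_of_isIntegral_of_isDomain (S := A') r.asIdeal (by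
      rw [(RingHom.injective_iff_ker_eq_bot (algebraMap A A')).mp fun x y h =>
        IsFractionRing.injective A K (congrArg Subtype.val h)]
      exact bot_le)
    have hPO : (⟨P, hP⟩ : PrimeSpectrum A') ∈ O := by_contra fun h => hr ⟨⟨P, hP⟩, h, PrimeSpectrum.ext hPr⟩
    obtain ⟨R, hR, hRP⟩ := hPO
    refine ⟨PrimeSpectrum.comap (algebraMap B B') R, hbU hR, ?_⟩
    rw [hcomap, hRP]
    exact PrimeSpectrum.ext hPr

theorem isOpenAt_of_quasiFiniteAt {A B : Type u} [CommRing A] [IsDomain A] [CommRing B] [IsDomain B]
    [Algebra A B] [Algebra.FiniteType A B] (hinj : Function.Injective (algebraMap A B)) (q : PrimeSpectrum B)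
    [Algebra.QuasiFiniteAt A q.asIdeal]
    (hA : CAlg2.IsUnibranch (Localization.AtPrime (q.asIdeal.comap (algebraMap A B)))) :
    EGA43.IsOpenAt (PrimeSpectrum.comap (algebraMap A B)) q := by
  obtain ⟨S, hS, r, hrq, hbij⟩ := Algebra.QuasiFiniteAt.exists_fg_and_exists_notMem_and_awayMap_bijective
    (R := A) q.asIdeal
  have : Module.Finite A S := Module.Finite.iff_fg.mpr hS
  have hinjS : Function.Injective (algebraMap A S) := fun x y h => hinj (congrArg Subtype.val h)
  intro U hU
  obtain ⟨O, hOU, hO, hqO⟩ := mem_nhds_iff.mp hU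
  let v := S.val.toRingHom
  let w := Localization.awayMap v r
  let eB : PrimeSpectrum (Localization.Away (v r)) → PrimeSpectrum B :=
    PrimeSpectrum.comap (algebraMap B (Localization.Away (v r)))
  let eS : PrimeSpectrum (Localization.Away r) → PrimeSpectrum S :=
    PrimeSpectrum.comap (algebraMap S (Localization.Away r))
  have hh := PrimeSpectrum.isHomeomorph_comap_of_bijective (f := w) hbij
  have hcomm : ∀ z, eS (PrimeSpectrum.comap w z) = PrimeSpectrum.comap v (eB z) := fun z => by
    refine PrimeSpectrum.ext (Ideal.ext fun s => ?_)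
    show w (algebraMap S (Localization.Away r) s) ∈ z.asIdeal ↔
      algebraMap B (Localization.Away (v r)) (v s) ∈ z.asIdeal
    rw [show w (algebraMap S (Localization.Away r) s) = algebraMap B (Localization.Away (v r)) (v s) from
      IsLocalization.map_eq _ s]
  let O₀ := eS '' (PrimeSpectrum.comap w '' (eB ⁻¹' O))
  have hO₀ : IsOpen O₀ := (PrimeSpectrum.localization_away_isOpenEmbedding (Localization.Away r) r).isOpenMap _
    (hh.isOpenMap _ (hO.preimage (PrimeSpectrum.continuous_comap _)))
  obtain ⟨z, hz⟩ : q ∈ Set.range eB := by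
    rw [show eB = PrimeSpectrum.comap (algebraMap B (Localization.Away (v r))) from rfl,
      PrimeSpectrum.localization_away_comap_range (Localization.Away (v r)) (v r)]
    exact hrq
  let q₀ : PrimeSpectrum S := PrimeSpectrum.comap v q
  have hq₀ : q₀ ∈ O₀ :=
    ⟨_, ⟨z, show eB z ∈ O from hz ▸ hqO, rfl⟩, (hcomm z).trans (congrArg _ hz)⟩
  have e : ∀ P : PrimeSpectrum B,
      PrimeSpectrum.comap (algebraMap A S) (PrimeSpectrum.comap v P) = PrimeSpectrum.comap (algebraMap A B) P :=
    fun P => rfl
  have := isOpenAt_of_isIntegral hinjS q₀ hA O₀ (hO₀.mem_nhds hq₀)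
  rw [e q] at this
  refine Filter.mem_of_superset this ?_
  rintro _ ⟨_, ⟨_, ⟨z', hz', rfl⟩, rfl⟩, rfl⟩
  exact ⟨eB z', hOU hz', by rw [hcomm, e]⟩

end Groth.Agent.HensPair.UnibranchOpen
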