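import Groth.Agent.HensPair.UnibranchOpen
import Mathlib.AlgebraicGeometry.Morphisms.FiniteType
import Mathlib.AlgebraicGeometry.Morphisms.QuasiFinite
import Mathlib.AlgebraicGeometry.FunctionField
import Mathlib.RingTheory.Spectrum.Prime.Topology

/-!
Locally quasi-finite dominant morphisms of irreducible schemes are open at unibranch points.
-/

set_option autoImplicit false
set_option synthInstance.maxHeartbeats 200000

noncomputable section

open CategoryTheory AlgebraicGeometry IsLocalRing TopologicalSpace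

namespace Groth.Agent.HensPair.UnibranchOpen

universe u

set_option backward.isDefEq.respectTransparency false

theorem isUnibranch_of_red {R T : Type u} [CommRing R] [IsLocalRing R] [CommRing T] [IsLocalRing T]
    (e : CAlg2.red R ≃+* CAlg2.red T) (h : CAlg2.IsUnibranch R) : CAlg2.IsUnibranch T := by
  have := h.1
  have hT : IsDomain (CAlg2.red T) := MulEquiv.isDomain (CAlg2.red R) e.symm.toMulEquiv
  have := h.2
  let E := IsFractionRing.ringEquivOfRingEquiv (K := FractionRing (CAlg2.red R))
    (L := FractionRing (CAlg2.red T)) e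
  have hE : ∀ a, E (algebraMap (CAlg2.red R) _ a) = algebraMap (CAlg2.red T) _ (e a) :=
    IsFractionRing.ringEquivOfRingEquiv_algebraMap e
  have hto : ∀ x : CAlg2.normRed R, IsIntegral (CAlg2.red T) (E x.1) := fun x => by
    obtain ⟨P, hP, hP0⟩ := x.2
    refine ⟨P.map e.toRingHom, hP.map _, ?_⟩
    rw [Polynomial.eval₂_map, show (algebraMap (CAlg2.red T) (FractionRing (CAlg2.red T))).comp e.toRingHom =
      E.toRingHom.comp (algebraMap (CAlg2.red R) (FractionRing (CAlg2.red R))) from RingHom.ext fun a => (hE a).symm]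
    exact (Polynomial.hom_eval₂ P _ E.toRingHom x.1).symm.trans ((congrArg E.toRingHom hP0).trans (map_zero _))
  let F : CAlg2.normRed R →+* CAlg2.normRed T :=
    (E.toRingHom.comp (algebraMap (CAlg2.normRed R) (FractionRing (CAlg2.red R)))).codRestrict _ hto
  have hF : Function.Surjective F := fun y => by
    obtain ⟨P, hP, hP0⟩ := y.2
    have : IsIntegral (CAlg2.red R) (E.symm y.1) := by
      refine ⟨P.map e.symm.toRingHom, hP.map _, ?_⟩
      rw [Polynomial.eval₂_map, show (algebraMap (CAlg2.red R) (FractionRing (CAlg2.red R))).comp e.symm.toRingHom =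
        E.symm.toRingHom.comp (algebraMap (CAlg2.red T) (FractionRing (CAlg2.red T))) from RingHom.ext fun a =>
          E.injective (show E (algebraMap _ _ (e.symm a)) = E (E.symm (algebraMap _ _ a)) by
            rw [hE, e.apply_symm_apply, E.apply_symm_apply])]
      exact (Polynomial.hom_eval₂ P _ E.symm.toRingHom y.1).symm.trans
        ((congrArg E.symm.toRingHom hP0).trans (map_zero _))
    exact ⟨⟨E.symm y.1, this⟩, Subtype.ext (E.apply_symm_apply y.1)⟩
  have : Nontrivial (CAlg2.normRed T) := BranchUnibranch.nontrivial_normRed T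
  exact ⟨hT, IsLocalRing.of_surjective' F hF⟩

theorem comap_mk_nilradical_homeo (R : Type u) [CommRing R] :
    IsHomeomorph (PrimeSpectrum.comap (Ideal.Quotient.mk (nilradical R))) := by
  have h := PrimeSpectrum.isClosedEmbedding_comap_of_surjective (R := R) (S := R ⧸ nilradical R) _
    Ideal.Quotient.mk_surjective
  refine isHomeomorph_iff_isEmbedding_surjective.mpr ⟨h.isEmbedding, fun p => ?_⟩
  have hp : p ∈ Set.range (PrimeSpectrum.comap (Ideal.Quotient.mk (nilradical R))) := by
    rw [range_comap_of_surjective _ _ Ideal.Quotient.mk_surjective, Ideal.mk_ker,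
      PrimeSpectrum.mem_zeroLocus]
    exact nilradical_le_prime p.asIdeal
  exact hp

theorem nilradical_isPrime {X : Scheme.{u}} [IrreducibleSpace X] {V : X.Opens} (hV : IsAffineOpen V)
    (hne : (V : Set X).Nonempty) : (nilradical Γ(X, V)).IsPrime := by
  have h : IsIrreducible (hV.fromSpec ⁻¹' (Set.univ : Set X)) :=
    (IrreducibleSpace.isIrreducible_univ X).preimage hV.fromSpec.isOpenEmbedding (by
      rw [IsAffineOpen.range_fromSpec, Set.univ_inter]; exact hne)
  rw [Set.preimage_univ] at h
  have : IrreducibleSpace (PrimeSpectrum Γ(X, V)) :=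
    { toPreirreducibleSpace := ⟨h.2⟩, toNonempty := Set.nonempty_iff_univ_nonempty.mpr h.1 }
  exact PrimeSpectrum.irreducibleSpace_iff_isPrime_nilradical.mp this

theorem isOpenAt_of_isolated {X Y : Scheme.{u}} (f : X ⟶ Y) [IrreducibleSpace X] [IrreducibleSpace Y]
    [LocallyOfFiniteType f] (hd : DenseRange f) (x : X)
    (hiso : nhdsWithin x (f ⁻¹' {f x}) = pure x) (hy : CAlg2.IsUnibranch (Y.presheaf.stalk (f x))) :
    EGA43.IsOpenAt f.base x := by
  classical
  obtain ⟨_, ⟨W, hW, rfl⟩, hxW, -⟩ :=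
    Y.isBasis_affineOpens.exists_subset_of_mem_open (Set.mem_univ (f x)) isOpen_univ
  obtain ⟨_, ⟨V, hV, rfl⟩, hxV, hVW⟩ :=
    X.isBasis_affineOpens.exists_subset_of_mem_open hxW (W.2.preimage f.continuous)
  let V : X.Opens := V
  let W : Y.Opens := W
  have hfin := f.finiteType_appLE hW hV hVW
  let R := Γ(Y, W)
  let S := Γ(X, V)
  have hnR : (nilradical R).IsPrime := nilradical_isPrime hW ⟨_, hxW⟩
  have hnS : (nilradical S).IsPrime := nilradical_isPrime hV ⟨_, hxV⟩
  let A := R ⧸ nilradical R
  let B := S ⧸ nilradical S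
  have : IsDomain A := Ideal.Quotient.isDomain _
  have : IsDomain B := Ideal.Quotient.isDomain _
  let φ₀ := (f.appLE W V hVW).hom
  let φ : A →+* B := Ideal.Quotient.lift _ ((Ideal.Quotient.mk (nilradical S)).comp φ₀) fun a ha =>
    Ideal.Quotient.eq_zero_iff_mem.mpr (mem_nilradical.mpr ((mem_nilradical.mp ha).map φ₀))
  let ψX : PrimeSpectrum B → X := fun P => hV.fromSpec (PrimeSpectrum.comap (Ideal.Quotient.mk (nilradical S)) P)
  let ψY : PrimeSpectrum A → Y := fun P => hW.fromSpec (PrimeSpectrum.comap (Ideal.Quotient.mk (nilradical R)) P)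
  have hX : Topology.IsOpenEmbedding ψX :=
    hV.fromSpec.isOpenEmbedding.comp (comap_mk_nilradical_homeo S).isOpenEmbedding
  have hY : Topology.IsOpenEmbedding ψY :=
    hW.fromSpec.isOpenEmbedding.comp (comap_mk_nilradical_homeo R).isOpenEmbedding
  have hcomm : ∀ P, f (ψX P) = ψY (PrimeSpectrum.comap φ P) := fun P => by
    show (hV.fromSpec ≫ f) _ = _
    rw [← IsAffineOpen.SpecMap_appLE_fromSpec f hW hV hVW]
    rfl
  have hrX : Set.range ψX = V := by
    rw [show ψX = hV.fromSpec ∘ PrimeSpectrum.comap (Ideal.Quotient.mk (nilradical S)) from rfl,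
      Set.range_comp, (comap_mk_nilradical_homeo S).surjective.range_eq, Set.image_univ]
    exact hV.range_fromSpec
  obtain ⟨q, hq⟩ : x ∈ Set.range ψX := by rw [hrX]; exact hxV
  let p := PrimeSpectrum.comap φ q
  have hp : ψY p = f x := by rw [← hcomm, hq]
  -- injectivity
  have hinj : Function.Injective φ := by
    let η : PrimeSpectrum B := ⟨⊥, Ideal.isPrime_bot⟩
    have hη : ∀ z : X, ψX η ⤳ z := by
      have hgen : genericPoint X ∈ Set.range ψX := by
        rw [hrX]
        exact ((genericPoint_spec X).mem_open_set_iff V.2).mpr ⟨x, trivial, hxV⟩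
      obtain ⟨g, hg⟩ := hgen
      have : η ⤳ g := (PrimeSpectrum.le_iff_specializes η g).mp (bot_le (a := g.asIdeal))
      exact fun z => (this.map hX.continuous).trans (hg ▸ (genericPoint_spec X).specializes trivial)
    have hdense : ∀ y : Y, f (ψX η) ⤳ y := fun y => by
      rw [specializes_iff_mem_closure]
      have : Set.range f ⊆ closure {f (ψX η)} := by
        rintro _ ⟨z, rfl⟩
        exact specializes_iff_mem_closure.mp ((hη z).map f.continuous)
      exact closure_minimal this isClosed_closure (hd y)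
    have h1 := hdense (ψY ⟨⊥, Ideal.isPrime_bot⟩)
    rw [hcomm] at h1
    have h2 := (PrimeSpectrum.le_iff_specializes (PrimeSpectrum.comap φ η) ⟨⊥, Ideal.isPrime_bot⟩).mpr
      (hY.isEmbedding.toIsInducing.specializes_iff.mp h1)
    exact (RingHom.injective_iff_ker_eq_bot φ).mpr (le_bot_iff.mp fun a ha => h2 (show φ a ∈ (⊥ : Ideal B) from
      (Submodule.mem_bot B).mpr ha))
  let : Algebra A B := φ.toAlgebra
  have : Algebra.FiniteType A B := by
    have h1 : φ₀.FiniteType := hfin
    have h2 : (φ.comp (Ideal.Quotient.mk (nilradical R))).FiniteType :=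
      (RingHom.FiniteType.of_surjective _ Ideal.Quotient.mk_surjective).comp h1
    exact (RingHom.FiniteType.of_comp_finiteType h2 : φ.FiniteType)
  -- isolated in the fibre
  obtain ⟨O, hO, hxO, hOeq⟩ : ∃ O : Set X, IsOpen O ∧ x ∈ O ∧ O ∩ f ⁻¹' {f x} ⊆ {x} := by
    have h : {x} ∈ nhdsWithin x (f ⁻¹' {f x}) := by rw [hiso]; exact Filter.mem_pure.mpr rfl
    obtain ⟨O, hO, hxO, h⟩ := mem_nhdsWithin.mp h
    exact ⟨O, hO, hxO, h⟩
  have : Algebra.QuasiFiniteAt A q.asIdeal := by
    refine Algebra.QuasiFiniteAt.of_isOpen_singleton_fiber q ?_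
    have : ({⟨q, rfl⟩} : Set ↥(PrimeSpectrum.comap (algebraMap A B) ⁻¹' {PrimeSpectrum.comap (algebraMap A B) q})) =
        Subtype.val ⁻¹' (ψX ⁻¹' O) := by
      ext P
      refine ⟨fun h => by rw [Set.mem_singleton_iff.mp h]; show ψX q ∈ O; rwa [hq], fun h => ?_⟩
      have hP : f (ψX P.1) = f x := by
        rw [hcomm, ← hp]
        exact congrArg ψY P.2
      exact Subtype.ext (hX.injective ((hOeq ⟨h, hP⟩ : ψX P.1 = x).trans hq.symm))
    rw [this]
    exact (hO.preimage hX.continuous).preimage continuous_subtype_val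
  have hA : CAlg2.IsUnibranch (Localization.AtPrime p.asIdeal) := by
    let P0 := hW.primeIdealOf ⟨f x, hxW⟩
    have hP : PrimeSpectrum.comap (Ideal.Quotient.mk (nilradical R)) p = P0 :=
      hW.fromSpec.isOpenEmbedding.injective (hp.trans (hW.fromSpec_primeIdealOf ⟨f x, hxW⟩).symm)
    have hPa : ∀ r : R, Ideal.Quotient.mk (nilradical R) r ∈ p.asIdeal ↔ r ∈ P0.asIdeal := fun r => by
      rw [← hP]; rfl
    let := Y.presheaf.algebra_section_stalk ⟨f x, hxW⟩
    have := hW.isLocalization_stalk ⟨f x, hxW⟩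
    let Ap := Localization.AtPrime p.asIdeal
    let π : Y.presheaf.stalk (f x) →+* Ap := IsLocalization.lift (M := P0.asIdeal.primeCompl)
      (g := (algebraMap A Ap).comp (Ideal.Quotient.mk (nilradical R)))
      fun s => IsLocalization.map_units Ap (⟨Ideal.Quotient.mk _ s, fun h => s.2 ((hPa _).mp h)⟩ : p.asIdeal.primeCompl)
    have hπ : ∀ r, π (algebraMap R _ r) = algebraMap A Ap (Ideal.Quotient.mk _ r) := fun r => IsLocalization.lift_eq _ r
    have hsurj : Function.Surjective π := fun z => by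
      obtain ⟨a, s, rfl⟩ := IsLocalization.exists_mk'_eq p.asIdeal.primeCompl z
      obtain ⟨a, rfl⟩ := Ideal.Quotient.mk_surjective a
      obtain ⟨r, hr⟩ := Ideal.Quotient.mk_surjective (I := nilradical R) (s : A)
      have hrP : r ∈ P0.asIdeal.primeCompl := fun h => s.2 (hr ▸ (hPa r).mpr h)
      refine ⟨IsLocalization.mk' _ a (⟨r, hrP⟩ : P0.asIdeal.primeCompl), ?_⟩
      rw [eq_comm, IsLocalization.mk'_eq_iff_eq_mul, ← hr, ← hπ r, ← map_mul, IsLocalization.mk'_spec, hπ]
    have hred : IsReduced Ap := inferInstance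
    have hker : RingHom.ker π = nilradical (Y.presheaf.stalk (f x)) := by
      refine le_antisymm (fun z hz => ?_) fun z hz => ((mem_nilradical.mp hz).map π).eq_zero
      obtain ⟨a, s, rfl⟩ := IsLocalization.exists_mk'_eq P0.asIdeal.primeCompl z
      have h1 : π (algebraMap R _ a) = 0 := by
        rw [← IsLocalization.mk'_spec (Y.presheaf.stalk (f x)) a s, map_mul, RingHom.mem_ker.mp hz, zero_mul]
      rw [hπ, map_eq_zero_iff _ (IsLocalization.injective Ap p.asIdeal.primeCompl_le_nonZeroDivisors),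
        Ideal.Quotient.eq_zero_iff_mem, mem_nilradical] at h1
      rw [mem_nilradical, IsLocalization.mk'_eq_mul_mk'_one]
      exact (Commute.all _ _).isNilpotent_mul_right (h1.map (algebraMap R (Y.presheaf.stalk (f x))))
    let e1 : CAlg2.red (Y.presheaf.stalk (f x)) ≃+* Ap :=
      (Ideal.quotEquivOfEq hker.symm).trans (RingHom.quotientKerEquivOfSurjective hsurj)
    exact isUnibranch_of_red (e1.trans ((RingEquiv.quotientBot Ap).symm.trans
      (Ideal.quotEquivOfEq (nilradical_eq_zero Ap).symm))) hy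
  intro U hU
  have hmain := isOpenAt_of_quasiFiniteAt (A := A) (B := B) hinj q hA (ψX ⁻¹' U)
    (hX.continuous.continuousAt.preimage_mem_nhds (hq.symm ▸ hU))
  have := hY.isOpenMap.image_mem_nhds hmain
  rw [show ψY (PrimeSpectrum.comap (algebraMap A B) q) = f x from hp] at this
  refine Filter.mem_of_superset this ?_
  rintro _ ⟨_, ⟨P, hP, rfl⟩, rfl⟩
  exact ⟨ψX P, hP, hcomm P⟩

theorem isolated_of_locallyQuasiFinite {X Y : Scheme.{u}} (f : X ⟶ Y) [LocallyQuasiFinite f] (x : X) :
    nhdsWithin x (f ⁻¹' {f x}) = pure x := by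
  obtain ⟨O, hO, hOx⟩ := (isDiscrete_iff_forall_exists_isOpen.mp
    (f.isDiscrete_preimage_singleton (f x))) x rfl
  refine le_antisymm ?_ (pure_le_nhdsWithin rfl)
  rw [Filter.le_pure_iff, mem_nhdsWithin]
  exact ⟨O, hO, (hOx.ge rfl).1, hOx.le⟩

end Groth.Agent.HensPair.UnibranchOpen
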