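import Groth.Agent.HensPair.FibreChart
import Groth.Agent.HensPair.ChevalleyTfae
import Groth.Agent.GenDim.Scheme

/-!
Universal openness at a maximal point of a fibre and dimensions over generizations, over any base.
-/

set_option autoImplicit false
set_option synthInstance.maxHeartbeats 200000

noncomputable section

open CategoryTheory CategoryTheory.Limits AlgebraicGeometry TopologicalSpace Topology TensorProduct

namespace Groth.Agent.HensPair.UnivOpenDim

open Groth.Agent.Equidim.Core (pr mem_pr pr_under)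

universe u

set_option backward.isDefEq.respectTransparency false

set_option maxHeartbeats 1000000 in
theorem dim_ge_of_univOpenAt {X Y : Scheme.{u}} (f : X ⟶ Y) [LocallyOfFiniteType f] (x : X)
    (hmax : ∀ x' : X, f x' = f x → x ∈ closure {x'} → x' = x) (h : EGA43.IsUnivOpenAt f x)
    (U : X.Opens) (hxU : x ∈ U) (y' : Y) (hy' : y' ⤳ f x) :
    FlatMor.fibreDimAt f x ≤ topologicalKrullDim ↥((U : Set X) ∩ f ⁻¹' {y'}) := by
  classical
  by_cases hne : y' = f x
  · rw [hne]; exact ChevalleyTfae.fibreDimAt_le_inter f x U hxU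
  obtain ⟨U₀, hU₀, hyU₀, -⟩ := exists_isAffineOpen_mem_and_subset (X := Y) (U := ⊤) (x := f x) trivial
  obtain ⟨V, hV, hxV, hVle⟩ := exists_isAffineOpen_mem_and_subset (X := X) (U := f ⁻¹ᵁ U₀ ⊓ U) (x := x) ⟨hyU₀, hxU⟩
  have hVU : V ≤ f ⁻¹ᵁ U₀ := hVle.trans inf_le_left
  let A := Γ(Y, U₀)
  let B := Γ(X, V)
  let : Algebra Γ(Y, U₀) Γ(X, V) := (f.appLE U₀ V hVU).hom.toAlgebra
  have : Algebra.FiniteType Γ(Y, U₀) Γ(X, V) := Equidim.finiteType_chart f hU₀ hV hVU rfl
  let π := AlgHom.id Γ(Y, U₀) Γ(X, V)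
  have hkerπ : ∀ Q : PrimeSpectrum Γ(X, V), RingHom.ker π.toRingHom ≤ Q.asIdeal := fun Q a ha => by
    rw [(show a = 0 from ha)]; exact Ideal.zero_mem _
  obtain ⟨Qx', hQx'⟩ := hV.range_fromSpec.superset hxV
  let Qx : PrimeSpectrum Γ(X, V) := Qx'
  have hQx : hV.fromSpec Qx = x := hQx'
  let p := hU₀.primeIdealOf ⟨f x, hyU₀⟩
  have hp : hU₀.fromSpec p = f x := hU₀.fromSpec_primeIdealOf _
  let p' := hU₀.primeIdealOf ⟨y', hy'.mem_open U₀.2 hyU₀⟩
  have hp' : hU₀.fromSpec p' = y' := hU₀.fromSpec_primeIdealOf _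
  have hle : p'.asIdeal ≤ p.asIdeal := (PrimeSpectrum.le_iff_specializes p' p).mpr
    (hU₀.fromSpec.isOpenEmbedding.isInducing.specializes_iff.mp (by rw [hp, hp']; exact hy'))
  obtain ⟨Mx, hMx⟩ := Equidim.exists_ch f hU₀ hV hVU rfl π Function.surjective_id p Qx (hkerπ _) (by rw [hQx, hp])
  rw [hQx] at hMx
  have hcomapx : PrimeSpectrum.comap (algebraMap Γ(Y, U₀) Γ(X, V)) Qx = p :=
    hU₀.fromSpec.isOpenEmbedding.injective (by rw [← Equidim.f_fromSpec f hU₀ hV hVU rfl, hQx, hp])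
  obtain ⟨O, _, _, hO⟩ := GenDim.exists_valuation p.asIdeal p'.asIdeal hle
  let J : Set (PrimeSpectrum Γ(X, V)) :=
    {Qx} ∪ {Q | PrimeSpectrum.comap (algebraMap Γ(Y, U₀) Γ(X, V)) Q = p'}
  have : IsNoetherianRing (p'.asIdeal.Fiber Γ(X, V)) :=
    Algebra.FiniteType.isNoetherianRing p'.asIdeal.ResidueField _
  let j : O ⊗[Γ(Y, U₀)] Γ(X, V) →ₐ[Γ(Y, U₀)] p'.asIdeal.Fiber Γ(X, V) :=
    Algebra.TensorProduct.map (IsScalarTower.toAlgHom Γ(Y, U₀) O p'.asIdeal.ResidueField) (AlgHom.id Γ(Y, U₀) Γ(X, V))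
  obtain ⟨M₀, -, hM₀⟩ := GenDim.key p.asIdeal p'.asIdeal O hO J (fun Q hQm hQJ => by
    have hQx2 : PrimeSpectrum.comap (Algebra.TensorProduct.includeRight (R := Γ(Y, U₀)) (A := O)
        (B := Γ(X, V))).toRingHom Q = Qx := by
      refine hQJ.resolve_right fun he => hne ?_
      have h1 : p'.asIdeal = p.asIdeal := by
        have he' := congrArg PrimeSpectrum.asIdeal he
        refine le_antisymm hle fun a ha => ?_
        rw [← he']
        show (Algebra.TensorProduct.includeRight (R := Γ(Y, U₀)) (A := O) (B := Γ(X, V))) (algebraMap _ _ a) ∈ Q.asIdeal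
        rw [AlgHom.commutes, IsScalarTower.algebraMap_apply Γ(Y, U₀) O (O ⊗[Γ(Y, U₀)] Γ(X, V))]
        refine hQm _ ?_
        rw [← hO] at ha
        exact ha
      rw [← hp', ← hp, show p' = p from PrimeSpectrum.ext h1]
    suffices hm : ∃ m : PrimeSpectrum (p'.asIdeal.Fiber Γ(X, V)), m.asIdeal ∈ minimalPrimes _ ∧
        m.asIdeal.comap j.toRingHom ≤ Q.asIdeal by
      obtain ⟨m, -, hm⟩ := hm
      exact ⟨m, Or.inr (PrimeSpectrum.ext (pr_under p' m)), hm⟩
    by_contra hno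
    push Not at hno
    have hfin : {m : PrimeSpectrum (p'.asIdeal.Fiber Γ(X, V)) | m.asIdeal ∈ minimalPrimes _}.Finite :=
      (minimalPrimes.finite_of_isNoetherianRing _).preimage fun a _ b _ h => PrimeSpectrum.ext h
    have := hfin.fintype
    choose e he1 he2 using fun m : {m : PrimeSpectrum (p'.asIdeal.Fiber Γ(X, V)) | m.asIdeal ∈ minimalPrimes _} =>
      SetLike.not_le_iff_exists.mp (hno m.1 m.2)
    let E := ∏ m, e m
    have hEQ : E ∉ Q.asIdeal := fun hE => by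
      obtain ⟨m, -, hm⟩ := (Q.2.prod_mem_iff).mp hE
      exact he2 m hm
    have hEm : ∀ m : {m : PrimeSpectrum (p'.asIdeal.Fiber Γ(X, V)) | m.asIdeal ∈ minimalPrimes _}, E ∈ (Ideal.comap j.toRingHom m.1.asIdeal) := fun m =>
      Ideal.mem_of_dvd _ (Finset.dvd_prod_of_mem _ (Finset.mem_univ m)) (he1 m)
    -- openness of the base change
    let b : Spec (CommRingCat.of O) ⟶ Y :=
      Spec.map (CommRingCat.ofHom (algebraMap Γ(Y, U₀) O)) ≫ hU₀.fromSpec
    let r : Spec (CommRingCat.of (O ⊗[Γ(Y, U₀)] Γ(X, V))) ⟶ Spec Γ(X, V) :=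
      Spec.map (CommRingCat.ofHom (Algebra.TensorProduct.includeRight (R := Γ(Y, U₀)) (A := O)
        (B := Γ(X, V))).toRingHom)
    let c : Spec (CommRingCat.of (O ⊗[Γ(Y, U₀)] Γ(X, V))) ⟶ Spec (CommRingCat.of O) :=
      Spec.map (CommRingCat.ofHom (Algebra.TensorProduct.includeLeftRingHom (R := Γ(Y, U₀)) (A := O)
        (B := Γ(X, V))))
    have hsq : IsPullback r c (hV.fromSpec ≫ f) b := by
      have h1 := isPullback_SpecMap_of_isPushout _ _ _ _
        (CommRingCat.isPushout_tensorProduct Γ(Y, U₀) O Γ(X, V)).flip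
      have h3 := IsPullback.of_isLimit
        (PullbackCone.isLimitOfCompMono _ _ hU₀.fromSpec _ h1.isLimit)
      refine h3.of_iso (Iso.refl _) (Iso.refl _) (Iso.refl _) (Iso.refl _) ?_ ?_ ?_ ?_
      · simp; rfl
      · simp; rfl
      · simp [← IsAffineOpen.SpecMap_appLE_fromSpec f hU₀ hV hVU]; rfl
      · simp [b]
    have h1 : EGA43.IsUnivOpenAt (hV.fromSpec ≫ f) Qx :=
      UnivOpenAt.comp (UnivOpenGeomUni.univOpenAt_of_universallyOpen hV.fromSpec _) (by
        show EGA43.IsUnivOpenAt f (hV.fromSpec Qx)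
        rw [hQx]; exact h)
    have h2 := UnivOpenAt.isOpenAt_of_isPullback hsq h1 Q hQx2 _
      ((PrimeSpectrum.basicOpen E).2.mem_nhds hEQ)
    have hgen : (⟨⊥, Ideal.isPrime_bot⟩ : PrimeSpectrum O) ⤳ c Q :=
      (PrimeSpectrum.le_iff_specializes (⟨⊥, Ideal.isPrime_bot⟩ : PrimeSpectrum O) _).mp bot_le
    obtain ⟨W, hWsub, hWo, hWQ⟩ := mem_nhds_iff.mp h2
    obtain ⟨w, hwE, hwη⟩ := hWsub (hgen.mem_open hWo hWQ)
    -- extend `w` to the generic fibre
    let w' : PrimeSpectrum (O ⊗[Γ(Y, U₀)] Γ(X, V)) := w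
    haveI := w'.2
    let q : O ⊗[Γ(Y, U₀)] Γ(X, V) →ₐ[Γ(Y, U₀)] w'.asIdeal.ResidueField := IsScalarTower.toAlgHom _ _ _
    have hinj : Function.Injective (q.comp Algebra.TensorProduct.includeLeft : O →ₐ[Γ(Y, U₀)] _) := by
      rw [injective_iff_map_eq_zero]
      intro a ha
      have h1 : Algebra.TensorProduct.includeLeftRingHom (R := Γ(Y, U₀)) (A := O) (B := Γ(X, V)) a ∈
          w'.asIdeal := (Ideal.algebraMap_residueField_eq_zero).mp ha
      have h2 : PrimeSpectrum.comap (Algebra.TensorProduct.includeLeftRingHom (R := Γ(Y, U₀)) (A := O)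
          (B := Γ(X, V))) w' = (⟨⊥, Ideal.isPrime_bot⟩ : PrimeSpectrum O) := hwη
      have h4 : a ∈ (⟨⊥, Ideal.isPrime_bot⟩ : PrimeSpectrum O).asIdeal := h2 ▸ h1
      simpa using h4
    let qK : p'.asIdeal.ResidueField →+* w'.asIdeal.ResidueField := IsFractionRing.lift (A := O) hinj
    have hqK : ∀ a : O, qK (algebraMap O _ a) = q (a ⊗ₜ 1) := fun a => IsFractionRing.lift_algebraMap hinj a
    let qKA : p'.asIdeal.ResidueField →ₐ[Γ(Y, U₀)] w'.asIdeal.ResidueField :=
      { qK with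
        commutes' := fun a => by
          show qK (algebraMap _ _ a) = _
          rw [IsScalarTower.algebraMap_apply Γ(Y, U₀) O p'.asIdeal.ResidueField, hqK]
          exact q.commutes a }
    let L : p'.asIdeal.Fiber Γ(X, V) →ₐ[Γ(Y, U₀)] w'.asIdeal.ResidueField :=
      Algebra.TensorProduct.lift qKA (q.comp Algebra.TensorProduct.includeRight) (fun _ _ => Commute.all _ _)
    have hLj : L.comp j = q := by
      refine Algebra.TensorProduct.ext (AlgHom.ext fun a => ?_) (AlgHom.ext fun b => ?_)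
      · show L (j (a ⊗ₜ 1)) = q (a ⊗ₜ 1)
        simp only [j, Algebra.TensorProduct.map_tmul, map_one]
        simp only [L, Algebra.TensorProduct.lift_tmul, map_one, mul_one]
        exact hqK a
      · show L (j (1 ⊗ₜ b)) = q (1 ⊗ₜ b)
        simp only [j, Algebra.TensorProduct.map_tmul, map_one]
        simp only [L, Algebra.TensorProduct.lift_tmul, map_one, one_mul]
        rfl
    have hker : (RingHom.ker L.toRingHom).IsPrime := RingHom.ker_isPrime _
    obtain ⟨m, hm, hmle⟩ := Ideal.exists_minimalPrimes_le (bot_le (a := RingHom.ker L.toRingHom))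
    have h5 : q E = 0 := by
      rw [← hLj]
      exact hmle (hEm ⟨⟨m, hm.1.1⟩, hm⟩)
    exact hwE (Ideal.algebraMap_residueField_eq_zero.mp h5)) Mx (subset_closure (Or.inl (by
      refine hV.fromSpec.isOpenEmbedding.injective ?_
      rw [hQx]; exact hMx)))
  refine (FibreChart.fibreDimAt_le_quot f hU₀ hV hVU rfl x hxV hmax p hp Mx hMx).trans (hM₀.trans
    ((FibreChart.quot_le_fibreDimAt f hU₀ hV hVU rfl p' M₀).trans ?_))
  have hz : f (hV.fromSpec (pr p' M₀)) = y' := (Equidim.f_ch f hU₀ hV hVU rfl π p' M₀).trans hp'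
  have hzU : hV.fromSpec (pr p' M₀) ∈ U := (hVle (hV.range_fromSpec.subset ⟨_, rfl⟩)).2
  generalize hV.fromSpec (pr p' M₀) = z at hz hzU ⊢
  subst hz
  exact ChevalleyTfae.fibreDimAt_le_inter f z U hzU

end Groth.Agent.HensPair.UnivOpenDim
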