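import Groth.Agent.HensPair.PolyUnibranch
import Groth.Agent.HensPoint.GeomUniScheme
import Groth.Agent.UnivOpenAt.Dvr
import Groth.Agent.UnivOpenAt.Basic
import Mathlib.AlgebraicGeometry.AffineSpace
import Mathlib.AlgebraicGeometry.Morphisms.QuasiFinite
import Mathlib.AlgebraicGeometry.Morphisms.UniversallyOpen

/-!
Locally quasi-finite dominant morphisms of irreducible schemes are universally open at points over
geometrically unibranch points.
-/

set_option autoImplicit false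
set_option synthInstance.maxHeartbeats 200000

noncomputable section

open CategoryTheory CategoryTheory.Limits AlgebraicGeometry IsLocalRing TopologicalSpace TensorProduct

namespace Groth.Agent.HensPair.UnivOpenGeomUni

universe u

set_option backward.isDefEq.respectTransparency false

/-- affine space over a geometrically unibranch point is geometrically unibranch -/
theorem geomUnibranch_affineSpace {Y : Scheme.{u}} (σ : Type u) [Finite σ] (y' : ↥𝔸(σ; Y))
    (hy : CAlg2.IsGeomUnibranch (Y.presheaf.stalk ((𝔸(σ; Y) ↘ Y).base y'))) :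
    CAlg2.IsGeomUnibranch ((𝔸(σ; Y)).presheaf.stalk y') := by
  obtain ⟨U, hU, hyU, -⟩ :=
    exists_isAffineOpen_mem_and_subset (X := Y) (U := ⊤) (x := (𝔸(σ; Y) ↘ Y).base y') trivial
  let R := Γ(Y, U)
  let j : Spec (CommRingCat.of (MvPolynomial σ R)) ⟶ 𝔸(σ; Y) :=
    (AffineSpace.SpecIso σ R).inv ≫ AffineSpace.map σ hU.fromSpec
  have : IsOpenImmersion (AffineSpace.map σ hU.fromSpec) :=
    MorphismProperty.of_isPullback (P := @IsOpenImmersion) (AffineSpace.isPullback_map hU.fromSpec).flip inferInstance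
  have : IsOpenImmersion j := inferInstance
  have hover : j ≫ (𝔸(σ; Y) ↘ Y) = Spec.map (CommRingCat.ofHom MvPolynomial.C) ≫ hU.fromSpec := by
    simp only [j, Category.assoc, AffineSpace.map_over]
    rw [← Category.assoc, AffineSpace.SpecIso_inv_over]
  obtain ⟨P, hP⟩ : y' ∈ Set.range j := by
    obtain ⟨s, hs⟩ : (𝔸(σ; Y) ↘ Y) y' ∈ Set.range hU.fromSpec := by rw [hU.range_fromSpec]; exact hyU
    obtain ⟨w, hw₁, -⟩ := Scheme.Pullback.exists_preimage_pullback (f := 𝔸(σ; Y) ↘ Y) (g := hU.fromSpec) y' s hs.symm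
    refine ⟨(AffineSpace.SpecIso σ R).hom ((AffineSpace.isPullback_map hU.fromSpec).isoPullback.inv w), ?_⟩
    rw [← hw₁]
    show (_ ≫ _ ≫ j) w = _
    simp only [j, Iso.hom_inv_id_assoc, IsPullback.isoPullback_inv_fst]
  let p : PrimeSpectrum R := PrimeSpectrum.comap MvPolynomial.C P
  have hp : hU.fromSpec p = (𝔸(σ; Y) ↘ Y).base y' := by
    rw [← hP]
    exact (congr($(hover) P)).symm
  have hp' : CAlg2.IsGeomUnibranch (Localization.AtPrime p.asIdeal) := by
    have e := HensPoint.GeomUniScheme.stalk_equiv hU hyU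
    have : hU.primeIdealOf ⟨_, hyU⟩ = p :=
      hU.fromSpec.isOpenEmbedding.injective ((hU.fromSpec_primeIdealOf ⟨_, hyU⟩).trans hp.symm)
    rw [this] at e
    exact HensPoint.GeomUniScheme.geomUnibranch_of_ringEquiv' e.some hy
  have h1 := PolyUnibranch.main R σ P.asIdeal p.asIdeal rfl hp'
  let e1 : (Spec (CommRingCat.of (MvPolynomial σ R))).presheaf.stalk P ≃+* Localization.AtPrime P.asIdeal :=
    (StructureSheaf.stalkIso (MvPolynomial σ R) P).symm.toRingEquiv
  let e2 := (asIso (j.stalkMap P)).commRingCatIsoToRingEquiv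
  have h2 := HensPoint.GeomUniScheme.geomUnibranch_of_ringEquiv' e1.symm h1
  rw [← hP]
  exact HensPoint.GeomUniScheme.geomUnibranch_of_ringEquiv' e2.symm h2

/-- universal openness is tested on affine spaces -/
theorem univOpenAt_of_affineSpace {X Y : Scheme.{u}} (f : X ⟶ Y) (x : X)
    (H : ∀ (n : ℕ), 0 < n → ∀ (z : ↥(pullback f (𝔸(ULift.{u} (Fin n); Y) ↘ Y))),
      pullback.fst f (𝔸(ULift.{u} (Fin n); Y) ↘ Y) z = x →
      EGA43.IsOpenAt (pullback.snd f (𝔸(ULift.{u} (Fin n); Y) ↘ Y)).base z) :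
    EGA43.IsUnivOpenAt f x := by
  classical
  intro Y' g x' hx'
  obtain ⟨U₀, hU₀, hyU, -⟩ := exists_isAffineOpen_mem_and_subset (X := Y) (U := ⊤) (x := f x) trivial
  obtain ⟨V, hV, hxV, hVU⟩ := exists_isAffineOpen_mem_and_subset (X := X) (U := f ⁻¹ᵁ U₀) (x := x) hyU
  have hs : g (pullback.snd f g x') ∈ U₀ := by
    have : g (pullback.snd f g x') = f x := by
      rw [← hx']
      exact (congr($(pullback.condition (f := f) (g := g)) x')).symm
    rw [this]; exact hyU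
  obtain ⟨W, hW, hsW, hWU⟩ := exists_isAffineOpen_mem_and_subset (X := Y') (U := g ⁻¹ᵁ U₀) (x := pullback.snd f g x') hs
  let : Algebra Γ(Y, U₀) Γ(X, V) := (f.appLE U₀ V hVU).hom.toAlgebra
  let : Algebra Γ(Y, U₀) Γ(Y', W) := (g.appLE U₀ W hWU).hom.toAlgebra
  have hR : Spec.map (CommRingCat.ofHom (algebraMap Γ(Y, U₀) Γ(Y', W))) ≫ hU₀.fromSpec = hW.fromSpec ≫ g :=
    IsAffineOpen.SpecMap_appLE_fromSpec g hU₀ hW hWU
  obtain ⟨j, hj, hjf, hjs, hjr⟩ := UnivOpenAt.Dvr.exists_chart f hU₀ hV hVU rfl Γ(Y', W) g hW.fromSpec hR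
  obtain ⟨P, hP⟩ := hjr x' (by rw [show pullback.fst f g x' = x from hx']; exact hxV)
    (by rw [hW.range_fromSpec]; exact hsW)
  intro N hN
  let incR := (Algebra.TensorProduct.includeRight : Γ(Y', W) →ₐ[Γ(Y, U₀)] Γ(X, V) ⊗[Γ(Y, U₀)] Γ(Y', W))
  obtain ⟨_, ⟨b', rfl⟩, hPb, hbN⟩ := PrimeSpectrum.isTopologicalBasis_basic_opens.mem_nhds_iff.mp
    (j.continuous.continuousAt.preimage_mem_nhds (hP.symm ▸ hN))
  -- the model over affine space
  obtain ⟨n, hn, bs, rs, hb'⟩ : ∃ (n : ℕ) (_ : 0 < n) (bs : Fin n → Γ(X, V)) (rs : Fin n → Γ(Y', W)),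
      b' = ∑ i, bs i ⊗ₜ rs i := by
    obtain ⟨S, hS⟩ := TensorProduct.exists_finset b'
    refine ⟨S.card + 1, Nat.succ_pos _, Fin.snoc (fun i => (S.equivFin.symm i).1.1) 0,
      Fin.snoc (fun i => (S.equivFin.symm i).1.2) 0, ?_⟩
    rw [Fin.sum_univ_castSucc]
    simp only [Fin.snoc_castSucc, Fin.snoc_last, TensorProduct.zero_tmul, add_zero]
    rw [hS, ← Finset.sum_coe_sort S]
    exact (Fintype.sum_equiv S.equivFin _ _ fun x => by simp)
  let σ := ULift.{u} (Fin n)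
  let T := MvPolynomial σ Γ(Y, U₀)
  let φ : T →ₐ[Γ(Y, U₀)] Γ(Y', W) := MvPolynomial.aeval fun i => rs i.down
  let Θ := Algebra.TensorProduct.map (AlgHom.id Γ(Y, U₀) Γ(X, V)) φ
  let b'' : Γ(X, V) ⊗[Γ(Y, U₀)] T := ∑ i, bs i ⊗ₜ MvPolynomial.X ⟨i⟩
  have hΘ : Θ b'' = b' := by
    simp only [b'', hb', map_sum, Θ, φ, Algebra.TensorProduct.map_tmul, AlgHom.id_apply]
    exact Finset.sum_congr rfl fun i _ => congrArg _ (MvPolynomial.aeval_X _ _)
  let jT : Spec (CommRingCat.of T) ⟶ 𝔸(σ; Y) :=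
    (AffineSpace.SpecIso σ Γ(Y, U₀)).inv ≫ AffineSpace.map σ hU₀.fromSpec
  have : IsOpenImmersion (AffineSpace.map σ hU₀.fromSpec) :=
    MorphismProperty.of_isPullback (P := @IsOpenImmersion) (AffineSpace.isPullback_map hU₀.fromSpec).flip inferInstance
  have hT : Spec.map (CommRingCat.ofHom (algebraMap Γ(Y, U₀) T)) ≫ hU₀.fromSpec = jT ≫ (𝔸(σ; Y) ↘ Y) := by
    simp only [jT, Category.assoc, AffineSpace.map_over]
    rw [← Category.assoc, AffineSpace.SpecIso_inv_over]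
    rfl
  obtain ⟨k, hk, hkf, hks, -⟩ := UnivOpenAt.Dvr.exists_chart f hU₀ hV hVU rfl T (𝔸(σ; Y) ↘ Y) jT hT
  let Q : PrimeSpectrum (Γ(X, V) ⊗[Γ(Y, U₀)] T) := PrimeSpectrum.comap Θ.toRingHom P
  have hQx : pullback.fst f (𝔸(σ; Y) ↘ Y) (k Q) = x := by
    rw [hkf, ← hx', ← hP]
    refine Eq.trans ?_ (hjf P).symm
    show hV.fromSpec (PrimeSpectrum.comap _ (PrimeSpectrum.comap Θ.toRingHom P)) = _
    rw [← PrimeSpectrum.comap_comp_apply]
    congr 2
    ext b
    simp [Θ]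
  have hQb : b'' ∉ Q.asIdeal := fun h => hPb (show b' ∈ P.asIdeal by rw [← hΘ]; exact h)
  have hO := H n hn (k Q) hQx _ (k.isOpenEmbedding.isOpenMap.image_mem_nhds
    ((PrimeSpectrum.basicOpen b'').2.mem_nhds (show Q ∈ PrimeSpectrum.basicOpen b'' from hQb)))
  let incT := (Algebra.TensorProduct.includeRight : T →ₐ[Γ(Y, U₀)] Γ(X, V) ⊗[Γ(Y, U₀)] T)
  have hN0 : PrimeSpectrum.comap incT.toRingHom '' (PrimeSpectrum.basicOpen b'' : Set (PrimeSpectrum _)) ∈
      nhds (PrimeSpectrum.comap incT.toRingHom Q) := by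
    rw [show (pullback.snd f (𝔸(σ; Y) ↘ Y)).base (k Q) = jT (PrimeSpectrum.comap incT.toRingHom Q) from hks Q] at hO
    have := jT.continuous.continuousAt.preimage_mem_nhds hO
    refine Filter.mem_of_superset this ?_
    rintro t ⟨_, ⟨Q', hQ', rfl⟩, ht⟩
    exact ⟨Q', hQ', jT.isOpenEmbedding.injective ((hks Q').symm.trans ht)⟩
  have hcomp : PrimeSpectrum.comap φ.toRingHom (PrimeSpectrum.comap incR.toRingHom P) =
      PrimeSpectrum.comap incT.toRingHom Q := by
    rw [← PrimeSpectrum.comap_comp_apply, ← PrimeSpectrum.comap_comp_apply]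
    congr 1
  rw [← hcomp] at hN0
  have hsnd : pullback.snd f g x' = hW.fromSpec (PrimeSpectrum.comap incR.toRingHom P) := by
    rw [← hP, hjs]
  show _ ∈ nhds (pullback.snd f g x')
  rw [hsnd]
  refine Filter.mem_of_superset (hW.fromSpec.isOpenEmbedding.isOpenMap.image_mem_nhds
    ((PrimeSpectrum.continuous_comap φ.toRingHom).continuousAt.preimage_mem_nhds hN0)) ?_
  rintro _ ⟨r, ⟨Q', hQ', hQr⟩, rfl⟩
  obtain ⟨R', hR₁, hR₂⟩ := UnivOpenAt.Dvr.exists_prime_tensor φ Q' r hQr.symm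
  refine ⟨j R', hbN (show b' ∉ R'.asIdeal from ?_), (hjs R').trans (by rw [hR₂])⟩
  intro h
  refine hQ' ?_
  rw [← hR₁]
  show Θ b'' ∈ R'.asIdeal
  rw [hΘ]; exact h

theorem universallyOpen_of_univOpenAt {X Y : Scheme.{u}} {f : X ⟶ Y} (h : ∀ x, EGA43.IsUnivOpenAt f x) :
    UniversallyOpen f := by
  refine ⟨fun X' Y' i₁ i₂ f' H U hU => isOpen_iff_mem_nhds.mpr ?_⟩
  rintro _ ⟨w, hw, rfl⟩
  exact UnivOpenAt.isOpenAt_of_isPullback H.flip (h _) w rfl U (hU.mem_nhds hw)

theorem univOpenAt_of_universallyOpen {X Y : Scheme.{u}} (f : X ⟶ Y) [UniversallyOpen f] (x : X) :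
    EGA43.IsUnivOpenAt f x := fun _ g x' _ U hU => (pullback.snd f g).isOpenMap.image_mem_nhds hU

theorem irreducibleSpace_of_iso {P Q : Scheme.{u}} (e : P ≅ Q) [IrreducibleSpace P] : IrreducibleSpace Q := by
  have h := (IrreducibleSpace.isIrreducible_univ P).image e.hom (e.hom.continuous.continuousOn)
  rw [Set.image_univ, e.hom.surjective.range_eq] at h
  exact { toPreirreducibleSpace := ⟨h.2⟩, toNonempty := ⟨h.1.some⟩ }

/-- dominant locally quasi-finite morphisms of irreducible schemes -/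
theorem univOpenAt_of_quasiFinite {X Y : Scheme.{u}} (f : X ⟶ Y) [IrreducibleSpace X] [IrreducibleSpace Y]
    [LocallyOfFiniteType f] [LocallyQuasiFinite f] (hd : DenseRange f) (x : X)
    (hy : CAlg2.IsGeomUnibranch (Y.presheaf.stalk (f x))) : EGA43.IsUnivOpenAt f x := by
  refine univOpenAt_of_affineSpace f x fun n _ z hz => ?_
  let p := 𝔸(ULift.{u} (Fin n); Y) ↘ Y
  let f' := pullback.snd f p
  have : IrreducibleSpace ↥(pullback f p) :=
    irreducibleSpace_of_iso (AffineSpace.isPullback_map (n := ULift.{u} (Fin n)) f).flip.isoPullback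
  have hd' : DenseRange f' := by
    have : (p ⁻¹' Set.range f) ⊆ Set.range f' := fun w ⟨a, ha⟩ => by
      obtain ⟨v, -, hv⟩ := Scheme.Pullback.exists_preimage_pullback (f := f) (g := p) a w ha
      exact ⟨v, hv⟩
    exact (hd.preimage (AffineSpace.isOpenMap_over Y)).mono this
  refine UnibranchOpen.isOpenAt_of_isolated f' hd' z (UnibranchOpen.isolated_of_locallyQuasiFinite f' z) ?_
  refine (geomUnibranch_affineSpace _ (f' z) ?_).1
  have : p (f' z) = f x := by
    rw [← hz]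
    exact (congr($(pullback.condition (f := f) (g := p)) z)).symm
  show CAlg2.IsGeomUnibranch (Y.presheaf.stalk (p (f' z)))
  rw [this]
  exact hy

end Groth.Agent.HensPair.UnivOpenGeomUni
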